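import Mathlib
import Cfsg.Prelude.Def_OddOrderLocal
import Cfsg.Prelude.Def_OddOrder
import Cfsg.Prelude.Def_Transfer
import Cfsg.Agent.Lib.helper29.Trans2

set_option autoImplicit false
set_option linter.style.haveILetI false
set_option linter.unusedSectionVars false

namespace Cfsg.Agent.Lib.helper36

open Cfsg

variable {G : Type*} [Group G]

/-! ### Basic facts on uniqueness subgroups (Bender–Glauberman §9) -/

/-- In a finite group every proper subgroup lies in a maximal subgroup. -/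
theorem bgu_exists_coatom [Finite G] {H : Subgroup G} (hH : H ≠ ⊤) :
    ∃ M : Subgroup G, IsCoatom M ∧ H ≤ M :=
  (eq_top_or_exists_le_coatom H).resolve_left hH

/-- A proper overgroup of a uniqueness subgroup is a uniqueness subgroup (with the same maximal subgroup). -/
theorem bgu_of_le [Finite G] {L K M : Subgroup G}
    (huniq : ∀ M' : Subgroup G, IsCoatom M' → L ≤ M' → M' = M) (hLK : L ≤ K) (hK : K ≠ ⊤) :
    K ≤ M ∧ InUniqueMaximal K := by
  obtain ⟨M', hM', hKM'⟩ := bgu_exists_coatom hK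
  have h1 : M' = M := huniq M' hM' (hLK.trans hKM')
  subst h1
  exact ⟨hKM', M', ⟨hM', hKM'⟩, fun M'' h => huniq M'' h.1 (hLK.trans h.2)⟩

/-- The uniqueness property is invariant under conjugation. -/
theorem bgu_conj {L : Subgroup G} (hL : InUniqueMaximal L) (g : G) :
    InUniqueMaximal (L.map (MulAut.conj g).toMonoidHom) := by
  obtain ⟨M, ⟨hM, hLM⟩, huniq⟩ := hL
  have key : ∀ (X : Subgroup G) (h : G), IsCoatom X → IsCoatom (X.map (MulAut.conj h).toMonoidHom) := by
    intro X h hX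
    have : X.map (MulAut.conj h).toMonoidHom = (MulAut.conj h).mapSubgroup X := rfl
    rw [this]
    exact (OrderIso.isCoatom_iff (MulAut.conj h).mapSubgroup X).mpr hX
  refine ⟨M.map (MulAut.conj g).toMonoidHom, ⟨key M g hM, Subgroup.map_mono hLM⟩, ?_⟩
  rintro M' ⟨hM', hLM'⟩
  have h1 : L ≤ M'.map (MulAut.conj g⁻¹).toMonoidHom := by
    intro x hx
    refine ⟨g * x * g⁻¹, hLM' ⟨x, hx, rfl⟩, ?_⟩
    simp [MulAut.conj_apply, mul_assoc]
  have h2 := huniq _ ⟨key M' g⁻¹ hM', h1⟩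
  rw [← h2, Subgroup.map_map]
  ext x
  simp only [Subgroup.mem_map]
  constructor
  · intro hx
    exact ⟨x, hx, by simp [MulAut.conj_apply, mul_assoc]⟩
  · rintro ⟨y, hy, rfl⟩
    simpa [MulAut.conj_apply, mul_assoc] using hy

/-- The statement of Bender–Glauberman 9.2(i), used as a hypothesis until it is available. -/
def BGU92 (G : Type*) [Group G] : Prop :=
  ∀ (M : Subgroup G), IsCoatom M → ∀ (p : ℕ), p.Prime → ∀ (B : Subgroup G), B ≤ M →
    IsElementaryAbelian p B → ¬ IsCyclic B →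
    (∀ b ∈ B, b ≠ 1 → Subgroup.centralizer ({b} : Set G) ≤ M) → InUniqueMaximal B

/-- If `L` lies in the unique maximal subgroup `M`, then `C_G(x) ≤ M` for every `x ≠ 1` centralizing `L`. -/
theorem bgu_centralizer_le [Finite G] [IsSimpleGroup G] (hnc : ¬ IsMulCommutative G)
    {L M : Subgroup G} (huniq : ∀ M' : Subgroup G, IsCoatom M' → L ≤ M' → M' = M)
    {x : G} (hx : x ∈ Subgroup.centralizer (L : Set G)) (hx1 : x ≠ 1) :
    Subgroup.centralizer ({x} : Set G) ≤ M :=
  (bgu_of_le huniq (Cfsg.Agent.Lib.helper29.le_centralizer_singleton_of_mem_centralizer hx)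
    (Cfsg.Agent.Lib.helper29.centralizer_singleton_ne_top hnc hx1)).1

theorem bgu_centralizer_le' [Finite G] [IsSimpleGroup G] (hnc : ¬ IsMulCommutative G)
    {L M : Subgroup G} (huniq : ∀ M' : Subgroup G, IsCoatom M' → L ≤ M' → M' = M) :
    Subgroup.centralizer (L : Set G) ≤ M := by
  intro x hx
  by_cases hx1 : x = 1
  · rw [hx1]; exact M.one_mem
  · exact bgu_centralizer_le hnc huniq hx hx1 (Subgroup.mem_centralizer_iff.mpr
      (fun y hy => by rw [Set.mem_singleton_iff.mp hy]))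

/-- An elementary abelian group of order `> p` is not cyclic. -/
theorem bgu_not_cyclic [Finite G] {p : ℕ} (hp : p.Prime) {E : Subgroup G}
    (hEp : ∀ a ∈ E, a ^ p = 1) (hcard : p < Nat.card E) : ¬ IsCyclic E := by
  intro hcyc
  obtain ⟨g, hg⟩ := hcyc.exists_generator
  have h1 : Nat.card E = orderOf g := by
    rw [← Nat.card_zpowers g]
    have : Subgroup.zpowers g = ⊤ := (Subgroup.eq_top_iff' _).mpr hg
    rw [this, Subgroup.card_top]
  have h2 : g ^ p = 1 := by
    apply Subtype.ext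
    rw [Subgroup.coe_pow]
    exact hEp _ g.2
  have h3 : orderOf g ≤ p := Nat.le_of_dvd hp.pos (orderOf_dvd_of_pow_eq_one h2)
  omega

/-- Bender–Glauberman 9.3, from 9.2(i). -/
theorem bgu_93 [Finite G] [IsSimpleGroup G] (hnc : ¬ IsMulCommutative G) (h92 : BGU92 G)
    {L K : Subgroup G} (hL : InUniqueMaximal L) (hK : K ≤ Subgroup.centralizer (L : Set G))
    (hKr : ¬ RankLE 1 K) : InUniqueMaximal K := by
  obtain ⟨M, ⟨hM, hLM⟩, huniq⟩ := hL
  have huniq' : ∀ M' : Subgroup G, IsCoatom M' → L ≤ M' → M' = M := fun M' h1 h2 => huniq M' ⟨h1, h2⟩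
  obtain ⟨p, hp, E, hEK, hEc, hEp, hcard⟩ := Cfsg.Agent.Lib.helper29.exists_elemAb_of_not_rankLE hKr
  rw [pow_one] at hcard
  have hKM : K ≤ M := hK.trans (bgu_centralizer_le' hnc huniq')
  have hEM : E ≤ M := hEK.trans hKM
  have hcent : ∀ b ∈ E, b ≠ 1 → Subgroup.centralizer ({b} : Set G) ≤ M := fun b hb hb1 =>
    bgu_centralizer_le hnc huniq' (hK (hEK hb)) hb1
  have hEe : IsElementaryAbelian p E := by
    refine ⟨⟨⟨fun a b => ?_⟩⟩, hEp⟩
    exact Subtype.ext (hEc a.1 a.2 b.1 b.2)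
  obtain ⟨ME, ⟨hME, hEME⟩, huniqE⟩ := h92 M hM p hp E hEM hEe (bgu_not_cyclic hp hEp hcard) hcent
  have h1 : M = ME := huniqE M ⟨hM, hEM⟩
  subst h1
  exact ⟨M, ⟨hM, hKM⟩, fun M' h => huniqE M' ⟨h.1, hEK.trans h.2⟩⟩

end Cfsg.Agent.Lib.helper36
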