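import Mathlib
import Cfsg.Agent.Lib.helper36.BGU
import Cfsg.Agent.Lib.helper28.PConn
import Cfsg.Agent.Lib.helper55.NormalElemAb

set_option autoImplicit false
set_option linter.style.haveILetI false
set_option linter.unusedSectionVars false

namespace Cfsg.Agent.Lib.helper36

open Cfsg
open scoped Pointwise

variable {G : Type*} [Group G]

/-! ### Bender–Glauberman 9.4 from 9.3 and connectivity of `p`-groups of rank `≥ 3` -/

theorem bgu_not_rankLE {p k : ℕ} (hp : p.Prime) {E : Subgroup G} (hE : IsElementaryAbelian p E)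
    (hcard : p ^ k < Nat.card E) : ¬ RankLE k ↥E := fun h =>
  (Cfsg.Agent.Lib.helper28.not_pRankLE_subgroup_iff p k E).mpr ⟨E, le_rfl, hE, hcard⟩ (h p hp)

theorem bgu_map_elem {H : Type*} [Group H] {p : ℕ} {E : Subgroup G} (hE : IsElementaryAbelian p E)
    (f : G →* H) : IsElementaryAbelian p (E.map f) := by
  rw [Cfsg.Agent.Lib.helper28.isElementaryAbelian_iff'] at hE ⊢
  obtain ⟨hc, he⟩ := hE
  constructor
  · rintro _ ⟨a, ha, rfl⟩ _ ⟨b, hb, rfl⟩
    rw [← map_mul, ← map_mul, hc a ha b hb]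
  · rintro _ ⟨a, ha, rfl⟩
    rw [← map_pow, he a ha, map_one]

theorem bgu_isPGroup_of_elem {p : ℕ} {E : Subgroup G} (hE : IsElementaryAbelian p E) : IsPGroup p E := by
  intro g
  refine ⟨1, ?_⟩
  apply Subtype.ext
  rw [pow_one, Subgroup.coe_pow]
  exact hE.2 _ g.2

/-- Transport of the uniqueness property along a commuting chain of elementary abelian subgroups of
order at least `p ^ 2` (inside a subgroup `P`). -/
theorem bgu_chain [Finite G] [IsSimpleGroup G] (hnc : ¬ IsMulCommutative G) (h92 : BGU92 G)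
    {p : ℕ} (hp : p.Prime) (P : Subgroup G) {X Y : Subgroup P}
    (h : Relation.ReflTransGen (fun A B : Subgroup P => IsElementaryAbelian p A ∧ p ^ 2 ≤ Nat.card A ∧
      IsElementaryAbelian p B ∧ p ^ 2 ≤ Nat.card B ∧ ∀ a ∈ A, ∀ b ∈ B, a * b = b * a) X Y) :
    InUniqueMaximal (X.map P.subtype) ↔ InUniqueMaximal (Y.map P.subtype) := by
  induction h with
  | refl => exact Iff.rfl
  | @tail A B _ hr ih =>
    refine ih.trans ?_
    obtain ⟨hA, hAc, hB, hBc, hcomm⟩ := hr
    have hlt : p ^ 1 < p ^ 2 := Nat.pow_lt_pow_right hp.one_lt (by norm_num)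
    have hcA : Nat.card (A.map P.subtype) = Nat.card A := Subgroup.card_subtype P A
    have hcB : Nat.card (B.map P.subtype) = Nat.card B := Subgroup.card_subtype P B
    constructor
    · intro hU
      refine bgu_93 hnc h92 hU ?_ (bgu_not_rankLE hp (bgu_map_elem hB P.subtype) (by omega))
      rintro _ ⟨b, hb, rfl⟩
      rw [Subgroup.mem_centralizer_iff]
      rintro _ ⟨a, ha, rfl⟩
      have := hcomm a ha b hb
      exact congrArg Subtype.val this
    · intro hU
      refine bgu_93 hnc h92 hU ?_ (bgu_not_rankLE hp (bgu_map_elem hA P.subtype) (by omega))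
      rintro _ ⟨a, ha, rfl⟩
      rw [Subgroup.mem_centralizer_iff]
      rintro _ ⟨b, hb, rfl⟩
      have := hcomm a ha b hb
      exact (congrArg Subtype.val this).symm

/-- Inside a Sylow `p`-subgroup, the uniqueness property passes between elementary abelian
subgroups of order `> p ^ 2`. -/
theorem bgu_94_sylow [Finite G] [IsSimpleGroup G] (hnc : ¬ IsMulCommutative G) (h92 : BGU92 G)
    {p : ℕ} [hp : Fact p.Prime] (P : Sylow p G) {E₁ E₂ : Subgroup G}
    (h1P : E₁ ≤ P) (h1e : IsElementaryAbelian p E₁) (h1c : p ^ 2 < Nat.card E₁)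
    (h1U : InUniqueMaximal E₁)
    (h2P : E₂ ≤ P) (h2e : IsElementaryAbelian p E₂) (h2c : p ^ 2 < Nat.card E₂) :
    InUniqueMaximal E₂ := by
  have hP : IsPGroup p ↥(P : Subgroup G) := P.isPGroup'
  have hrk : ¬ PRankLE p 2 ↥(P : Subgroup G) :=
    (Cfsg.Agent.Lib.helper28.not_pRankLE_subgroup_iff p 2 (P : Subgroup G)).mpr ⟨E₁, h1P, h1e, h1c⟩
  obtain ⟨U, hUn, hUe, hUc⟩ := Cfsg.Agent.Lib.helper28.exists_normal_elementaryAbelian_sq p hP hrk
  haveI := hUn
  have key : ∀ E : Subgroup G, E ≤ P → IsElementaryAbelian p E → p ^ 2 < Nat.card E →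
      Relation.ReflTransGen (fun A B : Subgroup (P : Subgroup G) => IsElementaryAbelian p A ∧
        p ^ 2 ≤ Nat.card A ∧ IsElementaryAbelian p B ∧ p ^ 2 ≤ Nat.card B ∧
        ∀ a ∈ A, ∀ b ∈ B, a * b = b * a) (E.subgroupOf (P : Subgroup G)) U := by
    intro E hEP hEe hEc
    have hEe' := (Cfsg.Agent.Lib.helper28.isElementaryAbelian_iff' p E).mp hEe
    have hXe : IsElementaryAbelian p (E.subgroupOf (P : Subgroup G)) := by
      rw [Cfsg.Agent.Lib.helper28.isElementaryAbelian_iff']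
      constructor
      · intro a ha b hb
        exact Subtype.ext (hEe'.1 a.1 (Subgroup.mem_subgroupOf.mp ha) b.1 (Subgroup.mem_subgroupOf.mp hb))
      · intro a ha
        apply Subtype.ext
        rw [Subgroup.coe_pow]
        exact hEe'.2 a.1 (Subgroup.mem_subgroupOf.mp ha)
    have hXc : Nat.card (E.subgroupOf (P : Subgroup G)) = Nat.card E := by
      rw [← Subgroup.card_subtype (P : Subgroup G) (E.subgroupOf (P : Subgroup G)),
        Subgroup.map_subgroupOf_eq_of_le hEP]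
    refine (Cfsg.Agent.Lib.helper28.pgroup_connected_iff p hP hrk U hUe hUc
      (E.subgroupOf (P : Subgroup G)) hXe (by omega)).mpr ?_
    refine (Cfsg.Agent.Lib.helper28.not_pRankLE_subgroup_iff p 2 _).mpr
      ⟨E.subgroupOf (P : Subgroup G), ?_, hXe, by omega⟩
    intro x hx
    rw [Subgroup.mem_centralizer_iff]
    intro y hy
    exact ((Cfsg.Agent.Lib.helper28.isElementaryAbelian_iff' p _).mp hXe).1 y hy x hx
  have h1 := bgu_chain hnc h92 hp.out (P : Subgroup G) (key E₁ h1P h1e h1c)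
  have h2 := bgu_chain hnc h92 hp.out (P : Subgroup G) (key E₂ h2P h2e h2c)
  rw [Subgroup.map_subgroupOf_eq_of_le h1P] at h1
  rw [Subgroup.map_subgroupOf_eq_of_le h2P] at h2
  exact h2.mpr (h1.mp h1U)

/-- Bender–Glauberman 9.4 (from 9.2(i)). -/
theorem bgu_94 [Finite G] [IsSimpleGroup G] (hodd : Odd (Nat.card G)) (hnc : ¬ IsMulCommutative G)
    (h92 : BGU92 G) {p : ℕ} [hp : Fact p.Prime] {A B : Subgroup G} (hAp : IsPGroup p A)
    (hAc : IsMulCommutative A) (hA3 : ¬ PRankLE p 2 ↥A) (hAU : InUniqueMaximal A)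
    (hBp : IsPGroup p B) (hBnc : ¬ IsCyclic B)
    (hB3 : ¬ PRankLE p 2 ↥(Subgroup.centralizer (B : Set G))) : InUniqueMaximal B := by
  obtain ⟨EA, hEAA, hEAe, hEAc⟩ := (Cfsg.Agent.Lib.helper28.not_pRankLE_subgroup_iff p 2 A).mp hA3
  obtain ⟨E, hEB, hEe, hEc⟩ := (Cfsg.Agent.Lib.helper28.not_pRankLE_subgroup_iff p 2 _).mp hB3
  have hlt : p ^ 1 < p ^ 2 := Nat.pow_lt_pow_right hp.out.one_lt (by norm_num)
  have hEAU : InUniqueMaximal EA := by
    refine bgu_93 hnc h92 hAU ?_ (bgu_not_rankLE hp.out hEAe (by omega))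
    intro x hx
    rw [Subgroup.mem_centralizer_iff]
    intro y hy
    exact congrArg Subtype.val (hAc.is_comm.comm ⟨y, hy⟩ ⟨x, hEAA hx⟩)
  have hEAp : IsPGroup p EA := bgu_isPGroup_of_elem hEAe
  have hEp : IsPGroup p E := bgu_isPGroup_of_elem hEe
  obtain ⟨P, hP⟩ := hEp.exists_le_sylow
  obtain ⟨P₀, hP₀⟩ := hEAp.exists_le_sylow
  obtain ⟨g, hg⟩ := MulAction.exists_smul_eq G P₀ P
  have hEA' : EA.map (MulAut.conj g).toMonoidHom ≤ P := by
    rw [← hg]
    rintro _ ⟨x, hx, rfl⟩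
    have h1 : (MulAut.conj g) x ∈ MulAut.conj g • (P₀ : Subgroup G) :=
      Subgroup.smul_mem_pointwise_smul x (MulAut.conj g) _ (hP₀ hx)
    rw [← Sylow.coe_subgroup_smul] at h1
    exact h1
  have hcard' : Nat.card (EA.map (MulAut.conj g).toMonoidHom) = Nat.card EA :=
    Subgroup.card_map_of_injective (MulAut.conj g).injective
  have hEU : InUniqueMaximal E :=
    bgu_94_sylow hnc h92 P hEA' (bgu_map_elem hEAe _) (by omega) (bgu_conj hEAU g) hP hEe hEc
  have hp2 : p ≠ 2 := by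
    intro hp2
    obtain ⟨k, hk⟩ := IsPGroup.iff_card.mp hEAp
    have hk0 : k ≠ 0 := by
      intro hk0
      rw [hk0, pow_zero] at hk
      have := Nat.one_lt_pow (n := 2) (by norm_num) hp.out.one_lt
      omega
    have h1 : p ∣ Nat.card EA := by rw [hk]; exact dvd_pow_self p hk0
    have h2 : p ∣ Nat.card G := h1.trans (Subgroup.card_subgroup_dvd_card EA)
    rw [hp2] at h2
    exact (Nat.not_even_iff_odd.mpr hodd) (even_iff_two_dvd.mpr h2)
  obtain ⟨V, -, hVe, hVc⟩ := Cfsg.Agent.Lib.helper55.exists_normal_elemAb_sq hp2 hBp hBnc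
  have hBr : ¬ RankLE 1 ↥B := by
    intro h
    have h1 := h p hp.out V hVe.1 hVe.2
    rw [hVc] at h1
    omega
  refine bgu_93 hnc h92 hEU ?_ hBr
  intro x hx
  rw [Subgroup.mem_centralizer_iff]
  intro y hy
  exact ((Subgroup.mem_centralizer_iff.mp (hEB hy)) x hx).symm

end Cfsg.Agent.Lib.helper36
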