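import Mathlib
import Cfsg.Agent.Lib.helper36.BGU2
import Cfsg.Agent.Lib.helper28.Fitting
import Cfsg.Agent.S1452

set_option autoImplicit false
set_option linter.style.haveILetI false
set_option linter.unusedSectionVars false

namespace Cfsg.Agent.Lib.helper36

open Cfsg
open scoped Pointwise

variable {G : Type*} [Group G]

/-! ### Bender–Glauberman 9.5 from 9.1, 9.3, 9.4 -/

/-- A `p`-subgroup (`p` odd) of rank at least 3 has a self-centralizing normal subgroup of rank at least 3. -/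
theorem bgu_exists_scn3 [Finite G] {p : ℕ} [Fact p.Prime] (hp2 : p ≠ 2) {P : Subgroup G}
    (hP : IsPGroup p P) (hr : ¬ PRankLE p 2 ↥P) :
    ∃ A : Subgroup G, IsSCN P A ∧ ¬ PRankLE p 2 ↥A ∧ IsMulCommutative A := by
  obtain ⟨U, hUn, hUe, hUc⟩ := Cfsg.Agent.Lib.helper28.exists_normal_elementaryAbelian_sq p hP hr
  haveI := hUn
  obtain ⟨A', -, hAn, hAC, hA3⟩ := Cfsg.Agent.S1452.result p hp2 hP hr U hUe hUc
  obtain ⟨B, hBA, hBe, hBc⟩ := (Cfsg.Agent.Lib.helper28.not_pRankLE_subgroup_iff p 2 A').mp hA3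
  have hcomm : ∀ x ∈ A', ∀ y ∈ A', x * y = y * x := by
    intro x hx y hy
    have hx' : x ∈ Subgroup.centralizer (A' : Set ↥P) := by rw [hAC]; exact hx
    exact ((Subgroup.mem_centralizer_iff.mp hx') y hy).symm
  refine ⟨A'.map P.subtype, ⟨Subgroup.map_subtype_le _, ?_, ?_⟩, ?_, ?_⟩
  · intro x hx
    rw [Subgroup.mem_normalizer_iff]
    intro y
    constructor
    · rintro ⟨a, ha, rfl⟩
      exact ⟨⟨x, hx⟩ * a * ⟨x, hx⟩⁻¹, hAn.conj_mem a ha ⟨x, hx⟩, rfl⟩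
    · rintro ⟨a, ha, ha'⟩
      refine ⟨⟨x, hx⟩⁻¹ * a * ⟨x, hx⟩, ?_, ?_⟩
      · have := hAn.conj_mem a ha ⟨x, hx⟩⁻¹
        simpa using this
      · have h1 : (a : G) = x * y * x⁻¹ := ha'
        simp [h1, mul_assoc]
  · ext x
    constructor
    · rintro ⟨hxP, hxC⟩
      have hx' : (⟨x, hxP⟩ : ↥P) ∈ Subgroup.centralizer (A' : Set ↥P) := by
        rw [Subgroup.mem_centralizer_iff]
        intro a ha
        apply Subtype.ext
        exact (Subgroup.mem_centralizer_iff.mp hxC) a ⟨a, ha, rfl⟩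
      rw [hAC] at hx'
      exact ⟨⟨x, hxP⟩, hx', rfl⟩
    · rintro ⟨a, ha, rfl⟩
      refine ⟨a.2, ?_⟩
      refine Subgroup.mem_centralizer_iff.mpr ?_
      rintro _ ⟨b, hb, rfl⟩
      exact congrArg Subtype.val (hcomm b hb a ha)
  · refine (Cfsg.Agent.Lib.helper28.not_pRankLE_subgroup_iff p 2 _).mpr
      ⟨B.map P.subtype, Subgroup.map_mono hBA, bgu_map_elem hBe _, ?_⟩
    rw [Subgroup.card_subtype]
    exact hBc
  · refine ⟨⟨?_⟩⟩
    rintro ⟨_, a, ha, rfl⟩ ⟨_, b, hb, rfl⟩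
    apply Subtype.ext
    show (a : G) * (b : G) = (b : G) * (a : G)
    exact congrArg Subtype.val (hcomm a ha b hb)

/-- The statement of Bender–Glauberman 9.1, used as a hypothesis until it is available. -/
def BGU91 (G : Type*) [Group G] : Prop :=
  ∀ (M : Subgroup G), IsCoatom M → ∀ (p : ℕ), p.Prime → ∀ (A₀ : Subgroup G),
    A₀ ≤ fittingOf M → IsElementaryAbelian p A₀ → p ^ 3 ≤ Nat.card A₀ →
    (∀ B : Subgroup G, B ≤ fittingOf M → IsElementaryAbelian p B → A₀ ≤ B → B = A₀) →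
    (¬ IsPGroup p ↥(fittingOf M) →
        InUniqueMaximal (fittingOf M ⊓ Subgroup.centralizer (A₀ : Set G))) ∧
      (IsPGroup p ↥(fittingOf M) → ∀ P : Sylow p M,
        ¬ p ∣ ((P : Subgroup M).map M.subtype).index ∧
        ∀ A : Subgroup G, IsSCN ((P : Subgroup M).map M.subtype) A → ¬ PRankLE p 2 ↥A →
          A ≤ fittingOf M ∧ InUniqueMaximal A)

/-- Bender–Glauberman 9.5. -/
theorem bgu_95 [Finite G] [IsSimpleGroup G] (hodd : Odd (Nat.card G)) (hnc : ¬ IsMulCommutative G)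
    (h91 : BGU91 G) (h92 : BGU92 G) {M : Subgroup G} (hM : IsCoatom M) {p : ℕ} [hp : Fact p.Prime]
    (hF : ¬ PRankLE p 2 ↥(fittingOf M)) {A : Subgroup G} (hAp : IsPGroup p A)
    (hAc : IsMulCommutative A) (hA3 : ¬ PRankLE p 2 ↥A) : InUniqueMaximal A := by
  obtain ⟨E₀, hE₀F, hE₀e, hE₀c⟩ := (Cfsg.Agent.Lib.helper28.not_pRankLE_subgroup_iff p 2 _).mp hF
  obtain ⟨EA, hEAA, hEAe, hEAc⟩ := (Cfsg.Agent.Lib.helper28.not_pRankLE_subgroup_iff p 2 A).mp hA3
  have hlt : p ^ 1 < p ^ 2 := Nat.pow_lt_pow_right hp.out.one_lt (by norm_num)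
  have hE₀p : IsPGroup p E₀ := bgu_isPGroup_of_elem hE₀e
  obtain ⟨k, hk⟩ := IsPGroup.iff_card.mp hE₀p
  have hk3 : 3 ≤ k := by
    by_contra hk3
    have : p ^ k ≤ p ^ 2 := Nat.pow_le_pow_right hp.out.pos (by omega)
    omega
  have hE₀3 : p ^ 3 ≤ Nat.card E₀ := by
    rw [hk]; exact Nat.pow_le_pow_right hp.out.pos hk3
  have hp2 : p ≠ 2 := by
    intro hp2
    have h1 : p ∣ Nat.card E₀ := by rw [hk]; exact dvd_pow_self p (by omega)
    have h2 : p ∣ Nat.card G := h1.trans (Subgroup.card_subgroup_dvd_card E₀)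
    rw [hp2] at h2
    exact (Nat.not_even_iff_odd.mpr hodd) (even_iff_two_dvd.mpr h2)
  -- facts about the target `A`
  have hAnc : ¬ IsCyclic A := by
    intro hcyc
    have hEAcyc : IsCyclic EA := by
      have : IsCyclic (EA.subgroupOf A) := Subgroup.isCyclic _
      exact (MulEquiv.isCyclic (Subgroup.subgroupOfEquivOfLe hEAA)).mp this
    have hp1 : p ^ 1 = p := pow_one p
    exact bgu_not_cyclic hp.out hEAe.2 (by omega) hEAcyc
  have hAC3 : ¬ PRankLE p 2 ↥(Subgroup.centralizer (A : Set G)) := by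
    refine (Cfsg.Agent.Lib.helper28.not_pRankLE_subgroup_iff p 2 _).mpr ⟨EA, ?_, hEAe, hEAc⟩
    intro x hx
    rw [Subgroup.mem_centralizer_iff]
    intro y hy
    exact congrArg Subtype.val (hAc.is_comm.comm ⟨y, hy⟩ ⟨x, hEAA hx⟩)
  -- a maximal elementary abelian subgroup of `F(M)` containing `E₀`
  obtain ⟨A₀, hE₀A₀, hA₀max⟩ := Set.Finite.exists_le_maximal
    (s := {B : Subgroup G | B ≤ fittingOf M ∧ IsElementaryAbelian p B ∧ E₀ ≤ B}) (Set.toFinite _)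
    (show E₀ ∈ _ from ⟨hE₀F, hE₀e, le_rfl⟩)
  obtain ⟨⟨hA₀F, hA₀e, -⟩, hA₀m⟩ := hA₀max
  have hA₀3 : p ^ 3 ≤ Nat.card A₀ := hE₀3.trans (Subgroup.card_le_of_le hE₀A₀)
  have hA₀max' : ∀ B : Subgroup G, B ≤ fittingOf M → IsElementaryAbelian p B → A₀ ≤ B → B = A₀ :=
    fun B hB1 hB2 hB3 => le_antisymm (hA₀m ⟨hB1, hB2, hE₀A₀.trans hB3⟩ hB3) hB3
  obtain ⟨ha, hb⟩ := h91 M hM p hp.out A₀ hA₀F hA₀e hA₀3 hA₀max'
  have hlt3 : p ^ 2 < p ^ 3 := Nat.pow_lt_pow_right hp.out.one_lt (by norm_num)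
  by_cases hFp : IsPGroup p ↥(fittingOf M)
  · -- `F(M)` is a `p`-group
    obtain ⟨P'⟩ : Nonempty (Sylow p M) := inferInstance
    have hFP : fittingOf M ≤ (P' : Subgroup M).map M.subtype := by
      have h1 : IsPGroup p ↥(fittingSubgroup M) := by
        have e : ↥(fittingSubgroup M) ≃* ↥(fittingOf M) :=
          (fittingSubgroup M).equivMapOfInjective M.subtype M.subtype_injective
        exact hFp.of_equiv e.symm
      exact Subgroup.map_mono (h1.le_sylow_of_normal P')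
    have hPp : IsPGroup p ↥((P' : Subgroup M).map M.subtype) := by
      have e : ↥(P' : Subgroup M) ≃* ↥((P' : Subgroup M).map M.subtype) :=
        (P' : Subgroup M).equivMapOfInjective M.subtype M.subtype_injective
      exact P'.isPGroup'.of_equiv e
    have hPr : ¬ PRankLE p 2 ↥((P' : Subgroup M).map M.subtype) :=
      (Cfsg.Agent.Lib.helper28.not_pRankLE_subgroup_iff p 2 _).mpr ⟨E₀, hE₀F.trans hFP, hE₀e, hE₀c⟩
    obtain ⟨A₁, hA₁scn, hA₁3, hA₁c⟩ := bgu_exists_scn3 hp2 hPp hPr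
    have hA₁U : InUniqueMaximal A₁ := ((hb hFp P').2 A₁ hA₁scn hA₁3).2
    exact bgu_94 hodd hnc h92 (hPp.to_le hA₁scn.1) hA₁c hA₁3 hA₁U hAp hAnc hAC3
  · -- `F(M)` is not a `p`-group
    have hXU := ha hFp
    have hA₀U : InUniqueMaximal A₀ := by
      refine bgu_93 hnc h92 hXU ?_ (bgu_not_rankLE hp.out hA₀e (by omega))
      intro x hx
      rw [Subgroup.mem_centralizer_iff]
      intro y hy
      exact ((Subgroup.mem_centralizer_iff.mp hy.2) x hx).symm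
    have hA₀c : IsMulCommutative A₀ := hA₀e.1
    have hA₀r : ¬ PRankLE p 2 ↥A₀ :=
      (Cfsg.Agent.Lib.helper28.not_pRankLE_subgroup_iff p 2 _).mpr ⟨A₀, le_rfl, hA₀e, by omega⟩
    exact bgu_94 hodd hnc h92 (bgu_isPGroup_of_elem hA₀e) hA₀c hA₀r hA₀U hAp hAnc hAC3

end Cfsg.Agent.Lib.helper36
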