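import Mathlib
import Cfsg.Prelude.Def_OddOrderLocal
import Cfsg.Agent.Lib.helper30.PuigIn
import Cfsg.Agent.Lib.helper39.Conj
import Cfsg.Agent.S1466
import Cfsg.Agent.S1469

set_option autoImplicit false
set_option linter.style.haveILetI false
set_option linter.unusedSectionVars false

namespace Cfsg.Agent.Lib.helper36

open Cfsg
open Cfsg.Agent.Lib.helper30
open Cfsg.Agent.Lib.helper39

variable {G : Type*} [Group G]

/-! ### The functor `T ↦ Z(L(T))` (centre of the Puig subgroup), inside the ambient group -/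

/-- `Z(L(T))` as a subgroup of the ambient group. -/
noncomputable def bguZ (T : Subgroup G) : Subgroup G :=
  zIn ((puigSubgroup ↥T).map T.subtype)

theorem bguZ_le (T : Subgroup G) : bguZ T ≤ T :=
  (zIn_le _).trans (Subgroup.map_subtype_le _)

theorem bguZ_normalizer [Finite G] (T : Subgroup G) :
    Subgroup.normalizer (T : Set G) ≤ Subgroup.normalizer (bguZ T : Set G) := by
  intro g hg
  obtain ⟨k, hk⟩ := pSeqIn_stabilizes T
  have h1 := mem_normalizer_pSeqIn T g hg (2 * k + 1)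
  rw [(hk k le_rfl).2] at h1
  exact normalizer_le_normalizer_zIn _ h1

theorem bguZ_ne_bot [Finite G] {p : ℕ} [Fact p.Prime] {T : Subgroup G} (hT : IsPGroup p T)
    (hT1 : T ≠ ⊥) : bguZ T ≠ ⊥ := by
  haveI : Nontrivial ↥T := (Subgroup.nontrivial_iff_ne_bot T).mpr hT1
  have hL : puigSubgroup ↥T ≠ ⊥ := (Cfsg.Agent.S1466.result p hT).2.2.2.1
  haveI : Nontrivial ↥(puigSubgroup ↥T) := (Subgroup.nontrivial_iff_ne_bot _).mpr hL
  have hLp : IsPGroup p ↥(puigSubgroup ↥T) := hT.to_subgroup _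
  haveI : Nontrivial ↥(Subgroup.center ↥(puigSubgroup ↥T)) := hLp.center_nontrivial
  obtain ⟨z, hz⟩ := exists_ne (1 : ↥(Subgroup.center ↥(puigSubgroup ↥T)))
  intro hbot
  have hmem : (((z : ↥(puigSubgroup ↥T)) : ↥T) : G) ∈ bguZ T := by
    have h1 := map_center_map T (puigSubgroup ↥T)
    unfold bguZ
    rw [← h1]
    exact ⟨((z : ↥(puigSubgroup ↥T)) : ↥T), ⟨(z : ↥(puigSubgroup ↥T)), z.2, rfl⟩, rfl⟩
  rw [hbot, Subgroup.mem_bot] at hmem
  apply hz
  apply Subtype.ext
  apply Subtype.ext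
  apply Subtype.ext
  exact hmem

theorem bguZ_map [Finite G] {H : Subgroup G} (S : Subgroup H) :
    bguZ (S.map H.subtype) = (bguZ S).map H.subtype := by
  have hinj : ∀ x ∈ S, H.subtype x = 1 → x = 1 := by
    intro x _ hx
    exact Subtype.ext hx
  obtain ⟨k₁, hk₁⟩ := pSeqIn_stabilizes S
  obtain ⟨k₂, hk₂⟩ := pSeqIn_stabilizes (S.map H.subtype)
  have h1 := (hk₁ (max k₁ k₂) (le_max_left _ _)).2
  have h2 := (hk₂ (max k₁ k₂) (le_max_right _ _)).2
  have h3 := pSeqIn_map H.subtype S hinj (2 * max k₁ k₂ + 1)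
  unfold bguZ
  rw [← h2, h3, h1]
  exact zIn_map H.subtype S _ (Subgroup.map_subtype_le _) hinj

/-- Puig's factorization, for a Sylow `p`-subgroup `T` of a solvable subgroup `H` of odd order. -/
theorem bguZ_factor [Finite G] {p : ℕ} [Fact p.Prime] (hp2 : p ≠ 2) {H T : Subgroup G}
    (hsolv : Group.IsSolvable H) (hodd : Odd (Nat.card H)) (hT : IsSylIn p T H) :
    H ≤ (pPrimeCore p ↥H).map H.subtype ⊔ Subgroup.normalizer (bguZ T : Set G) := by
  haveI := hsolv
  have h1 := (Cfsg.Agent.S1469.result hodd p hp2 hT.toSylow).1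
  rw [map_center_map] at h1
  have h2 : bguZ T = (bguZ (T.subgroupOf H)).map H.subtype := by
    rw [← bguZ_map, Subgroup.map_subgroupOf_eq_of_le hT.1]
  intro x hx
  have h3 : (⟨x, hx⟩ : ↥H) ∈ (⊤ : Subgroup ↥H) := Subgroup.mem_top _
  rw [← h1] at h3
  have key : ∀ (N : Subgroup ↥H), N.map H.subtype ≤ Subgroup.normalizer (bguZ T : Set G) →
      x ∈ (pPrimeCore p ↥H ⊔ N).map H.subtype →
      x ∈ (pPrimeCore p ↥H).map H.subtype ⊔ Subgroup.normalizer (bguZ T : Set G) := by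
    intro N hN hx'
    rw [Subgroup.map_sup] at hx'
    exact (sup_le_sup_left hN ((pPrimeCore p ↥H).map H.subtype)) hx'
  refine key _ ?_ ⟨⟨x, hx⟩, h3, rfl⟩
  rw [h2]
  exact Subgroup.le_normalizer_map _

end Cfsg.Agent.Lib.helper36
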