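import Mathlib
import Cfsg.Agent.Lib.helper36.BGU3
import Cfsg.Agent.Lib.helper36.BGU4
import Cfsg.Agent.Lib.helper29.Trans4
import Cfsg.Agent.Lib.helper29.Trans3
import Cfsg.Agent.Lib.helper29.PSolv
import Cfsg.Agent.Lib.helper37.CoprimeGen
import Cfsg.Agent.Lib.helper80.PSolv
import Cfsg.Agent.Lib.helper52.BasicProp
import Cfsg.Agent.Lib.helper38.PPrimeP
import Cfsg.Agent.Lib.helper28.PLayer
import Cfsg.Agent.Lib.helper53.Conj
import Cfsg.Agent.S1450
import Cfsg.Agent.S1457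
import Cfsg.Agent.S1393
import Cfsg.Agent.S1395
import Cfsg.Agent.S1396

set_option autoImplicit false
set_option linter.style.haveILetI false
set_option linter.unusedSectionVars false

namespace Cfsg.Agent.Lib.helper36

open Cfsg
open Cfsg.Agent.Lib.helper39 (IsSylIn)

variable {G : Type*} [Group G]

/-! ### Bender–Glauberman 9.2 -/

/-- A `p'`-group `Y` acted on by a `p`-group `A` lies in `K` as soon as all its `A`-invariant
subgroups of prime power order do. -/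
theorem bgu_le_of_invariant_sylow [Finite G] {p : ℕ} [Fact p.Prime] {A Y K : Subgroup G}
    (hA : IsPGroup p A) (hY : ¬ p ∣ Nat.card Y) (hAY : A ≤ Subgroup.normalizer (Y : Set G))
    (h : ∀ q : ℕ, q.Prime → q ≠ p → ∀ Q : Subgroup G, Q ≤ Y → IsPGroup q Q →
      A ≤ Subgroup.normalizer (Q : Set G) → Q ≤ K) : Y ≤ K := by
  have hcard : Nat.card Y ∣ Nat.card (K ⊓ Y : Subgroup G) := by
    rw [← Nat.factorization_prime_le_iff_dvd Nat.card_pos.ne' Nat.card_pos.ne']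
    intro q hq
    by_cases hqp : q = p
    · rw [hqp, Nat.factorization_eq_zero_of_not_dvd hY]
      exact Nat.zero_le _
    · haveI : Fact q.Prime := ⟨hq⟩
      obtain ⟨Q, hQY, hQq, hAQ, hQc⟩ :=
        Cfsg.Agent.Lib.helper37.exists_invariant_sylow p q A Y hA hY hAY
      have hQK : Q ≤ K ⊓ Y := le_inf (h q hq hqp Q hQY hQq hAQ) hQY
      have h1 : Nat.card Q ∣ Nat.card (K ⊓ Y : Subgroup G) := Subgroup.card_dvd_of_le hQK
      rw [hQc] at h1
      exact (hq.pow_dvd_iff_le_factorization Nat.card_pos.ne').mp h1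
  have h2 : K ⊓ Y = Y :=
    Subgroup.eq_of_le_of_card_ge inf_le_right (Nat.le_of_dvd Nat.card_pos hcard)
  rw [← h2]
  exact inf_le_left

/-- If `K` is a `p'`-group normalized by `R ≥ A` and containing every `A`-invariant `p'`-subgroup,
then `N_G(R) ≤ N_G(K)`. -/
theorem bgu_normalizer_le [Finite G] {p : ℕ} {A R K : Subgroup G} (hAR : A ≤ R)
    (hRK : R ≤ Subgroup.normalizer (K : Set G)) (hK : ¬ p ∣ Nat.card K)
    (hall : ∀ Y : Subgroup G, ¬ p ∣ Nat.card Y → A ≤ Subgroup.normalizer (Y : Set G) → Y ≤ K) :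
    Subgroup.normalizer (R : Set G) ≤ Subgroup.normalizer (K : Set G) := by
  intro n hn
  apply Cfsg.Agent.Lib.helper53.mem_normalizer_of_conj_le
  apply hall
  · rw [Subgroup.card_map_of_injective (MulAut.conj n).injective]
    exact hK
  · rw [Subgroup.le_normalizer_iff]
    rintro a ha _ ⟨k, hk, rfl⟩
    have h1 : n⁻¹ * a * n ∈ R := by
      rw [Subgroup.mem_normalizer_iff.mp hn (n⁻¹ * a * n)]
      have e : n * (n⁻¹ * a * n) * n⁻¹ = a := by group
      rw [e]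
      exact hAR ha
    have h2 : (n⁻¹ * a * n) * k * (n⁻¹ * a * n)⁻¹ ∈ K :=
      (Subgroup.le_normalizer_iff.mp hRK) _ h1 k hk
    refine ⟨(n⁻¹ * a * n) * k * (n⁻¹ * a * n)⁻¹, h2, ?_⟩
    simp only [MulEquiv.coe_toMonoidHom, MulAut.conj_apply]
    group

theorem bgu_isSylIn_of_le {p : ℕ} {T K H : Subgroup G} (hT : IsSylIn p T H) (hTK : T ≤ K)
    (hKH : K ≤ H) : IsSylIn p T K := by
  refine ⟨hTK, hT.2.1, fun hdvd => hT.2.2 ?_⟩
  rw [← Subgroup.relIndex_mul_relIndex T K H hTK hKH]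
  exact dvd_mul_of_dvd_left hdvd _

theorem bgu_exists_lt_of_not_isSylIn [Finite G] {p : ℕ} [Fact p.Prime] {T H : Subgroup G}
    (hTp : IsPGroup p T) (hTH : T ≤ H) (h : ¬ IsSylIn p T H) :
    ∃ Q : Subgroup G, IsPGroup p Q ∧ T < Q ∧ Q ≤ H := by
  obtain ⟨T', hT', hTT'⟩ := Cfsg.Agent.Lib.helper39.exists_isSylIn_ge hTp hTH
  refine ⟨T', hT'.2.1, lt_of_le_of_ne hTT' ?_, hT'.1⟩
  intro heq
  exact h (heq ▸ hT')

theorem bgu_card_lt [Finite G] {T R : Subgroup G} (h : T < R) : Nat.card T < Nat.card R := by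
  by_contra hle
  exact h.ne (Subgroup.eq_of_le_of_card_ge h.le (not_lt.mp hle))

theorem bgu_not_dvd_card_of_isPGroup [Finite G] {p q : ℕ} (hp : p.Prime) (hq : q.Prime)
    (hqp : q ≠ p) {Q : Subgroup G} (hQ : IsPGroup q Q) : ¬ p ∣ Nat.card Q := by
  haveI : Fact q.Prime := ⟨hq⟩
  obtain ⟨k, hk⟩ := IsPGroup.iff_card.mp hQ
  rw [hk]
  intro h
  exact hqp ((Nat.prime_dvd_prime_iff_eq hp hq).mp (hp.dvd_of_dvd_pow h)).symm

theorem bgu_subgroupOf_le_normalizer {A Q M : Subgroup G}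
    (h : A ≤ Subgroup.normalizer (Q : Set G)) :
    A.subgroupOf M ≤ Subgroup.normalizer ((Q.subgroupOf M : Subgroup M) : Set M) := by
  rw [Subgroup.le_normalizer_iff]
  intro x hx y hy
  rw [Subgroup.mem_subgroupOf] at hx hy ⊢
  exact (Subgroup.le_normalizer_iff.mp h) _ hx _ hy

theorem bgu_le_normalizer_map_of_normal {X : Subgroup G} (N : Subgroup X) [hN : N.Normal] :
    X ≤ Subgroup.normalizer ((N.map X.subtype : Subgroup G) : Set G) := by
  rw [Subgroup.le_normalizer_iff]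
  rintro x hx _ ⟨y, hy, rfl⟩
  exact ⟨⟨x, hx⟩ * y * ⟨x, hx⟩⁻¹, hN.conj_mem y hy ⟨x, hx⟩, rfl⟩

/-- The standing hypotheses of the proof of 9.2 (form (ii)). -/
structure BGUCtx (p : ℕ) (M B : Subgroup G) : Prop where
  hodd : Odd (Nat.card G)
  hnc : ¬ IsMulCommutative G
  hsolv : ∀ H : Subgroup G, H ≠ ⊤ → Group.IsSolvable H
  hM : IsCoatom M
  hBM : B ≤ M
  hBp : IsPGroup p B
  hB1 : B ≠ ⊥
  hp2 : p ≠ 2
  hii : ∀ Y : Subgroup G, ¬ p ∣ Nat.card Y → B ≤ Subgroup.normalizer (Y : Set G) → Y ≤ M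

theorem bgu_not_dvd_card_core [Finite G] {p : ℕ} [hp : Fact p.Prime] (H : Subgroup G) :
    ¬ p ∣ Nat.card ((pPrimeCore p ↥H).map H.subtype : Subgroup G) := by
  have h := Cfsg.Agent.Lib.helper29.card_map_pPrimeCore_coprime (p := p) H
  rw [Nat.coprime_comm, Nat.Prime.coprime_iff_not_dvd hp.out] at h
  exact h

theorem BGUCtx.core_le [Finite G] {p : ℕ} [Fact p.Prime] {M B : Subgroup G} (c : BGUCtx p M B)
    {H : Subgroup G} (hBH : B ≤ H) : (pPrimeCore p ↥H).map H.subtype ≤ M :=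
  c.hii _ (bgu_not_dvd_card_core H)
    (hBH.trans (Cfsg.Agent.Lib.helper29.le_normalizer_map_pPrimeCore H))

theorem BGUCtx.odd_sub [Finite G] {p : ℕ} {M B : Subgroup G} (c : BGUCtx p M B)
    (H : Subgroup G) : Odd (Nat.card H) :=
  Odd.of_dvd_nat c.hodd (Subgroup.card_subgroup_dvd_card H)

theorem BGUCtx.factor [Finite G] {p : ℕ} [Fact p.Prime] {M B : Subgroup G} (c : BGUCtx p M B)
    {H T : Subgroup G} (hH : H ≠ ⊤) (hT : IsSylIn p T H) :
    H ≤ (pPrimeCore p ↥H).map H.subtype ⊔ Subgroup.normalizer (bguZ T : Set G) :=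
  bguZ_factor c.hp2 (c.hsolv H hH) (c.odd_sub H) hT

theorem BGUCtx.eq_of_factor [Finite G] {p : ℕ} [Fact p.Prime] {M B : Subgroup G}
    (c : BGUCtx p M B) {H T : Subgroup G} (hH : IsCoatom H) (hBH : B ≤ H) (hT : IsSylIn p T H)
    (hZ : Subgroup.normalizer (bguZ T : Set G) ≤ M) : H = M := by
  have hle : H ≤ M := (c.factor hH.1 hT).trans (sup_le (c.core_le hBH) hZ)
  exact ((hH.le_iff.mp hle).resolve_left c.hM.1).symm

/-- Step 1: a Sylow `p`-subgroup `T ≥ B` of `M` and a second maximal subgroup over `N_G(Z(L(T)))`. -/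
theorem BGUCtx.step1 [Finite G] [IsSimpleGroup G] {p : ℕ} [Fact p.Prime] {M B : Subgroup G}
    (c : BGUCtx p M B) {H₀ : Subgroup G} (hH₀ : IsCoatom H₀) (hH₀M : H₀ ≠ M) (hBH₀ : B ≤ H₀) :
    ∃ T H' : Subgroup G, IsSylIn p T M ∧ B ≤ T ∧ IsCoatom H' ∧ H' ≠ M ∧
      Subgroup.normalizer (bguZ T : Set G) ≤ H' := by
  let PP : Set (Subgroup G × Subgroup G) :=
    {x | IsCoatom x.1 ∧ x.1 ≠ M ∧ B ≤ x.2 ∧ x.2 ≤ x.1 ∧ x.2 ≤ M ∧ IsPGroup p x.2}
  haveI : Nonempty PP := ⟨⟨(H₀, B), hH₀, hH₀M, le_rfl, hBH₀, c.hBM, c.hBp⟩⟩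
  obtain ⟨⟨⟨H, T⟩, hH, hHM, hBT, hTH, hTM, hTp⟩, hmax⟩ :=
    Finite.exists_max (fun x : PP => Nat.card x.1.2)
  have hmax' : ∀ (L R : Subgroup G), IsCoatom L → L ≠ M → B ≤ R → R ≤ L → R ≤ M →
      IsPGroup p R → Nat.card R ≤ Nat.card T :=
    fun L R h1 h2 h3 h4 h5 h6 => hmax ⟨(L, R), h1, h2, h3, h4, h5, h6⟩
  have hT1 : T ≠ ⊥ := fun h => c.hB1 (le_bot_iff.mp (h ▸ hBT))
  have hTtop : T ≠ ⊤ := fun h => c.hM.1 (top_le_iff.mp (h ▸ hTM))
  have hNT : Subgroup.normalizer (T : Set G) ≠ ⊤ :=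
    Cfsg.Agent.Lib.helper29.normalizer_ne_top_of_simple hT1 hTtop
  have hZ1 : bguZ T ≠ ⊥ := bguZ_ne_bot hTp hT1
  have hZtop : bguZ T ≠ ⊤ := fun h => hTtop (top_le_iff.mp (h ▸ bguZ_le T))
  have hNZ : Subgroup.normalizer (bguZ T : Set G) ≠ ⊤ :=
    Cfsg.Agent.Lib.helper29.normalizer_ne_top_of_simple hZ1 hZtop
  have grow : ∀ Q : Subgroup G, IsPGroup p Q → T < Q →
      T < Q ⊓ Subgroup.normalizer (T : Set G) :=
    fun Q hQ hlt => Cfsg.Agent.Lib.helper39.lt_inf_normalizer_of_lt hQ hlt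
  have key : ∀ (X R : Subgroup G), X ≠ ⊤ → IsPGroup p R → T < R → R ≤ M → R ≤ X → X ≤ M := by
    intro X R hX hRp hTR hRM hRX
    obtain ⟨L, hL, hXL⟩ := bgu_exists_coatom hX
    by_contra hXM
    have hLM : L ≠ M := fun h => hXM (h ▸ hXL)
    have h1 := hmax' L R hL hLM (hBT.trans hTR.le) (hRX.trans hXL) hRM hRp
    have h2 := bgu_card_lt hTR
    omega
  by_cases hTsM : IsSylIn p T M
  · have hnot : ¬ Subgroup.normalizer (bguZ T : Set G) ≤ M := by
      intro hZM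
      by_cases hTsH : IsSylIn p T H
      · exact hHM (c.eq_of_factor hH (hBT.trans hTH) hTsH hZM)
      · obtain ⟨Q, hQp, hTQ, hQH⟩ := bgu_exists_lt_of_not_isSylIn hTp hTH hTsH
        have hlt := grow Q hQp hTQ
        have hR'M : Q ⊓ Subgroup.normalizer (T : Set G) ≤ M :=
          inf_le_right.trans ((bguZ_normalizer T).trans hZM)
        have h1 := hmax' H (Q ⊓ Subgroup.normalizer (T : Set G)) hH hHM (hBT.trans hlt.le)
          (inf_le_left.trans hQH) hR'M (hQp.to_le inf_le_left)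
        have h2 := bgu_card_lt hlt
        omega
    obtain ⟨H', hH', hle⟩ := bgu_exists_coatom hNZ
    exact ⟨T, H', hTsM, hBT, hH', fun h => hnot (h ▸ hle), hle⟩
  · exfalso
    obtain ⟨Q, hQp, hTQ, hQM⟩ := bgu_exists_lt_of_not_isSylIn hTp hTM hTsM
    have hlt := grow Q hQp hTQ
    have hRp : IsPGroup p ↥(Q ⊓ Subgroup.normalizer (T : Set G)) := hQp.to_le inf_le_left
    have hRM : Q ⊓ Subgroup.normalizer (T : Set G) ≤ M := inf_le_left.trans hQM
    have hNTM : Subgroup.normalizer (T : Set G) ≤ M := key _ _ hNT hRp hlt hRM inf_le_right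
    have hNZM : Subgroup.normalizer (bguZ T : Set G) ≤ M :=
      key _ _ hNZ hRp hlt hRM (inf_le_right.trans (bguZ_normalizer T))
    have hTsH : IsSylIn p T H := by
      by_contra hTsH
      obtain ⟨Q', hQ'p, hTQ', hQ'H⟩ := bgu_exists_lt_of_not_isSylIn hTp hTH hTsH
      have hlt' := grow Q' hQ'p hTQ'
      have h1 := hmax' H (Q' ⊓ Subgroup.normalizer (T : Set G)) hH hHM (hBT.trans hlt'.le)
        (inf_le_left.trans hQ'H) (inf_le_right.trans hNTM) (hQ'p.to_le inf_le_left)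
      have h2 := bgu_card_lt hlt'
      omega
    exact hHM (c.eq_of_factor hH (hBT.trans hTH) hTsH hNZM)

/-- Steps 2 and 3. -/
theorem BGUCtx.step3 [Finite G] [IsSimpleGroup G] {p : ℕ} [hp : Fact p.Prime] {M B : Subgroup G}
    (c : BGUCtx p M B) {T H' : Subgroup G} (hT : IsSylIn p T M) (hBT : B ≤ T)
    (hH' : IsCoatom H') (hH'M : H' ≠ M) (hZ : Subgroup.normalizer (bguZ T : Set G) ≤ H') :
    Subgroup.normalizer (((pPrimeCore p ↥M).map M.subtype : Subgroup G) : Set G) = M ∧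
    (∀ Y : Subgroup G, ¬ p ∣ Nat.card Y → T ≤ Subgroup.normalizer (Y : Set G) →
      Y ≤ (pPrimeCore p ↥M).map M.subtype) ∧
    Subgroup.normalizer (T : Set G) ≤ M ∧ ∃ S : Sylow p G, (S : Subgroup G) = T := by
  have hMtop := c.hM.1
  have hfac := c.factor hMtop hT
  have hKH' : ¬ (pPrimeCore p ↥M).map M.subtype ≤ H' := by
    intro h
    have h1 : M ≤ H' := hfac.trans (sup_le h hZ)
    exact hH'M ((c.hM.le_iff.mp h1).resolve_left hH'.1)
  have hK1 : (pPrimeCore p ↥M).map M.subtype ≠ ⊥ := fun h => hKH' (h ▸ bot_le)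
  have hKtop : (pPrimeCore p ↥M).map M.subtype ≠ ⊤ :=
    fun h => hMtop (top_le_iff.mp (h ▸ Subgroup.map_subtype_le _))
  have hNK : Subgroup.normalizer (((pPrimeCore p ↥M).map M.subtype : Subgroup G) : Set G) = M := by
    have h1 : M ≤ Subgroup.normalizer (((pPrimeCore p ↥M).map M.subtype : Subgroup G) : Set G) :=
      Cfsg.Agent.Lib.helper29.le_normalizer_map_pPrimeCore M
    have h2 := Cfsg.Agent.Lib.helper29.normalizer_ne_top_of_simple hK1 hKtop
    exact (c.hM.le_iff.mp h1).resolve_left h2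
  have hq : ∀ q : ℕ, q.Prime → q ≠ p → ∀ Q : Subgroup G, IsPGroup q Q →
      T ≤ Subgroup.normalizer (Q : Set G) → Q ≤ (pPrimeCore p ↥M).map M.subtype := by
    intro q hq hqp Q hQ hTQ
    haveI : Fact q.Prime := ⟨hq⟩
    have hQM : Q ≤ M := c.hii Q (bgu_not_dvd_card_of_isPGroup hp.out hq hqp hQ) (hBT.trans hTQ)
    have hps : IsPSolvable p ↥M :=
      Cfsg.Agent.Lib.helper29.isPSolvable_of_isSolvable p (c.hsolv M hMtop)
    have h1 := Cfsg.Agent.Lib.helper80.le_pPrimeCore_of_sylow_normalizes p q (Ne.symm hqp) hps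
      hT.toSylow (Q.subgroupOf M) (hQ.comap_subtype (K := M)) (bgu_subgroupOf_le_normalizer hTQ)
    intro x hx
    exact ⟨⟨x, hQM hx⟩, h1 (Subgroup.mem_subgroupOf.mpr hx), rfl⟩
  have hall : ∀ Y : Subgroup G, ¬ p ∣ Nat.card Y → T ≤ Subgroup.normalizer (Y : Set G) →
      Y ≤ (pPrimeCore p ↥M).map M.subtype := fun Y hY hTY =>
    bgu_le_of_invariant_sylow hT.2.1 hY hTY (fun q hq' hqp Q _ hQ hTQ => hq q hq' hqp Q hQ hTQ)
  have hNT : Subgroup.normalizer (T : Set G) ≤ M := by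
    have h1 := bgu_normalizer_le (A := T) (R := T) le_rfl (hT.1.trans hNK.ge)
      (bgu_not_dvd_card_core M) hall
    rw [hNK] at h1
    exact h1
  refine ⟨hNK, hall, hNT, ⟨T, hT.2.1, ?_⟩, rfl⟩
  intro Q hQ hTQ
  by_contra hne
  have hlt : T < Q := lt_of_le_of_ne hTQ (fun h => hne h.symm)
  have h1 := Cfsg.Agent.Lib.helper39.lt_inf_normalizer_of_lt hQ hlt
  have h2 : Q ⊓ Subgroup.normalizer (T : Set G) = T :=
    hT.eq_of_le (hQ.to_le inf_le_left) h1.le (inf_le_right.trans hNT)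
  exact h1.ne h2.symm

end Cfsg.Agent.Lib.helper36
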