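import Mathlib
import Cfsg.Agent.Lib.helper36.BGU5

set_option autoImplicit false
set_option linter.style.haveILetI false
set_option linter.unusedSectionVars false

namespace Cfsg.Agent.Lib.helper36

open Cfsg
open Cfsg.Agent.Lib.helper39 (IsSylIn)

variable {G : Type*} [Group G]

/-! ### Bender–Glauberman 9.2: the final step -/

/-- Rank at most 2: a Sylow `p`-subgroup of a solvable group `X` of odd order lies in `O_{p',p}(X)`. -/
theorem bgu_sylow_le_pPrimePCore [Finite G] {p : ℕ} [hp : Fact p.Prime] (hodd : Odd (Nat.card G))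
    {X T : Subgroup G} (hsolv : Group.IsSolvable X) (hT : IsSylIn p T X) (hT1 : T ≠ ⊥)
    (hr : PRankLE p 2 ↥T) : T ≤ (pPrimePCore p ↥X).map X.subtype := by
  haveI := hsolv
  have hoddX : Odd (Nat.card X) := Odd.of_dvd_nat hodd (Subgroup.card_subgroup_dvd_card X)
  have hrX : PRankLE p 2 ↥X := by
    intro E hEc hEe
    have hEel : IsElementaryAbelian p (E.map X.subtype) := bgu_map_elem ⟨hEc, hEe⟩ _
    obtain ⟨h, -, hle⟩ := hT.exists_cj_le (bgu_isPGroup_of_elem hEel) (Subgroup.map_subtype_le _)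
    have hc1 : Nat.card (Cfsg.Agent.Lib.helper39.cj h (E.map X.subtype)) = Nat.card E := by
      rw [Subgroup.card_map_of_injective (MulAut.conj h).injective, Subgroup.card_subtype]
    by_contra hlt
    exact (Cfsg.Agent.Lib.helper28.not_pRankLE_subgroup_iff p 2 T).mpr
      ⟨_, hle, bgu_map_elem hEel _, by rw [hc1]; omega⟩ hr
  obtain ⟨k, hk⟩ := IsPGroup.iff_card.mp hT.2.1
  have hk0 : k ≠ 0 := by
    intro hk0
    rw [hk0, pow_zero] at hk
    exact hT1 (Subgroup.card_eq_one.mp hk)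
  have hpX : p ∣ Nat.card X :=
    (hk ▸ dvd_pow_self p hk0 : p ∣ Nat.card T).trans (Subgroup.card_dvd_of_le hT.1)
  have hidx := (Cfsg.Agent.S1450.result hoddX p hpX hrX).2.2.2.2.2
  have h1 : (pPrimePCore p ↥X).relIndex (T.subgroupOf X) ∣ (pPrimePCore p ↥X).index :=
    Subgroup.relIndex_dvd_index_of_normal _ _
  have h2 : (pPrimePCore p ↥X).relIndex (T.subgroupOf X) ∣ Nat.card (T.subgroupOf X) :=
    Subgroup.relIndex_dvd_card _ _
  obtain ⟨k', hk'⟩ := IsPGroup.iff_card.mp (hT.2.1.comap_subtype (K := X))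
  have hk'' : Nat.card (T.subgroupOf X) = p ^ k' := hk'
  rw [hk''] at h2
  obtain ⟨j, -, hj⟩ := (Nat.dvd_prime_pow hp.out).mp h2
  have hj0 : j = 0 := by
    by_contra hj0
    have h3 : p ∣ (pPrimePCore p ↥X).index := (hj ▸ dvd_pow_self p hj0 : p ∣ _).trans h1
    have h4 := Nat.Coprime.eq_one_of_dvd hidx.symm h3
    exact hp.out.one_lt.ne' h4
  rw [hj0, pow_zero, Subgroup.relIndex_eq_one] at hj
  intro x hx
  exact ⟨⟨x, hT.1 hx⟩, hj (Subgroup.mem_subgroupOf.mpr hx), rfl⟩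

/-- Rank at least 3: transfer of "all invariant `p'`-subgroups lie in `K`" from a Sylow subgroup `S`
to a member `A` of `SCN_3(S)`. -/
theorem bgu_scn_all [Finite G] (hG : IsMinSimpleOddOrder G) {p : ℕ} [hp : Fact p.Prime]
    (S : Sylow p G) {A K : Subgroup G} (hscn : IsSCN (S : Subgroup G) A) (hA3 : ¬ PRankLE p 2 ↥A)
    (hAc : IsMulCommutative A) (hST : (S : Subgroup G) ≠ ⊤)
    (hall : ∀ Y : Subgroup G, ¬ p ∣ Nat.card Y → (S : Subgroup G) ≤ Subgroup.normalizer (Y : Set G) →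
      Y ≤ K) :
    ∀ Y : Subgroup G, ¬ p ∣ Nat.card Y → A ≤ Subgroup.normalizer (Y : Set G) → Y ≤ K := by
  obtain ⟨hodd, hsimple, hnc, hsolv⟩ := id hG
  haveI := hsimple
  have hAp : IsPGroup p A := S.isPGroup'.to_le hscn.1
  obtain ⟨E, hEA, hEe, hEc⟩ := (Cfsg.Agent.Lib.helper28.not_pRankLE_subgroup_iff p 2 A).mp hA3
  have hlt : p ^ 1 < p ^ 2 := Nat.pow_lt_pow_right hp.out.one_lt (by norm_num)
  obtain ⟨a, ha⟩ := IsPGroup.iff_card.mp hAp
  have ha0 : a ≠ 0 := by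
    intro ha0
    rw [ha0, pow_zero] at ha
    have h1 := Subgroup.card_le_of_le hEA
    have h2 : 1 ≤ p ^ 2 := Nat.one_le_pow _ _ hp.out.pos
    omega
  have hpA : p ∣ Nat.card A := ha ▸ dvd_pow_self p ha0
  have hpG : p ∣ Nat.card G := hpA.trans (Subgroup.card_subgroup_dvd_card A)
  have hA1 : ¬ PRankLE p 1 ↥A :=
    (Cfsg.Agent.Lib.helper28.not_pRankLE_subgroup_iff p 1 A).mpr ⟨E, hEA, hEe, by omega⟩
  have hTH : TransitivityHypothesis A :=
    Cfsg.Agent.S1396.result hG p hpG A hAp hAc (Or.inr ⟨S, hscn, hA1⟩)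
  have hEcent : E ≤ Subgroup.centralizer (A : Set G) := by
    intro x hx
    rw [Subgroup.mem_centralizer_iff]
    intro y hy
    exact congrArg Subtype.val (hAc.is_comm.comm ⟨y, hy⟩ ⟨x, hEA hx⟩)
  have hZ : ¬ RankLE 2 ↥(A ⊓ Subgroup.centralizer (A : Set G)) := fun h =>
    (Cfsg.Agent.Lib.helper28.not_pRankLE_subgroup_iff p 2 _).mpr
      ⟨E, le_inf hEA hEcent, hEe, hEc⟩ (h p hp.out)
  have hSp : IsPGroup p ↥(S : Subgroup G) := S.isPGroup'
  have hPπ : ∀ r : ℕ, r.Prime → r ∣ Nat.card (S : Subgroup G) → r ∣ Nat.card A := by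
    intro r hr hrS
    obtain ⟨s, hs⟩ := IsPGroup.iff_card.mp hSp
    rw [hs] at hrS
    rw [(Nat.prime_dvd_prime_iff_eq hr hp.out).mp (hr.dvd_of_dvd_pow hrS)]
    exact hpA
  have hsn : (A.subgroupOf (S : Subgroup G)).IsSubnormal :=
    ((Subgroup.normal_subgroupOf_iff_le_normalizer hscn.1).mpr hscn.2.1).isSubnormal
  have hKAp : ¬ p ∣ Nat.card (piCoreOf (primesNotDvd (Nat.card A))
      (Subgroup.centralizer (A : Set G))) := fun h =>
    (Cfsg.Agent.Lib.helper29.prime_mem_of_dvd_card_piCoreOf _ _ p hp.out h).2 hpA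
  have hKA : piCoreOf (primesNotDvd (Nat.card A)) (Subgroup.centralizer (A : Set G)) ≤ K :=
    hall _ hKAp (hscn.2.1.trans
      ((Cfsg.Agent.Lib.helper29.normalizer_le_normalizer_centralizer A).trans
        (Cfsg.Agent.Lib.helper29.normalizer_le_normalizer_piCoreOf _ _)))
  have hq : ∀ q : ℕ, q.Prime → q ≠ p → ∀ Q : Subgroup G, IsPGroup q Q →
      A ≤ Subgroup.normalizer (Q : Set G) → Q ≤ K := by
    intro q hq hqp Q hQ hAQ
    have hqA : ¬ q ∣ Nat.card A := by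
      rw [ha]
      intro h
      exact hqp ((Nat.prime_dvd_prime_iff_eq hq hp.out).mp (hq.dvd_of_dvd_pow h))
    have htr := Cfsg.Agent.S1393.result hG A hTH hZ q hq hqA
    have hsub := (Cfsg.Agent.S1395.result hG A hTH q hq hqA (S : Subgroup G) hST hPπ hscn.1 hsn
      htr).2.2.1
    obtain ⟨Q₁, hQ₁, -⟩ := Cfsg.Agent.Lib.helper29.exists_maxInv_ge
      (Cfsg.Agent.Lib.helper29.bot_mem_invSubgroups (S : Subgroup G) {q})
    have hQ₁' := (Cfsg.Agent.Lib.helper29.mem_invSubgroups_top hq).mp hQ₁.1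
    have hQ₁K : Q₁ ≤ K :=
      hall Q₁ (bgu_not_dvd_card_of_isPGroup hp.out hq hqp hQ₁'.1) hQ₁'.2
    obtain ⟨Q₂, hQ₂, hQQ₂⟩ := Cfsg.Agent.Lib.helper29.exists_maxInv_ge
      ((Cfsg.Agent.Lib.helper29.mem_invSubgroups_top hq).mpr ⟨hQ, hAQ⟩)
    obtain ⟨k, hk, hQ₂eq⟩ := htr Q₁ (hsub hQ₁) Q₂ hQ₂
    refine hQQ₂.trans ?_
    rw [hQ₂eq]
    rintro _ ⟨x, hx, rfl⟩
    exact K.mul_mem (K.mul_mem (hKA hk) (hQ₁K hx)) (K.inv_mem (hKA hk))
  intro Y hY hAY
  exact bgu_le_of_invariant_sylow hAp hY hAY (fun q hq' hqp Q _ hQ hAQ => hq q hq' hqp Q hQ hAQ)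

/-- An abelian normal subgroup of a Sylow `p`-subgroup lies in `O_{p',p}(X)` (`X` solvable of odd order). -/
theorem bgu_scn_le_pPrimePCore [Finite G] {p : ℕ} [Fact p.Prime] (hodd : Odd (Nat.card G))
    {X : Subgroup G} (hsolv : Group.IsSolvable X) (S : Sylow p G) (hSX : (S : Subgroup G) ≤ X)
    {A : Subgroup G} (hAS : A ≤ (S : Subgroup G)) (hAc : IsMulCommutative A)
    (hSA : (S : Subgroup G) ≤ Subgroup.normalizer (A : Set G)) :
    A ≤ (pPrimePCore p ↥X).map X.subtype := by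
  haveI := hsolv
  have hoddX : Odd (Nat.card X) := Odd.of_dvd_nat hodd (Subgroup.card_subgroup_dvd_card X)
  have hAc' : IsMulCommutative (A.subgroupOf X) := by
    refine ⟨⟨fun a b => ?_⟩⟩
    apply Subtype.ext
    apply Subtype.ext
    show (a.1.1 : G) * b.1.1 = b.1.1 * a.1.1
    exact congrArg Subtype.val (hAc.is_comm.comm ⟨a.1.1, a.2⟩ ⟨b.1.1, b.2⟩)
  have h1 := Cfsg.Agent.S1457.result hoddX p (S.subtype hSX) (A.subgroupOf X)
    (fun x hx => hAS hx) hAc' (bgu_subgroupOf_le_normalizer hSA)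
  intro x hx
  exact ⟨⟨x, hSX (hAS hx)⟩, h1 (Subgroup.mem_subgroupOf.mpr hx), rfl⟩

/-- Step 4: every proper subgroup containing the Sylow subgroup `S` lies in `M`. -/
theorem BGUCtx.step4 [Finite G] [IsSimpleGroup G] {p : ℕ} [hp : Fact p.Prime] {M B : Subgroup G}
    (c : BGUCtx p M B) (hG : IsMinSimpleOddOrder G) (S : Sylow p G)
    (hSM : (S : Subgroup G) ≤ M) (hBS : B ≤ (S : Subgroup G))
    (hNK : Subgroup.normalizer (((pPrimeCore p ↥M).map M.subtype : Subgroup G) : Set G) = M)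
    (hall : ∀ Y : Subgroup G, ¬ p ∣ Nat.card Y →
      (S : Subgroup G) ≤ Subgroup.normalizer (Y : Set G) → Y ≤ (pPrimeCore p ↥M).map M.subtype)
    (hNT : Subgroup.normalizer ((S : Subgroup G) : Set G) ≤ M)
    {X : Subgroup G} (hX : X ≠ ⊤) (hSX : (S : Subgroup G) ≤ X) : X ≤ M := by
  have hsolvX := c.hsolv X hX
  have hSp : IsPGroup p ↥(S : Subgroup G) := S.isPGroup'
  have hS1 : (S : Subgroup G) ≠ ⊥ := fun h => c.hB1 (le_bot_iff.mp (h ▸ hBS))
  have hStop : (S : Subgroup G) ≠ ⊤ := fun h => hX (top_le_iff.mp (h ▸ hSX))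
  have hSsX : IsSylIn p (S : Subgroup G) X :=
    bgu_isSylIn_of_le (Cfsg.Agent.Lib.helper39.sylow_isSylIn_top S) hSX le_top
  have hKX : (pPrimeCore p ↥X).map X.subtype ≤ M := c.core_le (hBS.trans hSX)
  have hKp := bgu_not_dvd_card_core (p := p) M
  have hSK : (S : Subgroup G) ≤
      Subgroup.normalizer (((pPrimeCore p ↥M).map M.subtype : Subgroup G) : Set G) :=
    hSM.trans hNK.ge
  have hCX : (pPrimePCore p ↥X).map X.subtype ≤ X := Subgroup.map_subtype_le _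
  have hXC : X ≤ Subgroup.normalizer (((pPrimePCore p ↥X).map X.subtype : Subgroup G) : Set G) :=
    bgu_le_normalizer_map_of_normal _
  have hfr : X ≤ (pPrimeCore p ↥X).map X.subtype ⊔ Subgroup.normalizer
      (((S : Subgroup G) ⊓ (pPrimePCore p ↥X).map X.subtype : Subgroup G) : Set G) := by
    intro x hx
    obtain ⟨a, ha, c', hc', rfl⟩ :=
      Cfsg.Agent.Lib.helper52.exists_mul_mem_normalizer_sylow_inf S hSX hCX hXC hx
    have h1 : c' ∈ (pPrimeCore p ↥X).map X.subtype ⊔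
        ((S : Subgroup G) ⊓ (pPrimePCore p ↥X).map X.subtype) := by
      obtain ⟨y, hy, rfl⟩ := hc'
      have h2 := Cfsg.Agent.Lib.helper38.pPrimePCore_le_sup (S.subtype hSX) hy
      have h3 : X.subtype y ∈ (pPrimeCore p ↥X ⊔
          (((S.subtype hSX : Sylow p X) : Subgroup X) ⊓ pPrimePCore p ↥X)).map X.subtype :=
        ⟨y, h2, rfl⟩
      rw [Subgroup.map_sup] at h3
      have h4 : (((S.subtype hSX : Sylow p X) : Subgroup X) ⊓ pPrimePCore p ↥X).map X.subtype ≤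
          (S : Subgroup G) ⊓ (pPrimePCore p ↥X).map X.subtype := by
        rintro _ ⟨z, ⟨hz1, hz2⟩, rfl⟩
        exact ⟨hz1, ⟨z, hz2, rfl⟩⟩
      exact (sup_le_sup_left h4 ((pPrimeCore p ↥X).map X.subtype)) h3
    have h5 : (pPrimeCore p ↥X).map X.subtype ⊔
        ((S : Subgroup G) ⊓ (pPrimePCore p ↥X).map X.subtype) ≤
        (pPrimeCore p ↥X).map X.subtype ⊔ Subgroup.normalizer
          (((S : Subgroup G) ⊓ (pPrimePCore p ↥X).map X.subtype : Subgroup G) : Set G) :=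
      sup_le_sup_left Subgroup.le_normalizer _
    exact Subgroup.mul_mem _ (Subgroup.mem_sup_right ha.2) (h5 h1)
  have hNR : Subgroup.normalizer
      (((S : Subgroup G) ⊓ (pPrimePCore p ↥X).map X.subtype : Subgroup G) : Set G) ≤ M := by
    by_cases hr : PRankLE p 2 ↥(S : Subgroup G)
    · have hTC := bgu_sylow_le_pPrimePCore c.hodd hsolvX hSsX hS1 hr
      rw [inf_eq_left.mpr hTC]
      exact hNT
    · obtain ⟨A, hscn, hA3, hAc⟩ := bgu_exists_scn3 c.hp2 hSp hr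
      have hAall := bgu_scn_all hG S hscn hA3 hAc hStop hall
      have hAC := bgu_scn_le_pPrimePCore c.hodd hsolvX S hSX hscn.1 hAc hscn.2.1
      have h1 := bgu_normalizer_le (A := A)
        (R := (S : Subgroup G) ⊓ (pPrimePCore p ↥X).map X.subtype) (le_inf hscn.1 hAC)
        (inf_le_left.trans hSK) hKp hAall
      rw [hNK] at h1
      exact h1
  exact hfr.trans (sup_le hKX hNR)

/-- Hypothesis (i) of 9.2 implies hypothesis (ii). -/
theorem bgu_i_to_ii [Finite G] {p : ℕ} [hp : Fact p.Prime] {M B : Subgroup G}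
    (hBe : IsElementaryAbelian p B) (hBnc : ¬ IsCyclic B)
    (hi : ∀ b ∈ B, b ≠ 1 → Subgroup.centralizer ({b} : Set G) ≤ M) :
    ∀ Y : Subgroup G, ¬ p ∣ Nat.card Y → B ≤ Subgroup.normalizer (Y : Set G) → Y ≤ M := by
  intro Y hY hBY
  have hBe' := (Cfsg.Agent.Lib.helper28.isElementaryAbelian_iff' p B).mp hBe
  have hgen := Cfsg.Agent.Lib.helper37.coprime_gen_hyperplane p B Y hBe'.1 hBe'.2 hY hBY
  rw [hgen]
  apply iSup_le
  rintro ⟨D, hDB, hDi⟩
  have hD1 : D ≠ ⊥ := by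
    intro hD
    rw [hD, Subgroup.relIndex_bot_left] at hDi
    apply hBnc
    obtain ⟨k, hk⟩ := IsPGroup.iff_card.mp (bgu_isPGroup_of_elem hBe)
    rcases Nat.lt_or_ge k 2 with hk2 | hk2
    · interval_cases k
      · rw [pow_zero] at hk
        haveI : Subsingleton ↥B := (Nat.card_eq_one_iff_unique.mp hk).1
        exact isCyclic_of_subsingleton
      · rw [pow_one] at hk
        exact isCyclic_of_prime_card hk
    · exfalso
      have h1 : p ^ 2 ≤ p ^ k := Nat.pow_le_pow_right hp.out.pos hk2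
      have h2 : p < p ^ 2 := by
        have := Nat.pow_lt_pow_right hp.out.one_lt (show 1 < 2 by norm_num)
        rwa [pow_one] at this
      omega
  obtain ⟨b, hb, hb1⟩ := Cfsg.Agent.Lib.helper29.exists_ne_one_of_ne_bot hD1
  exact inf_le_right.trans
    ((Subgroup.centralizer_le (Set.singleton_subset_iff.mpr hb)).trans (hi b (hDB hb) hb1))

/-- Bender–Glauberman 9.2, form (ii), for an arbitrary nontrivial `p`-subgroup `B` of `M`. -/
theorem bgu_92_main [Finite G] (hG : IsMinSimpleOddOrder G) {M : Subgroup G} (hM : IsCoatom M)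
    {p : ℕ} [hp : Fact p.Prime] {B : Subgroup G} (hBM : B ≤ M) (hBp : IsPGroup p B) (hB1 : B ≠ ⊥)
    (hii : ∀ Y : Subgroup G, ¬ p ∣ Nat.card Y → B ≤ Subgroup.normalizer (Y : Set G) → Y ≤ M) :
    ∀ H : Subgroup G, IsCoatom H → B ≤ H → H = M := by
  obtain ⟨hodd, hsimple, hnc, hsolv⟩ := id hG
  haveI := hsimple
  have hp2 : p ≠ 2 := by
    intro hp2
    obtain ⟨k, hk⟩ := IsPGroup.iff_card.mp hBp
    have hk0 : k ≠ 0 := by
      intro hk0
      rw [hk0, pow_zero] at hk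
      exact hB1 (Subgroup.card_eq_one.mp hk)
    have h1 : p ∣ Nat.card G :=
      (hk ▸ dvd_pow_self p hk0 : p ∣ Nat.card B).trans (Subgroup.card_subgroup_dvd_card B)
    rw [hp2] at h1
    exact (Nat.not_even_iff_odd.mpr hodd) (even_iff_two_dvd.mpr h1)
  have c : BGUCtx p M B := ⟨hodd, hnc, hsolv, hM, hBM, hBp, hB1, hp2, hii⟩
  intro H hH hBH
  by_contra hHM
  obtain ⟨T, H', hT, hBT, hH', hH'M, hZ⟩ := c.step1 hH hHM hBH
  obtain ⟨hNK, hall, hNT, S, rfl⟩ := c.step3 hT hBT hH' hH'M hZ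
  have hSH' : (S : Subgroup G) ≤ H' :=
    (Subgroup.le_normalizer.trans (bguZ_normalizer _)).trans hZ
  have h1 := c.step4 hG S hT.1 hBT hNK hall hNT hH'.1 hSH'
  exact hH'M ((hH'.le_iff.mp h1).resolve_left hM.1).symm

/-- Bender–Glauberman 9.2(i) in the form `BGU92`. -/
theorem bgu_92 [Finite G] (hG : IsMinSimpleOddOrder G) : BGU92 G := by
  intro M hM p hp B hBM hBe hBnc hi
  haveI : Fact p.Prime := ⟨hp⟩
  have hB1 : B ≠ ⊥ := by
    intro h
    apply hBnc
    haveI : Subsingleton ↥B := by rw [h]; infer_instance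
    exact isCyclic_of_subsingleton
  exact ⟨M, ⟨hM, hBM⟩, fun H hH => bgu_92_main hG hM hBM (bgu_isPGroup_of_elem hBe) hB1
    (bgu_i_to_ii hBe hBnc hi) H hH.1 hH.2⟩

end Cfsg.Agent.Lib.helper36
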