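import Mathlib
import Cfsg.Agent.Lib.helper36.BGU6
import Cfsg.Agent.Lib.helper13.SigFus
import Cfsg.Agent.Lib.helper1.ThompsonFpf
import Cfsg.Agent.Lib.helper30.FittingRank
import Cfsg.Agent.Lib.helper27.Radical
import Cfsg.Agent.S1451
import Cfsg.Agent.S1398
import Cfsg.Agent.S1401

set_option autoImplicit false
set_option linter.style.haveILetI false
set_option linter.unusedSectionVars false

namespace Cfsg.Agent.Lib.helper36

open Cfsg

variable {G : Type*} [Group G]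

/-! ### Bender–Glauberman Lemma 9.5: `SCN_3` subgroups are uniqueness subgroups -/

/-- If `X ≥ N_G(P)` (`P` a Sylow `p`-subgroup) has nilpotent derived subgroup, then
`P ∩ N_G(P)'` is normal in `X`. -/
theorem bgu_focal_normal [Finite G] {p : ℕ} [Fact p.Prime] (P : Sylow p G) {X : Subgroup G}
    (hNX : Subgroup.normalizer ((P : Subgroup G) : Set G) ≤ X)
    (hnil : Group.IsNilpotent ↥(commutator ↥X)) :
    X ≤ Subgroup.normalizer (((P : Subgroup G) ⊓ ⁅Subgroup.normalizer ((P : Subgroup G) : Set G),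
      Subgroup.normalizer ((P : Subgroup G) : Set G)⁆ : Subgroup G) : Set G) := by
  have hp : p.Prime := Fact.out
  have hPX : (P : Subgroup G) ≤ X := Subgroup.le_normalizer.trans hNX
  set N : Subgroup G := Subgroup.normalizer ((P : Subgroup G) : Set G) with hN
  -- the centralizer in `X` of the `p`-elements of `X'`
  let S : Set ↥X := {x : ↥X | x ∈ commutator ↥X ∧ ∃ k : ℕ, x ^ p ^ k = 1}
  have hSconj : ∀ (g : ↥X) (w : ↥X), w ∈ S → g * w * g⁻¹ ∈ S := by
    rintro g w ⟨hw, k, hk⟩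
    refine ⟨(inferInstance : (commutator ↥X).Normal).conj_mem w hw g, k, ?_⟩
    rw [conj_pow, hk, mul_one, mul_inv_cancel]
  haveI hCn : (Subgroup.centralizer S).Normal := by
    refine ⟨fun c hc g => ?_⟩
    rw [Subgroup.mem_centralizer_iff] at hc ⊢
    intro w hw
    have h1 := hc (g⁻¹ * w * g⁻¹⁻¹) (hSconj g⁻¹ w hw)
    rw [inv_inv] at h1
    calc w * (g * c * g⁻¹) = g * ((g⁻¹ * w * g) * c) * g⁻¹ := by group
      _ = g * (c * (g⁻¹ * w * g)) * g⁻¹ := by rw [h1]
      _ = g * c * g⁻¹ * w := by group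
  have hC : ∀ d ∈ commutator ↥X, (orderOf d).Coprime p → d ∈ Subgroup.centralizer S := by
    intro d hd hcop
    rw [Subgroup.mem_centralizer_iff]
    rintro w ⟨hw, k, hk⟩
    have hwo : (orderOf w).Coprime (orderOf d) := by
      obtain ⟨j, -, hj⟩ := (Nat.dvd_prime_pow hp).mp (orderOf_dvd_of_pow_eq_one hk)
      rw [hj]
      exact Nat.Coprime.pow_left j hcop.symm
    have h1 := Cfsg.Agent.Lib.helper1.commute_of_coprime_orderOf_of_isNilpotent ↥(commutator ↥X)
      ⟨w, hw⟩ ⟨d, hd⟩ (by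
        have e1 : orderOf (⟨w, hw⟩ : ↥(commutator ↥X)) = orderOf w := Subgroup.orderOf_mk _ _
        have e2 : orderOf (⟨d, hd⟩ : ↥(commutator ↥X)) = orderOf d := Subgroup.orderOf_mk _ _
        rw [e1, e2]; exact hwo)
    exact congrArg Subtype.val h1.eq
  have hNT : N ≤ Subgroup.normalizer (((P : Subgroup G) ⊓ ⁅N, N⁆ : Subgroup G) : Set G) :=
    Cfsg.Agent.Lib.helper29.le_normalizer_inf' le_rfl
      (Cfsg.Agent.Lib.helper37.le_normalizer_commutator_self N N Subgroup.le_normalizer)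
  have hcommX : (commutator ↥X).map X.subtype = ⁅X, X⁆ := by
    rw [commutator_def, Subgroup.map_commutator, ← MonoidHom.range_eq_map, Subgroup.range_subtype]
  intro x hx
  obtain ⟨c, hc, m, hm, hxcm⟩ := Cfsg.Agent.Lib.helper13.sf_frattini_commutator
    (Subgroup.centralizer S) hC (P.subtype hPX) ⟨x, hx⟩
  have hx' : x = (c : G) * (m : G) := by
    have := congrArg Subtype.val hxcm
    simpa using this
  rw [hx']
  refine Subgroup.mul_mem _ ?_ ?_
  · -- `c` centralizes `T`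
    apply Subgroup.centralizer_le_normalizer
    rw [Subgroup.mem_centralizer_iff]
    rintro t ⟨htP, htN⟩
    have htX' : t ∈ (commutator ↥X).map X.subtype := by
      rw [hcommX]
      exact Subgroup.commutator_mono hNX hNX htN
    obtain ⟨y, hy, hyt⟩ := htX'
    obtain ⟨k, hk⟩ := P.isPGroup' ⟨t, htP⟩
    have hyS : y ∈ S := by
      refine ⟨hy, k, ?_⟩
      apply Subtype.ext
      rw [Subgroup.coe_pow, Subgroup.coe_one]
      have h1 : (y : G) = t := hyt
      rw [h1]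
      have := congrArg Subtype.val hk
      simpa using this
    have h2 := (Subgroup.mem_centralizer_iff.mp hc) y hyS
    have h3 := congrArg Subtype.val h2
    have h1 : (y : G) = t := hyt
    rw [← h1]
    simpa using h3
  · -- `m` normalizes `T`
    apply hNT
    have hm' : m ∈ Subgroup.normalizer ((((P : Subgroup G).subgroupOf X : Subgroup ↥X)) : Set ↥X) := hm
    rw [hN, Subgroup.mem_normalizer_iff]
    intro h
    constructor
    · intro hh
      have h1 := (Subgroup.mem_normalizer_iff.mp hm' ⟨h, hPX hh⟩).mp (Subgroup.mem_subgroupOf.mpr hh)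
      exact Subgroup.mem_subgroupOf.mp h1
    · intro hh
      have hhX : h ∈ X := by
        have h1 : (m : G)⁻¹ * ((m : G) * h * (m : G)⁻¹) * (m : G) ∈ X :=
          X.mul_mem (X.mul_mem (X.inv_mem m.2) (hPX hh)) m.2
        have e : (m : G)⁻¹ * ((m : G) * h * (m : G)⁻¹) * (m : G) = h := by group
        rwa [e] at h1
      have h1 := (Subgroup.mem_normalizer_iff.mp hm' ⟨h, hhX⟩).mpr (Subgroup.mem_subgroupOf.mpr hh)
      exact Subgroup.mem_subgroupOf.mp h1

/-- Burnside: in a nonabelian simple group, `P ∩ N_G(P)' ≠ 1` for a nontrivial Sylow subgroup `P`. -/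
theorem bgu_focal_ne_bot [Finite G] [IsSimpleGroup G] (hnc : ¬ IsMulCommutative G) {p : ℕ}
    [Fact p.Prime] (P : Sylow p G) (hP1 : (P : Subgroup G) ≠ ⊥) :
    ((P : Subgroup G) ⊓ ⁅Subgroup.normalizer ((P : Subgroup G) : Set G),
      Subgroup.normalizer ((P : Subgroup G) : Set G)⁆ : Subgroup G) ≠ ⊥ := by
  intro h0
  have hP : Subgroup.normalizer ((P : Subgroup G) : Set G) ≤
      Subgroup.centralizer ((P : Subgroup G) : Set G) := by
    intro n hn
    rw [Subgroup.mem_centralizer_iff]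
    intro x hx
    have h1 : n * x * n⁻¹ * x⁻¹ ∈ ((P : Subgroup G) ⊓ ⁅Subgroup.normalizer ((P : Subgroup G) : Set G),
        Subgroup.normalizer ((P : Subgroup G) : Set G)⁆ : Subgroup G) := by
      refine ⟨Subgroup.mul_mem _ ((Subgroup.mem_normalizer_iff.mp hn x).mp hx)
        (Subgroup.inv_mem _ hx), ?_⟩
      exact Subgroup.commutator_mem_commutator hn (Subgroup.le_normalizer hx)
    rw [h0, Subgroup.mem_bot] at h1
    have h2 : n * x * n⁻¹ * x⁻¹ * x * n = x * n := by rw [h1, one_mul]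
    rw [← h2]
    group
  have hcompl := MonoidHom.ker_transferSylow_isComplement' P hP
  have hker : (MonoidHom.transferSylow P hP).ker = ⊥ ∨ (MonoidHom.transferSylow P hP).ker = ⊤ :=
    (MonoidHom.normal_ker _).eq_bot_or_eq_top
  rcases hker with hk | hk
  · -- then `P = ⊤`, so `G` is a `p`-group, hence abelian
    rw [hk] at hcompl
    have hPtop : (P : Subgroup G) = ⊤ := Subgroup.isComplement'_bot_left.mp hcompl
    have hGp : IsPGroup p G := by
      have h1 := P.isPGroup'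
      rw [hPtop] at h1
      exact h1.of_equiv Subgroup.topEquiv
    haveI : Nontrivial G := IsSimpleGroup.toNontrivial
    have hc : Subgroup.center G ≠ ⊥ := by
      have := hGp.center_nontrivial
      intro h
      rw [h] at this
      exact not_nontrivial _ this
    have hct : Subgroup.center G = ⊤ :=
      ((inferInstance : (Subgroup.center G).Normal).eq_bot_or_eq_top).resolve_left hc
    apply hnc
    refine ⟨⟨fun a b => ?_⟩⟩
    have hb : b ∈ Subgroup.center G := by rw [hct]; trivial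
    exact Subgroup.mem_center_iff.mp hb a
  · rw [hk] at hcompl
    exact hP1 (Subgroup.isComplement'_top_left.mp hcompl)

/-- The key step of 9.5: if `X ≥ C_G(A)` is maximal, `S₀` is a normal `s`-subgroup of `X` (`s ≠ p`)
and all abelian `s`-subgroups of rank at least 3 are uniqueness subgroups, then every `p`-element of
`N'` centralizes `S₀`, where `N` is any subgroup contained in all maximal subgroups over `C_G(A)`. -/
theorem bgu_case2 [Finite G] (hG : IsMinSimpleOddOrder G) {p s : ℕ} [hp : Fact p.Prime]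
    [hs : Fact s.Prime] (hsp : s ≠ p) (hs2 : s ≠ 2) {A N S₀ X : Subgroup G}
    (hA3 : ¬ PRankLE p 2 ↥A) (hAnU : ¬ InUniqueMaximal A)
    (hX : IsCoatom X) (hAX : A ≤ X) (hNX : N ≤ X) (hS₀X : S₀ ≤ X)
    (hXS₀ : X ≤ Subgroup.normalizer (S₀ : Set G)) (hS₀ : IsPGroup s S₀)
    (hs3 : ∀ E : Subgroup G, IsPGroup s E → IsMulCommutative E → ¬ PRankLE s 2 ↥E →
      InUniqueMaximal E)
    (hN : ∀ X' : Subgroup G, IsCoatom X' → Subgroup.centralizer (A : Set G) ≤ X' → N ≤ X')
    (t : G) (ht : t ∈ ⁅N, N⁆) (htp : ∃ k : ℕ, t ^ p ^ k = 1) :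
    t ∈ Subgroup.centralizer (S₀ : Set G) := by
  obtain ⟨hodd, hsimple, hnc, hsolv⟩ := id hG
  haveI := hsimple
  have hAtop : A ≠ ⊤ := ne_top_of_le_ne_top hX.1 hAX
  have hNtop : N ≠ ⊤ := ne_top_of_le_ne_top hX.1 hNX
  have hNsolv : Group.IsSolvable N := hsolv N hNtop
  have hNodd : Odd (Nat.card N) := Odd.of_dvd_nat hodd (Subgroup.card_subgroup_dvd_card N)
  have hcop : (orderOf t).Coprime s := by
    obtain ⟨k, hk⟩ := htp
    obtain ⟨j, -, hj⟩ := (Nat.dvd_prime_pow hp.out).mp (orderOf_dvd_of_pow_eq_one hk)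
    rw [hj]
    exact Nat.Coprime.pow_left j ((Nat.coprime_primes hp.out hs.out).mpr (Ne.symm hsp))
  obtain ⟨E, hEA, hEe, hEc⟩ := (Cfsg.Agent.Lib.helper28.not_pRankLE_subgroup_iff p 2 A).mp hA3
  have hEe' := (Cfsg.Agent.Lib.helper28.isElementaryAbelian_iff' p E).mp hEe
  have hS₀p : ¬ p ∣ Nat.card S₀ := bgu_not_dvd_card_of_isPGroup hp.out hs.out hsp hS₀
  have hgen := Cfsg.Agent.Lib.helper37.coprime_gen_hyperplane p E S₀ hEe'.1 hEe'.2 hS₀p
    (hEA.trans (hAX.trans hXS₀))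
  have key : S₀ ≤ Subgroup.centralizer ({t} : Set G) := by
    rw [hgen]
    apply iSup_le
    rintro ⟨B, hBE, hBi⟩
    have hBA : B ≤ A := hBE.trans hEA
    have hBe : IsElementaryAbelian p B := by
      rw [Cfsg.Agent.Lib.helper28.isElementaryAbelian_iff']
      exact ⟨fun a ha b hb => hEe'.1 a (hBE ha) b (hBE hb), fun a ha => hEe'.2 a (hBE ha)⟩
    have hBcard : p < Nat.card B := by
      have h0 : Nat.card (B.subgroupOf E) = Nat.card B := by
        rw [← Subgroup.card_subtype E (B.subgroupOf E), Subgroup.map_subgroupOf_eq_of_le hBE]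
      have h1 : Nat.card B * B.relIndex E = Nat.card E := by
        have := (B.subgroupOf E).card_mul_index
        rwa [h0] at this
      have h2 : p * Nat.card B ≥ Nat.card E := by
        rw [← h1, mul_comm p]; exact Nat.mul_le_mul_left _ hBi
      have h3 : p ^ 2 = p * p := sq p
      by_contra hlt
      have h4 : Nat.card B ≤ p := not_lt.mp hlt
      have h5 : p * Nat.card B ≤ p * p := Nat.mul_le_mul_left _ h4
      omega
    have hBnc : ¬ IsCyclic B := bgu_not_cyclic hp.out hBe.2 hBcard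
    have hBnU : ¬ InUniqueMaximal B := by
      rintro ⟨M, ⟨hM, hBM⟩, huniq⟩
      exact hAnU (bgu_of_le (fun M' h1 h2 => huniq M' ⟨h1, h2⟩) hBA hAtop).2
    have hex : ∃ b ∈ B, b ≠ 1 ∧ ¬ Subgroup.centralizer ({b} : Set G) ≤ X := by
      by_contra hall
      exact hBnU (Cfsg.Agent.S1398.result hG X hX p B (hBA.trans hAX) hBe hBnc
        (Or.inl fun b hb hb1 => by_contra fun h => hall ⟨b, hb, hb1, h⟩))
    obtain ⟨b, hb, hb1, hbX⟩ := hex
    obtain ⟨X', hX', hbX'⟩ := bgu_exists_coatom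
      (Cfsg.Agent.Lib.helper29.centralizer_singleton_ne_top hnc hb1)
    have hXX' : X' ≠ X := fun h => hbX (h ▸ hbX')
    have hNX' : N ≤ X' := hN X' hX'
      ((Subgroup.centralizer_le (Set.singleton_subset_iff.mpr (hBA hb))).trans hbX')
    have hNY : N ≤ Subgroup.normalizer ((S₀ ⊓ X' : Subgroup G) : Set G) :=
      Cfsg.Agent.Lib.helper29.le_normalizer_inf' (hNX.trans hXS₀) (hNX'.trans Subgroup.le_normalizer)
    have hYs : IsPGroup s ↥(S₀ ⊓ X' : Subgroup G) := hS₀.to_le inf_le_left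
    have hYr : PRankLE s 2 ↥(S₀ ⊓ X' : Subgroup G) := by
      by_contra h
      obtain ⟨E₃, hE₃Y, hE₃e, hE₃c⟩ :=
        (Cfsg.Agent.Lib.helper28.not_pRankLE_subgroup_iff s 2 _).mp h
      obtain ⟨M, -, huniq⟩ := hs3 E₃ (bgu_isPGroup_of_elem hE₃e) hE₃e.1
        ((Cfsg.Agent.Lib.helper28.not_pRankLE_subgroup_iff s 2 E₃).mpr ⟨E₃, le_rfl, hE₃e, hE₃c⟩)
      have h1 : X = M := huniq X ⟨hX, (hE₃Y.trans inf_le_left).trans hS₀X⟩
      have h2 : X' = M := huniq X' ⟨hX', hE₃Y.trans inf_le_right⟩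
      exact hXX' (h2.trans h1.symm)
    have hcent := Cfsg.Agent.Lib.helper30.commutator_centralizes s hs2 (S₀ ⊓ X') N hYs hYr hNY
      hNsolv hNodd t ht hcop
    rintro y ⟨hy1, hy2⟩
    have hyb : y ∈ Subgroup.centralizer ({b} : Set G) := by
      rw [Subgroup.mem_centralizer_iff]
      intro z hz
      rw [Set.mem_singleton_iff.mp hz]
      exact (Subgroup.mem_centralizer_iff.mp hy2) b hb
    have hyY : y ∈ (S₀ ⊓ X' : Subgroup G) := ⟨hy1, hbX' hyb⟩
    rw [Subgroup.mem_centralizer_iff]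
    intro z hz
    rw [Set.mem_singleton_iff.mp hz]
    exact hcent y hyY
  rw [Subgroup.mem_centralizer_iff]
  intro y hy
  have h1 := (Subgroup.mem_centralizer_iff.mp (key hy)) t (Set.mem_singleton t)
  exact h1.symm

theorem bgu_sylow_ne_top [Finite G] [IsSimpleGroup G] (hnc : ¬ IsMulCommutative G) {p : ℕ}
    [Fact p.Prime] (P : Sylow p G) : (P : Subgroup G) ≠ ⊤ := by
  intro hPtop
  have hGp : IsPGroup p G := by
    have h1 := P.isPGroup'
    rw [hPtop] at h1
    exact h1.of_equiv Subgroup.topEquiv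
  haveI : Nontrivial G := IsSimpleGroup.toNontrivial
  have hc : Subgroup.center G ≠ ⊥ := by
    have := hGp.center_nontrivial
    intro h
    rw [h] at this
    exact not_nontrivial _ this
  have hct : Subgroup.center G = ⊤ :=
    ((inferInstance : (Subgroup.center G).Normal).eq_bot_or_eq_top).resolve_left hc
  apply hnc
  refine ⟨⟨fun a b => ?_⟩⟩
  have hb : b ∈ Subgroup.center G := by rw [hct]; trivial
  exact Subgroup.mem_center_iff.mp hb a

theorem bgu_centralizer_ne_top [Finite G] [IsSimpleGroup G] (hnc : ¬ IsMulCommutative G)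
    {T : Subgroup G} (hT : T ≠ ⊥) : Subgroup.centralizer (T : Set G) ≠ ⊤ := by
  obtain ⟨t, ht, ht1⟩ := Cfsg.Agent.Lib.helper29.exists_ne_one_of_ne_bot hT
  exact ne_top_of_le_ne_top (Cfsg.Agent.Lib.helper29.centralizer_singleton_ne_top hnc ht1)
    (Subgroup.centralizer_le (Set.singleton_subset_iff.mpr ht))

/-- Bender–Glauberman Lemma 9.5, assuming that every maximal subgroup containing `C_G(A)` contains
`N_G(P)`. -/
theorem bgu_scn3_of_step1 [Finite G] (hG : IsMinSimpleOddOrder G) {p : ℕ} [hp : Fact p.Prime]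
    (P : Sylow p G) {A : Subgroup G} (hA : IsSCN (P : Subgroup G) A) (hA3 : ¬ PRankLE p 2 ↥A)
    (hstep1 : ¬ InUniqueMaximal A → ∀ X : Subgroup G, IsCoatom X →
      Subgroup.centralizer (A : Set G) ≤ X → Subgroup.normalizer ((P : Subgroup G) : Set G) ≤ X) :
    InUniqueMaximal A := by
  by_contra hAnU
  have hN := hstep1 hAnU
  obtain ⟨hodd, hsimple, hnc, hsolv⟩ := id hG
  haveI := hsimple
  set N : Subgroup G := Subgroup.normalizer ((P : Subgroup G) : Set G) with hNdef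
  set T : Subgroup G := (P : Subgroup G) ⊓ ⁅N, N⁆ with hTdef
  have hAp : IsPGroup p A := P.isPGroup'.to_le hA.1
  obtain ⟨E, hEA, hEe, hEc⟩ := (Cfsg.Agent.Lib.helper28.not_pRankLE_subgroup_iff p 2 A).mp hA3
  have hpp : p < p ^ 2 := by
    have := Nat.pow_lt_pow_right hp.out.one_lt (show 1 < 2 by norm_num)
    rwa [pow_one] at this
  have hAc : IsMulCommutative A := by
    refine ⟨⟨fun x y => ?_⟩⟩
    have hy : (y : G) ∈ (P : Subgroup G) ⊓ Subgroup.centralizer (A : Set G) := by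
      rw [hA.2.2]; exact y.2
    apply Subtype.ext
    exact (Subgroup.mem_centralizer_iff.mp hy.2) x x.2
  have hAcent : A ≤ Subgroup.centralizer (A : Set G) := by
    intro x hx
    have hx' : x ∈ (P : Subgroup G) ⊓ Subgroup.centralizer (A : Set G) := by rw [hA.2.2]; exact hx
    exact hx'.2
  have hA1 : A ≠ ⊥ := by
    intro h
    have h1 := Subgroup.card_le_of_le hEA
    rw [h, Subgroup.card_bot] at h1
    have h2 : 1 ≤ p := hp.out.pos
    omega
  have hP1 : (P : Subgroup G) ≠ ⊥ := fun h => hA1 (le_bot_iff.mp (h ▸ hA.1))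
  have hPtop : (P : Subgroup G) ≠ ⊤ := bgu_sylow_ne_top hnc P
  have hT1 : T ≠ ⊥ := bgu_focal_ne_bot hnc P hP1
  have hTtop : T ≠ ⊤ := ne_top_of_le_ne_top hPtop inf_le_left
  have hNT : Subgroup.normalizer (T : Set G) ≠ ⊤ :=
    Cfsg.Agent.Lib.helper29.normalizer_ne_top_of_simple hT1 hTtop
  have hCT : Subgroup.centralizer (T : Set G) ≠ ⊤ := bgu_centralizer_ne_top hnc hT1
  have hCA : Subgroup.centralizer (A : Set G) ≠ ⊤ := bgu_centralizer_ne_top hnc hA1
  have hAtop : A ≠ ⊤ := ne_top_of_le_ne_top hCA hAcent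
  -- Case I
  have C1 : ∀ X : Subgroup G, IsCoatom X → Subgroup.centralizer (A : Set G) ≤ X →
      RankLE 2 ↥(fittingSubgroup ↥X) → Subgroup.normalizer (T : Set G) = X := by
    intro X hX hCX hr
    have hNX := hN X hX hCX
    haveI := hsolv X hX.1
    have hoddX : Odd (Nat.card X) := Odd.of_dvd_nat hodd (Subgroup.card_subgroup_dvd_card X)
    have hnil := (Cfsg.Agent.S1451.result hoddX (Or.inr hr)).1
    have hXT := bgu_focal_normal P hNX hnil
    exact (hX.le_iff.mp hXT).resolve_left hNT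
  -- Case II
  have C2 : ∀ X : Subgroup G, IsCoatom X → Subgroup.centralizer (A : Set G) ≤ X →
      ¬ RankLE 2 ↥(fittingSubgroup ↥X) → Subgroup.centralizer (T : Set G) ≤ X ∧
        ∀ X' : Subgroup G, IsCoatom X' → Subgroup.centralizer (T : Set G) ≤ X' → X' = X := by
    intro X hX hCX hr
    have hNX := hN X hX hCX
    have hAX : A ≤ X := hAcent.trans hCX
    obtain ⟨s, hs, E₀, hE₀F, hE₀c, hE₀p, hE₀card⟩ :=
      Cfsg.Agent.Lib.helper29.exists_elemAb_of_not_rankLE hr
    haveI : Fact s.Prime := ⟨hs⟩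
    have hE₀e : IsElementaryAbelian s E₀ :=
      (Cfsg.Agent.Lib.helper28.isElementaryAbelian_iff' s E₀).mpr ⟨hE₀c, hE₀p⟩
    have hE₁e : IsElementaryAbelian s (E₀.map X.subtype) := bgu_map_elem hE₀e _
    have hE₁card : s ^ 2 < Nat.card (E₀.map X.subtype) := by
      rw [Subgroup.card_subtype]; exact hE₀card
    have hF : ¬ PRankLE s 2 ↥(fittingOf X) :=
      (Cfsg.Agent.Lib.helper28.not_pRankLE_subgroup_iff s 2 (fittingOf X)).mpr
        ⟨E₀.map X.subtype, Subgroup.map_mono hE₀F, hE₁e, hE₁card⟩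
    have hsp : s ≠ p := by
      rintro rfl
      exact hAnU (Cfsg.Agent.S1401.result hG X hX s hF A hAp hAc hA3)
    have hs3 : ∀ E' : Subgroup G, IsPGroup s E' → IsMulCommutative E' → ¬ PRankLE s 2 ↥E' →
        InUniqueMaximal E' := fun E' h1 h2 h3 => Cfsg.Agent.S1401.result hG X hX s hF E' h1 h2 h3
    have hE₁1 : E₀.map X.subtype ≠ ⊥ := by
      intro h
      rw [h, Subgroup.card_bot] at hE₁card
      have : 1 ≤ s ^ 2 := Nat.one_le_pow _ _ hs.pos
      omega
    have hs2 : s ≠ 2 := by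
      rintro rfl
      have h1 : 2 ∣ Nat.card G :=
        (Cfsg.Agent.Lib.helper29.prime_dvd_card_of_exponent hs hE₁e.2 hE₁1).trans
          (Subgroup.card_subgroup_dvd_card _)
      exact (Nat.not_even_iff_odd.mpr hodd) (even_iff_two_dvd.mpr h1)
    have hS₀ : IsPGroup s ((pCore s ↥X).map X.subtype) :=
      Cfsg.Agent.Lib.helper27.map_pCore_isPGroup s X
    have hE₁S₀ : E₀.map X.subtype ≤ (pCore s ↥X).map X.subtype := by
      apply Subgroup.map_mono
      intro x hx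
      have hxs : x ^ s = 1 := hE₀p x hx
      obtain ⟨k, -, hk⟩ := (Nat.dvd_prime_pow hs).mp
        (by rw [pow_one]; exact orderOf_dvd_of_pow_eq_one hxs : orderOf x ∣ s ^ 1)
      exact Cfsg.Agent.Lib.helper30.mem_pCore_of_mem_fittingSubgroup s x (hE₀F hx) k hk
    have hTS₀ : ∀ t ∈ T, t ∈ Subgroup.centralizer (((pCore s ↥X).map X.subtype : Subgroup G) : Set G) := by
      intro t ht
      obtain ⟨k, hk⟩ := P.isPGroup' ⟨t, ht.1⟩
      have hk' : t ^ p ^ k = 1 := by
        have := congrArg Subtype.val hk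
        simpa using this
      exact bgu_case2 hG hsp hs2 hA3 hAnU hX hAX hNX (Subgroup.map_subtype_le _)
        (bgu_le_normalizer_map_of_normal (pCore s ↥X)) hS₀ hs3 hN t ht.2 ⟨k, hk'⟩
    have hE₁CT : E₀.map X.subtype ≤ Subgroup.centralizer (T : Set G) := by
      intro y hy
      rw [Subgroup.mem_centralizer_iff]
      intro t ht
      exact ((Subgroup.mem_centralizer_iff.mp (hTS₀ t ht)) y (hE₁S₀ hy)).symm
    obtain ⟨M, ⟨hM, hE₁M⟩, huniq⟩ := hs3 _ (bgu_isPGroup_of_elem hE₁e) hE₁e.1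
      ((Cfsg.Agent.Lib.helper28.not_pRankLE_subgroup_iff s 2 _).mpr ⟨_, le_rfl, hE₁e, hE₁card⟩)
    have hXM : X = M := huniq X ⟨hX, Subgroup.map_subtype_le _⟩
    have h1 := bgu_of_le (fun M' h1 h2 => huniq M' ⟨h1, h2⟩) hE₁CT hCT
    refine ⟨hXM ▸ h1.1, fun X' hX' hCTX' => ?_⟩
    rw [hXM]
    exact huniq X' ⟨hX', hE₁CT.trans hCTX'⟩
  -- all maximal subgroups over `C_G(A)` coincide
  have huA : ∃ M₁ : Subgroup G, ∀ X : Subgroup G, IsCoatom X →
      Subgroup.centralizer (A : Set G) ≤ X → X = M₁ := by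
    by_cases hex : ∃ X₂ : Subgroup G, IsCoatom X₂ ∧ Subgroup.centralizer (A : Set G) ≤ X₂ ∧
        ¬ RankLE 2 ↥(fittingSubgroup ↥X₂)
    · obtain ⟨X₂, hX₂, hCX₂, hr₂⟩ := hex
      refine ⟨X₂, fun X hX hCX => ?_⟩
      by_cases hr : RankLE 2 ↥(fittingSubgroup ↥X)
      · have h1 := C1 X hX hCX hr
        have h2 : Subgroup.centralizer (T : Set G) ≤ X := by
          rw [← h1]; exact Subgroup.centralizer_le_normalizer _
        exact (C2 X₂ hX₂ hCX₂ hr₂).2 X hX h2
      · exact (C2 X₂ hX₂ hCX₂ hr₂).2 X hX (C2 X hX hCX hr).1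
    · refine ⟨Subgroup.normalizer (T : Set G), fun X hX hCX => ?_⟩
      have hr : RankLE 2 ↥(fittingSubgroup ↥X) := by
        by_contra hr
        exact hex ⟨X, hX, hCX, hr⟩
      exact (C1 X hX hCX hr).symm
  obtain ⟨M₁, hM₁u⟩ := huA
  obtain ⟨M₀, hM₀, hCM₀⟩ := bgu_exists_coatom hCA
  have hM₀M₁ : M₀ = M₁ := hM₁u M₀ hM₀ hCM₀
  subst hM₀M₁
  have hEnc : ¬ IsCyclic E := bgu_not_cyclic hp.out hEe.2 (by omega)
  have hEU : InUniqueMaximal E := by
    refine Cfsg.Agent.S1398.result hG M₀ hM₀ p E ((hEA.trans hAcent).trans hCM₀) hEe hEnc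
      (Or.inl fun b hb hb1 => ?_)
    obtain ⟨X, hX, hbX⟩ := bgu_exists_coatom
      (Cfsg.Agent.Lib.helper29.centralizer_singleton_ne_top hnc hb1)
    have h1 : X = M₀ := hM₁u X hX
      ((Subgroup.centralizer_le (Set.singleton_subset_iff.mpr (hEA hb))).trans hbX)
    exact h1 ▸ hbX
  obtain ⟨M, -, huniq⟩ := hEU
  exact hAnU (bgu_of_le (fun M' h1 h2 => huniq M' ⟨h1, h2⟩) hEA hAtop).2

theorem bgu_pgroup_ne_top [Finite G] [IsSimpleGroup G] (hnc : ¬ IsMulCommutative G) {q : ℕ}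
    [Fact q.Prime] {S : Subgroup G} (hS : IsPGroup q S) : S ≠ ⊤ := by
  obtain ⟨Q, hQ⟩ := hS.exists_le_sylow
  exact ne_top_of_le_ne_top (bgu_sylow_ne_top hnc Q) hQ

/-- A normal `q`-subgroup of index prime to `q` contains every `q`-subgroup. -/
theorem bgu_le_of_normal_hall {H : Type*} [Group H] [Finite H] {q : ℕ} [Fact q.Prime]
    (N' : Subgroup H) [hn : N'.Normal] (hN' : IsPGroup q N') (hidx : ¬ q ∣ N'.index)
    {Q : Subgroup H} (hQ : IsPGroup q Q) : Q ≤ N' := by
  obtain ⟨Q₁, hQ₁⟩ := hQ.exists_le_sylow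
  obtain ⟨g, hg⟩ := MulAction.exists_smul_eq H (hN'.toSylow hidx) Q₁
  haveI : ((hN'.toSylow hidx : Sylow q H) : Subgroup H).Normal := by
    rw [IsPGroup.toSylow_coe]; exact hn
  rw [Sylow.smul_eq_of_normal] at hg
  have h1 : (Q₁ : Subgroup H) = N' := by rw [← hg, IsPGroup.toSylow_coe]
  exact h1 ▸ hQ₁

/-- In the situation of 9.5 (with `A ∉ 𝓤`), a maximal subgroup `X ≥ C_G(A)` has a normal
`q`-subgroup `S₀` (`q ≠ p`) all of whose `q`-overgroups have their normalizers in `X`. -/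
theorem bgu_scn3_prime [Finite G] (hG : IsMinSimpleOddOrder G) {p : ℕ} [hp : Fact p.Prime]
    {A : Subgroup G} (hAp : IsPGroup p A) (hAc : IsMulCommutative A) (hA3 : ¬ PRankLE p 2 ↥A)
    (hAnU : ¬ InUniqueMaximal A) {X : Subgroup G} (hX : IsCoatom X) (hAX : A ≤ X) :
    ∃ q : ℕ, q.Prime ∧ q ≠ p ∧ ∃ S₀ : Subgroup G, IsPGroup q S₀ ∧
      X ≤ Subgroup.normalizer (S₀ : Set G) ∧
      ∀ S : Subgroup G, IsPGroup q S → S₀ ≤ S → Subgroup.normalizer (S : Set G) ≤ X := by
  obtain ⟨hodd, hsimple, hnc, hsolv⟩ := id hG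
  haveI := hsimple
  obtain ⟨E, hEA, hEe, hEc⟩ := (Cfsg.Agent.Lib.helper28.not_pRankLE_subgroup_iff p 2 A).mp hA3
  by_cases hr : RankLE 2 ↥(fittingSubgroup ↥X)
  · -- rank at most 2: the Sylow subgroup for the largest prime is normal
    haveI := hsolv X hX.1
    have hoddX : Odd (Nat.card X) := Odd.of_dvd_nat hodd (Subgroup.card_subgroup_dvd_card X)
    have hE1 : E ≠ ⊥ := by
      intro h
      rw [h, Subgroup.card_bot] at hEc
      have : 1 ≤ p ^ 2 := Nat.one_le_pow _ _ hp.out.pos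
      omega
    have hX1 : Nat.card X ≠ 1 := by
      intro h
      have hXbot : X = ⊥ := Subgroup.card_eq_one.mp h
      exact hE1 (le_bot_iff.mp (hXbot ▸ hEA.trans hAX))
    have hne : (Nat.card X).primeFactors.Nonempty :=
      Nat.nonempty_primeFactors.mpr (by have := Nat.card_pos (α := X); omega)
    obtain ⟨q, hqdef⟩ : ∃ q, q = (Nat.card X).primeFactors.max' hne := ⟨_, rfl⟩
    have hqmem : q ∈ (Nat.card X).primeFactors := hqdef ▸ Finset.max'_mem _ hne
    have hq : q.Prime := Nat.prime_of_mem_primeFactors hqmem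
    have hqX : q ∣ Nat.card X := Nat.dvd_of_mem_primeFactors hqmem
    have hqmax : ∀ r : ℕ, r.Prime → r ∣ Nat.card X → r ≤ q := fun r hr hrX =>
      hqdef ▸ Finset.le_max' _ r (Nat.mem_primeFactors.mpr ⟨hr, hrX, Nat.card_pos.ne'⟩)
    haveI : Fact q.Prime := ⟨hq⟩
    obtain ⟨N', hN'c, hN'1, hN'2⟩ := (Cfsg.Agent.S1451.result hoddX (Or.inr hr)).2.2 (q - 1)
    haveI hN'n : N'.Normal := Subgroup.normal_of_characteristic N'
    have hN'q : IsPGroup q N' := by
      apply IsPGroup.of_card (n := (Nat.card N').primeFactorsList.length)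
      refine Nat.eq_prime_pow_of_unique_prime_dvd Nat.card_pos.ne' ?_
      intro r hr hrN
      have h1 : q - 1 < r := (hN'1 r hr hrN).2
      have h2 : r ≤ q := hqmax r hr (hrN.trans (Subgroup.card_subgroup_dvd_card N'))
      omega
    have hN'idx : ¬ q ∣ N'.index := hN'2 q hq ⟨hq, by have := hq.two_le; omega⟩
    have hall : ∀ Q : Subgroup ↥X, IsPGroup q Q → Q ≤ N' := fun Q hQ =>
      bgu_le_of_normal_hall N' hN'q hN'idx hQ
    have hqp : q ≠ p := by
      rintro rfl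
      have h1 : E.subgroupOf X ≤ N' := hall _ ((bgu_isPGroup_of_elem hEe).comap_subtype (K := X))
      have h2 : N' ≤ fittingSubgroup ↥X := le_sSup ⟨hN'n, hN'q.isNilpotent⟩
      have hEe' := (Cfsg.Agent.Lib.helper28.isElementaryAbelian_iff' q E).mp hEe
      have hXe : IsElementaryAbelian q (E.subgroupOf X) := by
        rw [Cfsg.Agent.Lib.helper28.isElementaryAbelian_iff']
        constructor
        · intro a ha b hb
          exact Subtype.ext (hEe'.1 a.1 (Subgroup.mem_subgroupOf.mp ha) b.1 (Subgroup.mem_subgroupOf.mp hb))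
        · intro a ha
          apply Subtype.ext
          rw [Subgroup.coe_pow]
          exact hEe'.2 a.1 (Subgroup.mem_subgroupOf.mp ha)
      have hXc : Nat.card (E.subgroupOf X) = Nat.card E := by
        rw [← Subgroup.card_subtype X (E.subgroupOf X), Subgroup.map_subgroupOf_eq_of_le (hEA.trans hAX)]
      exact (Cfsg.Agent.Lib.helper28.not_pRankLE_subgroup_iff q 2 (fittingSubgroup ↥X)).mpr
        ⟨E.subgroupOf X, h1.trans h2, hXe, by rw [hXc]; exact hEc⟩ (hr q hq)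
    have hS₀q : IsPGroup q (N'.map X.subtype) := hN'q.map _
    have hXS₀ : X ≤ Subgroup.normalizer ((N'.map X.subtype : Subgroup G) : Set G) :=
      bgu_le_normalizer_map_of_normal N'
    have hN'1 : N' ≠ ⊥ := by
      intro h
      rw [h, Subgroup.index_bot] at hN'idx
      exact hN'idx hqX
    have hS₀1 : N'.map X.subtype ≠ ⊥ := by
      intro h
      exact hN'1 ((Subgroup.map_eq_bot_iff_of_injective _ X.subtype_injective).mp h)
    have hS₀top : N'.map X.subtype ≠ ⊤ := ne_top_of_le_ne_top hX.1 (Subgroup.map_subtype_le _)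
    have hNS₀ : Subgroup.normalizer ((N'.map X.subtype : Subgroup G) : Set G) = X :=
      (hX.le_iff.mp hXS₀).resolve_left
        (Cfsg.Agent.Lib.helper29.normalizer_ne_top_of_simple hS₀1 hS₀top)
    refine ⟨q, hq, hqp, N'.map X.subtype, hS₀q, hXS₀, fun S hS hS₀S => ?_⟩
    have hSeq : S = N'.map X.subtype := by
      by_contra hne
      have hlt : N'.map X.subtype < S := lt_of_le_of_ne hS₀S (Ne.symm hne)
      have h1 := Cfsg.Agent.Lib.helper29.lt_inf_normalizer_of_lt hS hlt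
      rw [hNS₀] at h1
      have h2 : (S ⊓ X).subgroupOf X ≤ N' :=
        hall _ ((hS.to_le inf_le_left).comap_subtype (K := X))
      have h3 : S ⊓ X ≤ N'.map X.subtype := by
        intro x hx
        exact ⟨⟨x, hx.2⟩, h2 (Subgroup.mem_subgroupOf.mpr hx), rfl⟩
      exact (lt_of_lt_of_le h1 h3).ne rfl
    rw [hSeq, hNS₀]
  · -- rank at least 3
    obtain ⟨s, hs, E₀, hE₀F, hE₀c, hE₀p, hE₀card⟩ :=
      Cfsg.Agent.Lib.helper29.exists_elemAb_of_not_rankLE hr
    haveI : Fact s.Prime := ⟨hs⟩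
    have hE₀e : IsElementaryAbelian s E₀ :=
      (Cfsg.Agent.Lib.helper28.isElementaryAbelian_iff' s E₀).mpr ⟨hE₀c, hE₀p⟩
    have hE₁e : IsElementaryAbelian s (E₀.map X.subtype) := bgu_map_elem hE₀e _
    have hE₁card : s ^ 2 < Nat.card (E₀.map X.subtype) := by
      rw [Subgroup.card_subtype]; exact hE₀card
    have hF : ¬ PRankLE s 2 ↥(fittingOf X) :=
      (Cfsg.Agent.Lib.helper28.not_pRankLE_subgroup_iff s 2 (fittingOf X)).mpr
        ⟨E₀.map X.subtype, Subgroup.map_mono hE₀F, hE₁e, hE₁card⟩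
    have hsp : s ≠ p := by
      rintro rfl
      exact hAnU (Cfsg.Agent.S1401.result hG X hX s hF A hAp hAc hA3)
    have hE₁1 : E₀.map X.subtype ≠ ⊥ := by
      intro h
      rw [h, Subgroup.card_bot] at hE₁card
      have : 1 ≤ s ^ 2 := Nat.one_le_pow _ _ hs.pos
      omega
    have hS₀ : IsPGroup s ((pCore s ↥X).map X.subtype) :=
      Cfsg.Agent.Lib.helper27.map_pCore_isPGroup s X
    have hE₁S₀ : E₀.map X.subtype ≤ (pCore s ↥X).map X.subtype := by
      apply Subgroup.map_mono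
      intro x hx
      have hxs : x ^ s = 1 := hE₀p x hx
      obtain ⟨k, -, hk⟩ := (Nat.dvd_prime_pow hs).mp
        (by rw [pow_one]; exact orderOf_dvd_of_pow_eq_one hxs : orderOf x ∣ s ^ 1)
      exact Cfsg.Agent.Lib.helper30.mem_pCore_of_mem_fittingSubgroup s x (hE₀F hx) k hk
    obtain ⟨M, ⟨hM, hE₁M⟩, huniq⟩ := Cfsg.Agent.S1401.result hG X hX s hF _
      (bgu_isPGroup_of_elem hE₁e) hE₁e.1
      ((Cfsg.Agent.Lib.helper28.not_pRankLE_subgroup_iff s 2 _).mpr ⟨_, le_rfl, hE₁e, hE₁card⟩)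
    have hXM : X = M := huniq X ⟨hX, Subgroup.map_subtype_le _⟩
    refine ⟨s, hs, hsp, (pCore s ↥X).map X.subtype, hS₀,
      bgu_le_normalizer_map_of_normal (pCore s ↥X), fun S hS hS₀S => ?_⟩
    have hS1 : S ≠ ⊥ := fun h => hE₁1 (le_bot_iff.mp (h ▸ hE₁S₀.trans hS₀S))
    have hStop : S ≠ ⊤ := bgu_pgroup_ne_top hnc hS
    have h1 := bgu_of_le (fun M' h1 h2 => huniq M' ⟨h1, h2⟩)
      ((hE₁S₀.trans hS₀S).trans Subgroup.le_normalizer)
      (Cfsg.Agent.Lib.helper29.normalizer_ne_top_of_simple hS1 hStop)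
    exact hXM ▸ h1.1

/-- Step 1 of 9.5: every maximal subgroup containing `C_G(A)` contains `N_G(P)`. -/
theorem bgu_scn3_step1 [Finite G] (hG : IsMinSimpleOddOrder G) {p : ℕ} [hp : Fact p.Prime]
    (P : Sylow p G) {A : Subgroup G} (hA : IsSCN (P : Subgroup G) A) (hA3 : ¬ PRankLE p 2 ↥A)
    (hAnU : ¬ InUniqueMaximal A) (X : Subgroup G) (hX : IsCoatom X)
    (hCX : Subgroup.centralizer (A : Set G) ≤ X) :
    Subgroup.normalizer ((P : Subgroup G) : Set G) ≤ X := by
  obtain ⟨hodd, hsimple, hnc, hsolv⟩ := id hG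
  haveI := hsimple
  have hAp : IsPGroup p A := P.isPGroup'.to_le hA.1
  obtain ⟨E, hEA, hEe, hEc⟩ := (Cfsg.Agent.Lib.helper28.not_pRankLE_subgroup_iff p 2 A).mp hA3
  have hlt : p ^ 1 < p ^ 2 := Nat.pow_lt_pow_right hp.out.one_lt (by norm_num)
  have hAc : IsMulCommutative A := by
    refine ⟨⟨fun x y => ?_⟩⟩
    have hy : (y : G) ∈ (P : Subgroup G) ⊓ Subgroup.centralizer (A : Set G) := by
      rw [hA.2.2]; exact y.2
    apply Subtype.ext
    exact (Subgroup.mem_centralizer_iff.mp hy.2) x x.2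
  have hAcent : A ≤ Subgroup.centralizer (A : Set G) := by
    intro x hx
    have hx' : x ∈ (P : Subgroup G) ⊓ Subgroup.centralizer (A : Set G) := by rw [hA.2.2]; exact hx
    exact hx'.2
  have hAX : A ≤ X := hAcent.trans hCX
  have hAtop : A ≠ ⊤ := ne_top_of_le_ne_top hX.1 hAX
  have hPtop : (P : Subgroup G) ≠ ⊤ := bgu_sylow_ne_top hnc P
  obtain ⟨a, ha⟩ := IsPGroup.iff_card.mp hAp
  have ha0 : a ≠ 0 := by
    intro ha0
    rw [ha0, pow_zero] at ha
    have h1 := Subgroup.card_le_of_le hEA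
    have h2 : 1 ≤ p ^ 2 := Nat.one_le_pow _ _ hp.out.pos
    omega
  have hpA : p ∣ Nat.card A := ha ▸ dvd_pow_self p ha0
  have hpG : p ∣ Nat.card G := hpA.trans (Subgroup.card_subgroup_dvd_card A)
  have hA1 : ¬ PRankLE p 1 ↥A :=
    (Cfsg.Agent.Lib.helper28.not_pRankLE_subgroup_iff p 1 A).mpr ⟨E, hEA, hEe, by omega⟩
  have hTH : TransitivityHypothesis A :=
    Cfsg.Agent.S1396.result hG p hpG A hAp hAc (Or.inr ⟨P, hA, hA1⟩)
  have hZ : ¬ RankLE 2 ↥(A ⊓ Subgroup.centralizer (A : Set G)) := fun h =>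
    (Cfsg.Agent.Lib.helper28.not_pRankLE_subgroup_iff p 2 _).mpr
      ⟨E, le_inf hEA (hEA.trans hAcent), hEe, hEc⟩ (h p hp.out)
  have hPπ : ∀ r : ℕ, r.Prime → r ∣ Nat.card (P : Subgroup G) → r ∣ Nat.card A := by
    intro r hr hrS
    obtain ⟨s, hs⟩ := IsPGroup.iff_card.mp P.isPGroup'
    rw [hs] at hrS
    rw [(Nat.prime_dvd_prime_iff_eq hr hp.out).mp (hr.dvd_of_dvd_pow hrS)]
    exact hpA
  have hsn : (A.subgroupOf (P : Subgroup G)).IsSubnormal :=
    ((Subgroup.normal_subgroupOf_iff_le_normalizer hA.1).mpr hA.2.1).isSubnormal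
  have hsnA : (A.subgroupOf A).IsSubnormal :=
    ((Subgroup.normal_subgroupOf_iff_le_normalizer le_rfl).mpr Subgroup.le_normalizer).isSubnormal
  obtain ⟨q, hq, hqp, S₀, hS₀q, hXS₀, hS⟩ := bgu_scn3_prime hG hAp hAc hA3 hAnU hX hAX
  have hqA : ¬ q ∣ Nat.card A := by
    rw [ha]
    intro h
    exact hqp ((Nat.prime_dvd_prime_iff_eq hq hp.out).mp (hq.dvd_of_dvd_pow h))
  have htr := Cfsg.Agent.S1393.result hG A hTH hZ q hq hqA
  have hKX : piCoreOf (primesNotDvd (Nat.card A)) (Subgroup.centralizer (A : Set G)) ≤ X :=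
    (Cfsg.Agent.Lib.helper29.piCoreOf_le _ _).trans hCX
  -- `N_G(A) ≤ X`
  obtain ⟨Q, hQ, hS₀Q⟩ := Cfsg.Agent.Lib.helper29.exists_maxInv_ge
    ((Cfsg.Agent.Lib.helper29.mem_invSubgroups_top hq).mpr ⟨hS₀q, hAX.trans hXS₀⟩)
  have hQq := ((Cfsg.Agent.Lib.helper29.mem_invSubgroups_top hq).mp hQ.1).1
  have hNQ : Subgroup.normalizer (Q : Set G) ≤ X := hS Q hQq hS₀Q
  have h395A := (Cfsg.Agent.S1395.result hG A hTH q hq hqA A hAtop (fun r _ h => h) le_rfl hsnA
    htr).2.2.2 Q hQ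
  have hNA : Subgroup.normalizer (A : Set G) ≤ X := by
    rw [h395A.2]
    exact sup_le hKX (inf_le_right.trans hNQ)
  have hPX : (P : Subgroup G) ≤ X := hA.2.1.trans hNA
  -- `N_G(P) ≤ X`
  obtain ⟨Q₂, hQ₂, hS₀Q₂⟩ := Cfsg.Agent.Lib.helper29.exists_maxInv_ge
    ((Cfsg.Agent.Lib.helper29.mem_invSubgroups_top (A := (P : Subgroup G)) hq).mpr
      ⟨hS₀q, hPX.trans hXS₀⟩)
  have hQ₂q := ((Cfsg.Agent.Lib.helper29.mem_invSubgroups_top hq).mp hQ₂.1).1
  have hNQ₂ : Subgroup.normalizer (Q₂ : Set G) ≤ X := hS Q₂ hQ₂q hS₀Q₂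
  have h395P := Cfsg.Agent.S1395.result hG A hTH q hq hqA (P : Subgroup G) hPtop hPπ hA.1 hsn htr
  rw [(h395P.2.2.2 Q₂ hQ₂).2]
  refine sup_le ?_ (inf_le_right.trans hNQ₂)
  rw [← h395P.1]
  exact inf_le_left.trans hKX

/-- Bender–Glauberman Lemma 9.5: a self-centralizing normal subgroup of rank at least 3 of a Sylow
`p`-subgroup of a minimal simple group of odd order lies in a unique maximal subgroup. -/
theorem bgu_scn3 [Finite G] (hG : IsMinSimpleOddOrder G) {p : ℕ} [hp : Fact p.Prime]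
    (P : Sylow p G) {A : Subgroup G} (hA : IsSCN (P : Subgroup G) A) (hA3 : ¬ PRankLE p 2 ↥A) :
    InUniqueMaximal A :=
  bgu_scn3_of_step1 hG P hA hA3 (fun hAnU X hX hCX => bgu_scn3_step1 hG P hA hA3 hAnU X hX hCX)

end Cfsg.Agent.Lib.helper36
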