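import Mathlib
import Cfsg.Agent.Lib.helper36.BGU7
import Cfsg.Agent.S1404
import Cfsg.Agent.S1461

set_option autoImplicit false
set_option linter.style.haveILetI false
set_option linter.unusedSectionVars false

namespace Cfsg.Agent.Lib.helper36

open Cfsg

variable {G : Type*} [Group G]

/-! ### Bender–Glauberman Corollary 10.7(d)(e)(f), on top of `p`-length one (10.7(a)) -/

/-- The `p`-length-one hypothesis (the statement of B-G Corollary 10.7(a) for the prime `p`). -/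
def BGXPLen (p : ℕ) (G : Type*) [Group G] : Prop :=
  ∀ H : Subgroup G, H ≠ ⊤ → PLengthLE p 1 ↥H

theorem bgx_map_conj_mul_cent (Q : Subgroup G) {m c : G}
    (hc : c ∈ Subgroup.centralizer (Q : Set G)) :
    Q.map (MulAut.conj (m * c)).toMonoidHom = Q.map (MulAut.conj m).toMonoidHom := by
  ext z
  simp only [Subgroup.mem_map, MulEquiv.coe_toMonoidHom, MulAut.conj_apply]
  constructor
  · rintro ⟨q, hq, rfl⟩
    refine ⟨q, hq, ?_⟩
    have h1 : q * c = c * q := Subgroup.mem_centralizer_iff.mp hc q hq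
    calc m * q * m⁻¹ = m * (q * c) * c⁻¹ * m⁻¹ := by group
      _ = m * (c * q) * c⁻¹ * m⁻¹ := by rw [h1]
      _ = m * c * q * (m * c)⁻¹ := by group
  · rintro ⟨q, hq, rfl⟩
    refine ⟨q, hq, ?_⟩
    have h1 : q * c = c * q := Subgroup.mem_centralizer_iff.mp hc q hq
    calc m * c * q * (m * c)⁻¹ = m * (c * q) * c⁻¹ * m⁻¹ := by group
      _ = m * (q * c) * c⁻¹ * m⁻¹ := by rw [h1]
      _ = m * q * m⁻¹ := by group

theorem bgx_exists_conj_le [Finite G] {p : ℕ} [Fact p.Prime] (S : Sylow p G) {K : Subgroup G}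
    (hK : IsPGroup p K) : ∃ g : G, K.map (MulAut.conj g).toMonoidHom ≤ S := by
  obtain ⟨Q, hQ⟩ := hK.exists_le_sylow
  obtain ⟨g, hg⟩ := MulAction.exists_smul_eq G Q S
  refine ⟨g, ?_⟩
  rintro _ ⟨k, hk, rfl⟩
  have h1 : (MulAut.conj g) • k ∈ ((g • Q : Sylow p G) : Subgroup G) := by
    rw [Sylow.coe_subgroup_smul]
    exact Subgroup.smul_mem_pointwise_smul k (MulAut.conj g) (Q : Subgroup G) (hQ hk)
  rw [hg] at h1
  exact h1

theorem bgx_mem_map_conj {g x : G} {K : Subgroup G} :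
    x ∈ K.map (MulAut.conj g).toMonoidHom ↔ g⁻¹ * x * g ∈ K := by
  constructor
  · rintro ⟨k, hk, rfl⟩
    have : g⁻¹ * ((MulAut.conj g).toMonoidHom k) * g = k := by
      show g⁻¹ * (g * k * g⁻¹) * g = k
      group
    rwa [this]
  · intro h
    refine ⟨g⁻¹ * x * g, h, ?_⟩
    show g * (g⁻¹ * x * g) * g⁻¹ = x
    group

theorem bgx_conj_mem_map {g x : G} {K : Subgroup G} (hx : x ∈ K) :
    g * x * g⁻¹ ∈ K.map (MulAut.conj g).toMonoidHom := ⟨x, hx, rfl⟩

/-- Fusion of subgroups of a Sylow `p`-subgroup inside a solvable subgroup of `p`-length one is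
controlled by the normalizer of the Sylow subgroup. -/
theorem bgx_fusion_plen [Finite G] {H : Subgroup G} (hsol : Group.IsSolvable ↥H) {p : ℕ}
    [Fact p.Prime] (hpl : PLengthLE p 1 ↥H) (P : Sylow p G) (hPH : (P : Subgroup G) ≤ H)
    {Q : Subgroup G} (hQ : Q ≤ P) {m : G} (hm : m ∈ H)
    (hQm : Q.map (MulAut.conj m).toMonoidHom ≤ P) :
    ∃ y ∈ Subgroup.normalizer ((P : Subgroup G) : Set G),
      Q.map (MulAut.conj m).toMonoidHom = Q.map (MulAut.conj y).toMonoidHom := by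
  haveI := hsol
  have h2 := (Cfsg.Agent.S1461.result (G := ↥H) p hpl (P.subtype hPH)).2.1
  have hY : ((Q.subgroupOf H : Subgroup ↥H) : Set ↥H) ⊆ ((P.subtype hPH : Sylow p ↥H) : Subgroup ↥H) := by
    intro a ha
    rw [SetLike.mem_coe, Sylow.coe_subtype, Subgroup.mem_subgroupOf]
    exact hQ (Subgroup.mem_subgroupOf.mp ha)
  have hY2 : (fun y => (⟨m, hm⟩ : ↥H) * y * (⟨m, hm⟩ : ↥H)⁻¹) '' ((Q.subgroupOf H : Subgroup ↥H) : Set ↥H)
      ⊆ ((P.subtype hPH : Sylow p ↥H) : Subgroup ↥H) := by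
    rintro _ ⟨a, ha, rfl⟩
    rw [SetLike.mem_coe, Sylow.coe_subtype, Subgroup.mem_subgroupOf]
    exact hQm (bgx_conj_mem_map (Subgroup.mem_subgroupOf.mp ha))
  obtain ⟨g, hg, c, hc, hgc⟩ := h2 _ ⟨m, hm⟩ hY hY2
  refine ⟨(g : G), ?_, ?_⟩
  · rw [Subgroup.mem_normalizer_iff] at hg ⊢
    intro a
    constructor
    · intro ha
      have h1 := (hg ⟨a, hPH ha⟩).mp (by
        rw [Sylow.coe_subtype, Subgroup.mem_subgroupOf]; exact ha)
      rw [Sylow.coe_subtype, Subgroup.mem_subgroupOf] at h1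
      exact h1
    · intro ha
      have haH : a ∈ H := by
        have h3 : (g : G)⁻¹ * ((g : G) * a * (g : G)⁻¹) * (g : G) ∈ H :=
          H.mul_mem (H.mul_mem (H.inv_mem g.2) (hPH ha)) g.2
        have h4 : (g : G)⁻¹ * ((g : G) * a * (g : G)⁻¹) * (g : G) = a := by group
        rwa [h4] at h3
      have h1 := (hg ⟨a, haH⟩).mpr (by
        rw [Sylow.coe_subtype, Subgroup.mem_subgroupOf]; exact ha)
      rw [Sylow.coe_subtype, Subgroup.mem_subgroupOf] at h1
      exact h1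
  · have hmgc : m = (g : G) * (c : G) := by
      have := congrArg Subtype.val hgc
      exact this.symm
    have hcQ : (c : G) ∈ Subgroup.centralizer (Q : Set G) := by
      rw [Subgroup.mem_centralizer_iff]
      intro q hq
      have hqH : q ∈ H := hPH (hQ hq)
      have h1 := Subgroup.mem_centralizer_iff.mp hc ⟨q, hqH⟩ (by
        rw [SetLike.mem_coe, Subgroup.mem_subgroupOf]; exact hq)
      exact congrArg Subtype.val h1
    rw [hmgc]
    exact bgx_map_conj_mul_cent Q hcQ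

/-- B-G Corollary 10.7(d): `N_G(P)` controls fusion of subgroups of a Sylow `p`-subgroup `P`. -/
theorem bgx_sylow_fusion [Finite G] (hG : IsMinSimpleOddOrder G) {p : ℕ} [hp : Fact p.Prime]
    (hPL : BGXPLen p G) (P : Sylow p G) {Q : Subgroup G} {x : G} (hQ : Q ≤ P)
    (hQx : Q.map (MulAut.conj x).toMonoidHom ≤ P) :
    ∃ y ∈ Subgroup.normalizer ((P : Subgroup G) : Set G),
      Q.map (MulAut.conj x).toMonoidHom = Q.map (MulAut.conj y).toMonoidHom := by
  obtain ⟨hodd, hsimple, hnc, hsolv⟩ := id hG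
  haveI := hsimple
  by_cases hQ1 : Q = ⊥
  · refine ⟨1, Subgroup.one_mem _, ?_⟩
    rw [hQ1, Subgroup.map_bot, Subgroup.map_bot]
  have hP1 : (P : Subgroup G) ≠ ⊥ := by
    intro h
    exact hQ1 (le_bot_iff.mp (h ▸ hQ))
  have hNtop : Subgroup.normalizer ((P : Subgroup G) : Set G) ≠ ⊤ :=
    Cfsg.Agent.Lib.helper29.normalizer_ne_top_of_simple hP1 (bgu_sylow_ne_top hnc P)
  obtain ⟨M, hM, hNM⟩ := bgu_exists_coatom hNtop
  have hPM : (P : Subgroup G) ≤ M := Subgroup.le_normalizer.trans hNM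
  have hQp : IsPGroup p Q := P.isPGroup'.to_le hQ
  have hσ : p ∈ sigma M := by
    refine ⟨hp.out, ?_, P.subtype hPM, ?_⟩
    · obtain ⟨q, hq, hq1⟩ := Cfsg.Agent.Lib.helper29.exists_ne_one_of_ne_bot hQ1
      have h1 : p ∣ orderOf q := by
        obtain ⟨k, hk⟩ := (IsPGroup.iff_orderOf.mp hQp) ⟨q, hq⟩
        have hk' : orderOf q = p ^ k := by rw [← hk, Subgroup.orderOf_mk]
        rw [hk']
        have hk0 : k ≠ 0 := by
          intro h0
          rw [h0, pow_zero] at hk'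
          exact hq1 (orderOf_eq_one_iff.mp hk')
        exact dvd_pow_self p hk0
      exact h1.trans (Subgroup.orderOf_dvd_natCard M (hPM (hQ hq)))
    · rw [Sylow.coe_subtype, Subgroup.map_subgroupOf_eq_of_le hPM]
      exact hNM
  obtain ⟨m, hm, c, hc, hxmc⟩ :=
    (Cfsg.Agent.S1404.result hG M hM p hσ Q hQp hQ1 (hQ.trans hPM)).1 x (hQx.trans hPM)
  have h1 : Q.map (MulAut.conj x).toMonoidHom = Q.map (MulAut.conj m).toMonoidHom := by
    rw [hxmc]; exact bgx_map_conj_mul_cent Q hc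
  rw [h1] at hQx ⊢
  exact bgx_fusion_plen (hsolv M hM.1) (hPL M hM.1) P hPM hQ hm hQx

theorem bgx_mem_normalizer_of_map_le [Finite G] (hG : IsMinSimpleOddOrder G) {p : ℕ}
    [hp : Fact p.Prime] (hPL : BGXPLen p G) (P : Sylow p G) {Q : Subgroup G}
    (hQ : Q ≤ P) (hNP : Subgroup.normalizer ((P : Subgroup G) : Set G) ≤
      Subgroup.normalizer (Q : Set G)) {z : G} (hz : Q.map (MulAut.conj z).toMonoidHom ≤ P) :
    z ∈ Subgroup.normalizer (Q : Set G) := by
  obtain ⟨y, hy, hzy⟩ := bgx_sylow_fusion hG hPL P hQ hz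
  have h1 : Q.map (MulAut.conj y).toMonoidHom = Q :=
    Subgroup.mem_normalizer_iff_map_conj_eq.mp (hNP hy)
  rw [h1] at hzy
  exact Subgroup.mem_normalizer_iff_map_conj_eq.mpr hzy

/-- B-G Corollary 10.7(e): `N_P(Q)` is a Sylow `p`-subgroup of `N_G(Q)` for every `Q ≤ P`. -/
theorem bgx_sylow_normalizer [Finite G] (hG : IsMinSimpleOddOrder G) {p : ℕ} [hp : Fact p.Prime]
    (hPL : BGXPLen p G) (P : Sylow p G) {Q : Subgroup G} (hQ : Q ≤ P) :
    ¬ p ∣ ((P : Subgroup G) ⊓ Subgroup.normalizer (Q : Set G)).relIndex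
      (Subgroup.normalizer (Q : Set G)) := by
  have hQp : IsPGroup p Q := P.isPGroup'.to_le hQ
  have hQN : Q ≤ Subgroup.normalizer (Q : Set G) := Subgroup.le_normalizer
  have hQNp : IsPGroup p (Q.subgroupOf (Subgroup.normalizer (Q : Set G))) := hQp.comap_subtype
  obtain ⟨T₀, hT₀⟩ := hQNp.exists_le_sylow
  have hTp : IsPGroup p ((T₀ : Subgroup ↥(Subgroup.normalizer (Q : Set G))).map
      (Subgroup.normalizer (Q : Set G)).subtype) := T₀.isPGroup'.map _
  have hQT : Q ≤ (T₀ : Subgroup ↥(Subgroup.normalizer (Q : Set G))).map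
      (Subgroup.normalizer (Q : Set G)).subtype := by
    intro q hq
    exact ⟨⟨q, hQN hq⟩, hT₀ (Subgroup.mem_subgroupOf.mpr hq), rfl⟩
  have hTN : (T₀ : Subgroup ↥(Subgroup.normalizer (Q : Set G))).map
      (Subgroup.normalizer (Q : Set G)).subtype ≤ Subgroup.normalizer (Q : Set G) :=
    Subgroup.map_subtype_le _
  obtain ⟨g, hg⟩ := bgx_exists_conj_le P hTp
  have hQg : Q.map (MulAut.conj g).toMonoidHom ≤ P := (Subgroup.map_mono hQT).trans hg
  obtain ⟨y, hy, hQy⟩ := bgx_sylow_fusion hG hPL P hQ hQg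
  -- `n = y⁻¹ g` normalizes `Q`
  have hn : y⁻¹ * g ∈ Subgroup.normalizer (Q : Set G) := by
    rw [Subgroup.mem_normalizer_iff]
    intro h
    constructor
    · intro hh
      have h1 : g * h * g⁻¹ ∈ Q.map (MulAut.conj y).toMonoidHom := by
        rw [← hQy]; exact bgx_conj_mem_map hh
      have h2 := bgx_mem_map_conj.mp h1
      have h3 : y⁻¹ * g * h * (y⁻¹ * g)⁻¹ = y⁻¹ * (g * h * g⁻¹) * y := by group
      rw [h3]; exact h2
    · intro hh
      have h1 : y * (y⁻¹ * g * h * (y⁻¹ * g)⁻¹) * y⁻¹ ∈ Q.map (MulAut.conj g).toMonoidHom := by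
        rw [hQy]; exact bgx_conj_mem_map hh
      have h2 := bgx_mem_map_conj.mp h1
      have h3 : g⁻¹ * (y * (y⁻¹ * g * h * (y⁻¹ * g)⁻¹) * y⁻¹) * g = h := by group
      rwa [h3] at h2
  -- the conjugate of `T` by `n` lies in `P ⊓ N`
  have hTn : ((T₀ : Subgroup ↥(Subgroup.normalizer (Q : Set G))).map
      (Subgroup.normalizer (Q : Set G)).subtype).map (MulAut.conj (y⁻¹ * g)).toMonoidHom ≤
      (P : Subgroup G) ⊓ Subgroup.normalizer (Q : Set G) := by
    rintro _ ⟨t, ht, rfl⟩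
    refine ⟨?_, ?_⟩
    · have h1 : g * t * g⁻¹ ∈ (P : Subgroup G) := hg (bgx_conj_mem_map ht)
      have h2 := (Subgroup.mem_normalizer_iff.mp (Subgroup.inv_mem _ hy) (g * t * g⁻¹)).mp h1
      have h3 : (MulAut.conj (y⁻¹ * g)).toMonoidHom t = y⁻¹ * (g * t * g⁻¹) * y⁻¹⁻¹ := by
        show y⁻¹ * g * t * (y⁻¹ * g)⁻¹ = _
        group
      rw [h3]; exact h2
    · exact Subgroup.mul_mem _ (Subgroup.mul_mem _ hn (hTN ht)) (Subgroup.inv_mem _ hn)
  -- counting
  have hc1 : Nat.card (T₀ : Subgroup ↥(Subgroup.normalizer (Q : Set G))) ≤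
      Nat.card ↥(((P : Subgroup G) ⊓ Subgroup.normalizer (Q : Set G)).subgroupOf
        (Subgroup.normalizer (Q : Set G))) := by
    have e1 : Nat.card ↥(((T₀ : Subgroup ↥(Subgroup.normalizer (Q : Set G))).map
        (Subgroup.normalizer (Q : Set G)).subtype).map (MulAut.conj (y⁻¹ * g)).toMonoidHom) =
        Nat.card (T₀ : Subgroup ↥(Subgroup.normalizer (Q : Set G))) := by
      rw [Subgroup.card_map_of_injective (MulAut.conj (y⁻¹ * g)).injective,
        Subgroup.card_map_of_injective (Subgroup.subtype_injective _)]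
    have e2 : Nat.card ↥(((P : Subgroup G) ⊓ Subgroup.normalizer (Q : Set G)).subgroupOf
        (Subgroup.normalizer (Q : Set G))) =
        Nat.card ↥((P : Subgroup G) ⊓ Subgroup.normalizer (Q : Set G)) :=
      Nat.card_congr (Subgroup.subgroupOfEquivOfLe inf_le_right).toEquiv
    rw [e2, ← e1]
    exact Subgroup.card_le_of_le hTn
  have hRp : IsPGroup p ↥(((P : Subgroup G) ⊓ Subgroup.normalizer (Q : Set G)).subgroupOf
      (Subgroup.normalizer (Q : Set G))) :=
    (P.isPGroup'.to_le inf_le_left).comap_subtype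
  obtain ⟨a, ha⟩ := T₀.isPGroup'.exists_card_eq
  obtain ⟨b, hb⟩ := hRp.exists_card_eq
  have hab : a ≤ b := by
    rw [ha, hb] at hc1
    exact (Nat.pow_le_pow_iff_right hp.out.one_lt).mp hc1
  intro hdiv
  have h1 : p ^ (b + 1) ∣ Nat.card ↥(Subgroup.normalizer (Q : Set G)) := by
    rw [← Subgroup.card_mul_index (((P : Subgroup G) ⊓ Subgroup.normalizer (Q : Set G)).subgroupOf
      (Subgroup.normalizer (Q : Set G))), hb, pow_succ]
    exact Nat.mul_dvd_mul_left _ hdiv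
  have h2 := T₀.pow_dvd_card_of_pow_dvd_card h1
  rw [ha] at h2
  have h3 := (Nat.pow_dvd_pow_iff_le_right hp.out.one_lt).mp h2
  omega

/-- B-G Corollary 10.7(f). -/
theorem bgx_normalizer_le_of_sylow [Finite G] (hG : IsMinSimpleOddOrder G) {p : ℕ}
    [hp : Fact p.Prime] (hPL : BGXPLen p G) (P : Sylow p G) {R Q : Subgroup G}
    (hR : IsPGroup p R) (hQ : Q ≤ (P : Subgroup G) ⊓ R)
    (hNP : Subgroup.normalizer ((P : Subgroup G) : Set G) ≤ Subgroup.normalizer (Q : Set G)) :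
    Subgroup.normalizer (R : Set G) ≤ Subgroup.normalizer (Q : Set G) := by
  have hQP : Q ≤ P := hQ.trans inf_le_left
  have hQR : Q ≤ R := hQ.trans inf_le_right
  obtain ⟨g, hg⟩ := bgx_exists_conj_le P hR
  have hgN : g ∈ Subgroup.normalizer (Q : Set G) :=
    bgx_mem_normalizer_of_map_le hG hPL P hQP hNP ((Subgroup.map_mono hQR).trans hg)
  intro h hh
  have h1 : Q.map (MulAut.conj (g * h)).toMonoidHom ≤ P := by
    rintro _ ⟨q, hq, rfl⟩
    have h2 : h * q * h⁻¹ ∈ R := (Subgroup.mem_normalizer_iff.mp hh q).mp (hQR hq)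
    have h3 : (MulAut.conj (g * h)).toMonoidHom q = g * (h * q * h⁻¹) * g⁻¹ := by
      show g * h * q * (g * h)⁻¹ = _
      group
    rw [h3]
    exact hg (bgx_conj_mem_map h2)
  have h2 : g * h ∈ Subgroup.normalizer (Q : Set G) :=
    bgx_mem_normalizer_of_map_le hG hPL P hQP hNP h1
  have h3 : g⁻¹ * (g * h) ∈ Subgroup.normalizer (Q : Set G) :=
    Subgroup.mul_mem _ (Subgroup.inv_mem _ hgN) h2
  rwa [inv_mul_cancel_left] at h3

/-- B-G Corollary 10.7(d)(e)(f) (statement S1413), from `p`-length one. -/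
theorem bgx_107_def [Finite G] (hG : IsMinSimpleOddOrder G) {p : ℕ} [hp : Fact p.Prime]
    (hPL : BGXPLen p G) (P : Sylow p G) :
    (∀ (Q : Subgroup G) (x : G), Q ≤ (P : Subgroup G) → Q.map (MulAut.conj x).toMonoidHom ≤ (P : Subgroup G) →
        ∃ y ∈ Subgroup.normalizer ((P : Subgroup G) : Set G), Q.map (MulAut.conj x).toMonoidHom = Q.map (MulAut.conj y).toMonoidHom) ∧
      (∀ Q : Subgroup G, Q ≤ (P : Subgroup G) →
        ¬ p ∣ ((P : Subgroup G) ⊓ Subgroup.normalizer (Q : Set G)).relIndex (Subgroup.normalizer (Q : Set G))) ∧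
      (∀ (R Q : Subgroup G), IsPGroup p R → Q ≤ (P : Subgroup G) ⊓ R →
        Subgroup.normalizer ((P : Subgroup G) : Set G) ≤ Subgroup.normalizer (Q : Set G) →
        Subgroup.normalizer (R : Set G) ≤ Subgroup.normalizer (Q : Set G)) :=
  ⟨fun _ _ hQ hQx => bgx_sylow_fusion hG hPL P hQ hQx,
   fun _ hQ => bgx_sylow_normalizer hG hPL P hQ,
   fun _ _ hR hQ hNP => bgx_normalizer_le_of_sylow hG hPL P hR hQ hNP⟩

end Cfsg.Agent.Lib.helper36
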