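import Mathlib
import Cfsg.Prelude.Def_OddOrderLocal
import Cfsg.Agent.Lib.helper13.BGExc
import Cfsg.Agent.Lib.helper13.BG11a
import Cfsg.Agent.Lib.helper13.BG11b
import Cfsg.Agent.Lib.helper13.BG11c
import Cfsg.Agent.Lib.helper13.BG11d
import Cfsg.Agent.Lib.helper8.BGElevenC
import Cfsg.Agent.Lib.helper13.SigFus
import Cfsg.Agent.Lib.helper13.BestOff
import Cfsg.Agent.Lib.helper8.BGTwelve
import Cfsg.Agent.Lib.helper1.Coprime
import Cfsg.Agent.Lib.helper27.QPrimeCore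
import Cfsg.Agent.Lib.helper29.Trans
import Cfsg.Agent.Lib.helper29.PQR2
import Cfsg.Agent.Lib.helper31.BenderInv4
import Cfsg.Agent.Lib.helper54.UniqA
import Cfsg.Agent.Lib.helper36.BGU5
import Cfsg.Agent.Lib.helper21.SylowFrattini
import Cfsg.Agent.S1350
import Cfsg.Agent.S1403
import Cfsg.Agent.S1404
import Cfsg.Agent.S1408
import Cfsg.Agent.S1410

/-!
# Bender–Glauberman 11.7: `M_σ A` is normal in `M`

`p11_7 : P11_7 G` from the earlier pieces `P11_3`, `P11_6`, `PFpf`, `P10_9`, `P10_9c`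
(interface of `Lib/helper13/BGExc.lean`), using `helper13.exc_cent_normal`.
-/

set_option autoImplicit false

namespace Cfsg.Agent.Lib.helper36

open Cfsg Cfsg.Agent.Lib.helper13
open scoped Pointwise commutatorElement

section basic

variable {G : Type*} [Group G]

/-- the elements `y` normalizing `N` with `y s y⁻¹ s⁻¹ ∈ N` for all `s ∈ S` -/
def bgzCentMod (N : Subgroup G) (S : Set G) : Subgroup G where
  carrier := {y | y ∈ Subgroup.normalizer (N : Set G) ∧ ∀ s ∈ S, y * s * y⁻¹ * s⁻¹ ∈ N}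
  one_mem' := ⟨Subgroup.one_mem _, fun s _ => by simp⟩
  mul_mem' := by
    rintro y1 y2 ⟨h1, h1'⟩ ⟨h2, h2'⟩
    refine ⟨Subgroup.mul_mem _ h1 h2, fun s hs => ?_⟩
    have e : y1 * y2 * s * (y1 * y2)⁻¹ * s⁻¹ =
        (y1 * (y2 * s * y2⁻¹ * s⁻¹) * y1⁻¹) * (y1 * s * y1⁻¹ * s⁻¹) := by group
    rw [e]
    exact N.mul_mem ((Subgroup.mem_normalizer_iff.mp h1 _).mp (h2' s hs)) (h1' s hs)
  inv_mem' := by
    rintro y ⟨h1, h1'⟩
    refine ⟨Subgroup.inv_mem _ h1, fun s hs => ?_⟩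
    have e : y⁻¹ * s * y⁻¹⁻¹ * s⁻¹ = y⁻¹ * (y * s * y⁻¹ * s⁻¹)⁻¹ * y⁻¹⁻¹ := by group
    rw [e]
    exact (Subgroup.mem_normalizer_iff.mp (Subgroup.inv_mem _ h1) _).mp (N.inv_mem (h1' s hs))

theorem mem_bgzCentMod {N : Subgroup G} {S : Set G} {y : G} :
    y ∈ bgzCentMod N S ↔
      y ∈ Subgroup.normalizer (N : Set G) ∧ ∀ s ∈ S, y * s * y⁻¹ * s⁻¹ ∈ N := Iff.rfl

theorem le_bgzCentMod_self {N : Subgroup G} {S : Set G}
    (hS : S ⊆ Subgroup.normalizer (N : Set G)) : N ≤ bgzCentMod N S := by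
  intro y hy
  refine ⟨Subgroup.le_normalizer hy, fun s hs => ?_⟩
  have h1 : s * y⁻¹ * s⁻¹ ∈ N := (Subgroup.mem_normalizer_iff.mp (hS hs) _).mp (N.inv_mem hy)
  have e : y * s * y⁻¹ * s⁻¹ = y * (s * y⁻¹ * s⁻¹) := by group
  rw [e]; exact N.mul_mem hy h1

theorem le_bgzCentMod_of_cent {N H : Subgroup G} {S : Set G}
    (hH : H ≤ Subgroup.normalizer (N : Set G)) (hc : H ≤ Subgroup.centralizer S) :
    H ≤ bgzCentMod N S := by
  intro y hy
  refine ⟨hH hy, fun s hs => ?_⟩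
  have h1 : s * y = y * s := Subgroup.mem_centralizer_iff.mp (hc hy) s hs
  have e : y * s * y⁻¹ * s⁻¹ = 1 := by
    rw [← h1]; group
  rw [e]; exact N.one_mem

/-- a subgroup normalizes the centralizer of any set stable under its conjugation -/
theorem bgz_le_normalizer_centralizer_set {M : Subgroup G} {S : Set G}
    (h : ∀ m ∈ M, ∀ x ∈ S, m * x * m⁻¹ ∈ S) :
    M ≤ Subgroup.normalizer ((Subgroup.centralizer S : Subgroup G) : Set G) := by
  intro m hm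
  rw [Subgroup.mem_normalizer_iff]
  intro c
  constructor
  · intro hc
    rw [Subgroup.mem_centralizer_iff]
    intro x hx
    have h1 : m⁻¹ * x * m ∈ S := by
      have := h m⁻¹ (M.inv_mem hm) x hx
      simpa using this
    have h2 := Subgroup.mem_centralizer_iff.mp hc _ h1
    calc x * (m * c * m⁻¹) = m * ((m⁻¹ * x * m) * c) * m⁻¹ := by group
      _ = m * (c * (m⁻¹ * x * m)) * m⁻¹ := by rw [h2]
      _ = m * c * m⁻¹ * x := by group
  · intro hc
    rw [Subgroup.mem_centralizer_iff]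
    intro x hx
    have h1 : m * x * m⁻¹ ∈ S := h m hm x hx
    have h2 := Subgroup.mem_centralizer_iff.mp hc _ h1
    have h3 : m * (x * c) * m⁻¹ = m * (c * x) * m⁻¹ := by
      calc m * (x * c) * m⁻¹ = (m * x * m⁻¹) * (m * c * m⁻¹) := by group
        _ = (m * c * m⁻¹) * (m * x * m⁻¹) := h2
        _ = m * (c * x) * m⁻¹ := by group
    exact mul_left_cancel (mul_right_cancel h3)

theorem bgz_le_normalizer_centralizer {M H : Subgroup G}
    (h : M ≤ Subgroup.normalizer (H : Set G)) :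
    M ≤ Subgroup.normalizer ((Subgroup.centralizer (H : Set G) : Subgroup G) : Set G) :=
  bgz_le_normalizer_centralizer_set
    (fun m hm x hx => (Subgroup.mem_normalizer_iff.mp (h hm) x).mp hx)

/-- one-sided criterion for normalizing a join (finite group) -/
theorem bgz_mem_normalizer_sup [Finite G] {H K : Subgroup G} {g : G}
    (hH : ∀ x ∈ H, g * x * g⁻¹ ∈ H ⊔ K) (hK : ∀ x ∈ K, g * x * g⁻¹ ∈ H ⊔ K) :
    g ∈ Subgroup.normalizer ((H ⊔ K : Subgroup G) : Set G) := by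
  apply Cfsg.Agent.Lib.helper21.mem_normalizer_of_conj_mem_fin21
  have hmap : (H ⊔ K : Subgroup G).map (MulAut.conj g).toMonoidHom ≤ H ⊔ K := by
    rw [Subgroup.map_sup]
    refine sup_le ?_ ?_
    · rintro _ ⟨x, hx, rfl⟩
      simpa [MulAut.conj_apply] using hH x hx
    · rintro _ ⟨x, hx, rfl⟩
      simpa [MulAut.conj_apply] using hK x hx
  intro x hx
  exact hmap ⟨x, hx, by simp [MulAut.conj_apply]⟩

end basic

variable {G : Type*} [Group G] [Finite G]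

/-- an `A`-invariant `r`-subgroup `R` of `M`, `r ∉ σ(M) ∪ {p}`: `[R, A]` centralizes `M_σ` -/
theorem bgz_pf (h3 : P11_3 G) (h6 : P11_6 G) (hF : PFpf G)
    {M : Subgroup G} {p : ℕ} {A₀ A : Subgroup G} (hE : Exc M p A₀ A)
    (r : ℕ) (hrr : r.Prime) (hrp : r ≠ p) (hrσ : r ∉ sigma M)
    (R : Subgroup G) (hRr : IsPGroup r R) (hRM : R ≤ M)
    (hAR : A ≤ Subgroup.normalizer (R : Set G)) :
    ⁅R, A⁆ ≤ Subgroup.centralizer (sigmaCore M : Set G) := by
  obtain ⟨hnil, hne⟩ := h3 M p A₀ A hE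
  obtain ⟨hM, hpp, hpσ, hAM, hAel, hAc, hA₀A, hA₀c, hNA₀⟩ := id hE
  have : Fact p.Prime := ⟨hpp⟩
  obtain ⟨-, -, A₁, A₂, hA₁A, hA₂A, hA₁c, hA₂c, hA12, hfp1, hfp2⟩ := h6 M p A₀ A hE
  have hAsup : A ≤ A₁ ⊔ A₂ := le_sup_of_card_prime hpp hA₁A hA₂A hA₁c hA₂c hA12 hAc
  have f1 := hF M hM hnil p A₁ hpp hpσ (hA₁A.trans hAM) hA₁c hfp1 r R hrr hrp hrσ hRr hRM
    (hA₁A.trans hAR)
  have f2 := hF M hM hnil p A₂ hpp hpσ (hA₂A.trans hAM) hA₂c hfp2 r R hrr hrp hrσ hRr hRM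
    (hA₂A.trans hAR)
  have hMC : M ≤ Subgroup.normalizer
      ((Subgroup.centralizer (sigmaCore M : Set G) : Subgroup G) : Set G) :=
    bgz_le_normalizer_centralizer (le_normalizer_sigmaCore M)
  have key : ∀ X : Subgroup G, X ≤ A → ⁅R, X⁆ ≤ Subgroup.centralizer (sigmaCore M : Set G) →
      X ≤ bgzCentMod (Subgroup.centralizer (sigmaCore M : Set G)) (R : Set G) := by
    intro X hXA hX y hy
    refine ⟨hMC (hAM (hXA hy)), fun s hs => ?_⟩
    have h1 : ⁅s, y⁆ ∈ Subgroup.centralizer (sigmaCore M : Set G) :=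
      hX (Subgroup.commutator_mem_commutator hs hy)
    have e : y * s * y⁻¹ * s⁻¹ = ⁅s, y⁆⁻¹ := by rw [commutatorElement_def]; group
    rw [e]; exact Subgroup.inv_mem _ h1
  have hA : A ≤ bgzCentMod (Subgroup.centralizer (sigmaCore M : Set G)) (R : Set G) :=
    hAsup.trans (sup_le (key A₁ hA₁A f1) (key A₂ hA₂A f2))
  rw [Subgroup.commutator_le]
  intro x hx a ha
  have h1 := (hA ha).2 x hx
  have e : ⁅x, a⁆ = (a * x * a⁻¹ * x⁻¹)⁻¹ := by rw [commutatorElement_def]; group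
  rw [e]; exact Subgroup.inv_mem _ h1

/-- `O_{p'}(M)` commutes with `A` modulo `M_σ` -/
theorem bgz_gen (hG : IsMinSimpleOddOrder G) (h3 : P11_3 G) (h6 : P11_6 G) (hF : PFpf G)
    (h9 : P10_9 G) (h9c : P10_9c G) {M : Subgroup G} {p : ℕ} {A₀ A : Subgroup G}
    (hE : Exc M p A₀ A) :
    (pPrimeCore p ↥M).map M.subtype ≤ bgzCentMod (sigmaCore M) (A : Set G) := by
  obtain ⟨hM, hpp, hpσ, hAM, hAel, hAc, hA₀A, hA₀c, hNA₀⟩ := id hE
  have : Fact p.Prime := ⟨hpp⟩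
  have hAp := exc_isPGroup hE
  obtain ⟨hKM, hKn, hKcop⟩ := pPrimeCore_map_facts p M
  have hMsn : M ≤ Subgroup.normalizer ((sigmaCore M : Subgroup G) : Set G) :=
    le_normalizer_sigmaCore M
  refine bgu_le_of_invariant_sylow hAp ?_ (hAM.trans hKn) ?_
  · intro h
    exact hpp.one_lt.ne' (Nat.Coprime.eq_one_of_dvd hKcop.symm h)
  · intro q hq hqp Q hQK hQq hAQ
    by_cases hqσ : q ∈ sigma M
    · exact (Cfsg.Agent.Lib.helper8.bg_pgroup_le_sigmaCore hG (bgx_uniq hG) (bgx_fus hG) M hM hqσ Q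
        (hQK.trans hKM) hQq).trans (le_bgzCentMod_self (fun s hs => hMsn (hAM hs)))
    · have : Fact q.Prime := ⟨hq⟩
      exact le_bgzCentMod_of_cent ((hQK.trans hKM).trans hMsn)
        (exc_cent_inv hG h3 h6 hF h9 h9c hE q hqp hqσ Q hQq (hQK.trans hKM) hAQ)

/-- **Bender–Glauberman 11.7**: `M_σ A` is normal in `M`. -/
theorem p11_7 (hG : IsMinSimpleOddOrder G) (h3 : P11_3 G) (h5 : P11_5 G) (h6 : P11_6 G)
    (hF : PFpf G) (h9 : P10_9 G) (h9c : P10_9c G) : P11_7 G := by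
  intro M p A₀ A hE
  have _h5 := h5
  exact Cfsg.Agent.Lib.helper8.exc_frattini hG h6 hE
    (fun k hk a ha => (bgz_gen hG h3 h6 hF h9 h9c hE hk).2 a ha)

end Cfsg.Agent.Lib.helper36
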