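import Mathlib
import Cfsg.Agent.S1416
import Cfsg.Agent.S1417
import Cfsg.Agent.Lib.helper97.BGSeven4
import Cfsg.Agent.Lib.helper97.BGEightDefs
import Cfsg.Agent.Lib.helper30.AutElemAb
import Cfsg.Agent.Lib.helper71.BGTenB

/-!
# S1421, PIECE PAD (helper36): `bg8_exists_cyclic` and `bg8_comm_le_cent`

* `bg8_teich_core`, `bg8_inv_cyclic_lift`: Teichmüller averaging -- an `E`-invariant cyclic subgroup
  of an abelian normal Sylow `p`-subgroup lying over a given `E`-invariant subgroup of order `p`.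
* `bg8_comm_le_cent`: `N_G(A)' ≤ C_G(A)` in the abelian Sylow situation.
* `bg8_exists_cyclic`: the `E`-invariant cyclic `D ≤ S` with the exponent of `S`, regular on `M_σ`.
-/

set_option autoImplicit false

namespace Cfsg.Agent.Lib.helper36

open Cfsg Subgroup
open Cfsg.Agent.Lib.helper97 Cfsg.Agent.Lib.helper8


/-- `x ≡ y [MOD p]` implies `x ^ p ^ a ≡ y ^ p ^ a [MOD p ^ (a + 1)]`. -/
theorem bg8_teich_modEq (p a x y : ℕ) (h : x ≡ y [MOD p]) :
    x ^ p ^ a ≡ y ^ p ^ a [MOD p ^ (a + 1)] := by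
  have h1 : (p : ℤ) ∣ (x : ℤ) - (y : ℤ) := by
    have h0 : (y : ℤ) ≡ (x : ℤ) [ZMOD (p : ℤ)] := Int.natCast_modEq_iff.mpr h.symm
    exact Int.modEq_iff_dvd.mp h0
  have h2 := dvd_sub_pow_of_dvd_sub h1 a
  have h3 : ((y ^ p ^ a : ℕ) : ℤ) ≡ ((x ^ p ^ a : ℕ) : ℤ) [ZMOD ((p ^ (a + 1) : ℕ) : ℤ)] := by
    rw [Int.modEq_iff_dvd]
    push_cast
    exact h2
  exact (Int.natCast_modEq_iff.mp h3).symm

theorem bg8_pow_congr {H : Type*} [Monoid H] {x : H} {N m n : ℕ} (hx : x ^ N = 1)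
    (h : m ≡ n [MOD N]) : x ^ m = x ^ n := by
  rw [pow_eq_pow_mod m hx, pow_eq_pow_mod n hx, h]

/-- Teichmüller averaging: a finite group `H` of order prime to `p` acting on an abelian group `V`
of exponent dividing `p ^ (a + 1)` and normalizing the subgroup generated by `z = u ^ p ^ a`
(of order `p`) normalizes a cyclic subgroup `⟨v⟩` with `v ^ p ^ a = z ^ |H|`. -/
theorem bg8_teich_core {V H : Type*} [CommGroup V] [Group H] [Fintype H] (φ : H →* MulAut V)
    (p a : ℕ) [Fact p.Prime] (hexp : ∀ v : V, v ^ (p ^ (a + 1)) = 1)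
    (z u : V) (hzo : orderOf z = p) (huz : u ^ (p ^ a) = z)
    (κ : H → ℕ) (hκ : ∀ h : H, φ h z = z ^ κ h) :
    ∃ v : V, v ^ (p ^ a) = z ^ Fintype.card H ∧ ∀ g : H, ∃ k : ℕ, φ g v = v ^ k := by
  classical
  have hκmul : ∀ g h : H, κ (g * h) ≡ κ g * κ h [MOD p] := by
    intro g h
    have h1 : z ^ κ (g * h) = z ^ (κ g * κ h) := by
      rw [← hκ (g * h), map_mul, MulAut.mul_apply, hκ h, map_pow, hκ g, ← pow_mul]
    have h2 := pow_eq_pow_iff_modEq.mp h1
    rwa [hzo] at h2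
  have hκone : κ 1 ≡ 1 [MOD p] := by
    have h1 : z ^ κ 1 = z ^ 1 := by
      rw [← hκ 1, map_one, MulAut.one_apply, pow_one]
    have h2 := pow_eq_pow_iff_modEq.mp h1
    rwa [hzo] at h2
  let t : H → ℕ := fun h => κ h ^ p ^ a
  let F : H → V := fun h => φ h⁻¹ u
  refine ⟨∏ h : H, F h ^ t h, ?_, ?_⟩
  · rw [← Finset.prod_pow]
    have hterm : ∀ h : H, (F h ^ t h) ^ p ^ a = z := by
      intro h
      have h1 : (F h) ^ p ^ a = z ^ κ h⁻¹ := by
        show (φ h⁻¹ u) ^ p ^ a = _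
        rw [← map_pow, huz, hκ]
      rw [← pow_mul, mul_comm, pow_mul, h1, ← pow_mul]
      have h2 : κ h⁻¹ * t h ≡ 1 [MOD p] := by
        have h3 : t h ≡ κ h [MOD p] := by
          show κ h ^ p ^ a ≡ κ h [MOD p]
          rw [← ZMod.natCast_eq_natCast_iff]
          push_cast
          exact ZMod.pow_card_pow _
        calc κ h⁻¹ * t h ≡ κ h⁻¹ * κ h [MOD p] := Nat.ModEq.mul_left _ h3
          _ ≡ κ (h⁻¹ * h) [MOD p] := (hκmul h⁻¹ h).symm
          _ ≡ 1 [MOD p] := by rw [inv_mul_cancel]; exact hκone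
      have h4 : z ^ (κ h⁻¹ * t h) = z ^ 1 := by
        rw [pow_eq_pow_iff_modEq, hzo]; exact h2
      rw [h4, pow_one]
    rw [Finset.prod_congr rfl (fun h _ => hterm h), Finset.prod_const, Finset.card_univ]
  · intro g
    refine ⟨t g, ?_⟩
    rw [map_prod]
    have h1 : ∀ h : H, φ g (F h ^ t h) = F (h * g⁻¹) ^ t h := by
      intro h
      rw [map_pow]
      congr 1
      show φ g (φ h⁻¹ u) = φ (h * g⁻¹)⁻¹ u
      rw [← MulAut.mul_apply, ← map_mul]
      congr 2
      group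
    rw [Finset.prod_congr rfl (fun h _ => h1 h), ← Finset.prod_pow]
    refine Fintype.prod_equiv (Equiv.mulRight g⁻¹) _ _ ?_
    intro h
    show F (h * g⁻¹) ^ t h = (F (h * g⁻¹) ^ t (h * g⁻¹)) ^ t g
    rw [← pow_mul]
    apply bg8_pow_congr (hexp _)
    have h2 : κ h ≡ κ (h * g⁻¹) * κ g [MOD p] := by
      have := hκmul (h * g⁻¹) g
      rwa [inv_mul_cancel_right] at this
    have h3 := bg8_teich_modEq p a _ _ h2
    rw [mul_pow] at h3
    exact h3

/-- The conjugation action of `E ≤ N(P)` on `P`. -/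
def bg8ConjHom {G : Type*} [Group G] (E P : Subgroup G) (hPn : E ≤ normalizer (P : Set G)) :
    ↥E →* MulAut ↥P where
  toFun e :=
    { toFun := fun x => ⟨(e : G) * x * (e : G)⁻¹, (mem_normalizer_iff.mp (hPn e.2) x).mp x.2⟩
      invFun := fun x => ⟨(e : G)⁻¹ * x * (e : G), by
        have := (mem_normalizer_iff.mp (hPn (E.inv_mem e.2)) x).mp x.2
        simpa using this⟩
      left_inv := fun x => by ext; simp [mul_assoc]
      right_inv := fun x => by ext; simp [mul_assoc]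
      map_mul' := fun x y => by ext; simp [mul_assoc] }
  map_one' := by ext x; simp
  map_mul' := fun e f => by ext x; simp [mul_assoc]

theorem bg8ConjHom_apply {G : Type*} [Group G] (E P : Subgroup G)
    (hPn : E ≤ normalizer (P : Set G)) (e : ↥E) (x : ↥P) :
    ((bg8ConjHom E P hPn e x : ↥P) : G) = (e : G) * x * (e : G)⁻¹ := rfl

open scoped IsMulCommutative in
/-- An `E`-invariant cyclic subgroup of the abelian normal Sylow `p`-subgroup `P` of `E` lying
over a given `E`-invariant subgroup `L` of order `p` (Teichmüller averaging). -/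
theorem bg8_inv_cyclic_lift {G : Type*} [Group G] [Finite G] (p a : ℕ) [hp : Fact p.Prime]
    (E P L : Subgroup G)
    (_hPE : P ≤ E) (hPn : E ≤ normalizer (P : Set G)) (hPc : ∀ x ∈ P, ∀ y ∈ P, x * y = y * x)
    (hPp : IsPGroup p P) (hSyl : ¬ p ∣ P.relIndex E)
    (hexp : ∀ x ∈ P, x ^ (p ^ (a + 1)) = 1)
    (hLc : Nat.card L = p) (hLn : E ≤ normalizer (L : Set G))
    (u : G) (hu : u ∈ P) (huL : u ^ (p ^ a) ∈ L) (hu1 : u ^ (p ^ a) ≠ 1) :
    ∃ v ∈ P, v ^ (p ^ a) ∈ L ∧ v ^ (p ^ a) ≠ 1 ∧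
      E ≤ normalizer ((zpowers v : Subgroup G) : Set G) := by
  classical
  have hpp : p.Prime := hp.out
  set z : G := u ^ (p ^ a) with hz
  have hzp : z ^ p = 1 := by
    have h1 : (⟨z, huL⟩ : L) ^ p = 1 := by
      rw [← hLc]; exact pow_card_eq_one'
    exact congrArg Subtype.val h1
  have hzo : orderOf z = p := orderOf_eq_prime hzp hu1
  have hLz : zpowers z = L := by
    apply Subgroup.eq_of_le_of_card_ge (zpowers_le.mpr huL)
    rw [Nat.card_zpowers, hzo, hLc]
  -- the commutative group `P`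
  haveI : IsMulCommutative ↥P := ⟨⟨fun x y => Subtype.ext (hPc x x.2 y y.2)⟩⟩
  -- Schur–Zassenhaus complement of `P` in `E`
  haveI hPnorm : (P.subgroupOf E).Normal := Subgroup.normal_subgroupOf_of_le_normalizer hPn
  have hcop : (Nat.card (P.subgroupOf E)).Coprime (P.subgroupOf E).index := by
    have h1 : IsPGroup p (P.subgroupOf E) :=
      hPp.comap_of_injective E.subtype E.subtype_injective
    obtain ⟨n, hn⟩ := IsPGroup.iff_card.mp h1
    rw [hn]
    exact Nat.Coprime.pow_left n ((Nat.Prime.coprime_iff_not_dvd hpp).mpr hSyl)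
  obtain ⟨H, hH⟩ := Subgroup.exists_right_complement'_of_coprime hcop
  have hHcard : Nat.card H = (P.subgroupOf E).index := (hH.symm.index_eq_card).symm
  have hHp : ¬ p ∣ Nat.card H := by rw [hHcard]; exact hSyl
  haveI : Fintype ↥H := Fintype.ofFinite _
  let φ : ↥H →* MulAut ↥P := (bg8ConjHom E P hPn).comp H.subtype
  let z' : ↥P := (⟨u, hu⟩ : ↥P) ^ (p ^ a)
  have hz'coe : (z' : G) = z := rfl
  have hz'o : orderOf z' = p := by
    rw [← hzo, ← hz'coe]
    exact (Subgroup.orderOf_coe z').symm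
  have hκ : ∀ h : ↥H, ∃ k : ℕ, φ h z' = z' ^ k := by
    intro h
    have h1 : ((h : ↥E) : G) * z * ((h : ↥E) : G)⁻¹ ∈ L :=
      (mem_normalizer_iff.mp (hLn (h : ↥E).2) z).mp huL
    rw [← hLz] at h1
    obtain ⟨k, hk⟩ := mem_zpowers_iff.mp h1
    refine ⟨(k % (p : ℤ)).toNat, ?_⟩
    apply Subtype.ext
    show ((h : ↥E) : G) * (z' : G) * ((h : ↥E) : G)⁻¹ = ((z' ^ (k % (p : ℤ)).toNat : ↥P) : G)
    rw [hz'coe, ← hk, Subgroup.coe_pow, hz'coe]
    have h2 : z ^ k = z ^ (k % (orderOf z : ℤ)) := (zpow_mod_orderOf z k).symm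
    rw [h2, hzo, ← zpow_natCast]
    congr 1
    exact (Int.toNat_of_nonneg (Int.emod_nonneg k (by exact_mod_cast hpp.ne_zero))).symm
  choose κ hκ using hκ
  obtain ⟨v', hv'pow, hv'inv⟩ := bg8_teich_core φ p a
    (fun v => Subtype.ext (by rw [Subgroup.coe_pow]; exact hexp v v.2)) z' ⟨u, hu⟩ hz'o rfl κ hκ
  have hvpow : (v' : G) ^ (p ^ a) = z ^ Fintype.card ↥H := by
    have := congrArg Subtype.val hv'pow
    rwa [Subgroup.coe_pow, Subgroup.coe_pow, hz'coe] at this
  refine ⟨(v' : G), v'.2, ?_, ?_, ?_⟩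
  · rw [hvpow]; exact L.pow_mem huL _
  · rw [hvpow]
    intro h1
    have h2 := orderOf_dvd_of_pow_eq_one h1
    rw [hzo, ← Nat.card_eq_fintype_card] at h2
    exact hHp h2
  · -- invariance
    have hconj : ∀ e ∈ E, ∃ k : ℕ, e * (v' : G) * e⁻¹ = (v' : G) ^ k := by
      intro e he
      obtain ⟨⟨s, h⟩, hsh, -⟩ := (Subgroup.isComplement'_def.mp hH).existsUnique (⟨e, he⟩ : ↥E)
      obtain ⟨k, hk⟩ := hv'inv h
      refine ⟨k, ?_⟩
      have he' : e = ((s : ↥E) : G) * ((h : ↥E) : G) := by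
        have := congrArg Subtype.val hsh
        simpa using this.symm
      have hk' : ((h : ↥E) : G) * (v' : G) * ((h : ↥E) : G)⁻¹ = (v' : G) ^ k := by
        have := congrArg Subtype.val hk
        rwa [Subgroup.coe_pow] at this
      have hsP : ((s : ↥E) : G) ∈ P := Subgroup.mem_subgroupOf.mp s.2
      have hcomm : ((s : ↥E) : G) * (v' : G) ^ k = (v' : G) ^ k * ((s : ↥E) : G) :=
        hPc _ hsP _ (P.pow_mem v'.2 k)
      rw [he']
      calc ((s : ↥E) : G) * ((h : ↥E) : G) * (v' : G) * (((s : ↥E) : G) * ((h : ↥E) : G))⁻¹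
          = ((s : ↥E) : G) * (((h : ↥E) : G) * (v' : G) * ((h : ↥E) : G)⁻¹) * ((s : ↥E) : G)⁻¹ := by
            group
        _ = ((s : ↥E) : G) * (v' : G) ^ k * ((s : ↥E) : G)⁻¹ := by rw [hk']
        _ = (v' : G) ^ k := by rw [hcomm, mul_inv_cancel_right]
    have hinto : ∀ e ∈ E, ∀ x ∈ zpowers (v' : G), e * x * e⁻¹ ∈ zpowers (v' : G) := by
      intro e he x hx
      obtain ⟨j, rfl⟩ := mem_zpowers_iff.mp hx
      obtain ⟨k, hk⟩ := hconj e he
      have : e * (v' : G) ^ j * e⁻¹ = (e * (v' : G) * e⁻¹) ^ j := by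
        rw [conj_zpow]
      rw [this, hk]
      exact (zpowers (v' : G)).zpow_mem ((zpowers (v' : G)).pow_mem (mem_zpowers _) k) j
    intro e he
    rw [mem_normalizer_iff]
    intro x
    refine ⟨hinto e he x, fun hx => ?_⟩
    have := hinto e⁻¹ (E.inv_mem he) _ hx
    simpa [mul_assoc] using this


variable {G : Type*} [Group G]

theorem bg8_le_normalizer_of_conj_mem {N A : Subgroup G}
    (h : ∀ g ∈ N, ∀ a ∈ A, g * a * g⁻¹ ∈ A) : N ≤ normalizer (A : Set G) := by
  intro g hg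
  rw [mem_normalizer_iff]
  intro x
  refine ⟨h g hg x, fun hx => ?_⟩
  have := h g⁻¹ (N.inv_mem hg) _ hx
  simpa [mul_assoc] using this

/-- `N_G(A)' ≤ C_G(A)` in the abelian Sylow situation. -/
theorem bg8_comm_le_cent [Finite G] (hG : IsMinSimpleOddOrder G)
    {M E A : Subgroup G} {p : ℕ} [Fact p.Prime] {S : Sylow p G} (c : BG8Ctx M E A p S) :
    ∀ x ∈ Subgroup.normalizer (A : Set G), ∀ y ∈ Subgroup.normalizer (A : Set G),
      x * y * x⁻¹ * y⁻¹ ∈ Subgroup.centralizer (A : Set G) := by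
  obtain ⟨hodd, hsimple, hna, hsolv⟩ := id hG
  have hpp : p.Prime := Fact.out
  obtain ⟨hAE, hAe, hA2⟩ := c.hA
  have hAel := (bg_elemAb_iff A).mp hAe
  have hp2 : p ≠ 2 := by
    rintro rfl
    have h1 : Nat.card A ∣ Nat.card G := Subgroup.card_subgroup_dvd_card A
    rw [hA2] at h1
    have h2 : 2 ∣ Nat.card G := (dvd_pow_self 2 (by norm_num)).trans h1
    exact (Nat.not_even_iff_odd.mpr hodd) (even_iff_two_dvd.mpr h2)
  have hA1 : A ≠ ⊥ := by
    rintro rfl
    rw [Subgroup.card_bot] at hA2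
    have := hpp.one_lt
    nlinarith [pow_pos hpp.pos 2]
  have hAtop : A ≠ ⊤ := by
    rintro rfl
    apply hna
    rw [isMulCommutative_iff]
    intro a b
    exact hAel.1 a (Subgroup.mem_top a) b (Subgroup.mem_top b)
  set N : Subgroup G := normalizer (A : Set G) with hN
  have hNtop : N ≠ ⊤ := bg7_normalizer_ne_top hG hA1 hAtop
  haveI : Group.IsSolvable ↥N := hsolv N hNtop
  have hNodd : Odd (Nat.card ↥N) :=
    Odd.of_dvd_nat hodd (Subgroup.card_subgroup_dvd_card N)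
  haveI hAn : (A.subgroupOf N).Normal := Subgroup.normal_subgroupOf_of_le_normalizer le_rfl
  have hcomm : ∀ a b : ↥(A.subgroupOf N), a * b = b * a := by
    intro a b
    apply Subtype.ext; apply Subtype.ext
    exact hAel.1 _ (Subgroup.mem_subgroupOf.mp a.2) _ (Subgroup.mem_subgroupOf.mp b.2)
  have hexp : ∀ v : ↥(A.subgroupOf N), v ^ p = 1 := by
    intro v
    apply Subtype.ext; apply Subtype.ext
    simpa using hAel.2 _ (Subgroup.mem_subgroupOf.mp v.2)
  have hcard : Nat.card ↥(A.subgroupOf N) ∣ p ^ 2 := by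
    rw [Nat.card_congr (Subgroup.subgroupOfEquivOfLe (Subgroup.le_normalizer : A ≤ N)).toEquiv, hA2]
  have key := Cfsg.Agent.Lib.helper30.mulAut_commutator_pow p hp2 hcomm hexp hcard hNodd
    (MulAut.conjNormal : ↥N →* MulAut ↥(A.subgroupOf N))
  -- `S ≤ C_G(A) ≤ N`
  have hSC : (S : Subgroup G) ≤ centralizer (A : Set G) := by
    intro s hs
    rw [Subgroup.mem_centralizer_iff]
    intro a ha
    exact c.hSab a (c.hAS ha) s hs
  have hCN : centralizer (A : Set G) ≤ N := Subgroup.centralizer_le_normalizer (A : Set G)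
  -- the centralizer is normal in `N` with index prime to `p`
  haveI hCn : ((centralizer (A : Set G)).subgroupOf N).Normal := by
    apply Subgroup.normal_subgroupOf_of_le_normalizer
    apply bg8_le_normalizer_of_conj_mem
    intro n hn g hg
    rw [Subgroup.mem_centralizer_iff] at hg ⊢
    intro a ha
    have h1 : n⁻¹ * a * n ∈ A := by
      have := (mem_normalizer_iff.mp (N.inv_mem hn) a).mp ha
      simpa using this
    have h2 := hg _ h1
    calc a * (n * g * n⁻¹) = n * ((n⁻¹ * a * n) * g) * n⁻¹ := by group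
      _ = n * (g * (n⁻¹ * a * n)) * n⁻¹ := by rw [h2]
      _ = n * g * n⁻¹ * a := by group
  have hidx : ¬ p ∣ ((centralizer (A : Set G)).subgroupOf N).index := by
    intro hdvd
    have h1 : (centralizer (A : Set G)).relIndex N ∣ (S : Subgroup G).relIndex N :=
      Subgroup.relIndex_dvd_of_le_left N hSC
    have h2 : (S : Subgroup G).relIndex N ∣ (S : Subgroup G).index :=
      Subgroup.relIndex_dvd_index_of_le (hSC.trans hCN)
    exact S.not_dvd_index (hdvd.trans (h1.trans h2))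
  intro x hx y hy
  set cc : ↥N := (⟨x, hx⟩ : ↥N) * ⟨y, hy⟩ * (⟨x, hx⟩ : ↥N)⁻¹ * (⟨y, hy⟩ : ↥N)⁻¹ with hcc
  have hccmem : cc ∈ commutator ↥N := by
    rw [_root_.commutator_def]
    have := Subgroup.commutator_mem_commutator (Subgroup.mem_top (⟨x, hx⟩ : ↥N))
      (Subgroup.mem_top (⟨y, hy⟩ : ↥N))
    rwa [commutatorElement_def] at this
  have h1 : (MulAut.conjNormal cc : MulAut ↥(A.subgroupOf N)) ^ p = 1 := key cc hccmem
  -- `cc ^ p` centralizes `A`
  have h2 : cc ^ p ∈ (centralizer (A : Set G)).subgroupOf N := by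
    rw [Subgroup.mem_subgroupOf, Subgroup.mem_centralizer_iff]
    intro a ha
    have h3 : (MulAut.conjNormal (cc ^ p) : MulAut ↥(A.subgroupOf N)) = 1 := by
      rw [map_pow]; exact h1
    have h4 := congrArg (fun f : MulAut ↥(A.subgroupOf N) =>
      (((f ⟨⟨a, Subgroup.le_normalizer ha⟩, Subgroup.mem_subgroupOf.mpr ha⟩ :
        ↥(A.subgroupOf N)) : ↥N) : G)) h3
    simp only [MulAut.conjNormal_apply, MulAut.one_apply] at h4
    have h5 : ((cc ^ p : ↥N) : G) * a * ((cc ^ p : ↥N) : G)⁻¹ = a := by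
      simpa using h4
    calc a * ((cc ^ p : ↥N) : G) = ((cc ^ p : ↥N) : G) * a * ((cc ^ p : ↥N) : G)⁻¹ * ((cc ^ p : ↥N) : G) := by
          rw [h5]
      _ = ((cc ^ p : ↥N) : G) * a := by group
  have h3 : cc ^ ((centralizer (A : Set G)).subgroupOf N).index ∈
      (centralizer (A : Set G)).subgroupOf N := Subgroup.pow_index_mem _ cc
  have hcop : Nat.Coprime p ((centralizer (A : Set G)).subgroupOf N).index :=
    (Nat.Prime.coprime_iff_not_dvd hpp).mpr hidx
  have h4 : cc ∈ (centralizer (A : Set G)).subgroupOf N := by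
    have h5 : cc ^ (Nat.gcd p ((centralizer (A : Set G)).subgroupOf N).index) ∈
        (centralizer (A : Set G)).subgroupOf N := by
      rw [← zpow_natCast, Nat.gcd_eq_gcd_ab, zpow_add, zpow_mul, zpow_mul]
      exact Subgroup.mul_mem _ (Subgroup.zpow_mem _ (by simpa using h2) _)
        (Subgroup.zpow_mem _ (by simpa using h3) _)
    rw [hcop, pow_one] at h5
    exact h5
  have h5 : (cc : G) ∈ centralizer (A : Set G) := Subgroup.mem_subgroupOf.mp h4
  have h6 : (cc : G) = x * y * x⁻¹ * y⁻¹ := rfl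
  rw [← h6]
  exact h5

theorem bg8_zpowers_eq_of_card [Finite G] {p : ℕ} [Fact p.Prime] {L : Subgroup G}
    (hL : Nat.card L = p) {x : G} (hx : x ∈ L) (hx1 : x ≠ 1) : zpowers x = L := by
  have hxp : x ^ p = 1 := by
    have h1 : (⟨x, hx⟩ : L) ^ p = 1 := by
      rw [← hL]; exact pow_card_eq_one'
    exact congrArg Subtype.val h1
  apply Subgroup.eq_of_le_of_card_ge (zpowers_le.mpr hx)
  rw [Nat.card_zpowers, orderOf_eq_prime hxp hx1, hL]

/-- PIECE PAD of S1421: an `E`-invariant cyclic subgroup `D` of the abelian Sylow `p`-subgroup `S`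
with the same exponent as `S`, all of whose non-identity elements act regularly on `M_σ`. -/
theorem bg8_exists_cyclic [Finite G] (hG : IsMinSimpleOddOrder G)
    {M E A : Subgroup G} {p : ℕ} [Fact p.Prime] {S : Sylow p G} (c : BG8Ctx M E A p S)
    (hSE : (S : Subgroup G) ≤ E)
    (hNS : Subgroup.normalizer (A : Set G) ≤ Subgroup.normalizer ((S : Subgroup G) : Set G))
    (Y : Subgroup G) (hYA : Y ≤ A) (hYc : Nat.card Y = p)
    (hYE : E ≤ Subgroup.normalizer (Y : Set G)) :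
    ∃ D : Subgroup G, D ≤ (S : Subgroup G) ∧ IsCyclic D ∧ E ≤ Subgroup.normalizer (D : Set G) ∧
      (∀ s ∈ (S : Subgroup G), s ^ Nat.card D = 1) ∧ ∀ d ∈ D, d ≠ 1 → BG8Reg M d := by
  obtain ⟨hodd, hsimple, hna, hsolv⟩ := id hG
  haveI := hsimple
  have hpp : p.Prime := Fact.out
  have hM := c.hM
  have hE := c.hE
  have hp := c.hp
  obtain ⟨hAE, hAe, hA2⟩ := c.hA
  have hAel := (bg_elemAb_iff A).mp hAe
  have h16 : BGTwelveFourHyp G := fun M hM p _ A hA => Cfsg.Agent.S1416.result hG M hM p A hA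
  have h17 : BG7FiveHyp G := fun M hM p _ hp A hA => Cfsg.Agent.S1417.result hG M hM p hp A hA
  have h18 := bg7_six_of hG h16 h17
  obtain ⟨⟨hEA, -⟩, ⟨hCA, hMN, hNM⟩, hbad⟩ := h18 M hM E hE p hp A c.hA
  have hEM : E ≤ M := hE.1
  have hAM : A ≤ M := hAE.trans hEM
  have hSM : (S : Subgroup G) ≤ M := hSE.trans hEM
  have hA1 : A ≠ ⊥ := by
    rintro rfl
    rw [Subgroup.card_bot] at hA2
    have := hpp.one_lt
    nlinarith [pow_pos hpp.pos 2]
  have hM1 : M ≠ ⊥ := by
    rintro rfl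
    exact hA1 (le_bot_iff.mp hAM)
  have hNMself : normalizer (M : Set G) = M :=
    Cfsg.Agent.Lib.helper71.BGA.normalizer_eq_of_isCoatom hM hM1
  -- `Ω₁(S) ≤ A`
  have hΩ : ∀ x ∈ (S : Subgroup G), x ^ p = 1 → x ∈ A := by
    obtain ⟨-, h2, -⟩ := h17 M hM p hp A ⟨hAM, hAe, hA2⟩
    have hmap : ((S.subtype hSM : Sylow p ↥M) : Subgroup ↥M).map M.subtype = (S : Subgroup G) := by
      rw [Sylow.coe_subtype, Subgroup.subgroupOf_map_subtype, inf_of_le_left hSM]
    have h3 := (h2 (S.subtype hSM)).2 (by rw [hmap]; exact c.hAS)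
    intro x hx hxp
    exact (h3.1 x (by rw [hmap]; exact hx)).mp hxp
  obtain ⟨n, hnN, hnM⟩ := SetLike.not_le_iff_exists.mp hNM
  have hcomm := bg8_comm_le_cent hG c
  -- `E` is normal in `N_G(A)`
  have hEN : ∀ g ∈ normalizer (A : Set G), ∀ e ∈ E, g * e * g⁻¹ ∈ E := by
    intro g hg e he
    have h1 : g * e * g⁻¹ * e⁻¹ ∈ centralizer (A : Set G) := hcomm g hg e (hEA he)
    have h2 : g * e * g⁻¹ * e⁻¹ ∈ E := by
      rw [← hMN]; exact hCA h1
    have h3 : g * e * g⁻¹ = (g * e * g⁻¹ * e⁻¹) * e := by group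
    rw [h3]; exact E.mul_mem h2 he
  -- the TI argument: a conjugate by `n ∉ M` of a nonregular line is regular
  have hTI : ∀ X X' : Subgroup G, X ≤ A → Nat.card X = p → X' ≤ A → Nat.card X' = p →
      (∀ x ∈ X, n * x * n⁻¹ ∈ X') → sigmaCore M ⊓ centralizer (X : Set G) ≠ ⊥ →
      sigmaCore M ⊓ centralizer (X' : Set G) = ⊥ := by
    intro X X' hXA hXc hX'A hX'c hXX' hXbad
    by_contra hX'bad
    obtain ⟨hCX, -⟩ := hbad X hXA hXc hXbad
    obtain ⟨-, huniq⟩ := hbad X' hX'A hX'c hX'bad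
    have hL : IsCoatom (M.map (MulAut.conj n).toMonoidHom) :=
      Cfsg.Agent.Lib.helper71.BGA.isCoatom_map_conj hM n
    have hle : centralizer (X' : Set G) ≤ M.map (MulAut.conj n).toMonoidHom := by
      intro g hg
      have h1 : n⁻¹ * g * n ∈ centralizer (X : Set G) := by
        rw [Subgroup.mem_centralizer_iff] at hg ⊢
        intro x hx
        have h2 := hg _ (hXX' x hx)
        calc x * (n⁻¹ * g * n) = n⁻¹ * ((n * x * n⁻¹) * g) * n := by group
          _ = n⁻¹ * (g * (n * x * n⁻¹)) * n := by rw [h2]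
          _ = n⁻¹ * g * n * x := by group
      refine ⟨n⁻¹ * g * n, hCX h1, ?_⟩
      simp [MulAut.conj_apply, mul_assoc]
    have heq := huniq _ hL hle
    apply hnM
    rw [← hNMself, mem_normalizer_iff]
    intro h
    constructor
    · intro hh
      have h1 : n * h * n⁻¹ ∈ M.map (MulAut.conj n).toMonoidHom :=
        ⟨h, hh, by simp [MulAut.conj_apply]⟩
      rwa [heq] at h1
    · intro hh
      have h1 : n * h * n⁻¹ ∈ M.map (MulAut.conj n).toMonoidHom := by rwa [heq]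
      obtain ⟨m, hm, hmh⟩ := h1
      have h2 : n * m * n⁻¹ = n * h * n⁻¹ := by simpa [MulAut.conj_apply] using hmh
      have h3 : m = h := mul_left_cancel (mul_right_cancel h2)
      rw [← h3]; exact hm
  -- a regular `E`-invariant line
  obtain ⟨L₀, hL₀A, hL₀c, hL₀E, hL₀g⟩ : ∃ L₀ : Subgroup G, L₀ ≤ A ∧ Nat.card L₀ = p ∧
      E ≤ normalizer (L₀ : Set G) ∧ sigmaCore M ⊓ centralizer (L₀ : Set G) = ⊥ := by
    by_cases hY : sigmaCore M ⊓ centralizer (Y : Set G) = ⊥
    · exact ⟨Y, hYA, hYc, hYE, hY⟩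
    · have hY'A : Y.map (MulAut.conj n).toMonoidHom ≤ A := by
        rintro _ ⟨y, hy, rfl⟩
        exact (mem_normalizer_iff.mp hnN y).mp (hYA hy)
      have hY'c : Nat.card (Y.map (MulAut.conj n).toMonoidHom) = p := by
        rw [Subgroup.card_map_of_injective (MulAut.conj n).injective]; exact hYc
      refine ⟨Y.map (MulAut.conj n).toMonoidHom, hY'A, hY'c, ?_, ?_⟩
      · apply bg8_le_normalizer_of_conj_mem
        rintro e he _ ⟨y, hy, rfl⟩
        have h1 : n⁻¹ * e * n ∈ E := by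
          have := hEN n⁻¹ (inv_mem hnN) e he
          simpa using this
        have h2 : (n⁻¹ * e * n) * y * (n⁻¹ * e * n)⁻¹ ∈ Y :=
          (mem_normalizer_iff.mp (hYE h1) y).mp hy
        refine ⟨_, h2, ?_⟩
        simp only [MulEquiv.coe_toMonoidHom, MulAut.conj_apply]
        group
      · exact hTI Y _ hYA hYc hY'A hY'c (fun x hx => ⟨x, hx, by simp [MulAut.conj_apply]⟩) hY
  -- an element of maximal order of `S`
  haveI : Fintype ↥(S : Subgroup G) := Fintype.ofFinite _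
  obtain ⟨d0, -, hd0max⟩ := Finset.exists_max_image (Finset.univ : Finset ↥(S : Subgroup G))
    (fun s => orderOf (s : G)) ⟨1, Finset.mem_univ _⟩
  have hSp : IsPGroup p (S : Subgroup G) := S.isPGroup'
  have hord : ∀ s ∈ (S : Subgroup G), ∃ k, orderOf s = p ^ k := by
    intro s hs
    obtain ⟨k, hk⟩ := hSp ⟨s, hs⟩
    have h1 : s ^ p ^ k = 1 := congrArg Subtype.val hk
    obtain ⟨j, -, hj⟩ := (Nat.dvd_prime_pow hpp).mp (orderOf_dvd_of_pow_eq_one h1)
    exact ⟨j, hj⟩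
  obtain ⟨k0, hk0⟩ := hord d0 d0.2
  obtain ⟨⟨a0, ha0A⟩, ha01'⟩ := Subgroup.ne_bot_iff_exists_ne_one.mp hA1
  have ha01 : a0 ≠ 1 := fun h => ha01' (Subtype.ext h)
  have ha0o : orderOf a0 = p := orderOf_eq_prime (hAel.2 a0 ha0A) ha01
  have hk0pos : k0 ≠ 0 := by
    rintro rfl
    have h1 := hd0max ⟨a0, c.hAS ha0A⟩ (Finset.mem_univ _)
    simp only at h1
    rw [ha0o, hk0, pow_zero] at h1
    have := hpp.one_lt
    omega
  obtain ⟨a, rfl⟩ := Nat.exists_eq_succ_of_ne_zero hk0pos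
  have hexp : ∀ s ∈ (S : Subgroup G), s ^ p ^ (a + 1) = 1 := by
    intro s hs
    obtain ⟨j, hj⟩ := hord s hs
    have h1 := hd0max ⟨s, hs⟩ (Finset.mem_univ _)
    simp only at h1
    rw [hj, hk0] at h1
    have h2 : j ≤ a + 1 := (Nat.pow_le_pow_iff_right hpp.one_lt).mp h1
    rw [← orderOf_dvd_iff_pow_eq_one, hj]
    exact pow_dvd_pow p h2
  set z0 : G := (d0 : G) ^ p ^ a with hz0
  have hz01 : z0 ≠ 1 := by
    intro h1
    have h2 := orderOf_dvd_of_pow_eq_one h1
    rw [hk0] at h2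
    have := (Nat.pow_dvd_pow_iff_le_right hpp.one_lt).mp h2
    omega
  have hz0p : z0 ^ p = 1 := by
    rw [hz0, ← pow_mul, ← pow_succ]; exact hexp d0 d0.2
  have hz0S : z0 ∈ (S : Subgroup G) := Subgroup.pow_mem _ d0.2 _
  -- the line and the element to lift
  obtain ⟨L', u, hL'A, hL'c, hL'E, hL'g, huS, huL, hu1⟩ : ∃ (L' : Subgroup G) (u : G), L' ≤ A ∧
      Nat.card L' = p ∧ E ≤ normalizer (L' : Set G) ∧
      sigmaCore M ⊓ centralizer (L' : Set G) = ⊥ ∧ u ∈ (S : Subgroup G) ∧ u ^ p ^ a ∈ L' ∧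
      u ^ p ^ a ≠ 1 := by
    by_cases hex : ∃ u ∈ (S : Subgroup G), u ^ p ^ a ∈ L₀ ∧ u ^ p ^ a ≠ 1
    · obtain ⟨u, huS, huL, hu1⟩ := hex
      exact ⟨L₀, u, hL₀A, hL₀c, hL₀E, hL₀g, huS, huL, hu1⟩
    · let I : Subgroup G :=
        { carrier := {x | ∃ u ∈ (S : Subgroup G), u ^ p ^ a = x}
          mul_mem' := by
            rintro _ _ ⟨u, hu, rfl⟩ ⟨v, hv, rfl⟩
            exact ⟨u * v, Subgroup.mul_mem _ hu hv,
              (Commute.mul_pow (show Commute u v from c.hSab u hu v hv) _)⟩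
          one_mem' := ⟨1, Subgroup.one_mem _, one_pow _⟩
          inv_mem' := by
            rintro _ ⟨u, hu, rfl⟩
            exact ⟨u⁻¹, Subgroup.inv_mem _ hu, inv_pow _ _⟩ }
      have hIA : I ≤ A := by
        rintro _ ⟨u, hu, rfl⟩
        apply hΩ _ (Subgroup.pow_mem _ hu _)
        rw [← pow_mul, ← pow_succ]; exact hexp u hu
      have hz0I : z0 ∈ I := ⟨d0, d0.2, rfl⟩
      have hIN : normalizer (A : Set G) ≤ normalizer (I : Set G) := by
        apply bg8_le_normalizer_of_conj_mem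
        rintro g hg _ ⟨u, hu, rfl⟩
        refine ⟨g * u * g⁻¹, (mem_normalizer_iff.mp (hNS hg) u).mp hu, ?_⟩
        rw [conj_pow]
      have hIL : ∀ x ∈ I, x ∈ L₀ → x = 1 := by
        rintro _ ⟨u, hu, rfl⟩ hx
        by_contra h1
        exact hex ⟨u, hu, hx, h1⟩
      have hIc : Nat.card I = p := by
        obtain ⟨k, hk2, hk⟩ := (Nat.dvd_prime_pow hpp).mp (hA2 ▸ Subgroup.card_dvd_of_le hIA)
        interval_cases k
        · exfalso
          have h1 : I = ⊥ := Subgroup.eq_bot_of_card_eq I (by simpa using hk)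
          rw [h1] at hz0I
          exact hz01 (Subgroup.mem_bot.mp hz0I)
        · simpa using hk
        · exfalso
          have hIeq : I = A := Subgroup.eq_of_le_of_card_ge hIA (by rw [hk, hA2])
          have hL₀1 : L₀ ≠ ⊥ := by
            rintro rfl
            rw [Subgroup.card_bot] at hL₀c
            exact hpp.one_lt.ne hL₀c
          obtain ⟨⟨l, hl⟩, hl1⟩ := Subgroup.ne_bot_iff_exists_ne_one.mp hL₀1
          exact hl1 (Subtype.ext (hIL l (hIeq ▸ hL₀A hl) hl))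
      refine ⟨I, d0, hIA, hIc, hEA.trans hIN, ?_, d0.2, hz0I, hz01⟩
      by_contra hIbad
      exact hIbad (hTI I I hIA hIc hIA hIc
        (fun x hx => (mem_normalizer_iff.mp (hIN hnN) x).mp hx) hIbad)
  -- Teichmüller lift
  have hSyl : ¬ p ∣ (S : Subgroup G).relIndex E := fun hd =>
    S.not_dvd_index (hd.trans (Subgroup.relIndex_dvd_index_of_le hSE))
  obtain ⟨v, hvS, hvL, hv1, hvE⟩ := bg8_inv_cyclic_lift p a E (S : Subgroup G) L' hSE
    (hEA.trans hNS) c.hSab hSp hSyl hexp hL'c hL'E u huS huL hu1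
  have hvo : orderOf v = p ^ (a + 1) := by
    obtain ⟨j, hj, hjo⟩ := (Nat.dvd_prime_pow hpp).mp (orderOf_dvd_of_pow_eq_one (hexp v hvS))
    rcases Nat.lt_or_ge j (a + 1) with h1 | h1
    · exfalso
      apply hv1
      rw [← orderOf_dvd_iff_pow_eq_one, hjo]
      exact pow_dvd_pow p (by omega)
    · rw [hjo]; congr 1; omega
  have hL'eq : zpowers (v ^ p ^ a) = L' := bg8_zpowers_eq_of_card hL'c hvL hv1
  refine ⟨zpowers v, zpowers_le.mpr hvS, Subgroup.isCyclic_zpowers v, hvE, ?_, ?_⟩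
  · intro s hs
    rw [Nat.card_zpowers, hvo]; exact hexp s hs
  · intro d hd hd1
    show sigmaCore M ⊓ centralizer ({d} : Set G) = ⊥
    rw [eq_bot_iff]
    intro x hx
    obtain ⟨hxσ, hxc⟩ := hx
    obtain ⟨k, hk⟩ := hord d (zpowers_le.mpr hvS hd)
    have hkpos : k ≠ 0 := by
      rintro rfl
      rw [pow_zero, orderOf_eq_one_iff] at hk
      exact hd1 hk
    obtain ⟨k', rfl⟩ := Nat.exists_eq_succ_of_ne_zero hkpos
    set d' : G := d ^ p ^ k' with hd'
    have hd'1 : d' ≠ 1 := by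
      intro h1
      have h2 := orderOf_dvd_of_pow_eq_one h1
      rw [hk] at h2
      have := (Nat.pow_dvd_pow_iff_le_right hpp.one_lt).mp h2
      omega
    have hd'p : d' ^ p = 1 := by
      rw [hd', ← pow_mul, ← pow_succ, ← hk]; exact pow_orderOf_eq_one d
    have hd'L : d' ∈ L' := by
      have hd'D : d' ∈ zpowers v := Subgroup.pow_mem _ hd _
      obtain ⟨i, hi⟩ := mem_zpowers_iff.mp hd'D
      have h1 : v ^ (i * (p : ℤ)) = 1 := by
        rw [zpow_mul, hi, zpow_natCast]; exact hd'p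
      have h2 : ((p ^ (a + 1) : ℕ) : ℤ) ∣ i * (p : ℤ) := by
        rw [← hvo]; exact orderOf_dvd_iff_zpow_eq_one.mpr h1
      have h3 : ((p ^ a : ℕ) : ℤ) ∣ i := by
        rw [pow_succ] at h2
        push_cast at h2 ⊢
        exact Int.dvd_of_mul_dvd_mul_right (by exact_mod_cast hpp.ne_zero) h2
      obtain ⟨j, hj⟩ := h3
      rw [← hL'eq, ← hi, hj, zpow_mul, zpow_natCast]
      exact Subgroup.zpow_mem _ (mem_zpowers _) j
    have hL'd : zpowers d' = L' := bg8_zpowers_eq_of_card hL'c hd'L hd'1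
    have hxL : x ∈ centralizer (L' : Set G) := by
      rw [← hL'd, Subgroup.mem_centralizer_iff]
      intro y hy
      obtain ⟨i, rfl⟩ := mem_zpowers_iff.mp hy
      have h1 : d * x = x * d := (Subgroup.mem_centralizer_iff.mp hxc) d rfl
      have h2 : Commute d x := h1
      exact ((h2.pow_left _).zpow_left i).eq
    have h4 : x ∈ sigmaCore M ⊓ centralizer (L' : Set G) := ⟨hxσ, hxL⟩
    rw [hL'g] at h4
    exact h4

end Cfsg.Agent.Lib.helper36
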