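import Mathlib
import Cfsg.Agent.Lib.helper8.BGT3Defs
import Cfsg.Agent.Lib.helper90.BG1428S

/-!
S1430 (O-c), PIECE E3 (helper36): all `τ₃`-subgroups of prime order of `E` have the same
centralizer in `M_σ` (`t3_E3 : HE3 G`), from (A) `HNorm` and (X) `HCross`.
-/

set_option autoImplicit false
open Cfsg

namespace Cfsg.Agent.Lib.helper36.BGT3

open Cfsg.Agent.Lib.helper8.BGT3

variable {G : Type*} [Group G]

/-- one inclusion of E3 -/
theorem t3_E3_le [Finite G] (hG : IsMinSimpleOddOrder G) (hN : HNorm G) (hX : HCross G)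
    (M E R X : Subgroup G) (r s : ℕ) (hR : Ctx M E R r) (hXc : Ctx M E X s) :
    sigmaCore M ⊓ Subgroup.centralizer (R : Set G) ≤
      sigmaCore M ⊓ Subgroup.centralizer (X : Set G) := by
  obtain ⟨hM, hE, hr, hRE, hRc⟩ := hR
  obtain ⟨-, -, hs, hXE, hXcard⟩ := hXc
  have hrp : r.Prime := hr.1
  have hsp : s.Prime := hs.1
  obtain ⟨H, hH, hNH⟩ :=
    Cfsg.Agent.Lib.helper90.BG1428.s_exists_coatom_normalizer_le hG R r hrp hRc
  have h1 := hN M E R r ⟨hM, hE, hr, hRE, hRc⟩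
  have h2 := hN M E X s ⟨hM, hE, hs, hXE, hXcard⟩
  have hEH : E ≤ H := h1.1.trans hNH
  have hXH' : X ≤ ⁅H, H⁆ := h2.2.trans (Subgroup.commutator_mono hEH hEH)
  have hnt : Nat.card X ∉ tau1 H := by
    intro ht
    exact ht.2.2.2.1 (Subgroup.card_dvd_of_le hXH')
  have h3 := hX M E R r ⟨hM, hE, hr, hRE, hRc⟩ H hH hNH X hXE (by rw [hXcard]; exact hsp)
    (Or.inl hnt)
  exact le_inf inf_le_left h3

/-- PIECE E3. -/
theorem t3_E3 [Finite G] (hG : IsMinSimpleOddOrder G) (hN : HNorm G) (hX : HCross G) :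
    HE3 G := by
  intro M E R r hS X hXE hXt
  obtain ⟨hC, -⟩ := hS
  have hXc : Ctx M E X (Nat.card X) := ⟨hC.1, hC.2.1, hXt, hXE, rfl⟩
  exact le_antisymm (t3_E3_le hG hN hX M E X R _ r hXc hC) (t3_E3_le hG hN hX M E R X r _ hC hXc)

end Cfsg.Agent.Lib.helper36.BGT3
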