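import Mathlib
import Cfsg.Prelude.Def_Characters
import Cfsg.Prelude.Def_Blocks
import Cfsg.Agent.Lib.helper61.BT_BURN
import Cfsg.Agent.Lib.helper81.CharTools

/-!
# S4501 piece BV (`full_power_of_comm_sylow`), helper36

Burnside vanishing + abelian Sylow `r`-subgroup: an irreducible character of degree `r^i`
forces `r^(i+1) ∤ |G|`.
-/

set_option autoImplicit false

namespace Cfsg.Agent.Lib.helper36.BW

open Cfsg

universe u

variable {G : Type u} [Group G] [Finite G]

/-- BV : Burnside vanishing + abelian Sylow `r`-subgroup: an irreducible character of degree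
`r^i` forces `r^(i+1) ∤ |G|`. -/
theorem full_power_of_comm_sylow [IsSimpleGroup G] (hna : ∃ x y : G, x * y ≠ y * x) (r : ℕ)
    [Fact r.Prime] (Q : Sylow r G)
    (hab : ∀ x ∈ (Q : Subgroup G), ∀ y ∈ (Q : Subgroup G), x * y = y * x) (χ : IrrCharacter G)
    (hχ : (χ : G → ℂ) ≠ fun _ => 1) (i : ℕ) (hdeg : charDegree (χ : G → ℂ) = r ^ i) :
    ¬ r ^ (i + 1) ∣ Nat.card G := by
  classical
  have hr : r.Prime := Fact.out
  haveI : Fintype G := Fintype.ofFinite G
  intro hdvd
  -- `G` is not cyclic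
  have hG : ¬ IsCyclic G := by
    intro hc
    obtain ⟨x, y, hxy⟩ := hna
    exact hxy ((IsCyclic.isMulCommutative (α := G)).is_comm.comm x y)
  have hχ' : χ ≠ Cfsg.Agent.Lib.helper81.trivChar G := by
    intro h
    apply hχ
    rw [h]
    rfl
  -- vanishing on `Q ∖ 1`
  have hvan : ∀ y : G, y ∈ (Q : Subgroup G) → y ≠ 1 → (χ : G → ℂ) y = 0 := by
    intro y hy hy1
    apply Cfsg.Agent.Lib.helper61.BT.burnside_vanish hG χ hχ' y hy1
    rw [hdeg]
    apply Nat.Coprime.pow_left
    rw [Nat.Prime.coprime_iff_not_dvd hr]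
    intro hd
    have hle : (Q : Subgroup G) ≤ Subgroup.centralizer ({y} : Set G) := by
      intro x hx
      rw [Subgroup.mem_centralizer_iff]
      intro h hh
      rw [Set.mem_singleton_iff] at hh
      subst hh
      exact hab h hy x hx
    have h1 : (Subgroup.centralizer ({y} : Set G)).index ∣ (Q : Subgroup G).index :=
      Subgroup.index_dvd_of_le hle
    exact Q.not_dvd_index (hd.trans h1)
  -- the sum over `Q`
  haveI : Fintype (Q : Subgroup G) := Fintype.ofFinite _
  obtain ⟨m, hm⟩ := Cfsg.Agent.Lib.helper81.sum_subgroup_char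
    (Cfsg.Agent.Lib.helper81.irr_isCharacter χ) (Q : Subgroup G)
  have hsum : ∑ u : (Q : Subgroup G), (χ : G → ℂ) (u : G) = (χ : G → ℂ) 1 := by
    rw [Finset.sum_eq_single (1 : (Q : Subgroup G))]
    · rfl
    · intro u _ hu
      exact hvan u u.2 (fun h => hu (Subtype.ext h))
    · intro h
      exact absurd (Finset.mem_univ _) h
  rw [hsum, Cfsg.Agent.Lib.helper81.irr_one_eq_charDegree, hdeg] at hm
  have hm' : r ^ i = Nat.card (Q : Subgroup G) * m := by exact_mod_cast hm
  have hQdvd : r ^ (i + 1) ∣ Nat.card (Q : Subgroup G) := Q.pow_dvd_card_of_pow_dvd_card hdvd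
  have h2 : r ^ (i + 1) ∣ r ^ i := hQdvd.trans (Dvd.intro _ hm'.symm)
  have h3 := Nat.pow_dvd_pow_iff_le_right hr.one_lt |>.mp h2
  omega

end Cfsg.Agent.Lib.helper36.BW
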