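import Mathlib
import Cfsg.Prelude.Def_Characters
import Cfsg.Prelude.Def_Blocks
import Cfsg.Agent.S4441
import Cfsg.Agent.Lib.helper81.Blocks
import Cfsg.Agent.Lib.helper81.CharOrtho
import Cfsg.Agent.Lib.helper76.KazCore
import Cfsg.Agent.Lib.helper78.BR_GT2
import Cfsg.Agent.Lib.helper29.BT_SYL

/-!
# S4501 piece T3 (`three_block_consec`), helper36

If `3 ∥ |G|` (`G` non-abelian simple) the principal 3-block consists of `1` and two characters
of consecutive degrees (landed `Cfsg.Agent.S4441.result` with `p = 3`, `e = 2`).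
-/

set_option autoImplicit false

namespace Cfsg.Agent.Lib.helper36.BW

open Cfsg Cfsg.Agent.Lib.helper81

universe u

theorem h36_arith1 (ε s : ℤ) (dθ d : ℕ) (hε : ε = 1 ∨ ε = -1) (hs : s = 1 ∨ s = -1)
    (hθ : 0 < dθ) (hd : 0 < d) (h : ε * (dθ : ℤ) = 1 + s * (d : ℤ)) :
    dθ = d + 1 ∨ d = dθ + 1 := by
  rcases hε with rfl | rfl <;> rcases hs with rfl | rfl <;> omega

theorem h36_arith2 (s1 s2 : ℤ) (d1 d2 : ℕ) (hs1 : s1 = 1 ∨ s1 = -1) (hs2 : s2 = 1 ∨ s2 = -1)
    (h1 : 0 < d1) (h2 : 0 < d2) (h : (-1 : ℤ) = s1 * (d1 : ℤ) + s2 * (d2 : ℤ)) :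
    d2 = d1 + 1 ∨ d1 = d2 + 1 := by
  rcases hs1 with rfl | rfl <;> rcases hs2 with rfl | rfl <;> omega

theorem h36_not_dvd_of_modEq (d : ℕ) (s : ℤ) (hs : s = 1 ∨ s = -1)
    (hmod : (d : ℤ) ≡ s [ZMOD ((3 : ℕ) : ℤ)]) : ¬ 3 ∣ d := by
  rintro ⟨c, rfl⟩
  unfold Int.ModEq at hmod
  push_cast at hmod
  rcases hs with rfl | rfl <;> omega

theorem h36_not_dvd_of_modEq2 (d : ℕ) (ε : ℤ) (hε : ε = 1 ∨ ε = -1)
    (hmod : (d : ℤ) ≡ ε * ((2 : ℕ) : ℤ) [ZMOD ((3 : ℕ) : ℤ)]) : ¬ 3 ∣ d := by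
  rintro ⟨c, rfl⟩
  unfold Int.ModEq at hmod
  push_cast at hmod
  rcases hε with rfl | rfl <;> omega

variable {G : Type u} [Group G] [Finite G]

theorem h36_ne_const_of_ne_triv (χ : IrrCharacter G) (h : χ ≠ trivChar G) :
    (χ : G → ℂ) ≠ (fun _ => 1) := by
  intro hc
  exact h (Subtype.ext hc)

theorem h36_charDegree_triv : charDegree (trivChar G : G → ℂ) = 1 := by
  have h := irr_one_eq_charDegree (trivChar G)
  rw [trivChar_apply] at h
  exact_mod_cast h.symm

/-- T3 : if `3 ∥ |G|` the principal 3-block consists of `1` and two characters of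
consecutive degrees (landed `Cfsg.Agent.S4441.result` with `p = 3`, `e = 2`). -/
theorem three_block_consec [IsSimpleGroup G] (hna : ∃ x y : G, x * y ≠ y * x)
    (h3 : 3 ∣ Nat.card G) (h9 : ¬ 9 ∣ Nat.card G) :
    ∃ χ ψ : IrrCharacter G, (χ : G → ℂ) ≠ (fun _ => 1) ∧ (ψ : G → ℂ) ≠ (fun _ => 1) ∧
      charDegree (ψ : G → ℂ) = charDegree (χ : G → ℂ) + 1 ∧
      ¬ 3 ∣ charDegree (χ : G → ℂ) ∧ ¬ 3 ∣ charDegree (ψ : G → ℂ) := by
  classical
  haveI : Fintype G := Fintype.ofFinite G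
  haveI : Fact (Nat.Prime 3) := ⟨Nat.prime_three⟩
  have hG : ¬ IsCyclic G := by
    intro hc
    obtain ⟨x, y, hxy⟩ := hna
    exact hxy ((IsCyclic.isMulCommutative (α := G)).is_comm.comm x y)
  obtain ⟨m, hm⟩ := h3
  have hm3 : ¬ 3 ∣ m := by
    rintro ⟨c, rfl⟩
    exact h9 ⟨c, by rw [hm]; ring⟩
  obtain ⟨R⟩ : Nonempty (Sylow 3 G) := inferInstance
  have hR : Nat.card R = 3 := Cfsg.Agent.Lib.helper29.BT.sylow_card_prime 3 m hm hm3 R
  obtain ⟨he2, hedvd⟩ := Cfsg.Agent.Lib.helper21.BR.relIndex_facts hG 3 R hR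
  have he : (Subgroup.centralizer ((R : Subgroup G) : Set G)).relIndex
      (Subgroup.normalizer ((R : Subgroup G) : Set G)) = 2 := by
    have h2 : (Subgroup.centralizer ((R : Subgroup G) : Set G)).relIndex
      (Subgroup.normalizer ((R : Subgroup G) : Set G)) ≤ 2 := Nat.le_of_dvd (by norm_num) hedvd
    omega
  obtain ⟨M, hM⟩ := Cfsg.Agent.Lib.helper76.exists_isPModular 3 Nat.prime_three
  have hMprime : M.IsPrime := hM.2.1.isPrime
  obtain ⟨X, Y, hB, hdisj, hcX, hcY, εX, ε, hX, hε, hdY, hagree, hrelY⟩ :=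
    Cfsg.Agent.S4441.result 3 M hM (by norm_num) R hR 2 he
  have hcY1 : Nat.card Y = 1 := by rw [hcY]
  -- `Y = {θ}`
  obtain ⟨hYsub, ⟨⟨θ, hθY⟩⟩⟩ := Nat.card_eq_one_iff_unique.mp hcY1
  -- `X = {χ1, χ2}`
  obtain ⟨⟨χ1, h1X⟩, ⟨χ2, h2X⟩, hne, huniv⟩ := Nat.card_eq_two_iff.mp hcX
  have hne12 : χ1 ≠ χ2 := fun h => hne (Subtype.ext h)
  have hXeq : X = {χ1, χ2} := by
    ext z
    simp only [Set.mem_insert_iff, Set.mem_singleton_iff]
    constructor
    · intro hz
      have hmem : (⟨z, hz⟩ : X) ∈ (Set.univ : Set X) := Set.mem_univ _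
      rw [← huniv] at hmem
      rcases hmem with h | h
      · left; exact congrArg Subtype.val h
      · right; exact congrArg Subtype.val h
    · rintro (rfl | rfl)
      · exact h1X
      · exact h2X
  have hreg1 : ¬ 3 ∣ orderOf (1 : G) := by
    rw [orderOf_one]; norm_num
  -- the relation at `1`, in `ℤ`
  have hrel := hrelY θ hθY 1 hreg1
  rw [hXeq, finsum_mem_pair hne12, irr_one_eq_charDegree, irr_one_eq_charDegree,
    irr_one_eq_charDegree] at hrel
  have hrelZ : ε * (charDegree (θ : G → ℂ) : ℤ)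
      = εX χ1 * (charDegree (χ1 : G → ℂ) : ℤ) + εX χ2 * (charDegree (χ2 : G → ℂ) : ℤ) := by
    exact_mod_cast hrel
  have hpos1 := irr_charDegree_pos χ1
  have hpos2 := irr_charDegree_pos χ2
  have hposθ := irr_charDegree_pos θ
  have hs1 := (hX χ1 h1X).1
  have hs2 := (hX χ2 h2X).1
  have hnd1 : ¬ 3 ∣ charDegree (χ1 : G → ℂ) :=
    h36_not_dvd_of_modEq _ _ hs1 (hX χ1 h1X).2.1
  have hnd2 : ¬ 3 ∣ charDegree (χ2 : G → ℂ) :=
    h36_not_dvd_of_modEq _ _ hs2 (hX χ2 h2X).2.1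
  have hndθ : ¬ 3 ∣ charDegree (θ : G → ℂ) :=
    h36_not_dvd_of_modEq2 _ _ hε (hdY θ hθY)
  have hθX : θ ∉ X := fun h => Set.disjoint_left.mp hdisj h hθY
  have htriv : trivChar G ∈ X ∪ Y := by
    rw [← hB]; exact trivChar_mem_principalBlock hMprime
  rcases htriv with h1 | h1
  · rw [hXeq] at h1
    have hθ1 : θ ≠ trivChar G := by
      intro h
      apply hθX
      rw [hXeq, h]
      exact h1
    rcases h1 with h1 | h1
    · -- `χ1 = 1`
      have h1' : χ1 = trivChar G := h1.symm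
      have hχ2 : χ2 ≠ trivChar G := fun h => hne12 (h1'.trans h.symm)
      have hd1 : charDegree (χ1 : G → ℂ) = 1 := by rw [h1']; exact h36_charDegree_triv
      have hε1 : εX χ1 = 1 := by
        have hmod := (hX χ1 h1X).2.1
        rw [hd1] at hmod
        rcases hs1 with h | h
        · exact h
        · rw [h] at hmod
          exact absurd hmod (by decide)
      rw [hε1, hd1] at hrelZ
      have harith := h36_arith1 ε (εX χ2) _ _ hε hs2 hposθ hpos2 (by have h := hrelZ; push_cast at h; linarith)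
      rcases harith with h | h
      · exact ⟨χ2, θ, h36_ne_const_of_ne_triv χ2 hχ2, h36_ne_const_of_ne_triv θ hθ1, h, hnd2,
          hndθ⟩
      · exact ⟨θ, χ2, h36_ne_const_of_ne_triv θ hθ1, h36_ne_const_of_ne_triv χ2 hχ2, h, hndθ,
          hnd2⟩
    · -- `χ2 = 1`
      have h1' : χ2 = trivChar G := (Set.mem_singleton_iff.mp h1).symm
      have hχ1 : χ1 ≠ trivChar G := fun h => hne12 (h.trans h1'.symm)
      have hd2 : charDegree (χ2 : G → ℂ) = 1 := by rw [h1']; exact h36_charDegree_triv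
      have hε2 : εX χ2 = 1 := by
        have hmod := (hX χ2 h2X).2.1
        rw [hd2] at hmod
        rcases hs2 with h | h
        · exact h
        · rw [h] at hmod
          exact absurd hmod (by decide)
      rw [hε2, hd2] at hrelZ
      have harith := h36_arith1 ε (εX χ1) _ _ hε hs1 hposθ hpos1 (by have h := hrelZ; push_cast at h; linarith)
      rcases harith with h | h
      · exact ⟨χ1, θ, h36_ne_const_of_ne_triv χ1 hχ1, h36_ne_const_of_ne_triv θ hθ1, h, hnd1,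
          hndθ⟩
      · exact ⟨θ, χ1, h36_ne_const_of_ne_triv θ hθ1, h36_ne_const_of_ne_triv χ1 hχ1, h, hndθ,
          hnd1⟩
  · -- the trivial character is the exceptional one
    have hθeq : θ = trivChar G := by
      have := hYsub.elim (⟨θ, hθY⟩ : Y) ⟨trivChar G, h1⟩
      exact congrArg Subtype.val this
    have hχ1 : χ1 ≠ trivChar G := fun h => Set.disjoint_left.mp hdisj h1X (h ▸ h1)
    have hχ2 : χ2 ≠ trivChar G := fun h => Set.disjoint_left.mp hdisj h2X (h ▸ h1)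
    have hdθ : charDegree (θ : G → ℂ) = 1 := by rw [hθeq]; exact h36_charDegree_triv
    have hεm : ε = -1 := by
      have hmod := hdY θ hθY
      rw [hdθ] at hmod
      rcases hε with h | h
      · rw [h] at hmod
        exact absurd hmod (by decide)
      · exact h
    rw [hεm, hdθ] at hrelZ
    have harith := h36_arith2 (εX χ1) (εX χ2) _ _ hs1 hs2 hpos1 hpos2
      (by have h := hrelZ; push_cast at h; linarith)
    rcases harith with h | h
    · exact ⟨χ1, χ2, h36_ne_const_of_ne_triv χ1 hχ1, h36_ne_const_of_ne_triv χ2 hχ2, h, hnd1,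
        hnd2⟩
    · exact ⟨χ2, χ1, h36_ne_const_of_ne_triv χ2 hχ2, h36_ne_const_of_ne_triv χ1 hχ1, h, hnd2,
        hnd1⟩

end Cfsg.Agent.Lib.helper36.BW
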