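import Mathlib
import Cfsg.Prelude.Def_Characters
import Cfsg.Prelude.Def_Blocks
import Cfsg.Agent.Lib.helper84.BrDefs
import Cfsg.Agent.Lib.helper81.CharOrtho
import Cfsg.Agent.Lib.helper20.BrC1

/-! S0998 piece T3B (`three_block`): the principal `3`-block when `|N_G(R) : R| = 2`. -/

set_option autoImplicit false

namespace Cfsg.Agent.Lib.helper36.BT

open Cfsg Cfsg.Agent.Lib.helper81 Cfsg.Agent.Lib.helper84.Br
open scoped ComplexConjugate

universe u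

section orth

variable {G : Type u} [Group G] [Fintype G] {p : ℕ} [Fact p.Prime] {P : Sylow p G} {e : ℕ}

/-- `Σ_{θ ∈ Y} θ(x) = -ε` on `P ∖ 1` (column orthogonality of `x` and `1`; no `Ctx`). -/
theorem h36_orth_Y (D : Data G p P e) (x : G) (hx : x ∈ (P : Subgroup G))
    (hx1 : x ≠ 1) : ∑ θ ∈ D.Y, (θ : G → ℂ) x = -(D.ε : ℂ) := by
  classical
  have hp : p.Prime := Fact.out
  have hYne : D.Y.Nonempty := by
    rw [← Finset.card_pos]
    by_contra h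
    have h0 : D.Y.card = 0 := by omega
    have h1 := D.cardY
    rw [h0, zero_mul] at h1
    have := hp.two_le
    omega
  obtain ⟨θ0, hθ0⟩ := hYne
  have hreg1 : ¬ p ∣ orderOf (1 : G) := by
    rw [orderOf_one]; exact fun hd => hp.one_lt.ne' (Nat.dvd_one.mp hd)
  have hcol := irr_col_orth x (1 : G)
  rw [if_neg (by rw [isConj_one_left]; exact hx1)] at hcol
  have h1 : ∑ ψ : IrrCharacter G, (ψ : G → ℂ) x * (ψ : G → ℂ) 1 = 0 := by
    rw [← hcol]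
    refine Finset.sum_congr rfl fun ψ _ => ?_
    rw [irr_one_eq_charDegree, Complex.conj_natCast]
  have h2 : ∑ ψ : IrrCharacter G, (ψ : G → ℂ) x * (ψ : G → ℂ) 1
      = ∑ ψ ∈ D.X ∪ D.Y, (ψ : G → ℂ) x * (ψ : G → ℂ) 1 := by
    symm
    apply Finset.sum_subset (Finset.subset_univ _)
    intro ψ _ hψ
    rw [Finset.mem_union, not_or] at hψ
    rw [D.vanish ψ hψ.1 hψ.2 x hx hx1, zero_mul]
  rw [h2, Finset.sum_union D.disj] at h1
  have h3 : ∑ χ ∈ D.X, (χ : G → ℂ) x * (χ : G → ℂ) 1 = (D.ε : ℂ) * (θ0 : G → ℂ) 1 := by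
    rw [D.rel θ0 hθ0 1 hreg1]
    refine Finset.sum_congr rfl fun χ hχ => ?_
    rw [D.val_X χ hχ x hx hx1]
  have h4 : ∑ θ ∈ D.Y, (θ : G → ℂ) x * (θ : G → ℂ) 1
      = (∑ θ ∈ D.Y, (θ : G → ℂ) x) * (θ0 : G → ℂ) 1 := by
    rw [Finset.sum_mul]
    refine Finset.sum_congr rfl fun θ hθ => ?_
    rw [D.agree θ hθ θ0 hθ0 1 hreg1]
  rw [h3, h4] at h1
  have h5 : (θ0 : G → ℂ) 1 ≠ 0 := irr_one_ne_zero θ0
  have h6 : ((D.ε : ℂ) + ∑ θ ∈ D.Y, (θ : G → ℂ) x) * (θ0 : G → ℂ) 1 = 0 := by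
    linear_combination h1
  rcases mul_eq_zero.mp h6 with h | h
  · linear_combination h
  · exact absurd h h5

end orth

section three

variable {G : Type u} [Group G] [Fintype G]

/-- T3B : the principal `3`-block when `|N_G(R) : R| = 2` (`R` of order `3`, self-centralizing):
`{1, ψs, ψb}` with `ψb = 1 + ψs` on the `3`-regular elements. -/
theorem three_block [Fact (Nat.Prime 3)] (hperf : commutator G = ⊤) {R : Sylow 3 G}
    (hR : Nat.card R = 3) (D : Data G 3 R 2) :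
    ∃ ψs ψb : IrrCharacter G, ψs ≠ trivChar G ∧ ψb ≠ trivChar G ∧ ψs ≠ ψb ∧
      charDegree (ψb : G → ℂ) = charDegree (ψs : G → ℂ) + 1 ∧
      2 ≤ charDegree (ψs : G → ℂ) ∧
      ¬ 3 ∣ charDegree (ψs : G → ℂ) ∧ ¬ 3 ∣ charDegree (ψb : G → ℂ) ∧
      (∀ g : G, ¬ 3 ∣ orderOf g → (ψb : G → ℂ) g = 1 + (ψs : G → ℂ) g) ∧
      (∀ y : G, y ∈ (R : Subgroup G) → y ≠ 1 →
        (ψs : G → ℂ) y = 1 ∧ (ψb : G → ℂ) y = -1) ∧
      (∀ ψ : IrrCharacter G, ψ ≠ trivChar G → ψ ≠ ψs → ψ ≠ ψb →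
        ∀ y : G, y ∈ (R : Subgroup G) → y ≠ 1 → (ψ : G → ℂ) y = 0) := by
  classical
  -- a non-identity element of `R`
  obtain ⟨y₀, hy₀R, hy₀1⟩ : ∃ y : G, y ∈ (R : Subgroup G) ∧ y ≠ 1 := by
    have h1 : 1 < Nat.card (R : Subgroup G) := by
      have : Nat.card (R : Subgroup G) = 3 := hR
      omega
    have hnt : Nontrivial (R : Subgroup G) := (Finite.one_lt_card_iff_nontrivial).mp h1
    obtain ⟨⟨y, hy⟩, hy1⟩ := exists_ne (1 : (R : Subgroup G))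
    exact ⟨y, hy, fun h => hy1 (Subtype.ext h)⟩
  have hδ1 : D.δ (trivChar G) = 1 := D.δ_triv y₀ hy₀R hy₀1
  -- `X = {1, χ'}`
  obtain ⟨χ', hχ'1, hXeq⟩ : ∃ χ' : IrrCharacter G, χ' ≠ trivChar G ∧ D.X = {trivChar G, χ'} := by
    obtain ⟨a, b, hab, hX⟩ := Finset.card_eq_two.mp D.cardX
    have h1 := D.one_mem
    rw [hX] at h1
    simp only [Finset.mem_insert, Finset.mem_singleton] at h1
    rcases h1 with h1 | h1
    · exact ⟨b, by rw [h1]; exact Ne.symm hab, by rw [hX, h1]⟩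
    · exact ⟨a, by rw [h1]; exact hab, by rw [hX, h1, Finset.pair_comm]⟩
  have hχ'X : χ' ∈ D.X := by rw [hXeq]; simp
  -- `Y = {θ'}`
  obtain ⟨θ', hYeq⟩ : ∃ θ' : IrrCharacter G, D.Y = {θ'} := by
    have h1 := D.cardY
    have h2 : D.Y.card = 1 := by omega
    exact Finset.card_eq_one.mp h2
  have hθ'Y : θ' ∈ D.Y := by rw [hYeq]; simp
  have hθ'X : θ' ∉ D.X := fun h => Finset.disjoint_left.mp D.disj h hθ'Y
  have hθ'1 : θ' ≠ trivChar G := fun h => hθ'X (h ▸ D.one_mem)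
  have hθ'χ' : θ' ≠ χ' := fun h => hθ'X (h ▸ hχ'X)
  -- degrees
  have ha2 : 2 ≤ charDegree (χ' : G → ℂ) := by
    have h1 := irr_charDegree_pos χ'
    have h2 : charDegree (χ' : G → ℂ) ≠ 1 := fun h =>
      hχ'1 (Cfsg.Agent.Lib.helper20.Br.lin_perfect hperf χ' h)
    omega
  have hf2 : 2 ≤ charDegree (θ' : G → ℂ) := by
    have h1 := irr_charDegree_pos θ'
    have h2 : charDegree (θ' : G → ℂ) ≠ 1 := fun h =>
      hθ'1 (Cfsg.Agent.Lib.helper20.Br.lin_perfect hperf θ' h)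
    omega
  -- the relation on `3`-regular elements
  have hrel : ∀ g : G, ¬ 3 ∣ orderOf g →
      (D.ε : ℂ) * (θ' : G → ℂ) g = 1 + (D.δ χ' : ℂ) * (χ' : G → ℂ) g := by
    intro g hg
    rw [D.rel θ' hθ'Y g hg, hXeq, Finset.sum_pair (Ne.symm hχ'1), hδ1]
    simp
  have hreg1 : ¬ 3 ∣ orderOf (1 : G) := by
    rw [orderOf_one]; norm_num
  -- the degree equation
  have hdeg : D.ε * (charDegree (θ' : G → ℂ) : ℤ) = 1 + D.δ χ' * (charDegree (χ' : G → ℂ) : ℤ) := by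
    have h := hrel 1 hreg1
    rw [irr_one_eq_charDegree, irr_one_eq_charDegree] at h
    exact_mod_cast h
  have hmodX := D.deg_X χ' hχ'X
  have hmodY := D.deg_Y θ' hθ'Y
  unfold Int.ModEq at hmodX hmodY
  push_cast at hmodX hmodY
  -- values on `R ∖ 1`
  have hvalχ : ∀ y : G, y ∈ (R : Subgroup G) → y ≠ 1 → (χ' : G → ℂ) y = (D.δ χ' : ℂ) :=
    fun y hy hy1 => D.val_X χ' hχ'X y hy hy1
  have hvalθ : ∀ y : G, y ∈ (R : Subgroup G) → y ≠ 1 → (θ' : G → ℂ) y = -(D.ε : ℂ) := by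
    intro y hy hy1
    have h := h36_orth_Y D y hy hy1
    rw [hYeq, Finset.sum_singleton] at h
    exact h
  have hvan : ∀ ψ : IrrCharacter G, ψ ≠ trivChar G → ψ ≠ χ' → ψ ≠ θ' →
      ∀ y : G, y ∈ (R : Subgroup G) → y ≠ 1 → (ψ : G → ℂ) y = 0 := by
    intro ψ h1 h2 h3 y hy hy1
    apply D.vanish ψ _ _ y hy hy1
    · rw [hXeq]; simp [h1, h2]
    · rw [hYeq]; simp [h3]
  rcases D.δ_sq χ' hχ'X with hδ | hδ <;> rcases D.ε_sq with hε | hε
  · -- `(1, 1)` : `f = a + 1`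
    rw [hδ, hε] at hdeg
    rw [hδ] at hmodX
    rw [hε] at hmodY
    refine ⟨χ', θ', hχ'1, hθ'1, Ne.symm hθ'χ', by omega, ha2, by omega, by omega, ?_, ?_, ?_⟩
    · intro g hg
      have h := hrel g hg
      rw [hδ, hε] at h
      push_cast at h
      linear_combination h
    · intro y hy hy1
      refine ⟨?_, ?_⟩
      · rw [hvalχ y hy hy1, hδ]; simp
      · rw [hvalθ y hy hy1, hε]; simp
    · intro ψ h1 h2 h3
      exact hvan ψ h1 h2 h3
  · -- `(1, -1)` : impossible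
    rw [hδ, hε] at hdeg
    omega
  · -- `(-1, 1)` : impossible
    rw [hδ, hε] at hdeg
    omega
  · -- `(-1, -1)` : `a = f + 1`
    rw [hδ, hε] at hdeg
    rw [hδ] at hmodX
    rw [hε] at hmodY
    refine ⟨θ', χ', hθ'1, hχ'1, hθ'χ', by omega, hf2, by omega, by omega, ?_, ?_, ?_⟩
    · intro g hg
      have h := hrel g hg
      rw [hδ, hε] at h
      push_cast at h
      linear_combination h
    · intro y hy hy1
      refine ⟨?_, ?_⟩
      · rw [hvalθ y hy hy1, hε]; simp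
      · rw [hvalχ y hy hy1, hδ]; simp
    · intro ψ h1 h2 h3
      exact hvan ψ h1 h3 h2

end three

end Cfsg.Agent.Lib.helper36.BT
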