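import Mathlib
import Cfsg.Prelude.Def_Characters
import Cfsg.Prelude.Def_Blocks
import Cfsg.Agent.Lib.helper84.BrDefs
import Cfsg.Agent.Lib.helper81.CharOrtho

/-! S0998 piece T3F (`three_final`): the order bound from the class multiplication constant of a
`2`-central involution at an element of order `3`. -/

set_option autoImplicit false

namespace Cfsg.Agent.Lib.helper36.BT

open Cfsg Cfsg.Agent.Lib.helper81 Cfsg.Agent.Lib.helper84.Br
open scoped ComplexConjugate

universe u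

section three

variable {G : Type u} [Group G] [Fintype G]

/-- A sum over all irreducible characters of a function supported on three of them. -/
theorem h36_sum_three [Fintype (IrrCharacter G)] (a b c : IrrCharacter G) (hab : a ≠ b)
    (hac : a ≠ c) (hbc : b ≠ c) (F : IrrCharacter G → ℂ)
    (h0 : ∀ ψ : IrrCharacter G, ψ ≠ a → ψ ≠ b → ψ ≠ c → F ψ = 0) :
    ∑ ψ : IrrCharacter G, F ψ = F a + F b + F c := by
  classical
  have hsub : ({a, b, c} : Finset (IrrCharacter G)) ⊆ Finset.univ := Finset.subset_univ _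
  rw [← Finset.sum_subset hsub (fun ψ _ hψ => ?_)]
  · rw [Finset.sum_insert, Finset.sum_insert, Finset.sum_singleton]
    · ring
    · simpa using hbc
    · simp only [Finset.mem_insert, Finset.mem_singleton, not_or]
      exact ⟨hab, hac⟩
  · simp only [Finset.mem_insert, Finset.mem_singleton, not_or] at hψ
    exact h0 ψ hψ.1 hψ.2.1 hψ.2.2

/-- If `2 ^ b ∣ m` and `2 ^ (k + 1) ∤ m` then `b ≤ k`. -/
theorem h36_pow_le (b k m : ℕ) (h : 2 ^ b ∣ m) (hk : ¬ 2 ^ (k + 1) ∣ m) : b ≤ k := by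
  by_contra hcon
  have h1 : k + 1 ≤ b := by omega
  exact hk ((pow_dvd_pow 2 h1).trans h)

/-- T3F : the order bound from the class multiplication constant of a `2`-central involution
at an element of order `3`. -/
theorem three_final [Fact (Nat.Prime 3)] [Fintype (IrrCharacter G)] (p b : ℕ)
    (hp : p = 5 ∨ p = 7) (hcard : Nat.card G = 3 * p * 2 ^ b) {R : Sylow 3 G}
    (hR : Nat.card R = 3)
    (ψs ψb : IrrCharacter G) (hs1 : ψs ≠ trivChar G) (hb1 : ψb ≠ trivChar G) (hsb : ψs ≠ ψb)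
    (hdeg : charDegree (ψb : G → ℂ) = charDegree (ψs : G → ℂ) + 1)
    (hu : (p = 5 ∧ charDegree (ψs : G → ℂ) = 4) ∨ (p = 7 ∧ charDegree (ψs : G → ℂ) = 7))
    (hreg : ∀ g : G, ¬ 3 ∣ orderOf g → (ψb : G → ℂ) g = 1 + (ψs : G → ℂ) g)
    (hval : ∀ y : G, y ∈ (R : Subgroup G) → y ≠ 1 →
      (ψs : G → ℂ) y = 1 ∧ (ψb : G → ℂ) y = -1)
    (hvan : ∀ ψ : IrrCharacter G, ψ ≠ trivChar G → ψ ≠ ψs → ψ ≠ ψb →
      ∀ y : G, y ∈ (R : Subgroup G) → y ≠ 1 → (ψ : G → ℂ) y = 0)
    (hburn : ∀ χ : IrrCharacter G, χ ≠ trivChar G → ∀ s : G, s ≠ 1 →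
      Nat.Coprime (charDegree (χ : G → ℂ)) (Subgroup.centralizer ({s} : Set G)).index →
      (χ : G → ℂ) s = 0)
    (hinv : 1 ≤ b → ∃ s : G, orderOf s = 2 ∧
      2 ^ b ∣ Nat.card (Subgroup.centralizer ({s} : Set G)))
    (hcc : ∀ s y : G, ∃ N₀ : ℕ, (N₀ : ℂ) * (Nat.card G : ℂ) =
      ((Subgroup.centralizer ({s} : Set G)).index : ℂ) ^ 2 *
        ∑ χ : IrrCharacter G, conj ((χ : G → ℂ) s) ^ 2 * (χ : G → ℂ) y / (χ : G → ℂ) 1) :
    Nat.card G ≤ 168 := by
  classical
  rcases Nat.eq_zero_or_pos b with hb0 | hbpos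
  · subst hb0
    rw [hcard]
    rcases hp with rfl | rfl <;> norm_num
  obtain ⟨s, hs2, hsdvd⟩ := hinv hbpos
  have hsne : s ≠ 1 := by
    rintro rfl
    rw [orderOf_one] at hs2
    omega
  have hsreg : ¬ 3 ∣ orderOf s := by rw [hs2]; norm_num
  -- a non-identity element of `R`
  obtain ⟨y, hyR, hy1⟩ : ∃ y : G, y ∈ (R : Subgroup G) ∧ y ≠ 1 := by
    have h1 : 1 < Nat.card (R : Subgroup G) := by
      have : Nat.card (R : Subgroup G) = 3 := hR
      omega
    have hnt : Nontrivial (R : Subgroup G) := (Finite.one_lt_card_iff_nontrivial).mp h1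
    obtain ⟨⟨y, hy⟩, hy1⟩ := exists_ne (1 : (R : Subgroup G))
    exact ⟨y, hy, fun h => hy1 (Subtype.ext h)⟩
  have hic : (Subgroup.centralizer ({s} : Set G)).index *
      Nat.card (Subgroup.centralizer ({s} : Set G)) = Nat.card G :=
    Subgroup.index_mul_card _
  obtain ⟨N₀, hN₀⟩ := hcc s y
  obtain ⟨c', hc'⟩ := hsdvd
  have hburn_s : ∀ χ : IrrCharacter G, χ ≠ trivChar G →
      Nat.Coprime (charDegree (χ : G → ℂ)) (Subgroup.centralizer ({s} : Set G)).index →
      (χ : G → ℂ) s = 0 := fun χ h hc => hburn χ h s hsne hc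
  generalize (Subgroup.centralizer ({s} : Set G)).index = idx at hic hN₀ hburn_s
  generalize Nat.card (Subgroup.centralizer ({s} : Set G)) = c at hic hc'
  have h2b : 0 < 2 ^ b := by positivity
  have hidx : idx * c' = 3 * p := by
    have h1 : idx * (2 ^ b * c') = 3 * p * 2 ^ b := by rw [← hc', hic, hcard]
    have h2 : (idx * c') * 2 ^ b = (3 * p) * 2 ^ b := by
      rw [← h1]; ring
    exact Nat.eq_of_mul_eq_mul_right h2b h2
  have hidx0 : 0 < idx := by
    rcases Nat.eq_zero_or_pos idx with h | h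
    · rw [h, zero_mul] at hidx
      rcases hp with rfl | rfl <;> omega
    · exact h
  -- the three special values at `y` and at `1`
  have hψs_y := (hval y hyR hy1).1
  have hψb_y := (hval y hyR hy1).2
  have hsum : ∑ χ : IrrCharacter G, conj ((χ : G → ℂ) s) ^ 2 * (χ : G → ℂ) y / (χ : G → ℂ) 1
      = 1 + conj ((ψs : G → ℂ) s) ^ 2 * 1 / (charDegree (ψs : G → ℂ) : ℂ)
        + conj ((ψb : G → ℂ) s) ^ 2 * (-1) / (charDegree (ψb : G → ℂ) : ℂ) := by
    rw [h36_sum_three (trivChar G) ψs ψb (Ne.symm hs1) (Ne.symm hb1) hsb]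
    · simp only [trivChar_apply, hψs_y, hψb_y, irr_one_eq_charDegree, map_one]
      ring
    · intro ψ h1 h2 h3
      rw [hvan ψ h1 h2 h3 y hyR hy1]
      simp
  rw [hsum] at hN₀
  rcases hu with ⟨rfl, h4⟩ | ⟨rfl, h7⟩
  · -- `p = 5`, degrees `4` and `5`
    have h5 : charDegree (ψb : G → ℂ) = 5 := by rw [hdeg, h4]
    have hcop : Nat.Coprime (charDegree (ψs : G → ℂ)) idx := by
      rw [h4]
      exact Nat.Coprime.coprime_dvd_right (Dvd.intro c' hidx) (by norm_num)
    have hs0 : (ψs : G → ℂ) s = 0 := hburn_s ψs hs1 hcop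
    have hb1' : (ψb : G → ℂ) s = 1 := by rw [hreg s hsreg, hs0]; ring
    rw [hs0, hb1', h4, h5] at hN₀
    simp only [map_zero, map_one] at hN₀
    have hN : (N₀ : ℂ) * (Nat.card G : ℂ) * 5 = (idx : ℂ) ^ 2 * 4 := by
      rw [hN₀]; push_cast; ring
    have hN' : N₀ * Nat.card G * 5 = idx ^ 2 * 4 := by exact_mod_cast hN
    -- cancel `idx`
    have h6 : N₀ * c * 5 = idx * 4 := by
      have : idx * (N₀ * c * 5) = idx * (idx * 4) := by
        rw [← hic] at hN'
        nlinarith [hN']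
      exact Nat.eq_of_mul_eq_mul_left hidx0 this
    have h7 : N₀ * 2 ^ b * c' ^ 2 = 12 := by
      have : (N₀ * 2 ^ b * c' ^ 2) * 5 = 12 * 5 := by
        have e1 : N₀ * c * 5 * c' = idx * c' * 4 := by rw [h6]; ring
        rw [hidx, hc'] at e1
        nlinarith [e1]
      exact Nat.eq_of_mul_eq_mul_right (by norm_num) this
    have h8 : 2 ^ b ∣ 12 := ⟨N₀ * c' ^ 2, by rw [← h7]; ring⟩
    have hb2 : b ≤ 2 := h36_pow_le b 2 12 h8 (by norm_num)
    have h9 : 2 ^ b ≤ 2 ^ 2 := Nat.pow_le_pow_right (by norm_num) hb2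
    rw [hcard]
    omega
  · -- `p = 7`, degrees `7` and `8`
    have h8 : charDegree (ψb : G → ℂ) = 8 := by rw [hdeg, h7]
    have hcop : Nat.Coprime (charDegree (ψb : G → ℂ)) idx := by
      rw [h8]
      exact Nat.Coprime.coprime_dvd_right (Dvd.intro c' hidx) (by norm_num)
    have hb0 : (ψb : G → ℂ) s = 0 := hburn_s ψb hb1 hcop
    have hs1' : (ψs : G → ℂ) s = -1 := by
      have := hreg s hsreg
      rw [hb0] at this
      linear_combination -this
    rw [hb0, hs1', h7, h8] at hN₀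
    simp only [map_zero, map_neg, map_one] at hN₀
    have hN : (N₀ : ℂ) * (Nat.card G : ℂ) * 7 = (idx : ℂ) ^ 2 * 8 := by
      rw [hN₀]; push_cast; ring
    have hN' : N₀ * Nat.card G * 7 = idx ^ 2 * 8 := by exact_mod_cast hN
    have h6 : N₀ * c * 7 = idx * 8 := by
      have : idx * (N₀ * c * 7) = idx * (idx * 8) := by
        rw [← hic] at hN'
        nlinarith [hN']
      exact Nat.eq_of_mul_eq_mul_left hidx0 this
    have h9 : N₀ * 2 ^ b * c' ^ 2 = 24 := by
      have : (N₀ * 2 ^ b * c' ^ 2) * 7 = 24 * 7 := by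
        have e1 : N₀ * c * 7 * c' = idx * c' * 8 := by rw [h6]; ring
        rw [hidx, hc'] at e1
        nlinarith [e1]
      exact Nat.eq_of_mul_eq_mul_right (by norm_num) this
    have h10 : 2 ^ b ∣ 24 := ⟨N₀ * c' ^ 2, by rw [← h9]; ring⟩
    have hb3 : b ≤ 3 := h36_pow_le b 3 24 h10 (by norm_num)
    have h11 : 2 ^ b ≤ 2 ^ 3 := Nat.pow_le_pow_right (by norm_num) hb3
    rw [hcard]
    omega

end three

end Cfsg.Agent.Lib.helper36.BT
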