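import Mathlib
import Cfsg.Prelude.Def_Transfer

/-!
# Extraspecial 2-groups: the commutator pairing is perfect

For a finite group `H` with a central involution `z` such that every commutator is `1` or `z`
(for instance an extraspecial 2-group), every "character" `lam : H → {1, z}` of a subgroup `P`
with `Z(P) = {1, z}` and `lam z = 1` has the form `g ↦ ⁅q, g⁆` for some `q ∈ P`.
-/

set_option autoImplicit false

namespace Cfsg.Agent.Lib.helper36

open scoped commutatorElement

section Pairing

variable {H : Type*} [Group H]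

/-- With central commutators, the commutator is multiplicative in the left argument. -/
theorem commutator_mul_left_of_central (hc : ∀ g h k : H, ⁅g, h⁆ * k = k * ⁅g, h⁆) (u v w : H) :
    ⁅u * v, w⁆ = ⁅u, w⁆ * ⁅v, w⁆ := by
  have h := hc v w (w * u⁻¹ * w⁻¹)
  calc ⁅u * v, w⁆ = u * (⁅v, w⁆ * (w * u⁻¹ * w⁻¹)) := by
        simp only [commutatorElement_def]; group
    _ = u * ((w * u⁻¹ * w⁻¹) * ⁅v, w⁆) := by rw [h]
    _ = ⁅u, w⁆ * ⁅v, w⁆ := by simp only [commutatorElement_def]; group

/-- With central commutators, the commutator is multiplicative in the right argument. -/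
theorem commutator_mul_right_of_central (hc : ∀ g h k : H, ⁅g, h⁆ * k = k * ⁅g, h⁆) (u v w : H) :
    ⁅u, v * w⁆ = ⁅u, v⁆ * ⁅u, w⁆ := by
  have h := hc u w v⁻¹
  calc ⁅u, v * w⁆ = u * v * u⁻¹ * (⁅u, w⁆ * v⁻¹) := by
        simp only [commutatorElement_def]; group
    _ = u * v * u⁻¹ * (v⁻¹ * ⁅u, w⁆) := by rw [h]
    _ = ⁅u, v⁆ * ⁅u, w⁆ := by simp only [commutatorElement_def]; group

/-- Duality for the commutator pairing (induction over subgroups): if all commutators of `H` lie
in `{1, z}` with `z` a central involution, `P` is a subgroup containing `z` whose centre is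
`{1, z}`, and `lam` is multiplicative on `P` with values in `{1, z}` and `lam z = 1`, then
`lam = ⁅q, ·⁆` on `P` for some `q ∈ P`. -/
theorem exists_commutator_eq_aux [Finite H] (z : H) (hzc : ∀ g : H, g * z = z * g)
    (hzz : z * z = 1) (hz1 : z ≠ 1) (hcomm : ∀ g h : H, ⁅g, h⁆ = 1 ∨ ⁅g, h⁆ = z)
    (lam : H → H) (hl1 : ∀ g, lam g = 1 ∨ lam g = z) :
    ∀ n : ℕ, ∀ P : Subgroup H, Nat.card P ≤ n → z ∈ P →
      (∀ g ∈ P, (∀ h ∈ P, ⁅g, h⁆ = 1) → g = 1 ∨ g = z) →
      (∀ g ∈ P, ∀ h ∈ P, lam (g * h) = lam g * lam h) → lam z = 1 →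
      ∃ q ∈ P, ∀ g ∈ P, ⁅q, g⁆ = lam g := by
  have hc : ∀ g h k : H, ⁅g, h⁆ * k = k * ⁅g, h⁆ := by
    intro g h k
    rcases hcomm g h with h1 | h1 <;> rw [h1]
    · simp
    · exact (hzc k).symm
  have hml := commutator_mul_left_of_central hc
  have hmr := commutator_mul_right_of_central hc
  have hzinv : z⁻¹ = z := inv_eq_of_mul_eq_one_left hzz
  have hsymm : ∀ g h : H, ⁅g, h⁆ = ⁅h, g⁆ := by
    intro g h
    rw [← commutatorElement_inv h g]
    rcases hcomm h g with h1 | h1 <;> rw [h1]
    · simp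
    · exact hzinv
  intro n
  induction n with
  | zero =>
    intro P hP
    have := Nat.card_pos (α := P)
    omega
  | succ n ih =>
    intro P hP hzP hcen hl2 hl3
    by_cases hall : ∀ g ∈ P, lam g = 1
    · exact ⟨1, P.one_mem, fun g hg => by rw [hall g hg, commutatorElement_one_left]⟩
    · push Not at hall
      obtain ⟨x, hxP, hx⟩ := hall
      have hlx : lam x = z := (hl1 x).resolve_left hx
      have hl1' : lam 1 = 1 := by
        rcases hl1 1 with h | h
        · exact h
        · have h2 := hl2 1 P.one_mem 1 P.one_mem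
          rw [mul_one, h, hzz] at h2
          exact absurd h2 hz1
      have hxnc : ¬ ∀ h ∈ P, ⁅x, h⁆ = 1 := by
        intro hc'
        rcases hcen x hxP hc' with h | h
        · rw [h, hl1'] at hlx; exact hz1 hlx.symm
        · rw [h, hl3] at hlx; exact hz1 hlx.symm
      push Not at hxnc
      obtain ⟨a', ha'P, ha'⟩ := hxnc
      have hxa' : ⁅x, a'⁆ = z := (hcomm x a').resolve_left ha'
      obtain ⟨a, haP, hla, hxa⟩ : ∃ a ∈ P, lam a = 1 ∧ ⁅x, a⁆ = z := by
        rcases hl1 a' with h | h
        · exact ⟨a', ha'P, h, hxa'⟩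
        · refine ⟨a' * x, P.mul_mem ha'P hxP, ?_, ?_⟩
          · rw [hl2 a' ha'P x hxP, h, hlx, hzz]
          · rw [hmr, hxa', commutatorElement_self, mul_one]
      have hax : ⁅a, x⁆ = z := by rw [hsymm, hxa]
      -- the subgroup `E = C_P(x, a)`
      have hEmem : ∀ g, g ∈ P ⊓ Subgroup.centralizer {x, a} ↔
          g ∈ P ∧ ⁅x, g⁆ = 1 ∧ ⁅a, g⁆ = 1 := by
        intro g
        simp only [Subgroup.mem_inf, Subgroup.mem_centralizer_iff, Set.mem_insert_iff,
          Set.mem_singleton_iff, forall_eq_or_imp, forall_eq,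
          commutatorElement_eq_one_iff_mul_comm]
      have hEP : P ⊓ Subgroup.centralizer {x, a} ≤ P := inf_le_left
      -- induction principle: `P` is generated by `E`, `a` and `x`
      have princ : ∀ S : H → Prop, (∀ e ∈ P ⊓ Subgroup.centralizer {x, a}, S e) →
          (∀ g ∈ P, S (g * a) → S g) → (∀ g ∈ P, S (g * x) → S g) → ∀ g ∈ P, S g := by
        intro S hSE hSa hSx
        have hA : ∀ g ∈ P, ⁅x, g⁆ = 1 → S g := by
          intro g hg hxg
          by_cases hag : ⁅a, g⁆ = 1
          · exact hSE g ((hEmem g).mpr ⟨hg, hxg, hag⟩)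
          · have hag' : ⁅a, g⁆ = z := (hcomm a g).resolve_left hag
            apply hSx g hg
            apply hSE
            rw [hEmem]
            refine ⟨P.mul_mem hg hxP, ?_, ?_⟩
            · rw [hmr, hxg, commutatorElement_self, mul_one]
            · rw [hmr, hag', hax, hzz]
        intro g hg
        by_cases hxg : ⁅x, g⁆ = 1
        · exact hA g hg hxg
        · have hxg' : ⁅x, g⁆ = z := (hcomm x g).resolve_left hxg
          apply hSa g hg
          apply hA _ (P.mul_mem hg haP)
          rw [hmr, hxg', hxa, hzz]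
      -- `E` is smaller than `P`
      have hxE : x ∉ P ⊓ Subgroup.centralizer {x, a} := by
        intro h
        have h1 := ((hEmem x).mp h).2.2
        rw [hax] at h1
        exact hz1 h1
      have hcard : Nat.card ↥(P ⊓ Subgroup.centralizer {x, a}) ≤ n := by
        by_contra hlt
        have h1 : Nat.card ↥P ≤ Nat.card ↥(P ⊓ Subgroup.centralizer {x, a}) := by omega
        have h2 := Subgroup.eq_of_le_of_card_ge hEP h1
        exact hxE (by rw [h2]; exact hxP)
      -- the centre of `E`
      have hcenE : ∀ g ∈ P ⊓ Subgroup.centralizer {x, a},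
          (∀ h ∈ P ⊓ Subgroup.centralizer {x, a}, ⁅g, h⁆ = 1) → g = 1 ∨ g = z := by
        intro e he hce
        obtain ⟨heP, hxe, hae⟩ := (hEmem e).mp he
        apply hcen e heP
        apply princ (fun h => ⁅e, h⁆ = 1) hce
        · intro g _ hga
          change ⁅e, g * a⁆ = 1 at hga
          rw [hmr, hsymm e a, hae, mul_one] at hga
          exact hga
        · intro g _ hgx
          change ⁅e, g * x⁆ = 1 at hgx
          rw [hmr, hsymm e x, hxe, mul_one] at hgx
          exact hgx
      have hzE : z ∈ P ⊓ Subgroup.centralizer {x, a} := by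
        rw [hEmem]
        refine ⟨hzP, ?_, ?_⟩
        · rw [commutatorElement_eq_one_iff_mul_comm]; exact hzc x
        · rw [commutatorElement_eq_one_iff_mul_comm]; exact hzc a
      obtain ⟨e₀, he₀, hq⟩ := ih (P ⊓ Subgroup.centralizer {x, a}) hcard hzE hcenE
        (fun g hg h hh => hl2 g (hEP hg) h (hEP hh)) hl3
      obtain ⟨he₀P, hxe₀, hae₀⟩ := (hEmem e₀).mp he₀
      refine ⟨e₀ * a, P.mul_mem he₀P haP, ?_⟩
      apply princ (fun g => ⁅e₀ * a, g⁆ = lam g)
      · intro e he
        rw [hml, hq e he, ((hEmem e).mp he).2.2, mul_one]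
      · intro g hg hga
        change ⁅e₀ * a, g * a⁆ = lam (g * a) at hga
        have h1 : ⁅e₀ * a, a⁆ = 1 := by
          rw [hml, hsymm e₀ a, hae₀, commutatorElement_self, mul_one]
        rw [hmr, h1, mul_one, hl2 g hg a haP, hla, mul_one] at hga
        exact hga
      · intro g hg hgx
        change ⁅e₀ * a, g * x⁆ = lam (g * x) at hgx
        have h1 : ⁅e₀ * a, x⁆ = z := by
          rw [hml, hsymm e₀ x, hxe₀, hax, one_mul]
        rw [hmr, h1, hl2 g hg x hxP, hlx] at hgx
        exact mul_right_cancel hgx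

/-- Duality for the commutator pairing on the whole group. -/
theorem exists_commutator_eq [Finite H] (z : H) (hzc : ∀ g : H, g * z = z * g)
    (hzz : z * z = 1) (hz1 : z ≠ 1) (hcomm : ∀ g h : H, ⁅g, h⁆ = 1 ∨ ⁅g, h⁆ = z)
    (hcen : ∀ g : H, g ∈ Subgroup.center H → g = 1 ∨ g = z)
    (lam : H → H) (hl1 : ∀ g, lam g = 1 ∨ lam g = z)
    (hl2 : ∀ g h, lam (g * h) = lam g * lam h) (hl3 : lam z = 1) :
    ∃ q : H, ∀ g : H, ⁅q, g⁆ = lam g := by
  obtain ⟨q, -, hq⟩ := exists_commutator_eq_aux z hzc hzz hz1 hcomm lam hl1 (Nat.card (⊤ : Subgroup H))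
    ⊤ le_rfl (Subgroup.mem_top z)
    (fun g _ hg => hcen g (by
      rw [Subgroup.mem_center_iff]
      intro h
      exact (commutatorElement_eq_one_iff_mul_comm.mp (hg h (Subgroup.mem_top h))).symm))
    (fun g _ h _ => hl2 g h) hl3
  exact ⟨q, fun g => hq g (Subgroup.mem_top g)⟩

/-- The structure of an extraspecial 2-group: a central involution `z` generating the centre,
with every commutator equal to `1` or `z`. -/
theorem extraspecial_two_structure (hH : Cfsg.IsExtraspecial 2 H) :
    ∃ z : H, (∀ g : H, g * z = z * g) ∧ z * z = 1 ∧ z ≠ 1 ∧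
      (∀ g h : H, ⁅g, h⁆ = 1 ∨ ⁅g, h⁆ = z) ∧
      (∀ g : H, g ∈ Subgroup.center H → g = 1 ∨ g = z) := by
  obtain ⟨⟨-, -, hcomm⟩, hcard⟩ := hH
  obtain ⟨z', hz', huniq⟩ := (Nat.card_eq_two_iff' (1 : ↥(Subgroup.center H))).mp hcard
  have hcen : ∀ g : H, g ∈ Subgroup.center H → g = 1 ∨ g = (z' : H) := by
    intro g hg
    by_cases h1 : g = 1
    · exact Or.inl h1
    · right
      have h2 : (⟨g, hg⟩ : ↥(Subgroup.center H)) ≠ 1 := fun h => h1 (congrArg Subtype.val h)
      exact congrArg Subtype.val (huniq ⟨g, hg⟩ h2)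
  have hz1 : (z' : H) ≠ 1 := fun h => hz' (Subtype.ext h)
  refine ⟨z', fun g => Subgroup.mem_center_iff.mp z'.2 g, ?_, hz1, ?_, hcen⟩
  · rcases hcen _ (Subgroup.mul_mem _ z'.2 z'.2) with h | h
    · exact h
    · exact absurd (mul_left_cancel (h.trans (mul_one _).symm)) hz1
  · intro g h
    apply hcen
    rw [← hcomm, commutator_def]
    exact Subgroup.commutator_mem_commutator (Subgroup.mem_top g) (Subgroup.mem_top h)

/-- A multiplicative involution `α` of a finite extraspecial 2-group whose fixed points have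
index at most 2 (in the form: the product of two non-fixed elements is fixed) is inner. -/
theorem extraspecial_two_inner [Finite H] (hH : Cfsg.IsExtraspecial 2 H)
    (α : H → H) (hmul : ∀ g h, α (g * h) = α g * α h) (hinv : ∀ g, α (α g) = g)
    (hidx : ∀ g h, α g ≠ g → α h ≠ h → α (g * h) = g * h) :
    ∃ q : H, ∀ g, α g = q * g * q⁻¹ := by
  classical
  obtain ⟨z, hzc, hzz, hz1, hcomm, hcen⟩ := extraspecial_two_structure hH
  have hα1 : α 1 = 1 := by
    have h := hmul 1 1
    rw [mul_one] at h
    exact (mul_eq_left.mp h.symm)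
  have hαinv : ∀ g, α g⁻¹ = (α g)⁻¹ := by
    intro g
    apply eq_inv_of_mul_eq_one_right
    rw [← hmul, mul_inv_cancel, hα1]
  by_cases hfix : ∀ g, α g = g
  · exact ⟨1, fun g => by rw [hfix g]; group⟩
  push Not at hfix
  obtain ⟨x, hx⟩ := hfix
  have hinvnf : ∀ g, α g ≠ g → α g⁻¹ ≠ g⁻¹ := by
    intro g hg h
    apply hg
    rw [hαinv] at h
    exact inv_injective h
  have hαx : ∀ y, α y ≠ y → α y = y * (x⁻¹ * α x) := by
    intro y hy
    have h1 := hidx x y⁻¹ hx (hinvnf y hy)
    rw [hmul, hαinv] at h1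
    have h2 : α x = x * y⁻¹ * α y := by rw [← h1]; group
    rw [h2]; group
  generalize hc : x⁻¹ * α x = c at hαx
  have hc1 : c ≠ 1 := by
    intro h
    apply hx
    have h2 := hαx x hx
    rw [h, mul_one] at h2
    exact h2
  have hαc : α c = c⁻¹ := by
    rw [← hc, hmul, hαinv, hinv]; group
  have hcfix : α c = c := by
    by_contra hne
    have h1 := hαx c hne
    rw [hαc] at h1
    have h3 : c ^ 3 = 1 := by
      calc c ^ 3 = c * (c * c) := by rw [pow_succ, pow_two, mul_assoc]
        _ = c * c⁻¹ := by rw [← h1]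
        _ = 1 := mul_inv_cancel c
    obtain ⟨k, hk⟩ := hH.1.1 c
    have hd : orderOf c ∣ Nat.gcd 3 (2 ^ k) :=
      Nat.dvd_gcd (orderOf_dvd_of_pow_eq_one h3) (orderOf_dvd_of_pow_eq_one hk)
    have hg : Nat.gcd 3 (2 ^ k) = 1 := Nat.Coprime.pow_right k (by norm_num)
    rw [hg] at hd
    exact hc1 (orderOf_eq_one_iff.mp (Nat.dvd_one.mp hd))
  have hcinv : c⁻¹ = c := hαc.symm.trans hcfix
  have hcomm_nf : ∀ g, α g ≠ g → c * g = g * c := by
    intro g hg
    have h1 := hαx g hg
    have h2 := hαx g⁻¹ (hinvnf g hg)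
    rw [hαinv, h1, mul_inv_rev, hcinv] at h2
    calc c * g = g * (g⁻¹ * c) * g := by group
      _ = g * (c * g⁻¹) * g := by rw [h2]
      _ = g * c := by group
  have hccen : c ∈ Subgroup.center H := by
    rw [Subgroup.mem_center_iff]
    intro g
    by_cases hg : α g = g
    · have hgx : α (g * x) ≠ g * x := by
        rw [hmul, hg]
        intro h
        exact hx (mul_left_cancel h)
      have h1 := hcomm_nf (g * x) hgx
      have h2 := hcomm_nf x hx
      have h3 : c * g * x = g * c * x := by rw [mul_assoc, h1, mul_assoc, mul_assoc, h2]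
      exact (mul_right_cancel h3).symm
    · exact (hcomm_nf g hg).symm
  have hcz : c = z := (hcen c hccen).resolve_left hc1
  have hzfix : α z = z := by rw [← hcz]; exact hcfix
  have hl1 : ∀ g, (if α g = g then 1 else z) = 1 ∨ (if α g = g then 1 else z) = z := by
    intro g
    by_cases h : α g = g <;> simp [h]
  have hl2 : ∀ g h, (if α (g * h) = g * h then 1 else z) =
      (if α g = g then 1 else z) * (if α h = h then 1 else z) := by
    intro g h
    by_cases hg : α g = g <;> by_cases hh : α h = h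
    · have h3 : α (g * h) = g * h := by rw [hmul, hg, hh]
      simp [hg, hh, h3]
    · have h3 : α (g * h) ≠ g * h := by
        rw [hmul, hg]
        intro h'
        exact hh (mul_left_cancel h')
      simp [hg, hh, h3]
    · have h3 : α (g * h) ≠ g * h := by
        rw [hmul, hh]
        intro h'
        exact hg (mul_right_cancel h')
      simp [hg, hh, h3]
    · have h3 : α (g * h) = g * h := hidx g h hg hh
      simp [hg, hh, h3, hzz]
  have hl3 : (if α z = z then 1 else z) = 1 := by simp [hzfix]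
  obtain ⟨q, hq⟩ := exists_commutator_eq z hzc hzz hz1 hcomm hcen
    (fun g => if α g = g then 1 else z) hl1 hl2 hl3
  refine ⟨q, fun g => ?_⟩
  have h1 := hq g
  by_cases hg : α g = g
  · simp only [hg, if_true] at h1
    rw [commutatorElement_eq_one_iff_mul_comm] at h1
    rw [hg, h1]; group
  · simp only [hg, if_false] at h1
    rw [hαx g hg, hcz]
    calc g * z = z * g := hzc g
      _ = ⁅q, g⁆ * g := by rw [h1]
      _ = q * g * q⁻¹ := by rw [commutatorElement_def]; group

/-- In a group whose commutators all lie in a centre of order 2, the centralizer of an element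
has index at most 2 in any subgroup. -/
theorem card_le_two_mul_card_inf_centralizer [Finite H]
    (hcard : Nat.card (Subgroup.center H) = 2)
    (hcommZ : ∀ g h : H, ⁅g, h⁆ ∈ Subgroup.center H) (K : Subgroup H) (y : H) :
    Nat.card K ≤ 2 * Nat.card ↥(K ⊓ Subgroup.centralizer {y}) := by
  have hc : ∀ g h k : H, ⁅g, h⁆ * k = k * ⁅g, h⁆ := fun g h k =>
    (Subgroup.mem_center_iff.mp (hcommZ g h) k).symm
  let f : ↥K →* ↥(Subgroup.center H) :=
    { toFun := fun k => ⟨⁅(k : H), y⁆, hcommZ _ _⟩
      map_one' := by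
        apply Subtype.ext
        simp
      map_mul' := by
        intro k k'
        apply Subtype.ext
        simp only [Subgroup.coe_mul]
        exact commutator_mul_left_of_central hc _ _ _ }
  have h1 : Nat.card f.ker * f.ker.index = Nat.card K := Subgroup.card_mul_index f.ker
  have h2 : f.ker.index = Nat.card f.range := Subgroup.index_ker f
  have h3 : Nat.card f.range ≤ 2 := hcard ▸ Subgroup.card_le_card_group f.range
  have h4 : Nat.card f.ker ≤ Nat.card ↥(K ⊓ Subgroup.centralizer {y}) := by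
    have h5 : f.ker.map K.subtype ≤ K ⊓ Subgroup.centralizer {y} := by
      rintro x ⟨k, hk, rfl⟩
      refine Subgroup.mem_inf.mpr ⟨k.2, ?_⟩
      rw [Subgroup.mem_centralizer_iff]
      intro h hh
      rw [Set.mem_singleton_iff] at hh
      subst hh
      have h6 : ⁅(k : H), h⁆ = 1 := congrArg Subtype.val (MonoidHom.mem_ker.mp hk)
      exact (commutatorElement_eq_one_iff_mul_comm.mp h6).symm
    calc Nat.card f.ker = Nat.card ↥(f.ker.map K.subtype) :=
          (Subgroup.card_map_of_injective K.subtype_injective).symm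
      _ ≤ _ := Subgroup.card_le_of_le h5
  calc Nat.card K = Nat.card f.ker * f.ker.index := h1.symm
    _ ≤ Nat.card ↥(K ⊓ Subgroup.centralizer {y}) * 2 := by
        rw [h2]; exact Nat.mul_le_mul h4 h3
    _ = 2 * Nat.card ↥(K ⊓ Subgroup.centralizer {y}) := by ring

/-- In a finite group whose commutators all lie in a centre of order 2 (e.g. an extraspecial
2-group), `|C_H(W)| * |W| ≤ 2 * |H|` for every subgroup `W`. -/
theorem card_centralizer_mul_card_le [Finite H] (hcard : Nat.card (Subgroup.center H) = 2)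
    (hcommZ : ∀ g h : H, ⁅g, h⁆ ∈ Subgroup.center H) :
    ∀ n : ℕ, ∀ W : Subgroup H, Nat.card H - Nat.card W ≤ n →
      Nat.card (Subgroup.centralizer (W : Set H)) * Nat.card W ≤ 2 * Nat.card H := by
  have htop : ∀ W : Subgroup H, W = ⊤ →
      Nat.card (Subgroup.centralizer (W : Set H)) * Nat.card W ≤ 2 * Nat.card H := by
    intro W hW
    rw [hW, Subgroup.coe_top, Subgroup.centralizer_univ, hcard, Subgroup.card_top]
  intro n
  induction n with
  | zero =>
    intro W hW
    apply htop
    apply Subgroup.eq_top_of_le_card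
    omega
  | succ n ih =>
    intro W hW
    by_cases hWtop : W = ⊤
    · exact htop W hWtop
    · obtain ⟨y, hy⟩ : ∃ y : H, y ∉ W := by
        by_contra hall
        push Not at hall
        exact hWtop (top_le_iff.mp fun x _ => hall x)
      have hle : W ≤ W ⊔ Subgroup.zpowers y := le_sup_left
      have hyW₁ : y ∈ W ⊔ Subgroup.zpowers y :=
        (le_sup_right : Subgroup.zpowers y ≤ W ⊔ Subgroup.zpowers y) (Subgroup.mem_zpowers y)
      have hdvd : Nat.card W ∣ Nat.card ↥(W ⊔ Subgroup.zpowers y) := Subgroup.card_dvd_of_le hle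
      have hne : Nat.card ↥(W ⊔ Subgroup.zpowers y) ≠ Nat.card W := by
        intro h
        have h2 := Subgroup.eq_of_le_of_card_ge hle (le_of_eq h)
        exact hy (by rw [h2]; exact hyW₁)
      have hpos : 0 < Nat.card W := Nat.card_pos
      have hpos₁ : 0 < Nat.card ↥(W ⊔ Subgroup.zpowers y) := Nat.card_pos
      have h2W : 2 * Nat.card W ≤ Nat.card ↥(W ⊔ Subgroup.zpowers y) := by
        obtain ⟨k, hk⟩ := hdvd
        rcases k with _ | _ | k
        · rw [hk] at hpos₁; simp at hpos₁
        · rw [hk] at hne; simp at hne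
        · rw [hk]; nlinarith
      have hW₁H : Nat.card ↥(W ⊔ Subgroup.zpowers y) ≤ Nat.card H := Subgroup.card_le_card_group _
      have hih := ih (W ⊔ Subgroup.zpowers y) (by omega)
      have hcen : Subgroup.centralizer (W : Set H) ⊓ Subgroup.centralizer {y} ≤
          Subgroup.centralizer ((W ⊔ Subgroup.zpowers y : Subgroup H) : Set H) := by
        intro k hk
        obtain ⟨hk1, hk2⟩ := Subgroup.mem_inf.mp hk
        have hsup : W ⊔ Subgroup.zpowers y ≤ Subgroup.centralizer {k} := by
          apply sup_le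
          · intro w hw
            rw [Subgroup.mem_centralizer_iff]
            intro h hh
            rw [Set.mem_singleton_iff] at hh
            subst hh
            exact (Subgroup.mem_centralizer_iff.mp hk1 w hw).symm
          · rw [Subgroup.zpowers_le, Subgroup.mem_centralizer_iff]
            intro h hh
            rw [Set.mem_singleton_iff] at hh
            subst hh
            exact (Subgroup.mem_centralizer_iff.mp hk2 y rfl).symm
        rw [Subgroup.mem_centralizer_iff]
        intro w hw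
        exact (Subgroup.mem_centralizer_iff.mp (hsup hw) k rfl).symm
      have h1 := card_le_two_mul_card_inf_centralizer hcard hcommZ
        (Subgroup.centralizer (W : Set H)) y
      have h3 := Subgroup.card_le_of_le hcen
      calc Nat.card (Subgroup.centralizer (W : Set H)) * Nat.card W
          ≤ (2 * Nat.card ↥(Subgroup.centralizer (W : Set H) ⊓ Subgroup.centralizer {y})) *
              Nat.card W := Nat.mul_le_mul_right _ h1
        _ ≤ (2 * Nat.card (Subgroup.centralizer ((W ⊔ Subgroup.zpowers y : Subgroup H) : Set H))) *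
              Nat.card W := Nat.mul_le_mul_right _ (Nat.mul_le_mul_left _ h3)
        _ = Nat.card (Subgroup.centralizer ((W ⊔ Subgroup.zpowers y : Subgroup H) : Set H)) *
              (2 * Nat.card W) := by ring
        _ ≤ Nat.card (Subgroup.centralizer ((W ⊔ Subgroup.zpowers y : Subgroup H) : Set H)) *
              Nat.card ↥(W ⊔ Subgroup.zpowers y) := Nat.mul_le_mul_left _ h2W
        _ ≤ 2 * Nat.card H := hih

/-- The order of a subgroup containing a normal subgroup `Z`, in terms of its image mod `Z`. -/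
theorem card_eq_card_map_mk'_mul [Finite H] (Z : Subgroup H) [Z.Normal] (N : Subgroup H)
    (hZN : Z ≤ N) :
    Nat.card N = Nat.card (N.map (QuotientGroup.mk' Z)) * Nat.card Z := by
  have hN : N = (N.map (QuotientGroup.mk' Z)).comap (QuotientGroup.mk' Z) := by
    rw [Subgroup.comap_map_eq_self]
    rw [QuotientGroup.ker_mk']
    exact hZN
  have h1 := Subgroup.card_mul_index ((N.map (QuotientGroup.mk' Z)).comap (QuotientGroup.mk' Z))
  have h2 := Subgroup.card_mul_index (N.map (QuotientGroup.mk' Z))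
  have h3 : ((N.map (QuotientGroup.mk' Z)).comap (QuotientGroup.mk' Z)).index =
      (N.map (QuotientGroup.mk' Z)).index :=
    Subgroup.index_comap_of_surjective _ (QuotientGroup.mk'_surjective Z)
  have h4 := Subgroup.card_eq_card_quotient_mul_card_subgroup Z
  rw [h3, ← hN] at h1
  have hpos : 0 < (N.map (QuotientGroup.mk' Z)).index :=
    Nat.pos_of_ne_zero Subgroup.index_ne_zero_of_finite
  have h5 : Nat.card N * (N.map (QuotientGroup.mk' Z)).index =
      Nat.card (N.map (QuotientGroup.mk' Z)) * Nat.card Z * (N.map (QuotientGroup.mk' Z)).index := by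
    rw [h1, h4, ← h2]; ring
  exact Nat.eq_of_mul_eq_mul_right hpos h5

/-- Let `a` be a multiplicative involution, not the identity, of a finite extraspecial 2-group
`H`, and `H₀ = {q | a q * q⁻¹ ∈ Z(H)}`. Then the subgroup generated by the elements
`a q * q⁻¹` is the centre of `H₀`: it consists of the `u ∈ H₀` commuting with all of `H₀`. -/
theorem extraspecial_two_commutator_closure [Finite H] (hH : Cfsg.IsExtraspecial 2 H)
    (a : H → H) (hmul : ∀ g h, a (g * h) = a g * a h) (hinv : ∀ g, a (a g) = g)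
    (hne : ∃ q, a q ≠ q) (u : H) :
    u ∈ Subgroup.closure (Set.range fun q => a q * q⁻¹) ↔
      (a u * u⁻¹ ∈ Subgroup.center H ∧
        ∀ w : H, a w * w⁻¹ ∈ Subgroup.center H → w * u = u * w) := by
  classical
  obtain ⟨z, hzc, hzz, hz1, hcomm, hcen⟩ := extraspecial_two_structure hH
  have hcard : Nat.card (Subgroup.center H) = 2 := hH.2
  have hzZ : z ∈ Subgroup.center H := Subgroup.mem_center_iff.mpr hzc
  have hcommZ : ∀ g h : H, ⁅g, h⁆ ∈ Subgroup.center H := by
    intro g h
    rcases hcomm g h with h1 | h1 <;> rw [h1]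
    · exact Subgroup.one_mem _
    · exact hzZ
  have hc : ∀ g h k : H, ⁅g, h⁆ * k = k * ⁅g, h⁆ := fun g h k =>
    (Subgroup.mem_center_iff.mp (hcommZ g h) k).symm
  have hml := commutator_mul_left_of_central hc
  have hmr := commutator_mul_right_of_central hc
  have hsq : ∀ g h : H, ⁅g, h⁆ * ⁅g, h⁆ = 1 := by
    intro g h
    rcases hcomm g h with h1 | h1 <;> rw [h1]
    · simp
    · exact hzz
  -- facts on `a`
  have ha1 : a 1 = 1 := by
    have h := hmul 1 1
    rw [mul_one] at h
    exact mul_eq_left.mp h.symm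
  have hainv : ∀ g, a g⁻¹ = (a g)⁻¹ := by
    intro g
    apply eq_inv_of_mul_eq_one_right
    rw [← hmul, mul_inv_cancel, ha1]
  have hacomm : ∀ g h, a ⁅g, h⁆ = ⁅a g, a h⁆ := by
    intro g h
    simp only [commutatorElement_def, hmul, hainv]
  have haz : a z = z := by
    have h1 : a z ∈ Subgroup.center H := by
      rw [Subgroup.mem_center_iff]
      intro g
      have h2 : g = a (a g) := (hinv g).symm
      rw [h2, ← hmul, ← hmul, hzc]
    rcases hcen _ h1 with h | h
    · exfalso
      apply hz1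
      rw [← hinv z, h, ha1]
    · exact h
  have hafix : ∀ g h : H, ⁅a g, a h⁆ = ⁅g, h⁆ := by
    intro g h
    rw [← hacomm]
    rcases hcomm g h with h1 | h1 <;> rw [h1]
    · exact ha1
    · exact haz
  -- squares are central
  have hsqZ : ∀ g : H, g * g ∈ Subgroup.center H := by
    intro g
    rw [Subgroup.mem_center_iff]
    intro h
    have h1 : ⁅g * g, h⁆ = 1 := by rw [hml, hsq]
    exact (commutatorElement_eq_one_iff_mul_comm.mp h1).symm
  have hγmul : ∀ g h : H, a (g * h) * (g * h)⁻¹ = (a g * g⁻¹) * (g * (a h * h⁻¹) * g⁻¹) := by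
    intro g h
    rw [hmul]; group
  -- the map `q ↦ a q * q⁻¹` modulo the centre is a homomorphism
  let γ : H →* H ⧸ Subgroup.center H :=
    MonoidHom.mk' (fun g => ((a g * g⁻¹ : H) : H ⧸ Subgroup.center H)) (by
      intro g h
      rw [hγmul, QuotientGroup.mk_mul]
      congr 1
      rw [QuotientGroup.eq]
      have h1 : (g * (a h * h⁻¹) * g⁻¹)⁻¹ * (a h * h⁻¹) = ⁅g, (a h * h⁻¹)⁻¹⁆ := by
        rw [commutatorElement_def]; group
      rw [h1]; exact hcommZ _ _)
  have hγker : ∀ g : H, g ∈ γ.ker ↔ a g * g⁻¹ ∈ Subgroup.center H := by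
    intro g
    rw [MonoidHom.mem_ker]
    exact QuotientGroup.eq_one_iff _
  have hrange_ker : ∀ g : H, a g * g⁻¹ ∈ γ.ker := by
    intro g
    rw [hγker]
    have h1 : a (a g * g⁻¹) * (a g * g⁻¹)⁻¹ = (g * (a g)⁻¹) * (g * (a g)⁻¹) := by
      rw [hmul, hinv, hainv]; group
    rw [h1]; exact hsqZ _
  have hcinv : ∀ g w : H, ⁅g⁻¹, w⁆ = ⁅g, w⁆ := by
    intro g w
    have h1 : ⁅g * g⁻¹, w⁆ = 1 := by rw [mul_inv_cancel, commutatorElement_one_left]
    rw [hml] at h1
    exact mul_left_cancel (h1.trans (hsq g w).symm)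
  have hrange_cent : ∀ g w : H, w ∈ γ.ker → ⁅a g * g⁻¹, w⁆ = 1 := by
    intro g w hw
    rw [hγker] at hw
    have h1 : ⁅a g, w⁆ = ⁅g, w⁆ := by
      have h2 : a w = (a w * w⁻¹) * w := by group
      have h3 : ⁅a g, a w * w⁻¹⁆ = 1 := by
        rw [commutatorElement_eq_one_iff_mul_comm]
        exact Subgroup.mem_center_iff.mp hw (a g)
      have h4 := hafix g w
      rw [h2, hmr, h3, one_mul] at h4
      exact h4
    rw [hml, h1, hcinv, hsq]
  have hγN : ∀ g : H, a g * g⁻¹ ∈ Subgroup.closure (Set.range fun q => a q * q⁻¹) :=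
    fun g => Subgroup.subset_closure ⟨g, rfl⟩
  generalize hN : Subgroup.closure (Set.range fun q => a q * q⁻¹) = N at hγN ⊢
  have hNle : N ≤ γ.ker ⊓ Subgroup.centralizer (γ.ker : Set H) := by
    rw [← hN, Subgroup.closure_le]
    rintro _ ⟨g, rfl⟩
    refine Subgroup.mem_inf.mpr ⟨hrange_ker g, ?_⟩
    rw [Subgroup.mem_centralizer_iff]
    intro w hw
    exact (commutatorElement_eq_one_iff_mul_comm.mp (hrange_cent g w hw)).symm
  have hzN : z ∈ N := by
    obtain ⟨q, hq⟩ := hne
    have hq1 : a q * q⁻¹ ≠ 1 := by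
      intro h
      exact hq (mul_inv_eq_one.mp h)
    by_cases hqZ : a q * q⁻¹ ∈ Subgroup.center H
    · have h1 := (hcen _ hqZ).resolve_left hq1
      rw [← h1]; exact hγN q
    · rw [Subgroup.mem_center_iff] at hqZ
      push Not at hqZ
      obtain ⟨h, hh⟩ := hqZ
      have h1 : ⁅a q * q⁻¹, h⁆ = z := by
        refine (hcomm _ _).resolve_left ?_
        intro h2
        exact hh (commutatorElement_eq_one_iff_mul_comm.mp h2).symm
      have h2 : h * (a q * q⁻¹) * h⁻¹ ∈ N := by
        have h3 : h * (a q * q⁻¹) * h⁻¹ = (a h * h⁻¹)⁻¹ * (a (h * q) * (h * q)⁻¹) := by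
          rw [hγmul]; group
        rw [h3]
        exact N.mul_mem (N.inv_mem (hγN h)) (hγN (h * q))
      have h4 : ⁅a q * q⁻¹, h⁆ = (a q * q⁻¹) * (h * (a q * q⁻¹) * h⁻¹)⁻¹ := by
        rw [commutatorElement_def]; group
      rw [← h1, h4]
      exact N.mul_mem (hγN q) (N.inv_mem h2)
  have hcardN : 2 * Nat.card H ≤ Nat.card N * Nat.card γ.ker := by
    have h1 : Nat.card γ.ker * γ.ker.index = Nat.card H := Subgroup.card_mul_index γ.ker
    have h2 : γ.ker.index = Nat.card γ.range := Subgroup.index_ker γ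
    have h3 : γ.range ≤ N.map (QuotientGroup.mk' (Subgroup.center H)) := by
      rintro _ ⟨g, rfl⟩
      exact ⟨a g * g⁻¹, hγN g, rfl⟩
    have h4 : Nat.card γ.range ≤ Nat.card (N.map (QuotientGroup.mk' (Subgroup.center H))) :=
      Subgroup.card_le_of_le h3
    have hZN : Subgroup.center H ≤ N := by
      intro c hc'
      rcases hcen c hc' with h | h
      · rw [h]; exact N.one_mem
      · rw [h]; exact hzN
    have h5 := card_eq_card_map_mk'_mul (Subgroup.center H) N hZN
    rw [hcard] at h5
    calc 2 * Nat.card H = 2 * (Nat.card γ.ker * Nat.card γ.range) := by rw [← h2, h1]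
      _ ≤ 2 * (Nat.card γ.ker * Nat.card (N.map (QuotientGroup.mk' (Subgroup.center H)))) :=
          Nat.mul_le_mul_left _ (Nat.mul_le_mul_left _ h4)
      _ = Nat.card N * Nat.card γ.ker := by rw [h5]; ring
  have hL := card_centralizer_mul_card_le hcard hcommZ (Nat.card H) γ.ker (Nat.sub_le _ _)
  have hZH₀ : Nat.card ↥(γ.ker ⊓ Subgroup.centralizer (γ.ker : Set H)) ≤
      Nat.card (Subgroup.centralizer (γ.ker : Set H)) := Subgroup.card_le_of_le inf_le_right
  have hkerpos : 0 < Nat.card γ.ker := Nat.card_pos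
  have hfinal : Nat.card ↥(γ.ker ⊓ Subgroup.centralizer (γ.ker : Set H)) ≤ Nat.card N := by
    have h1 : Nat.card ↥(γ.ker ⊓ Subgroup.centralizer (γ.ker : Set H)) * Nat.card γ.ker ≤
        Nat.card N * Nat.card γ.ker := by
      calc Nat.card ↥(γ.ker ⊓ Subgroup.centralizer (γ.ker : Set H)) * Nat.card γ.ker
          ≤ Nat.card (Subgroup.centralizer (γ.ker : Set H)) * Nat.card γ.ker :=
            Nat.mul_le_mul_right _ hZH₀
        _ ≤ 2 * Nat.card H := hL
        _ ≤ _ := hcardN
    exact Nat.le_of_mul_le_mul_right h1 hkerpos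
  have hEq : N = γ.ker ⊓ Subgroup.centralizer (γ.ker : Set H) :=
    Subgroup.eq_of_le_of_card_ge hNle hfinal
  rw [hEq, Subgroup.mem_inf, hγker, Subgroup.mem_centralizer_iff]
  constructor
  · rintro ⟨h1, h2⟩
    exact ⟨h1, fun w hw => h2 w ((hγker w).mpr hw)⟩
  · rintro ⟨h1, h2⟩
    exact ⟨h1, fun w hw => h2 w ((hγker w).mp hw)⟩

end Pairing

end Cfsg.Agent.Lib.helper36
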