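import Mathlib
import Cfsg.Agent.Lib.helper90.BG1363B
import Cfsg.Agent.S1350
import Cfsg.Agent.S1417
import Cfsg.Agent.S1418
import Cfsg.Agent.Lib.helper60.BGCentU
import Cfsg.Agent.Lib.helper56.BGT3B
import Cfsg.Agent.Lib.helper83.BGT3Z
import Cfsg.Agent.Lib.helper57.KWBasic
import Cfsg.Agent.Lib.helper8.BGTen4
import Cfsg.Agent.Lib.helper97.BGSeven1
import Cfsg.Agent.Lib.helper71.BGTenA
import Cfsg.Agent.Lib.helper69.BGKappaA
import Cfsg.Agent.Lib.helper27.BGKPrime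

/-!
# S1363, piece T2 (`case_tau2`): `r ∈ τ₂(H)` is impossible (helper36)

Exact statement of `tools/S1363_Skel.lean.txt`, namespace `Cfsg.Agent.Lib.helper90.BG1363`.
-/

set_option autoImplicit false

namespace Cfsg.Agent.Lib.helper90.BG1363

open Cfsg

variable {G : Type*} [Group G]

/-- If every element of `A` conjugates `U` into itself then `A` normalizes `U`. -/
theorem h36_le_normalizer (A U : Subgroup G)
    (h : ∀ a ∈ A, ∀ u ∈ U, a * u * a⁻¹ ∈ U) : A ≤ Subgroup.normalizer (U : Set G) := by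
  intro a ha
  rw [Subgroup.mem_normalizer_iff]
  intro x
  constructor
  · exact h a ha x
  · intro hx
    have h1 := h a⁻¹ (A.inv_mem ha) _ hx
    have e : a⁻¹ * (a * x * a⁻¹) * a⁻¹⁻¹ = x := by group
    rwa [e] at h1

/-- Splitting of an abelian group along a subgroup of coprime order and index. -/
theorem h36_split [Finite G] (U U1 : Subgroup G) (hcomm : ∀ a ∈ U, ∀ b ∈ U, a * b = b * a)
    (hU1 : U1 ≤ U) (hcop : (Nat.card U1).Coprime (U1.relIndex U)) :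
    ∀ u ∈ U, ∃ u1 ∈ U1, ∃ u2 ∈ U, u2 ^ (U1.relIndex U) = 1 ∧ u = u1 * u2 := by
  intro u hu
  have hn : (U1.subgroupOf U).Normal := by
    refine ⟨fun n hn g => ?_⟩
    have e : g * n * g⁻¹ = n := by
      have h1 : g * n = n * g := Subtype.ext (hcomm g g.2 n n.2)
      rw [h1, mul_assoc, mul_inv_cancel, mul_one]
    rw [e]
    exact hn
  have h1 := Subgroup.pow_index_mem (U1.subgroupOf U) (⟨u, hu⟩ : U)
  have h2 : u ^ (U1.relIndex U) ∈ U1 := by
    have h3 := Subgroup.mem_subgroupOf.mp h1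
    simpa [Subgroup.relIndex] using h3
  obtain ⟨m, hm⟩ : ∃ m : ℕ, m = U1.relIndex U := ⟨_, rfl⟩
  obtain ⟨n1, hn1⟩ : ∃ n1 : ℕ, n1 = Nat.card U1 := ⟨_, rfl⟩
  rw [← hm] at h2 hcop ⊢
  rw [← hn1] at hcop
  have hcard : n1 * m = Nat.card U := by
    rw [hn1, hm]
    exact Cfsg.Agent.Lib.helper69.bgk_card_mul_relIndex hU1
  have hb := Int.gcd_eq_gcd_ab (n1 : ℤ) (m : ℤ)
  have hg : Int.gcd (n1 : ℤ) (m : ℤ) = 1 := by
    rw [Int.gcd_natCast_natCast]
    exact hcop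
  rw [hg] at hb
  have hucard : u ^ (n1 * m) = 1 := by
    rw [hcard]
    exact orderOf_dvd_iff_pow_eq_one.mp (Subgroup.orderOf_dvd_natCard U hu)
  refine ⟨(u ^ m) ^ (Int.gcdB (n1 : ℤ) (m : ℤ)), U1.zpow_mem h2 _,
    (u ^ n1) ^ (Int.gcdA (n1 : ℤ) (m : ℤ)), U.zpow_mem (U.pow_mem hu _) _, ?_, ?_⟩
  · rw [← zpow_natCast, ← zpow_mul, mul_comm, zpow_mul, zpow_natCast, ← pow_mul, hucard, one_zpow]
  · rw [← zpow_natCast u m, ← zpow_natCast u n1, ← zpow_mul, ← zpow_mul, ← zpow_add, add_comm, ← hb]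
    simp

/-- `(U ⊓ Hs).relIndex U` divides `Hs.relIndex H` when `Hs` is normal in `H ≥ U`. -/
theorem h36_relIndex_dvd (H Hs U : Subgroup G) (hHs : Hs ≤ H)
    (hn : H ≤ Subgroup.normalizer (Hs : Set G)) (hUH : U ≤ H) :
    (U ⊓ Hs).relIndex U ∣ Hs.relIndex H := by
  rw [Subgroup.inf_relIndex_left]
  have : (Hs.subgroupOf H).Normal := (Subgroup.normal_subgroupOf_iff_le_normalizer hHs).mpr hn
  have h := Subgroup.relIndex_dvd_index_of_normal (Hs.subgroupOf H) (U.subgroupOf H)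
  rwa [Subgroup.relIndex_subgroupOf hUH] at h

/-- The setup of T2: the `σ(H)'`-part `U2` of `U`. -/
theorem h36_t2_setup [Finite G] (hG : IsMinSimpleOddOrder G) {M K U : Subgroup G} (c : Ctx M K U)
    (r : ℕ) (hr : r.Prime) (X : Subgroup G) (hXU : X ≤ U) (hX : Nat.card X = r)
    (H : Subgroup G) (hH : IsCoatom H) (hUH : U ≤ H)
    (hq : Nat.card K ∉ sigma H) (hrσ : r ∉ sigma H) :
    ∃ U2 : Subgroup G, U2 ≤ U ∧ K ≤ Subgroup.normalizer (U2 : Set G) ∧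
      (∀ u ∈ U, ∃ u1 ∈ U ⊓ sigmaCore H, ∃ u2 ∈ U2, u = u1 * u2) ∧ X ≤ U2 ∧
      ∀ p : ℕ, p.Prime → p ∣ Nat.card (U2 ⊔ K : Subgroup G) → p ∉ sigma H := by
  have hcomm := ctx_comm hG c
  have hKp := ctx_Kprime hG c
  have hUc : IsMulCommutative U := ⟨⟨fun a b => Subtype.ext (hcomm a a.2 b b.2)⟩⟩
  obtain ⟨hHsH, hHsπ, hHsidx⟩ := (Cfsg.Agent.S1350.result hG H hH).1
  have hnHs := Cfsg.Agent.Lib.helper71.BGA.le_normalizer_sigmaCore H
  obtain ⟨U1, hU1def⟩ : ∃ U1 : Subgroup G, U1 = U ⊓ sigmaCore H := ⟨_, rfl⟩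
  have hU1U : U1 ≤ U := hU1def ▸ inf_le_left
  have hU1Hs : U1 ≤ sigmaCore H := hU1def ▸ inf_le_right
  obtain ⟨m, hmdef⟩ : ∃ m : ℕ, m = U1.relIndex U := ⟨_, rfl⟩
  have hmdvd : m ∣ (sigmaCore H).relIndex H := by
    rw [hmdef, hU1def]
    exact h36_relIndex_dvd H (sigmaCore H) U hHsH hnHs hUH
  have hmσ : ∀ p : ℕ, p.Prime → p ∣ m → p ∉ sigma H := fun p hp hpm hpσ =>
    hHsidx p hp hpσ (hpm.trans hmdvd)
  have hU1σ : ∀ p : ℕ, p.Prime → p ∣ Nat.card U1 → p ∈ sigma H := fun p hp hpd =>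
    hHsπ p hp (hpd.trans (Subgroup.card_dvd_of_le hU1Hs))
  have hcop : (Nat.card U1).Coprime m :=
    Nat.coprime_of_dvd fun k hk h1 h2 => hmσ k hk h2 (hU1σ k hk h1)
  have hcard : Nat.card U1 * m = Nat.card U := by
    rw [hmdef]
    exact Cfsg.Agent.Lib.helper69.bgk_card_mul_relIndex hU1U
  obtain ⟨U2, hU2def⟩ :
      ∃ U2 : Subgroup G, U2 = Cfsg.Agent.Lib.helper27.BGKP.omegaSub U hUc m := ⟨_, rfl⟩
  have hmem : ∀ x : G, x ∈ U2 ↔ x ∈ U ∧ x ^ m = 1 := by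
    intro x
    rw [hU2def]
    exact Iff.rfl
  have hKU2 : K ≤ Subgroup.normalizer (U2 : Set G) := by
    apply h36_le_normalizer
    intro k hk x hx
    obtain ⟨hxU, hxm⟩ := (hmem x).mp hx
    refine (hmem _).mpr ⟨?_, ?_⟩
    · exact (Subgroup.mem_normalizer_iff.mp (c.hKU.normal hk) x).mp hxU
    · rw [conj_pow, hxm, mul_one, mul_inv_cancel]
  refine ⟨U2, fun x hx => ((hmem x).mp hx).1, hKU2, ?_, ?_, ?_⟩
  · intro u hu
    obtain ⟨u1, hu1, u2, hu2, hu2m, rfl⟩ := h36_split U U1 hcomm hU1U (hmdef ▸ hcop) u hu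
    exact ⟨u1, hU1def ▸ hu1, u2, (hmem u2).mpr ⟨hu2, hmdef ▸ hu2m⟩, rfl⟩
  · intro x hx
    have hrm : r ∣ m := by
      have h1 : r ∣ Nat.card U1 * m := by
        rw [hcard, ← hX]
        exact Subgroup.card_dvd_of_le hXU
      rcases (Nat.Prime.dvd_mul hr).mp h1 with h | h
      · exact absurd (hU1σ r hr h) hrσ
      · exact h
    refine (hmem x).mpr ⟨hXU hx, ?_⟩
    have hxr : x ^ r = 1 := by
      have h2 := Subgroup.orderOf_dvd_natCard X hx
      rw [hX] at h2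
      exact orderOf_dvd_iff_pow_eq_one.mp h2
    obtain ⟨d, rfl⟩ := hrm
    rw [pow_mul, hxr, one_pow]
  · intro p hp hpd
    have h1 := Cfsg.Agent.Lib.helper83.BGT3.zl_card_sup_dvd_mul_of_le_normalizer K U2 hKU2
    rw [sup_comm] at h1
    rcases (Nat.Prime.dvd_mul hp).mp (hpd.trans h1) with h | h
    · rw [(Nat.prime_dvd_prime_iff_eq hp hKp).mp h]
      exact hq
    · have : Fact p.Prime := ⟨hp⟩
      obtain ⟨x, hx⟩ := exists_prime_orderOf_dvd_card' p h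
      have hxm : x ^ m = 1 := Subtype.ext (by
        rw [Subgroup.coe_pow]
        exact ((hmem x.1).mp x.2).2)
      exact hmσ p hp (hx ▸ orderOf_dvd_of_pow_eq_one hxm)

/-- PIECE T2: `r ∈ τ₂(H)` is impossible. -/
theorem case_tau2 [Finite G] (hG : IsMinSimpleOddOrder G) {M K U : Subgroup G} (c : Ctx M K U)
    (r : ℕ) (X : Subgroup G) (hXU : X ≤ U) (hX : Nat.card X = r)
    (hKX : K ≤ Subgroup.normalizer (X : Set G))
    (H : Subgroup G) (hH : IsCoatom H) (hUH : U ≤ H) (hKH : K ≤ H)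
    (hq : Nat.card K ∉ sigma H) (hrH : r ∈ tau2 H) : False := by
  obtain ⟨hrp, hrσ, hr2, hr1⟩ := id hrH
  have : Fact r.Prime := ⟨hrp⟩
  have hcomm := ctx_comm hG c
  have hKp := ctx_Kprime hG c
  obtain ⟨U2, hU2U, hKU2, hsplit, hXU2, hprimes⟩ :=
    h36_t2_setup hG c r hrp X hXU hX H hH hUH hq hrσ
  have hHall := (Cfsg.Agent.S1350.result hG H hH).1
  have hnHs := Cfsg.Agent.Lib.helper71.BGA.le_normalizer_sigmaCore H
  obtain ⟨E, hE, hU2KE⟩ := Cfsg.Agent.Lib.helper60.BGCentU.exists_compl_ge hG H hH (U2 ⊔ K)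
    (sup_le (hU2U.trans hUH) hKH) hprimes
  have hU2E : U2 ≤ E := le_sup_left.trans hU2KE
  have hKE : K ≤ E := le_sup_right.trans hU2KE
  obtain ⟨A₀, hA₀H, hA₀e, hA₀c⟩ := Cfsg.Agent.Lib.helper8.bg_exists_elemAb_sq H r hr2 hr1
  obtain ⟨g, hgH, hgA⟩ := Cfsg.Agent.Lib.helper97.bg7_conj_into_compl H E hE r hrσ A₀ hA₀H
    (IsPGroup.of_card (n := 2) hA₀c)
  obtain ⟨A, hAdef⟩ : ∃ A : Subgroup G, A = A₀.map (MulAut.conj g).toMonoidHom := ⟨_, rfl⟩
  have hAE : A ≤ E := by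
    rw [hAdef]
    rintro _ ⟨x, hx, rfl⟩
    exact hgA x hx
  have hAe : IsElementaryAbelian r A := by
    obtain ⟨h1, h2⟩ := (Cfsg.Agent.Lib.helper8.bg_elemAb_iff A₀).mp hA₀e
    rw [Cfsg.Agent.Lib.helper8.bg_elemAb_iff, hAdef]
    constructor
    · rintro _ ⟨x, hx, rfl⟩ _ ⟨y, hy, rfl⟩
      show g * x * g⁻¹ * (g * y * g⁻¹) = g * y * g⁻¹ * (g * x * g⁻¹)
      have h3 := h1 x hx y hy
      calc g * x * g⁻¹ * (g * y * g⁻¹) = g * (x * y) * g⁻¹ := by group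
        _ = g * (y * x) * g⁻¹ := by rw [h3]
        _ = g * y * g⁻¹ * (g * x * g⁻¹) := by group
    · rintro _ ⟨x, hx, rfl⟩
      show (g * x * g⁻¹) ^ r = 1
      rw [conj_pow, h2 x hx, mul_one, mul_inv_cancel]
  have hAc : Nat.card A = r ^ 2 := by
    rw [hAdef, Subgroup.card_map_of_injective (MulAut.conj g).injective]
    exact hA₀c
  have hEH : E ≤ H := hE.1
  have hAH : A ≤ H := hAE.trans hEH
  obtain ⟨⟨hEN, hXsub⟩, -, -⟩ :=
    Cfsg.Agent.S1418.result hG H hH E hE r hrH A ⟨hAE, hAe, hAc⟩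
  obtain ⟨hnil, hsyl, -, -, -, -⟩ :=
    Cfsg.Agent.S1417.result hG H hH r hrH A ⟨hAH, hAe, hAc⟩
  have hXA : X ≤ A := hXsub X (hXU2.trans hU2E) hX
  have hApg : IsPGroup r A := IsPGroup.of_card (n := 2) hAc
  obtain ⟨k₀, hk₀, hk₀1⟩ : ∃ k ∈ K, k ≠ 1 := by
    obtain ⟨a, ha⟩ := (Subgroup.ne_bot_iff_exists_ne_one).mp c.hK1
    exact ⟨a.1, a.2, fun h => ha (Subtype.ext h)⟩
  -- Step 3: `U2` centralizes `A`
  have hstepa : ∀ w ∈ U2, (orderOf w).Coprime r → w ∈ Subgroup.centralizer (A : Set G) := by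
    intro w hw hcop
    obtain ⟨v, hv, rfl⟩ := ctx_comm_surj hG c U2 hU2U hKU2 k₀ hk₀ hk₀1 w hw
    have hvX : v ∈ Subgroup.normalizer (X : Set G) := by
      apply Subgroup.centralizer_le_normalizer
      rw [Subgroup.mem_centralizer_iff]
      intro x hx
      exact hcomm x (hXU hx) v (hU2U hv)
    exact Cfsg.Agent.Lib.helper56.BGT3.comm_centralizes_norm A X hAe hAc hXA hX
      (hEN (hU2E hv)) hvX (hEN (hKE hk₀)) (hKX hk₀) hcop
  have hstepb : ∀ w ∈ U2, (∃ e : ℕ, w ^ (r ^ e) = 1) →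
      w ∈ Subgroup.centralizer (A : Set G) := by
    rintro w hw ⟨e, hwe⟩
    have hZ : IsPGroup r (Subgroup.zpowers w) := by
      obtain ⟨j, -, hj⟩ := (Nat.dvd_prime_pow hrp).mp (orderOf_dvd_of_pow_eq_one hwe)
      exact IsPGroup.of_card (n := j) (by rw [Nat.card_zpowers, hj])
    have hwH : w ∈ H := hUH (hU2U hw)
    have hZN : Subgroup.zpowers w ≤ Subgroup.normalizer (A : Set G) := by
      rw [Subgroup.zpowers_le]
      exact hEN (hU2E hw)
    have hZA : IsPGroup r (Subgroup.zpowers w ⊔ A : Subgroup G) :=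
      IsPGroup.to_sup_of_normal_right' hZ hApg hZN
    obtain ⟨P, hP⟩ := (hZA.comap_subtype (K := H)).exists_le_sylow
    have hPc := (hsyl P).1
    rw [Subgroup.mem_centralizer_iff]
    intro a ha
    have haH : a ∈ H := hAH ha
    have h1 : (⟨w, hwH⟩ : H) ∈ (P : Subgroup H) :=
      hP (show (⟨w, hwH⟩ : H) ∈ (Subgroup.zpowers w ⊔ A).subgroupOf H from
        Subgroup.mem_subgroupOf.mpr (Subgroup.mem_sup_left (Subgroup.mem_zpowers w)))
    have h2 : (⟨a, haH⟩ : H) ∈ (P : Subgroup H) :=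
      hP (show (⟨a, haH⟩ : H) ∈ (Subgroup.zpowers w ⊔ A).subgroupOf H from
        Subgroup.mem_subgroupOf.mpr (Subgroup.mem_sup_right ha))
    have h3 := hPc.is_comm.comm (⟨⟨a, haH⟩, h2⟩ : (P : Subgroup H)) ⟨⟨w, hwH⟩, h1⟩
    exact congrArg (fun z : (P : Subgroup H) => ((z : H) : G)) h3
  have hU2A : U2 ≤ Subgroup.centralizer (A : Set G) := by
    intro w hw
    have hn0 : orderOf w ≠ 0 := (orderOf_pos w).ne'
    obtain ⟨e, t, ht, hn⟩ := Nat.exists_eq_pow_mul_and_not_dvd hn0 r hrp.ne_one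
    have hcop0 : Nat.Coprime r t := (Nat.Prime.coprime_iff_not_dvd hrp).mpr ht
    have hcop : Nat.Coprime (r ^ e) t := Nat.Coprime.pow_left e hcop0
    have hb := Int.gcd_eq_gcd_ab ((r ^ e : ℕ) : ℤ) (t : ℤ)
    have hg : Int.gcd ((r ^ e : ℕ) : ℤ) (t : ℤ) = 1 := by
      rw [Int.gcd_natCast_natCast]
      exact hcop
    rw [hg] at hb
    have hw1 : w ^ (r ^ e) ∈ Subgroup.centralizer (A : Set G) := by
      apply hstepa _ (U2.pow_mem hw _)
      have h1 : orderOf (w ^ (r ^ e)) ∣ t := by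
        apply orderOf_dvd_of_pow_eq_one
        rw [← pow_mul, ← hn, pow_orderOf_eq_one]
      exact Nat.Coprime.coprime_dvd_left h1 hcop0.symm
    have hw2 : w ^ t ∈ Subgroup.centralizer (A : Set G) := by
      apply hstepb _ (U2.pow_mem hw _) ⟨e, ?_⟩
      rw [← pow_mul, mul_comm, ← hn, pow_orderOf_eq_one]
    have hweq : w = (w ^ (r ^ e)) ^ (Int.gcdA ((r ^ e : ℕ) : ℤ) (t : ℤ)) *
        (w ^ t) ^ (Int.gcdB ((r ^ e : ℕ) : ℤ) (t : ℤ)) := by
      rw [← zpow_natCast w (r ^ e), ← zpow_natCast w t, ← zpow_mul, ← zpow_mul, ← zpow_add, ← hb]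
      simp
    rw [hweq]
    exact Subgroup.mul_mem _ (Subgroup.zpow_mem _ hw1 _) (Subgroup.zpow_mem _ hw2 _)
  -- Step 4
  obtain ⟨C, hCdef⟩ :
      ∃ C : Subgroup G, C = sigmaCore H ⊓ Subgroup.centralizer (U2 : Set G) := ⟨_, rfl⟩
  have hCmem : ∀ x, x ∈ C ↔ x ∈ sigmaCore H ∧ ∀ y ∈ U2, y * x = x * y := by
    intro x
    rw [hCdef, Subgroup.mem_inf, Subgroup.mem_centralizer_iff]
    exact Iff.rfl
  have hHsconj : ∀ h ∈ H, ∀ x ∈ sigmaCore H, h * x * h⁻¹ ∈ sigmaCore H := fun h hh x hx =>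
    (Subgroup.mem_normalizer_iff.mp (hnHs hh) x).mp hx
  have hAU2 : ∀ a ∈ A, ∀ y ∈ U2, y * a = a * y := fun a ha y hy =>
    ((Subgroup.mem_centralizer_iff.mp (hU2A hy)) a ha).symm
  have hU1C : U ⊓ sigmaCore H ≤ C := by
    intro x hx
    obtain ⟨hxU, hxHs⟩ := Subgroup.mem_inf.mp hx
    exact (hCmem x).mpr ⟨hxHs, fun y hy => hcomm y (hU2U hy) x hxU⟩
  by_cases hCU : C ≤ U ⊓ sigmaCore H
  · -- (α)
    have hAN : A ≤ Subgroup.normalizer (U : Set G) := by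
      apply h36_le_normalizer
      intro a ha u hu
      obtain ⟨u1, hu1, u2, hu2, rfl⟩ := hsplit u hu
      obtain ⟨hu1U, hu1Hs⟩ := Subgroup.mem_inf.mp hu1
      have h1 : a * u1 * a⁻¹ ∈ C := by
        refine (hCmem _).mpr ⟨hHsconj a (hAH ha) u1 hu1Hs, ?_⟩
        intro y hy
        have e1 : Commute y a := hAU2 a ha y hy
        have e2 : Commute y u1 := hcomm y (hU2U hy) u1 hu1U
        exact ((e1.mul_right e2).mul_right e1.inv_right).eq
      have h2 : a * u1 * a⁻¹ ∈ U := (Subgroup.mem_inf.mp (hCU h1)).1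
      have e3 := (Commute.inv_right (show Commute u2 a from hAU2 a ha u2 hu2)).eq
      have e : a * (u1 * u2) * a⁻¹ = (a * u1 * a⁻¹) * u2 := by
        simp only [mul_assoc]
        rw [e3]
      rw [e]
      exact U.mul_mem h2 (hU2U hu2)
    have hAM : A ≤ M := hAN.trans c.hNU
    have hrk := c.hrk r hrp (by rw [← hX]; exact Subgroup.card_dvd_of_le hXU)
    have hAeM := (Cfsg.Agent.Lib.helper8.bg_elemAb_iff A).mp hAe
    have hle := hrk (A.subgroupOf M)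
      ⟨⟨fun a b => Subtype.ext (Subtype.ext (hAeM.1 a.1.1 a.2 b.1.1 b.2))⟩⟩
      (fun a ha => Subtype.ext (by
        rw [Subgroup.coe_pow]
        exact hAeM.2 a.1 ha))
    rw [Nat.card_congr (Subgroup.subgroupOfEquivOfLe hAM).toEquiv, hAc] at hle
    have h2le := hrp.two_le
    nlinarith
  · -- (β)
    have hCnil : Group.IsNilpotent C :=
      Cfsg.Agent.Lib.helper57.kw_isNilpotent_of_le hnil (hCdef ▸ inf_le_left)
    have hlt : (U ⊓ sigmaCore H).subgroupOf C < ⊤ := by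
      rw [lt_top_iff_ne_top, Ne, Subgroup.subgroupOf_eq_top]
      exact hCU
    have hnc := Group.normalizerCondition_of_isNilpotent (G := C) _ hlt
    obtain ⟨n', hn'N, hn'U1⟩ := SetLike.exists_of_lt hnc
    have hN'U : (Subgroup.normalizer (((U ⊓ sigmaCore H).subgroupOf C : Subgroup C) : Set C)).map
        C.subtype ≤ Subgroup.normalizer (U : Set G) := by
      apply h36_le_normalizer
      rintro _ ⟨g', hg', rfl⟩ u hu
      obtain ⟨u1, hu1, u2, hu2, rfl⟩ := hsplit u hu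
      have hg'C : (g' : G) ∈ C := g'.2
      have h1 : (g' : G) * u1 * (g' : G)⁻¹ ∈ U ⊓ sigmaCore H := by
        have h0 := (Subgroup.mem_normalizer_iff.mp hg' ⟨u1, hU1C hu1⟩).mp
          (Subgroup.mem_subgroupOf.mpr hu1)
        exact Subgroup.mem_subgroupOf.mp h0
      have e1 : u2 * (g' : G) = (g' : G) * u2 := ((hCmem _).mp hg'C).2 u2 hu2
      have e3 := (Commute.inv_right (show Commute u2 (g' : G) from e1)).eq
      have e : (g' : G) * (u1 * u2) * (g' : G)⁻¹ = ((g' : G) * u1 * (g' : G)⁻¹) * u2 := by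
        simp only [mul_assoc]
        rw [e3]
      show (g' : G) * (u1 * u2) * (g' : G)⁻¹ ∈ U
      rw [e]
      exact U.mul_mem (Subgroup.mem_inf.mp h1).1 (hU2U hu2)
    have hnN : (n' : G) ∈ Subgroup.normalizer (U : Set G) := hN'U ⟨n', hn'N, rfl⟩
    obtain ⟨u, hu, k, hk, hnk⟩ := ctx_norm hG c _ hnN
    have hnC : (n' : G) ∈ C := n'.2
    have hnHs : (n' : G) ∈ sigmaCore H := ((hCmem _).mp hnC).1
    have hk1 : k ≠ 1 := by
      rintro rfl
      rw [mul_one] at hnk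
      apply hn'U1
      rw [Subgroup.mem_subgroupOf]
      exact Subgroup.mem_inf.mpr ⟨hnk ▸ hu, hnHs⟩
    obtain ⟨v, hv, huv⟩ := ctx_comm_surj hG c U le_rfl c.hKU.normal k hk hk1 u hu
    have hkeq : k = v⁻¹ * (n' : G) * v⁻¹⁻¹ := by
      rw [hnk, huv]
      group
    have hkHs : k ∈ sigmaCore H := by
      rw [hkeq]
      exact hHsconj v⁻¹ (H.inv_mem (hUH hv)) _ hnHs
    have hko : orderOf k = Nat.card K := by
      have h1 := Subgroup.orderOf_dvd_natCard K hk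
      rcases (Nat.dvd_prime hKp).mp h1 with h | h
      · exact absurd (orderOf_eq_one_iff.mp h) hk1
      · exact h
    have hqd : Nat.card K ∣ Nat.card (sigmaCore H) :=
      hko ▸ Subgroup.orderOf_dvd_natCard _ hkHs
    exact hq (hHall.2.1 _ hKp hqd)

end Cfsg.Agent.Lib.helper90.BG1363
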