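-- S5238 block G (helper65's split s5238g), piece HP (owner helper36).
import Mathlib
import Cfsg.Agent.Lib.helper68.HallPet
import Cfsg.Agent.Lib.helper65.PearlPow

set_option autoImplicit false

namespace Cfsg.Agent.Lib.helper65.PearlG

open Cfsg.Agent.Lib.helper68 Cfsg.Agent.Lib.helper65.PearlPow

variable {G : Type*} [Group G] [Finite G]

/-- HP. Hall–Petrescu inside a subgroup `T`, modulo a subgroup `N`. -/
theorem pg_hp (p : ℕ) [Fact p.Prime] (hGp : IsPGroup p G) (T N : Subgroup G)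
    (hM : ∀ k, 2 ≤ k → ∀ a : ↥T, a ∈ gam ↥T k → (a : G) ^ (p.choose k) ∈ N) (a b : G) (ha : a ∈ T)
    (hb : b ∈ T) : ∃ z ∈ N, (a * b) ^ p = a ^ p * b ^ p * z := by
  have hTp : IsPGroup p T := hGp.to_subgroup T
  haveI : Group.IsNilpotent T := hTp.isNilpotent
  obtain ⟨c, hc⟩ := (Subgroup.nilpotent_iff_lowerCentralSeries (G := T)).mp inferInstance
  obtain ⟨z, hz, e⟩ := hall_petrescu_mem c hc (N.subgroupOf T) p
    (fun k hk _ a ha => by
      rw [Subgroup.mem_subgroupOf]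
      push_cast
      exact hM k hk a ha) ⟨a, ha⟩ ⟨b, hb⟩
  refine ⟨(z : G), Subgroup.mem_subgroupOf.mp hz, ?_⟩
  have h1 := congrArg (Subtype.val) e
  simpa using h1

end Cfsg.Agent.Lib.helper65.PearlG
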