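-- S5238 block G (helper65's split s5238g), piece K9B (owner helper36).
import Mathlib
import Cfsg.Agent.Lib.helper68.HallPet
import Cfsg.Agent.Lib.helper65.PearlPow

set_option autoImplicit false

namespace Cfsg.Agent.Lib.helper65.PearlG

open Cfsg.Agent.Lib.helper68 Cfsg.Agent.Lib.helper65.PearlPow
open scoped commutatorElement

variable {G : Type*} [Group G] [Finite G]

/-- K9b. Lower central series of a subgroup, additive bound. -/
theorem pg_lcs_sub_add (T : Subgroup G) (j : ℕ)
    (h2 : ∀ a b : ↥T, com (a : G) (b : G) ∈ gam G (j + 1)) (k : ℕ) (hk : 2 ≤ k) (a : ↥T)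
    (ha : a ∈ gam ↥T k) : (a : G) ∈ gam G (j + k - 1) := by
  have key : ∀ d : ℕ, (⊤ : Subgroup ↥T).lowerCentralSeries (d + 1) ≤
      (gam G (j + d + 1)).comap T.subtype := by
    intro d
    induction d with
    | zero =>
      rw [Subgroup.lowerCentralSeries_succ, Subgroup.lowerCentralSeries_zero,
        Subgroup.commutator_le]
      intro g₁ _ g₂ _
      rw [Subgroup.mem_comap]
      have h3 := h2 g₁⁻¹ g₂⁻¹
      have e : (T.subtype ⁅g₁, g₂⁆ : G) = com ((g₁⁻¹ : ↥T) : G) ((g₂⁻¹ : ↥T) : G) := by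
        unfold com
        rw [commutatorElement_def]
        simp
      rw [e]
      exact h3
    | succ d ih =>
      rw [Subgroup.lowerCentralSeries_succ, Subgroup.commutator_le]
      intro g₁ hg₁ g₂ _
      rw [Subgroup.mem_comap]
      have h1 : (g₁ : G) ∈ gam G (j + d + 1) := ih hg₁
      have h3 : (g₂ : G) ∈ gam G 1 := by
        unfold gam
        simp
      have h4 : ⁅(g₁ : G), (g₂ : G)⁆ ∈ ⁅gam G (j + d + 1), gam G 1⁆ :=
        Subgroup.commutator_mem_commutator h1 h3
      have h5 := gam_comm_le (H := G) (j + d + 1) 1 h4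
      have e : (T.subtype ⁅g₁, g₂⁆ : G) = ⁅(g₁ : G), (g₂ : G)⁆ := by
        simp [commutatorElement_def]
      rw [e]
      exact h5
  obtain ⟨d, rfl⟩ : ∃ d, k = d + 2 := ⟨k - 2, by omega⟩
  have h6 : a ∈ (⊤ : Subgroup ↥T).lowerCentralSeries (d + 1) := ha
  have h7 := key d h6
  rw [Subgroup.mem_comap] at h7
  have e : j + (d + 2) - 1 = j + d + 1 := by omega
  rw [e]
  exact h7

end Cfsg.Agent.Lib.helper65.PearlG
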