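import Mathlib
import Cfsg.Agent.Lib.helper68.W2PDefs

/-!
# S0720 piece L0 (helper36): `zeta_indep`

The `p`-th roots of unity `1, ζ, …, ζ^(p-1)` satisfy only the rational relation `∑ ζ^s = 0`.
-/

set_option autoImplicit false

namespace Cfsg.Agent.Lib.helper36.W2P

open Finset
open scoped Classical
open Cfsg.Agent.Lib.helper68.W2P

variable {p : ℕ} [Fact p.Prime]

/-- Reindexing a sum over `ZMod p` as a sum over `range p`. -/
theorem w2p_sum_zmod {M : Type*} [AddCommMonoid M] (f : ZMod p → M) :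
    ∑ s : ZMod p, f s = ∑ i ∈ Finset.range p, f (i : ZMod p) := by
  have hp : p.Prime := Fact.out
  haveI : NeZero p := ⟨hp.ne_zero⟩
  refine Finset.sum_nbij' (fun s => s.val) (fun i => (i : ZMod p)) ?_ ?_ ?_ ?_ ?_
  · intro s _
    exact Finset.mem_range.mpr (ZMod.val_lt s)
  · intro i _
    exact Finset.mem_univ _
  · intro s _
    exact ZMod.natCast_zmod_val s
  · intro i hi
    exact ZMod.val_natCast_of_lt (Finset.mem_range.mp hi)
  · intro s _
    rw [ZMod.natCast_zmod_val]

theorem zeta_indep {ζ : ℂ} (hζ : IsPrimitiveRoot ζ p) (c : ZMod p → ℚ)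
    (h : ∑ s : ZMod p, ((c s : ℚ) : ℂ) * ζ ^ s.val = 0) : ∀ s, c s = c 0 := by
  have hp : p.Prime := Fact.out
  haveI : NeZero p := ⟨hp.ne_zero⟩
  set a : ℚ := c ((p - 1 : ℕ) : ZMod p) with ha
  have h' : ∑ i ∈ Finset.range p, ((c (i : ZMod p) : ℚ) : ℂ) * ζ ^ i = 0 := by
    rw [w2p_sum_zmod] at h
    rw [← h]
    refine Finset.sum_congr rfl fun i hi => ?_
    rw [ZMod.val_natCast_of_lt (Finset.mem_range.mp hi)]
  let Q : Polynomial ℚ :=
    ∑ i ∈ Finset.range p, Polynomial.C (c (i : ZMod p) - a) * Polynomial.X ^ i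
  have hcoeff : ∀ m : ℕ, Q.coeff m = if m < p then c (m : ZMod p) - a else 0 := by
    intro m
    simp only [Q, Polynomial.finset_sum_coeff, Polynomial.coeff_C_mul, Polynomial.coeff_X_pow]
    by_cases hm : m < p
    · rw [if_pos hm, Finset.sum_eq_single m]
      · simp
      · intro b _ hb
        rw [if_neg (fun h => hb h.symm), mul_zero]
      · intro hm'
        exact absurd (Finset.mem_range.mpr hm) hm'
    · rw [if_neg hm]
      apply Finset.sum_eq_zero
      intro b hb
      have hb' := Finset.mem_range.mp hb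
      rw [if_neg (by omega), mul_zero]
  have hQ : Polynomial.aeval ζ Q = 0 := by
    simp only [Q, map_sum, map_mul, Polynomial.aeval_C, map_pow, Polynomial.aeval_X]
    have h1 : ∀ i ∈ Finset.range p, (algebraMap ℚ ℂ) (c (i : ZMod p) - a) * ζ ^ i
        = ((c (i : ZMod p) : ℚ) : ℂ) * ζ ^ i - (a : ℂ) * ζ ^ i := by
      intro i _
      rw [map_sub, sub_mul]
      rfl
    rw [Finset.sum_congr rfl h1, Finset.sum_sub_distrib, h', ← Finset.mul_sum,
      hζ.geom_sum_eq_zero hp.one_lt]
    simp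
  have hdegmin : (minpoly ℚ ζ).degree = ((p - 1 : ℕ) : WithBot ℕ) := by
    rw [← Polynomial.cyclotomic_eq_minpoly_rat hζ hp.pos, Polynomial.degree_cyclotomic,
      Nat.totient_prime hp]
  have hdeg : Q.degree < ((p - 1 : ℕ) : WithBot ℕ) := by
    rw [Polynomial.degree_lt_iff_coeff_zero]
    intro m hm
    rw [hcoeff]
    by_cases hmp : m < p
    · rw [if_pos hmp]
      have : m = p - 1 := by omega
      rw [this, ha]; simp
    · rw [if_neg hmp]
  have hQ0 : Q = 0 := by
    by_contra hne
    have := minpoly.degree_le_of_ne_zero ℚ ζ hne hQ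
    rw [hdegmin] at this
    exact absurd this (not_le.mpr hdeg)
  have hall : ∀ s : ZMod p, c s = a := by
    intro s
    have h1 := hcoeff s.val
    rw [hQ0, Polynomial.coeff_zero, if_pos (ZMod.val_lt s), ZMod.natCast_zmod_val] at h1
    linarith
  intro s
  rw [hall s, hall 0]

end Cfsg.Agent.Lib.helper36.W2P
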