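import Mathlib
import Cfsg.Agent.Lib.helper95.APDefs

set_option autoImplicit false

namespace Cfsg.Agent.Lib.helper95.AP

open Equiv

/-- the list `[s, s+1, ..., s+l-1]` in `Fin n` -/
def h36lst (n : ℕ) [NeZero n] (s l : ℕ) : List (Fin n) := (List.range' s l).map (Fin.ofNat n)

/-- forward cycle on `[s, s+l)` -/
def h36fw (n : ℕ) [NeZero n] (s l : ℕ) : Perm (Fin n) := List.formPerm (h36lst n s l)

theorem h36lst_length (n : ℕ) [NeZero n] (s l : ℕ) : (h36lst n s l).length = l := by
  simp [h36lst]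

theorem h36lst_nodup (n : ℕ) [NeZero n] (s l : ℕ) (hsl : s + l ≤ n) : (h36lst n s l).Nodup := by
  unfold h36lst
  apply List.Nodup.map_on _ (List.nodup_range' 1)
  intro x hx y hy hxy
  rw [List.mem_range'_1] at hx hy
  have h1 := congrArg Fin.val hxy
  rw [Fin.val_ofNat, Fin.val_ofNat, Nat.mod_eq_of_lt (by omega), Nat.mod_eq_of_lt (by omega)] at h1
  exact h1

theorem h36lst_getElem (n : ℕ) [NeZero n] (s l : ℕ) (hsl : s + l ≤ n) (i : ℕ)
    (hi : i < (h36lst n s l).length) : (((h36lst n s l)[i] : Fin n) : ℕ) = s + i := by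
  have hi' : i < l := by rw [h36lst_length] at hi; exact hi
  simp only [h36lst, List.getElem_map, List.getElem_range', Fin.val_ofNat]
  rw [Nat.mod_eq_of_lt (by omega)]
  omega

theorem h36lst_mem (n : ℕ) [NeZero n] (s l : ℕ) (hsl : s + l ≤ n) (z : Fin n) :
    z ∈ h36lst n s l ↔ s ≤ z.val ∧ z.val < s + l := by
  unfold h36lst
  rw [List.mem_map]
  constructor
  · rintro ⟨i, hi, rfl⟩
    rw [List.mem_range'_1] at hi
    rw [Fin.val_ofNat, Nat.mod_eq_of_lt (by omega)]
    exact hi
  · rintro ⟨h1, h2⟩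
    refine ⟨z.val, List.mem_range'_1.mpr ⟨h1, h2⟩, ?_⟩
    apply Fin.ext
    rw [Fin.val_ofNat, Nat.mod_eq_of_lt z.isLt]

theorem h36fw_apply_out (n : ℕ) [NeZero n] (s l : ℕ) (hsl : s + l ≤ n) (z : Fin n)
    (hz : z.val < s ∨ s + l ≤ z.val) : h36fw n s l z = z := by
  apply List.formPerm_apply_of_notMem
  rw [h36lst_mem n s l hsl]
  omega

theorem h36fw_apply_in (n : ℕ) [NeZero n] (s l : ℕ) (hsl : s + l ≤ n) (z : Fin n)
    (h1 : s ≤ z.val) (h2 : z.val < s + l) :
    ((h36fw n s l z : Fin n) : ℕ) = if z.val + 1 = s + l then s else z.val + 1 := by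
  have hlen := h36lst_length n s l
  have hi : z.val - s < (h36lst n s l).length := by rw [hlen]; omega
  have hz : z = (h36lst n s l)[z.val - s] := by
    apply Fin.ext
    rw [h36lst_getElem n s l hsl _ hi]
    omega
  have key := List.formPerm_apply_getElem (h36lst n s l) (h36lst_nodup n s l hsl) (z.val - s) hi
  rw [← hz] at key
  unfold h36fw
  rw [key, h36lst_getElem n s l hsl]
  rw [hlen]
  split_ifs with h
  · have : (z.val - s + 1) % l = 0 := by
      have : z.val - s + 1 = l := by omega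
      rw [this, Nat.mod_self]
    omega
  · have : (z.val - s + 1) % l = z.val - s + 1 := Nat.mod_eq_of_lt (by omega)
    omega

theorem h36fw_cycleType (n : ℕ) [NeZero n] (s l : ℕ) (hsl : s + l ≤ n) (hl : 2 ≤ l) :
    (h36fw n s l).cycleType = {l} := by
  have hnd := h36lst_nodup n s l hsl
  have hlen := h36lst_length n s l
  have hc : (h36fw n s l).IsCycle := List.isCycle_formPerm hnd (by rw [hlen]; exact hl)
  rw [hc.cycleType]
  unfold h36fw
  rw [List.support_formPerm_of_nodup _ hnd (by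
    intro x hx
    have := congrArg List.length hx
    rw [hlen] at this
    simp at this
    omega)]
  rw [List.toFinset_card_of_nodup hnd, hlen]

theorem h36rv_apply_out (n : ℕ) [NeZero n] (s l : ℕ) (hsl : s + l ≤ n) (z : Fin n)
    (hz : z.val < s ∨ s + l ≤ z.val) : (h36fw n s l)⁻¹ z = z := by
  rw [Perm.inv_eq_iff_eq]
  exact (h36fw_apply_out n s l hsl z hz).symm

theorem h36rv_apply_in (n : ℕ) [NeZero n] (s l : ℕ) (hsl : s + l ≤ n) (z : Fin n)
    (h1 : s ≤ z.val) (h2 : z.val < s + l) :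
    (((h36fw n s l)⁻¹ z : Fin n) : ℕ) = if z.val = s then s + l - 1 else z.val - 1 := by
  have hzn := z.isLt
  split_ifs with h
  · have hw : s + l - 1 < n := by omega
    have : (h36fw n s l)⁻¹ z = ⟨s + l - 1, hw⟩ := by
      rw [Perm.inv_eq_iff_eq]
      apply Fin.ext
      rw [h36fw_apply_in n s l hsl _ (by simp; omega) (by simp; omega)]
      simp only
      rw [if_pos (by omega)]
      exact h
    rw [this]
  · have hw : z.val - 1 < n := by omega
    have : (h36fw n s l)⁻¹ z = ⟨z.val - 1, hw⟩ := by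
      rw [Perm.inv_eq_iff_eq]
      apply Fin.ext
      rw [h36fw_apply_in n s l hsl _ (by simp; omega) (by simp; omega)]
      simp only
      rw [if_neg (by omega)]
      omega
    rw [this]

end Cfsg.Agent.Lib.helper95.AP
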