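import Mathlib
import Cfsg.Agent.Lib.helper95.APDefs
import Cfsg.Agent.Lib.helper36.APINTVBlk

set_option autoImplicit false

namespace Cfsg.Agent.Lib.helper95.AP

open Equiv

/-- the set of points `z` with `σ z + 1 = z` (as naturals) -/
def h36S {n : ℕ} (σ : Perm (Fin n)) : Finset (Fin n) :=
  Finset.univ.filter (fun z => ((σ z : Fin n) : ℕ) + 1 = z.val)

theorem h36_disj_apply {n : ℕ} (σ τ : Perm (Fin n)) (h : σ.Disjoint τ) (z : Fin n) :
    (τ z = z ∧ (σ * τ) z = σ z) ∨ (σ z = z ∧ (σ * τ) z = τ z) := by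
  rcases h z with hz | hz
  · right
    refine ⟨hz, ?_⟩
    rw [Perm.mul_apply]
    rcases h (τ z) with h3 | h3
    · exact h3
    · have : τ z = z := τ.injective h3
      rw [this]; exact hz
  · left
    refine ⟨hz, ?_⟩
    rw [Perm.mul_apply, hz]

theorem h36S_mul {n : ℕ} (σ τ : Perm (Fin n)) (h : σ.Disjoint τ) :
    (h36S (σ * τ)).card = (h36S σ).card + (h36S τ).card := by
  have hU : h36S (σ * τ) = h36S σ ∪ h36S τ := by
    ext z
    simp only [h36S, Finset.mem_filter, Finset.mem_univ, true_and, Finset.mem_union]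
    rcases h36_disj_apply σ τ h z with ⟨h1, h2⟩ | ⟨h1, h2⟩
    · rw [h2, h1]
      constructor
      · intro h4; exact Or.inl h4
      · rintro (h4 | h4)
        · exact h4
        · omega
    · rw [h2, h1]
      constructor
      · intro h4; exact Or.inr h4
      · rintro (h4 | h4)
        · omega
        · exact h4
  have hD : Disjoint (h36S σ) (h36S τ) := by
    rw [Finset.disjoint_left]
    intro z h1 h2
    simp only [h36S, Finset.mem_filter, Finset.mem_univ, true_and] at h1 h2
    rcases h z with hz | hz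
    · rw [hz] at h1; omega
    · rw [hz] at h2; omega
  rw [hU, Finset.card_union_of_disjoint hD]

/-- `σ z ≡ z` or `σ z ≡ z - 1` modulo `p` -/
def h36P (p : ℕ) {n : ℕ} (σ : Perm (Fin n)) (z : Fin n) : Prop :=
  (p : ℤ) ∣ (((σ z : Fin n) : ℕ) : ℤ) - (z.val : ℤ) ∨
    (p : ℤ) ∣ (((σ z : Fin n) : ℕ) : ℤ) - (z.val : ℤ) + 1

theorem h36P_mul (p : ℕ) {n : ℕ} (σ τ : Perm (Fin n)) (h : σ.Disjoint τ) (z : Fin n)
    (h1 : h36P p σ z) (h2 : h36P p τ z) : h36P p (σ * τ) z := by
  unfold h36P at *
  rcases h36_disj_apply σ τ h z with ⟨-, h4⟩ | ⟨-, h4⟩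
  · rw [h4]; exact h1
  · rw [h4]; exact h2

/-- a block: forward (`true`) or reversed (`false`) cycle on `[s, s + x.1)` -/
def h36blk (n : ℕ) [NeZero n] (s : ℕ) (x : ℕ × Bool) : Perm (Fin n) :=
  if x.2 then h36fw n s x.1 else (h36fw n s x.1)⁻¹

/-- product of consecutive blocks starting at `s` -/
def h36B (n : ℕ) [NeZero n] : ℕ → List (ℕ × Bool) → Perm (Fin n)
  | _, [] => 1
  | s, x :: r => h36blk n s x * h36B n (s + x.1) r

theorem h36blk_out (n : ℕ) [NeZero n] (s : ℕ) (x : ℕ × Bool) (hsl : s + x.1 ≤ n) (z : Fin n)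
    (hz : z.val < s ∨ s + x.1 ≤ z.val) : h36blk n s x z = z := by
  unfold h36blk
  split_ifs
  · exact h36fw_apply_out n s x.1 hsl z hz
  · exact h36rv_apply_out n s x.1 hsl z hz

theorem h36blk_cycleType (n : ℕ) [NeZero n] (s : ℕ) (x : ℕ × Bool) (hsl : s + x.1 ≤ n)
    (hl : 2 ≤ x.1) : (h36blk n s x).cycleType = {x.1} := by
  unfold h36blk
  split_ifs
  · exact h36fw_cycleType n s x.1 hsl hl
  · rw [Perm.cycleType_inv]; exact h36fw_cycleType n s x.1 hsl hl

theorem h36B_out (n : ℕ) [NeZero n] (L : List (ℕ × Bool)) : ∀ (s : ℕ),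
    s + (L.map Prod.fst).sum ≤ n → ∀ z : Fin n,
      (z.val < s ∨ s + (L.map Prod.fst).sum ≤ z.val) → h36B n s L z = z := by
  induction L with
  | nil => intro s _ z _; rfl
  | cons x r ih =>
    intro s hs z hz
    simp only [List.map_cons, List.sum_cons] at hs hz
    show h36blk n s x (h36B n (s + x.1) r z) = z
    rw [ih (s + x.1) (by omega) z (by omega)]
    exact h36blk_out n s x (by omega) z (by omega)

theorem h36B_disj (n : ℕ) [NeZero n] (s : ℕ) (x : ℕ × Bool) (r : List (ℕ × Bool))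
    (hs : s + x.1 + (r.map Prod.fst).sum ≤ n) :
    (h36blk n s x).Disjoint (h36B n (s + x.1) r) := by
  intro z
  by_cases hz : z.val < s + x.1
  · right
    exact h36B_out n r (s + x.1) hs z (Or.inl hz)
  · left
    exact h36blk_out n s x (by omega) z (by omega)

theorem h36B_cycleType (n : ℕ) [NeZero n] (L : List (ℕ × Bool)) : ∀ (s : ℕ),
    s + (L.map Prod.fst).sum ≤ n → (∀ x ∈ L, 2 ≤ x.1) →
      (h36B n s L).cycleType = ((L.map Prod.fst : List ℕ) : Multiset ℕ) := by
  induction L with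
  | nil => intro s _ _; exact Perm.cycleType_one
  | cons x r ih =>
    intro s hs hl
    simp only [List.map_cons, List.sum_cons] at hs
    show (h36blk n s x * h36B n (s + x.1) r).cycleType = _
    rw [(h36B_disj n s x r (by omega)).cycleType_mul,
      h36blk_cycleType n s x (by omega) (hl x List.mem_cons_self),
      ih (s + x.1) (by omega) (fun y hy => hl y (List.mem_cons_of_mem _ hy))]
    simp only [List.map_cons]
    rw [← Multiset.cons_coe, Multiset.singleton_add]

theorem h36S_fw (n : ℕ) [NeZero n] (s l : ℕ) (hsl : s + l ≤ n) (hl : 3 ≤ l) :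
    (h36S (h36fw n s l)).card = 0 := by
  rw [Finset.card_eq_zero, Finset.eq_empty_iff_forall_notMem]
  intro z hz
  simp only [h36S, Finset.mem_filter, Finset.mem_univ, true_and] at hz
  by_cases h : s ≤ z.val ∧ z.val < s + l
  · rw [h36fw_apply_in n s l hsl z h.1 h.2] at hz
    split_ifs at hz <;> omega
  · rw [h36fw_apply_out n s l hsl z (by omega)] at hz
    omega

theorem h36_card_Ioo (n s l : ℕ) (hsl : s + l ≤ n) :
    (Finset.univ.filter (fun z : Fin n => s < z.val ∧ z.val < s + l)).card = l - 1 := by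
  have : (Finset.univ.filter (fun z : Fin n => s < z.val ∧ z.val < s + l)).map Fin.valEmbedding
      = Finset.Ioo s (s + l) := by
    ext a
    simp only [Finset.mem_map, Finset.mem_filter, Finset.mem_univ, true_and, Fin.valEmbedding_apply,
      Finset.mem_Ioo]
    constructor
    · rintro ⟨z, hz, rfl⟩; exact hz
    · intro ha; exact ⟨⟨a, by omega⟩, ha, rfl⟩
  rw [← Finset.card_map Fin.valEmbedding, this, Nat.card_Ioo]
  omega

theorem h36S_rv (n : ℕ) [NeZero n] (s l : ℕ) (hsl : s + l ≤ n) (hl : 1 ≤ l) :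
    (h36S ((h36fw n s l)⁻¹)).card = l - 1 := by
  rw [← h36_card_Ioo n s l hsl]
  congr 1
  ext z
  simp only [h36S, Finset.mem_filter, Finset.mem_univ, true_and]
  by_cases h : s ≤ z.val ∧ z.val < s + l
  · rw [h36rv_apply_in n s l hsl z h.1 h.2]
    split_ifs <;> omega
  · rw [h36rv_apply_out n s l hsl z (by omega)]
    omega

theorem h36B_count (n : ℕ) [NeZero n] (L : List (ℕ × Bool)) : ∀ (s : ℕ),
    s + (L.map Prod.fst).sum ≤ n → (∀ x ∈ L, 3 ≤ x.1) →
      (h36S (h36B n s L)).card = (L.map (fun x => if x.2 then 0 else x.1 - 1)).sum := by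
  induction L with
  | nil =>
    intro s _ _
    show (h36S (1 : Perm (Fin n))).card = 0
    rw [Finset.card_eq_zero, Finset.eq_empty_iff_forall_notMem]
    intro z hz
    have hz' : ((((1 : Perm (Fin n)) z : Fin n) : ℕ)) + 1 = z.val := (Finset.mem_filter.mp hz).2
    rw [Perm.coe_one, id_eq] at hz'
    omega
  | cons x r ih =>
    intro s hs hl
    simp only [List.map_cons, List.sum_cons] at hs
    show (h36S (h36blk n s x * h36B n (s + x.1) r)).card = _
    rw [h36S_mul _ _ (h36B_disj n s x r (by omega)),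
      ih (s + x.1) (by omega) (fun y hy => hl y (List.mem_cons_of_mem _ hy))]
    simp only [List.map_cons, List.sum_cons]
    congr 1
    have h3 := hl x List.mem_cons_self
    unfold h36blk
    split_ifs
    · exact h36S_fw n s x.1 (by omega) h3
    · exact h36S_rv n s x.1 (by omega) (by omega)

theorem h36P_rv (p : ℕ) (n : ℕ) [NeZero n] (s l : ℕ) (hsl : s + l ≤ n) (hl : 1 ≤ l) (hpl : p ∣ l)
    (z : Fin n) : h36P p ((h36fw n s l)⁻¹) z := by
  unfold h36P
  by_cases h : s ≤ z.val ∧ z.val < s + l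
  · right
    rw [h36rv_apply_in n s l hsl z h.1 h.2]
    split_ifs with h0
    · have : (((s + l - 1 : ℕ) : ℤ)) - (z.val : ℤ) + 1 = (l : ℤ) := by
        rw [h0]; push_cast [Nat.cast_sub (show 1 ≤ s + l by omega)]; ring
      rw [this]
      exact Int.natCast_dvd_natCast.mpr hpl
    · have : (((z.val - 1 : ℕ) : ℤ)) - (z.val : ℤ) + 1 = 0 := by
        push_cast [Nat.cast_sub (show 1 ≤ z.val by omega)]; ring
      rw [this]
      exact dvd_zero _
  · left
    rw [h36rv_apply_out n s l hsl z (by omega), sub_self]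
    exact dvd_zero _

theorem h36B_P (p : ℕ) (n : ℕ) [NeZero n] (L : List (ℕ × Bool)) : ∀ (s : ℕ),
    s + (L.map Prod.fst).sum ≤ n → (∀ x ∈ L, x.2 = false ∧ p ∣ x.1 ∧ 1 ≤ x.1) →
      ∀ z : Fin n, h36P p (h36B n s L) z := by
  induction L with
  | nil =>
    intro s _ _ z
    left
    show (p : ℤ) ∣ ((((1 : Perm (Fin n)) z : Fin n) : ℕ) : ℤ) - (z.val : ℤ)
    rw [Perm.coe_one, id_eq, sub_self]
    exact dvd_zero _
  | cons x r ih =>
    intro s hs hl z
    simp only [List.map_cons, List.sum_cons] at hs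
    show h36P p (h36blk n s x * h36B n (s + x.1) r) z
    apply h36P_mul p _ _ (h36B_disj n s x r (by omega)) z
    · obtain ⟨h1, h2, h3⟩ := hl x List.mem_cons_self
      unfold h36blk
      rw [h1]
      simp only [Bool.false_eq_true, if_false]
      exact h36P_rv p n s x.1 (by omega) h3 h2 z
    · exact ih (s + x.1) (by omega) (fun y hy => hl y (List.mem_cons_of_mem _ hy)) z

theorem h36B_append (n : ℕ) [NeZero n] (A C : List (ℕ × Bool)) : ∀ (s : ℕ),
    h36B n s (A ++ C) = h36B n s A * h36B n (s + (A.map Prod.fst).sum) C := by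
  induction A with
  | nil => intro s; simp [h36B]
  | cons x r ih =>
    intro s
    show h36blk n s x * h36B n (s + x.1) (r ++ C) = h36blk n s x * h36B n (s + x.1) r * _
    rw [ih (s + x.1), mul_assoc]
    simp only [List.map_cons, List.sum_cons, add_assoc]

theorem h36_finRotate_val (n : ℕ) (w : Fin n) : ((finRotate n w : Fin n) : ℕ) = (w.val + 1) % n := by
  cases n with
  | zero => exact w.elim0
  | succ m =>
    rw [coe_finRotate]
    split_ifs with h
    · subst h; simp
    · have : w.val ≠ m := fun h' => h (Fin.ext (by simpa using h'))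
      have hw := w.isLt
      rw [Nat.mod_eq_of_lt (by omega)]

end Cfsg.Agent.Lib.helper95.AP
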