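import Mathlib
import Cfsg.Agent.Lib.helper95.APDefs

set_option autoImplicit false

namespace Cfsg.Agent.Lib.helper95.AP

open Equiv

/-- a nodup list of powers `p^j`, `j < e`, has sum `< p^e` -/
theorem h36_sum_lt_of_nodup (p : ℕ) (hp2 : 2 ≤ p) (e : ℕ) (L : List ℕ) (hnd : L.Nodup)
    (hpow : ∀ l ∈ L, ∃ j : ℕ, l = p ^ j ∧ l < p ^ e) : L.sum < p ^ e := by
  have h1 : L.sum = ∑ x ∈ L.toFinset, x := by
    have := List.sum_toFinset (fun x : ℕ => x) hnd
    simpa using this.symm
  have hlog : ∀ x ∈ L.toFinset, p ^ (Nat.log p x) = x ∧ Nat.log p x < e := by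
    intro x hx
    obtain ⟨j, hj, hlt⟩ := hpow x (List.mem_toFinset.mp hx)
    have hjl : Nat.log p x = j := by rw [hj]; exact Nat.log_pow hp2 j
    refine ⟨by rw [hjl, hj], ?_⟩
    rw [hjl]
    rw [hj] at hlt
    exact (Nat.pow_lt_pow_iff_right hp2).mp hlt
  have hinj : Set.InjOn (Nat.log p) (L.toFinset : Set ℕ) := by
    intro x hx y hy hxy
    rw [← (hlog x hx).1, ← (hlog y hy).1, hxy]
  have h2 : ∑ x ∈ L.toFinset, x = ∑ k ∈ L.toFinset.image (Nat.log p), p ^ k := by
    rw [Finset.sum_image hinj]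
    exact Finset.sum_congr rfl (fun x hx => (hlog x hx).1.symm)
  rw [h1, h2]
  apply Nat.geomSum_lt hp2
  intro k hk
  obtain ⟨x, hx, rfl⟩ := Finset.mem_image.mp hk
  exact (hlog x hx).2

/-- [INTV, companion step] under the INTV hypotheses, any `b` of cycle type `L` commutes with an
odd permutation, so `Good p a b` upgrades to `GoodBoth p a b`. -/
theorem h36_intv_tau (p : ℕ) (hp : p.Prime) (e : ℕ) (L : List ℕ) (hL0 : L ≠ [])
    (hpow : ∀ l ∈ L, ∃ j : ℕ, 1 ≤ j ∧ l = p ^ j ∧ l < p ^ e)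
    (hsum : L.sum ≤ p ^ e) (a b : Perm (Fin (p ^ e))) (hb : b.cycleType = (L : Multiset ℕ))
    (hg : Good p a b) : GoodBoth p a b := by
  refine ⟨hg, ?_⟩
  have hp2 : 2 ≤ p := hp.two_le
  have hnot : ¬ (Subgroup.centralizer {b} ≤ alternatingGroup (Fin (p ^ e))) := by
    intro hle
    obtain ⟨-, hcard, hcount⟩ := Equiv.Perm.centralizer_le_alternating_iff.mp hle
    rw [hb] at hcard hcount
    simp only [Fintype.card_fin, Multiset.sum_coe] at hcard
    have hnd : L.Nodup := by
      rw [List.nodup_iff_count_le_one]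
      intro x
      have := hcount x
      rwa [Multiset.coe_count] at this
    have hlt : L.sum < p ^ e :=
      h36_sum_lt_of_nodup p hp2 e L hnd (fun l hl => by
        obtain ⟨j, -, h1, h2⟩ := hpow l hl
        exact ⟨j, h1, h2⟩)
    -- p ∣ L.sum
    have hdvd : p ∣ L.sum := by
      apply List.dvd_sum
      intro l hl
      obtain ⟨j, hj1, h1, -⟩ := hpow l hl
      rw [h1]
      exact dvd_pow_self p (by omega)
    have he : e ≠ 0 := by
      rintro rfl
      obtain ⟨l, hl⟩ := List.exists_mem_of_ne_nil L hL0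
      obtain ⟨j, -, h1, h2⟩ := hpow l hl
      have : 0 < p ^ j := Nat.pos_of_ne_zero (pow_ne_zero j (by omega))
      rw [h1] at h2
      simp at h2
      omega
    have hdvd2 : p ∣ p ^ e := dvd_pow_self p he
    obtain ⟨u, hu⟩ := hdvd
    obtain ⟨v, hv⟩ := hdvd2
    rw [hu, hv] at hcard hlt
    have huv : u < v := by
      by_contra h
      have : p * v ≤ p * u := Nat.mul_le_mul_left p (by omega)
      omega
    have : p * (u + 1) ≤ p * v := Nat.mul_le_mul_left p (by omega)
    have h3 : p * (u + 1) = p * u + p := by ring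
    omega
  obtain ⟨τ, hτc, hτa⟩ := SetLike.not_le_iff_exists.mp hnot
  have hsign : Perm.sign τ = -1 := by
    rcases Int.units_eq_one_or (Perm.sign τ) with h | h
    · exact absurd (Equiv.Perm.mem_alternatingGroup.mpr h) hτa
    · exact h
  have hcomm : τ * b = b * τ := by
    have := Subgroup.mem_centralizer_iff.mp hτc b (Set.mem_singleton b)
    exact this.symm
  refine ⟨τ, hsign, ?_⟩
  have : τ * b * τ⁻¹ = b := by rw [hcomm]; group
  rw [this]
  exact hg

end Cfsg.Agent.Lib.helper95.AP
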