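import Mathlib
import Cfsg.Agent.Lib.helper95.APDefs
import Cfsg.Agent.Lib.helper36.APINTVRec
import Cfsg.Agent.Lib.helper36.APINTVTAU

set_option autoImplicit false

namespace Cfsg.Agent.Lib.helper95.AP

open Equiv

theorem h36_sum_pred (L : List ℕ) (h : ∀ l ∈ L, 1 ≤ l) :
    (L.map (fun l => l - 1)).sum + L.length = L.sum := by
  induction L with
  | nil => simp
  | cons a r ih =>
    have h1 := h a List.mem_cons_self
    have := ih (fun l hl => h l (List.mem_cons_of_mem _ hl))
    simp only [List.map_cons, List.sum_cons, List.length_cons]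
    omega

theorem h36_fix_eq (n : ℕ) (b : Perm (Fin n))
    (h0 : ∀ z : Fin n, z.val = 0 → ((b z : Fin n) : ℕ) + 1 < n) :
    Finset.univ.filter (fun z : Fin n => (finRotate n * b) z = z) = h36S b := by
  ext z
  have hz := z.isLt
  have hb := (b z).isLt
  constructor
  · intro h
    have h1 := (Finset.mem_filter.mp h).2
    rw [Perm.mul_apply] at h1
    have h2 := congrArg Fin.val h1
    rw [h36_finRotate_val] at h2
    apply Finset.mem_filter.mpr
    refine ⟨Finset.mem_univ _, ?_⟩
    by_cases hlt : ((b z : Fin n) : ℕ) + 1 < n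
    · rwa [Nat.mod_eq_of_lt hlt] at h2
    · have h3 : ((b z : Fin n) : ℕ) + 1 = n := by omega
      rw [h3, Nat.mod_self] at h2
      have := h0 z h2.symm
      omega
  · intro h
    have h1 : ((b z : Fin n) : ℕ) + 1 = z.val := (Finset.mem_filter.mp h).2
    apply Finset.mem_filter.mpr
    refine ⟨Finset.mem_univ _, ?_⟩
    rw [Perm.mul_apply]
    apply Fin.ext
    rw [h36_finRotate_val, h1, Nat.mod_eq_of_lt hz]

theorem h36_flag_fst (L : List ℕ) (d : Bool) : (L.map (fun l => (l, d))).map Prod.fst = L := by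
  induction L with
  | nil => rfl
  | cons a r ih => simp only [List.map_cons, ih]

theorem h36_flag_cnt_true (L : List ℕ) :
    ((L.map (fun l => (l, true))).map (fun x : ℕ × Bool => if x.2 then 0 else x.1 - 1)).sum = 0 := by
  induction L with
  | nil => rfl
  | cons a r ih => simp only [List.map_cons, List.sum_cons, ih]; simp

theorem h36_flag_cnt_false (L : List ℕ) :
    ((L.map (fun l => (l, false))).map (fun x : ℕ × Bool => if x.2 then 0 else x.1 - 1)).sum =
      (L.map (fun l => l - 1)).sum := by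
  induction L with
  | nil => rfl
  | cons a r ih => simp only [List.map_cons, List.sum_cons, ih]; simp

theorem h36_intv_core (p : ℕ) (hp3 : 3 ≤ p) (n m : ℕ) [NeZero n] (hnm : n = p * m)
    (hpm : p ∣ m) (L : List ℕ) (hL0 : L ≠ []) (hL : ∀ l ∈ L, 3 ≤ l ∧ p ∣ l ∧ l ≤ m)
    (hsum : L.sum ≤ n) :
    ∃ b : Perm (Fin n), b.cycleType = (L : Multiset ℕ) ∧
      ∃ (x y : Fin n) (f : ℕ), ((m : ℕ) : ℤ) ∣ ((x : ℕ) : ℤ) - ((y : ℕ) : ℤ) ∧
        ¬ (p : ℤ) ∣ (((b x : Fin n) : ℕ) : ℤ) - (((b y : Fin n) : ℕ) : ℤ) ∧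
        (Finset.univ.filter (fun z : Fin n => (finRotate n * b) z = z)).card = f ∧ 2 ≤ f ∧
        ¬ p ∣ f := by
  obtain ⟨q, hq⟩ : ∃ q, p = q + 1 := ⟨p - 1, by omega⟩
  obtain ⟨l₁, rest, rfl⟩ : ∃ l₁ rest, L = l₁ :: rest := List.exists_cons_of_ne_nil hL0
  have hl₁ := hL l₁ List.mem_cons_self
  have hm3 : 3 ≤ m := le_trans hl₁.1 hl₁.2.2
  have hqm : n = q * m + m := by rw [hnm, hq]; ring
  have h2m : 2 * m ≤ q * m := Nat.mul_le_mul_right m (by omega)
  have hy : 1 + q * m < n := by omega
  have hpint : ¬ (p : ℤ) ∣ 1 := by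
    intro h
    have h1 : p ∣ 1 := by exact_mod_cast h
    have := Nat.le_of_dvd one_pos h1
    omega
  have hp2int : ¬ (p : ℤ) ∣ 2 := by
    intro h
    have h1 : p ∣ 2 := by exact_mod_cast h
    have := Nat.le_of_dvd (by omega) h1
    omega
  have hpmint : (p : ℤ) ∣ (q : ℤ) * (m : ℤ) :=
    Dvd.dvd.mul_left (Int.natCast_dvd_natCast.mpr hpm) _
  have hxy : ((m : ℕ) : ℤ) ∣ (((⟨1, by omega⟩ : Fin n) : ℕ) : ℤ) -
      (((⟨1 + q * m, hy⟩ : Fin n) : ℕ) : ℤ) := ⟨-(q : ℤ), by push_cast; ring⟩
  simp only [List.sum_cons] at hsum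
  by_cases hrest : rest = []
  · subst hrest
    simp only [List.sum_nil, add_zero] at hsum
    have h0 : ∀ z : Fin n, z.val = 0 → ((((h36fw n 0 l₁)⁻¹ z : Fin n) : ℕ)) + 1 < n := by
      intro z hz
      rw [h36rv_apply_in n 0 l₁ (by omega) z (by omega) (by omega), if_pos hz]
      omega
    refine ⟨(h36fw n 0 l₁)⁻¹, ?_, ⟨1, by omega⟩, ⟨1 + q * m, hy⟩, l₁ - 1, hxy, ?_, ?_, ?_, ?_⟩
    · rw [Perm.cycleType_inv, h36fw_cycleType n 0 l₁ (by omega) (by omega)]; rfl
    · have hbx : ((((h36fw n 0 l₁)⁻¹ (⟨1, by omega⟩ : Fin n) : Fin n) : ℕ)) = 0 := by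
        rw [h36rv_apply_in n 0 l₁ (by omega) _ (by simp) (by simp; omega)]
        simp
      have hby : (h36fw n 0 l₁)⁻¹ (⟨1 + q * m, hy⟩ : Fin n) = ⟨1 + q * m, hy⟩ :=
        h36rv_apply_out n 0 l₁ (by omega) _ (Or.inr (by simp; omega))
      rw [hbx, hby]
      intro h
      apply hpint
      have h1 := dvd_add h hpmint
      have h2 : (((0 : ℕ) : ℤ)) - (((⟨1 + q * m, hy⟩ : Fin n) : ℕ) : ℤ) + (q : ℤ) * (m : ℤ) = -1 := by
        push_cast; ring
      rw [h2] at h1
      exact (dvd_neg.mp h1)
    · rw [h36_fix_eq n _ h0]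
      exact h36S_rv n 0 l₁ (by omega) (by omega)
    · omega
    · intro h
      have h1 := Nat.dvd_sub hl₁.2.1 h
      have h2 : l₁ - (l₁ - 1) = 1 := by omega
      rw [h2] at h1
      have := Nat.le_of_dvd one_pos h1
      omega
  · obtain ⟨k', hk'⟩ : ∃ k' : ℕ, k' = if (rest.length + 1) % p = 1 then 1 else 0 := ⟨_, rfl⟩
    have hk'1 : k' ≤ 1 := by rw [hk']; split_ifs <;> omega
    obtain ⟨X, hX⟩ : ∃ X : List (ℕ × Bool), X = (rest.take k').map (fun l => (l, true)) := ⟨_, rfl⟩
    obtain ⟨C, hC⟩ : ∃ C : List (ℕ × Bool), C = (rest.drop k').map (fun l => (l, false)) := ⟨_, rfl⟩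
    have hXfst : X.map Prod.fst = rest.take k' := by rw [hX, h36_flag_fst]
    have hCfst : C.map Prod.fst = rest.drop k' := by rw [hC, h36_flag_fst]
    have hRfst : (X ++ C).map Prod.fst = rest := by
      rw [List.map_append, hXfst, hCfst, List.take_append_drop]
    have hFLfst : (((l₁, true) :: X) ++ C).map Prod.fst = l₁ :: rest := by
      rw [List.cons_append, List.map_cons, hRfst]
    have hmemFL : ∀ x ∈ ((l₁, true) :: X) ++ C, x.1 ∈ l₁ :: rest := by
      intro x hx
      rw [← hFLfst]
      exact List.mem_map_of_mem hx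
    have hFLsum : ((((l₁, true) :: X) ++ C).map Prod.fst).sum ≤ n := by
      rw [hFLfst, List.sum_cons]; exact hsum
    have hRsum : (0 + l₁) + ((X ++ C).map Prod.fst).sum ≤ n := by
      rw [hRfst]; omega
    obtain ⟨b, hb⟩ : ∃ b : Perm (Fin n), b = h36B n 0 (((l₁, true) :: X) ++ C) := ⟨_, rfl⟩
    have hct : b.cycleType = ((l₁ :: rest : List ℕ) : Multiset ℕ) := by
      have := h36B_cycleType n (((l₁, true) :: X) ++ C) 0 (by omega)
        (fun x hx => by have := (hL x.1 (hmemFL x hx)).1; omega)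
      rw [hFLfst] at this
      rw [hb]; exact this
    have hblk : h36blk n 0 (l₁, true) = h36fw n 0 l₁ := by unfold h36blk; simp
    have hsmall : ∀ z : Fin n, z.val < l₁ →
        ((b z : Fin n) : ℕ) = if z.val + 1 = 0 + l₁ then 0 else z.val + 1 := by
      intro z hz
      have hb' : b = h36blk n 0 (l₁, true) * h36B n (0 + l₁) (X ++ C) := by rw [hb]; rfl
      rw [hb', Perm.mul_apply, h36B_out n _ (0 + l₁) hRsum z (Or.inl (by omega)), hblk]
      exact h36fw_apply_in n 0 l₁ (by omega) z (by omega) (by omega)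
    -- the split into forward part and reversed part
    have hAfst : (((l₁, true) :: X).map Prod.fst).sum = l₁ + (rest.take k').sum := by
      rw [List.map_cons, List.sum_cons, hXfst]
    have htake : (rest.take k').sum ≤ m := by
      have h1 : (rest.take k').sum ≤ (rest.take k').length • m :=
        List.sum_le_card_nsmul _ _
          (fun x hx => (hL x (List.mem_cons_of_mem _ (List.mem_of_mem_take hx))).2.2)
      have h2 : (rest.take k').length ≤ 1 := by
        rw [List.length_take]; omega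
      have h3 : (rest.take k').length * m ≤ 1 * m := Nat.mul_le_mul_right m h2
      rw [smul_eq_mul] at h1
      omega
    have hsplit : ((((l₁, true) :: X) ++ C).map Prod.fst).sum =
        (((l₁, true) :: X).map Prod.fst).sum + (C.map Prod.fst).sum := by
      rw [List.map_append, List.sum_append]
    have hb2 : b = h36B n 0 ((l₁, true) :: X) *
        h36B n (0 + (((l₁, true) :: X).map Prod.fst).sum) C := by
      rw [hb]; exact h36B_append n _ C 0
    have hdisj : (h36B n 0 ((l₁, true) :: X)).Disjoint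
        (h36B n (0 + (((l₁, true) :: X).map Prod.fst).sum) C) := by
      intro z
      by_cases hz : z.val < (((l₁, true) :: X).map Prod.fst).sum
      · right
        exact h36B_out n C _ (by omega) z (Or.inl (by omega))
      · left
        exact h36B_out n _ 0 (by omega) z (Or.inr (by omega))
    have hPy : h36P p b (⟨1 + q * m, hy⟩ : Fin n) := by
      rw [hb2]
      apply h36P_mul p _ _ hdisj
      · left
        rw [h36B_out n _ 0 (by omega) _ (Or.inr (by simp only; omega)), sub_self]
        exact dvd_zero _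
      · apply h36B_P p n C _ (by omega)
        intro x hx
        rw [hC] at hx
        obtain ⟨l, hl, rfl⟩ := List.mem_map.mp hx
        have := hL l (List.mem_cons_of_mem _ (List.mem_of_mem_drop hl))
        exact ⟨rfl, this.2.1, by omega⟩
    have hbx : ((b (⟨1, by omega⟩ : Fin n) : Fin n) : ℕ) = 2 := by
      rw [hsmall _ (by simp only; omega), if_neg (by simp only; omega)]
    -- the count
    obtain ⟨f, hfdef⟩ : ∃ f : ℕ, f = ((rest.drop k').map (fun l => l - 1)).sum := ⟨_, rfl⟩
    have hf : (h36S b).card = f := by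
      have := h36B_count n (((l₁, true) :: X) ++ C) 0 (by omega)
        (fun x hx => (hL x.1 (hmemFL x hx)).1)
      rw [hb, this, List.map_append, List.sum_append, List.map_cons, List.sum_cons, hX, hC,
        h36_flag_cnt_true, h36_flag_cnt_false, hfdef]
      simp
    have hfix : Finset.univ.filter (fun z : Fin n => (finRotate n * b) z = z) = h36S b :=
      h36_fix_eq n b (fun z hz => by
        rw [hsmall z (by omega)]
        split_ifs <;> omega)
    have hL2 : ∀ l ∈ rest.drop k', 3 ≤ l ∧ p ∣ l := fun l hl => by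
      have := hL l (List.mem_cons_of_mem _ (List.mem_of_mem_drop hl))
      exact ⟨this.1, this.2.1⟩
    have hsp : f + (rest.drop k').length = (rest.drop k').sum := by
      rw [hfdef]
      exact h36_sum_pred _ (fun l hl => by have := (hL2 l hl).1; omega)
    have hpsum : p ∣ (rest.drop k').sum := List.dvd_sum (fun l hl => (hL2 l hl).2)
    have h3len : (rest.drop k').length • 3 ≤ (rest.drop k').sum :=
      List.card_nsmul_le_sum _ _ (fun l hl => (hL2 l hl).1)
    rw [smul_eq_mul] at h3len
    have hrl : 1 ≤ rest.length := by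
      by_contra h
      exact hrest (List.eq_nil_of_length_eq_zero (by omega))
    have hdl : (rest.drop k').length = rest.length - k' := List.length_drop
    have hlen_f : 1 ≤ (rest.drop k').length ∧ ¬ p ∣ (rest.drop k').length := by
      by_cases hmod : (rest.length + 1) % p = 1
      · have hk1 : k' = 1 := by rw [hk', if_pos hmod]
        have hdm := Nat.div_add_mod (rest.length + 1) p
        rw [hmod] at hdm
        obtain ⟨d, hd⟩ : ∃ d, d = (rest.length + 1) / p := ⟨_, rfl⟩
        rw [← hd] at hdm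
        have hd1 : 1 ≤ d := by
          by_contra h
          have : d = 0 := by omega
          rw [this, Nat.mul_zero] at hdm
          omega
        have hpd : p ≤ p * d := Nat.le_mul_of_pos_right p (by omega)
        refine ⟨by omega, ?_⟩
        intro hdvd
        have h1 : p ∣ p * d := dvd_mul_right p d
        have h2 := Nat.dvd_sub h1 hdvd
        have h3 : p * d - (rest.drop k').length = 1 := by omega
        rw [h3] at h2
        have := Nat.le_of_dvd one_pos h2
        omega
      · have hk0 : k' = 0 := by rw [hk', if_neg hmod]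
        refine ⟨by omega, ?_⟩
        intro hdvd
        rw [hdl, hk0] at hdvd
        obtain ⟨c, hc⟩ := hdvd
        apply hmod
        have : rest.length + 1 = p * c + 1 := by omega
        rw [this, Nat.mul_add_mod, Nat.mod_eq_of_lt (by omega)]
    refine ⟨b, hct, ⟨1, by omega⟩, ⟨1 + q * m, hy⟩, f, hxy, ?_, ?_, ?_, ?_⟩
    · rw [hbx]
      intro h
      unfold h36P at hPy
      rcases hPy with h1 | h1
      · apply hpint
        have h2 := dvd_add (dvd_add h h1) hpmint
        have h3 : ((2 : ℕ) : ℤ) - (((b (⟨1 + q * m, hy⟩ : Fin n) : Fin n) : ℕ) : ℤ) +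
            ((((b (⟨1 + q * m, hy⟩ : Fin n) : Fin n) : ℕ) : ℤ) -
              (((⟨1 + q * m, hy⟩ : Fin n) : ℕ) : ℤ)) + (q : ℤ) * (m : ℤ) = 1 := by
          push_cast; ring
        rw [h3] at h2
        exact h2
      · apply hp2int
        have h2 := dvd_add (dvd_add h h1) hpmint
        have h3 : ((2 : ℕ) : ℤ) - (((b (⟨1 + q * m, hy⟩ : Fin n) : Fin n) : ℕ) : ℤ) +
            ((((b (⟨1 + q * m, hy⟩ : Fin n) : Fin n) : ℕ) : ℤ) -
              (((⟨1 + q * m, hy⟩ : Fin n) : ℕ) : ℤ) + 1) + (q : ℤ) * (m : ℤ) = 2 := by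
          push_cast; ring
        rw [h3] at h2
        exact h2
    · rw [hfix]; exact hf
    · have := hlen_f.1
      omega
    · intro hdvd
      exact hlen_f.2 ((Nat.dvd_add_right hdvd).mp (hsp ▸ hpsum))

end Cfsg.Agent.Lib.helper95.AP
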