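import Mathlib
import Cfsg.Agent.Lib.helper95.APDefs
import Cfsg.Agent.Lib.helper36.APINTVCore
import Cfsg.Agent.Lib.helper29.APINTV

set_option autoImplicit false

namespace Cfsg.Agent.Lib.helper95.AP

open Equiv

/-- [INTV] spare copy (helper36): block model via `List.formPerm`, companion via
`Equiv.Perm.centralizer_le_alternating_iff`. -/
theorem h36_intv (p : ℕ) (hp : p.Prime) (hp3 : 3 ≤ p) (e : ℕ) (L : List ℕ) (hL0 : L ≠ [])
    (hsort : L.Pairwise (· ≥ ·)) (hpow : ∀ l ∈ L, ∃ j : ℕ, 1 ≤ j ∧ l = p ^ j ∧ l < p ^ e)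
    (hsum : L.sum ≤ p ^ e) :
    ∃ b : Perm (Fin (p ^ e)), b.cycleType = (L : Multiset ℕ) ∧ GoodBoth p (finRotate (p ^ e)) b := by
  have hp2 : 2 ≤ p := hp.two_le
  haveI : NeZero (p ^ e) := ⟨pow_ne_zero e hp.ne_zero⟩
  -- e ≥ 2
  have he2 : 2 ≤ e := by
    obtain ⟨l, hl⟩ := List.exists_mem_of_ne_nil L hL0
    obtain ⟨j, hj1, h1, h2⟩ := hpow l hl
    rw [h1] at h2
    have := (Nat.pow_lt_pow_iff_right hp2).mp h2
    omega
  have hnm : p ^ e = p * p ^ (e - 1) := by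
    have : e = (e - 1) + 1 := by omega
    conv_lhs => rw [this, pow_succ]
    ring
  have hpm : p ∣ p ^ (e - 1) := dvd_pow_self p (by omega)
  have hL : ∀ l ∈ L, 3 ≤ l ∧ p ∣ l ∧ l ≤ p ^ (e - 1) := by
    intro l hl
    obtain ⟨j, hj1, h1, h2⟩ := hpow l hl
    rw [h1] at h2
    have hje := (Nat.pow_lt_pow_iff_right hp2).mp h2
    rw [h1]
    refine ⟨?_, dvd_pow_self p (by omega), Nat.pow_le_pow_right (by omega) (by omega)⟩
    calc 3 ≤ p := hp3
      _ = p ^ 1 := (pow_one p).symm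
      _ ≤ p ^ j := Nat.pow_le_pow_right (by omega) hj1
  obtain ⟨b, hct, x, y, f, hxy, hbxy, hf, hf2, hfp⟩ :=
    h36_intv_core p hp3 (p ^ e) (p ^ (e - 1)) hnm hpm L hL0 hL hsum
  have hgood : Good p (finRotate (p ^ e)) b :=
    h29_gpc p hp hp3 e (by omega) b x y hxy hbxy f hf hf2 hfp
  exact ⟨b, hct, h36_intv_tau p hp e L hL0 hpow hsum _ b hct hgood⟩

end Cfsg.Agent.Lib.helper95.AP
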