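import Mathlib
import Cfsg.Agent.S1416
import Cfsg.Agent.S1417
import Cfsg.Agent.S1446
import Cfsg.Agent.Lib.helper97.BGSeven4
import Cfsg.Agent.Lib.helper97.BGEightDefs
import Cfsg.Agent.Lib.helper54.BGThirteen
import Cfsg.Agent.Lib.helper54.BGSigmaNe

/-!
# S1421, PAR step (4) (helper36): a regular element of prime order `r ≠ p` of `E` fixes a
non-identity element of `A`

`bg8_prime_fix`: via the landed S1446 (`K := A`, `R := ⟨e⟩`, `M := M_σ`): if `C_A(e) = 1` then
`|M_σ| = |C_{M_σ}(e)| ^ r = 1`.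
-/

set_option autoImplicit false

namespace Cfsg.Agent.Lib.helper36

open Cfsg Subgroup
open Cfsg.Agent.Lib.helper97 Cfsg.Agent.Lib.helper8

variable {G : Type*} [Group G]

theorem bg8_prime_fix [Finite G] (hG : IsMinSimpleOddOrder G) {M E A : Subgroup G} {p : ℕ}
    [Fact p.Prime] {S : Sylow p G} (c : BG8Ctx M E A p S) (e : G) (heE : e ∈ E) (r : ℕ)
    (hr : r.Prime) (her : orderOf e = r) (hrp : r ≠ p) (hreg : BG8Reg M e) :
    ∃ a ∈ A, a ≠ 1 ∧ e * a = a * e := by
  obtain ⟨hodd, hsimple, hna, hsolv⟩ := id hG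
  have hpp : p.Prime := Fact.out
  haveI : Fact r.Prime := ⟨hr⟩
  have hM := c.hM
  have hE := c.hE
  have hp := c.hp
  obtain ⟨hAE, hAe, hA2⟩ := c.hA
  have h16 : BGTwelveFourHyp G := fun M hM p _ A hA => Cfsg.Agent.S1416.result hG M hM p A hA
  have h17 : BG7FiveHyp G := fun M hM p _ hp A hA => Cfsg.Agent.S1417.result hG M hM p hp A hA
  have h18 := bg7_six_of hG h16 h17
  obtain ⟨⟨hEA, -⟩, -, -⟩ := h18 M hM E hE p hp A c.hA
  have hEM : E ≤ M := hE.1
  have hAM : A ≤ M := hAE.trans hEM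
  obtain ⟨hnil, -, -, hCA, -, -⟩ := h17 M hM p hp A ⟨hAM, hAe, hA2⟩
  by_contra hcon
  have hfix : ∀ a ∈ A, e * a = a * e → a = 1 := by
    intro a ha hc
    by_contra h1
    exact hcon ⟨a, ha, h1, hc⟩
  have he1 : e ≠ 1 := by
    rintro rfl
    rw [orderOf_one] at her
    exact hr.ne_one her.symm
  have hA1 : A ≠ ⊥ := by
    rintro rfl
    rw [Subgroup.card_bot] at hA2
    have := hpp.one_lt
    nlinarith [pow_pos hpp.pos 2]
  set R : Subgroup G := zpowers e with hR
  have hRcard : Nat.card R = r := by rw [hR, Nat.card_zpowers, her]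
  have hRE : R ≤ E := zpowers_le.mpr heE
  have hR1 : R ≠ ⊥ := fun h => he1 (zpowers_eq_bot.mp h)
  have hKR : A ⊓ R = ⊥ := by
    apply Subgroup.inf_eq_bot_of_coprime
    rw [hA2, hRcard]
    exact Nat.Coprime.pow_left 2 ((Nat.coprime_primes hpp hr).mpr (Ne.symm hrp))
  -- every non-identity element of `R` generates `R`
  have hgen : ∀ x ∈ R, x ≠ 1 → e ∈ zpowers x := by
    intro x hx hx1
    have hxr : x ^ r = 1 := by
      have h1 : (⟨x, hx⟩ : R) ^ r = 1 := by
        rw [← hRcard]; exact pow_card_eq_one'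
      exact congrArg Subtype.val h1
    have h2 : zpowers x = R := by
      apply Subgroup.eq_of_le_of_card_ge (zpowers_le.mpr hx)
      rw [hRcard, Nat.card_zpowers, orderOf_eq_prime hxr hx1]
    rw [h2]; exact mem_zpowers e
  have hfrob : ∀ x ∈ R, x ≠ 1 → A ⊓ centralizer ({x} : Set G) = ⊥ := by
    intro x hx hx1
    rw [eq_bot_iff]
    intro a ha
    obtain ⟨haA, hac⟩ := Subgroup.mem_inf.mp ha
    obtain ⟨j, hj⟩ := mem_zpowers_iff.mp (hgen x hx hx1)
    have h1 : x * a = a * x := (Subgroup.mem_centralizer_iff.mp hac) x rfl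
    have h2 : Commute x a := h1
    have h3 : e * a = a * e := by
      rw [← hj]; exact (h2.zpow_left j).eq
    exact Subgroup.mem_bot.mpr (hfix a haA h3)
  have hsup_le : A ⊔ R ≤ E := sup_le hAE hRE
  have hMtop : M ≠ ⊤ := hM.1
  have hsup_top : A ⊔ R ≠ ⊤ := by
    intro h
    apply hMtop
    rw [eq_top_iff, ← h]
    exact hsup_le.trans hEM
  have hσn := Cfsg.Agent.Lib.helper13.le_normalizer_sigmaCore M
  have hcop : (Nat.card ↥(A ⊔ R)).Coprime (Nat.card (sigmaCore M)) :=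
    Nat.Coprime.coprime_dvd_left (Subgroup.card_dvd_of_le hsup_le)
      (Cfsg.Agent.Lib.helper54.compl_card_coprime hG M hM E hE)
  have hpr : ∀ x ∈ R, x ≠ 1 → sigmaCore M ⊓ centralizer ({x} : Set G) =
      sigmaCore M ⊓ centralizer (R : Set G) := by
    intro x hx hx1
    apply le_antisymm
    · intro y hy
      obtain ⟨hyσ, hyc⟩ := Subgroup.mem_inf.mp hy
      refine Subgroup.mem_inf.mpr ⟨hyσ, ?_⟩
      rw [Subgroup.mem_centralizer_iff]
      intro z hz
      obtain ⟨j, hj⟩ := mem_zpowers_iff.mp (hgen x hx hx1)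
      obtain ⟨i, rfl⟩ := mem_zpowers_iff.mp hz
      have h1 : x * y = y * x := (Subgroup.mem_centralizer_iff.mp hyc) x rfl
      have h2 : Commute x y := h1
      rw [← hj]
      exact ((h2.zpow_left j).zpow_left i).eq
    · intro y hy
      obtain ⟨hyσ, hyc⟩ := Subgroup.mem_inf.mp hy
      refine Subgroup.mem_inf.mpr ⟨hyσ, ?_⟩
      rw [Subgroup.mem_centralizer_iff]
      intro z hz
      rw [Set.mem_singleton_iff] at hz
      subst hz
      exact (Subgroup.mem_centralizer_iff.mp hyc) z hx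
  obtain ⟨-, hcard, -⟩ := Cfsg.Agent.S1446.result A R (sigmaCore M) hA1 hR1 hKR
    (hRE.trans hEA) hfrob (hsolv _ hsup_top)
    (Odd.of_dvd_nat hodd (Subgroup.card_subgroup_dvd_card _))
    (Cfsg.Agent.Lib.helper54.sigmaCore_ne_bot hG M hM) hnil (hAM.trans hσn)
    ((hRE.trans hEM).trans hσn) hcop hCA hpr
  have h0 : sigmaCore M ⊓ centralizer (R : Set G) = ⊥ := by
    rw [← hpr e (mem_zpowers e) he1]
    exact hreg
  rw [h0, Subgroup.card_bot, one_pow] at hcard
  exact Cfsg.Agent.Lib.helper54.sigmaCore_ne_bot hG M hM (Subgroup.eq_bot_of_card_eq _ hcard)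

end Cfsg.Agent.Lib.helper36
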