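import Mathlib
import Cfsg.Agent.Lib.helper36.BG8PAD

/-!
# PAD-U (helper36): `bg8_exists_cyclic_sub`

The `U`-invariant version of `bg8_exists_cyclic` (`U ≤ E` any subgroup normalizing the line `Y`).
-/

set_option autoImplicit false

namespace Cfsg.Agent.Lib.helper36

open Cfsg Subgroup
open Cfsg.Agent.Lib.helper97 Cfsg.Agent.Lib.helper8

variable {G : Type*} [Group G]

theorem bg8_exists_cyclic_sub [Finite G] (hG : IsMinSimpleOddOrder G)
    {M E A : Subgroup G} {p : ℕ} [Fact p.Prime] {S : Sylow p G} (c : BG8Ctx M E A p S)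
    (U : Subgroup G) (hUE : U ≤ E)
    (hSE : (S : Subgroup G) ≤ E)
    (hNS : Subgroup.normalizer (A : Set G) ≤ Subgroup.normalizer ((S : Subgroup G) : Set G))
    (Y : Subgroup G) (hYA : Y ≤ A) (hYc : Nat.card Y = p)
    (hYU : U ≤ Subgroup.normalizer (Y : Set G)) :
    ∃ D : Subgroup G, D ≤ (S : Subgroup G) ∧ IsCyclic D ∧ U ≤ Subgroup.normalizer (D : Set G) ∧
      (∀ s ∈ (S : Subgroup G), s ^ Nat.card D = 1) ∧ ∀ d ∈ D, d ≠ 1 → BG8Reg M d := by
  obtain ⟨hodd, hsimple, hna, hsolv⟩ := id hG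
  haveI := hsimple
  have hpp : p.Prime := Fact.out
  have hM := c.hM
  have hE := c.hE
  have hp := c.hp
  obtain ⟨hAE, hAe, hA2⟩ := c.hA
  have hAel := (bg_elemAb_iff A).mp hAe
  have h16 : BGTwelveFourHyp G := fun M hM p _ A hA => Cfsg.Agent.S1416.result hG M hM p A hA
  have h17 : BG7FiveHyp G := fun M hM p _ hp A hA => Cfsg.Agent.S1417.result hG M hM p hp A hA
  have h18 := bg7_six_of hG h16 h17
  obtain ⟨⟨hEA, -⟩, ⟨hCA, hMN, hNM⟩, hbad⟩ := h18 M hM E hE p hp A c.hA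
  have hEM : E ≤ M := hE.1
  have hAM : A ≤ M := hAE.trans hEM
  have hSM : (S : Subgroup G) ≤ M := hSE.trans hEM
  have hA1 : A ≠ ⊥ := by
    rintro rfl
    rw [Subgroup.card_bot] at hA2
    have := hpp.one_lt
    nlinarith [pow_pos hpp.pos 2]
  have hM1 : M ≠ ⊥ := by
    rintro rfl
    exact hA1 (le_bot_iff.mp hAM)
  have hNMself : normalizer (M : Set G) = M :=
    Cfsg.Agent.Lib.helper71.BGA.normalizer_eq_of_isCoatom hM hM1
  -- `Ω₁(S) ≤ A`
  have hΩ : ∀ x ∈ (S : Subgroup G), x ^ p = 1 → x ∈ A := by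
    obtain ⟨-, h2, -⟩ := h17 M hM p hp A ⟨hAM, hAe, hA2⟩
    have hmap : ((S.subtype hSM : Sylow p ↥M) : Subgroup ↥M).map M.subtype = (S : Subgroup G) := by
      rw [Sylow.coe_subtype, Subgroup.subgroupOf_map_subtype, inf_of_le_left hSM]
    have h3 := (h2 (S.subtype hSM)).2 (by rw [hmap]; exact c.hAS)
    intro x hx hxp
    exact (h3.1 x (by rw [hmap]; exact hx)).mp hxp
  obtain ⟨n, hnN, hnM⟩ := SetLike.not_le_iff_exists.mp hNM
  have hcomm := bg8_comm_le_cent hG c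
  -- the TI argument: a conjugate by `n ∉ M` of a nonregular line is regular
  have hTI : ∀ X X' : Subgroup G, X ≤ A → Nat.card X = p → X' ≤ A → Nat.card X' = p →
      (∀ x ∈ X, n * x * n⁻¹ ∈ X') → sigmaCore M ⊓ centralizer (X : Set G) ≠ ⊥ →
      sigmaCore M ⊓ centralizer (X' : Set G) = ⊥ := by
    intro X X' hXA hXc hX'A hX'c hXX' hXbad
    by_contra hX'bad
    obtain ⟨hCX, -⟩ := hbad X hXA hXc hXbad
    obtain ⟨-, huniq⟩ := hbad X' hX'A hX'c hX'bad
    have hL : IsCoatom (M.map (MulAut.conj n).toMonoidHom) :=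
      Cfsg.Agent.Lib.helper71.BGA.isCoatom_map_conj hM n
    have hle : centralizer (X' : Set G) ≤ M.map (MulAut.conj n).toMonoidHom := by
      intro g hg
      have h1 : n⁻¹ * g * n ∈ centralizer (X : Set G) := by
        rw [Subgroup.mem_centralizer_iff] at hg ⊢
        intro x hx
        have h2 := hg _ (hXX' x hx)
        calc x * (n⁻¹ * g * n) = n⁻¹ * ((n * x * n⁻¹) * g) * n := by group
          _ = n⁻¹ * (g * (n * x * n⁻¹)) * n := by rw [h2]
          _ = n⁻¹ * g * n * x := by group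
      refine ⟨n⁻¹ * g * n, hCX h1, ?_⟩
      simp [MulAut.conj_apply, mul_assoc]
    have heq := huniq _ hL hle
    apply hnM
    rw [← hNMself, mem_normalizer_iff]
    intro h
    constructor
    · intro hh
      have h1 : n * h * n⁻¹ ∈ M.map (MulAut.conj n).toMonoidHom :=
        ⟨h, hh, by simp [MulAut.conj_apply]⟩
      rwa [heq] at h1
    · intro hh
      have h1 : n * h * n⁻¹ ∈ M.map (MulAut.conj n).toMonoidHom := by rwa [heq]
      obtain ⟨m, hm, hmh⟩ := h1
      have h2 : n * m * n⁻¹ = n * h * n⁻¹ := by simpa [MulAut.conj_apply] using hmh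
      have h3 : m = h := mul_left_cancel (mul_right_cancel h2)
      rw [← h3]; exact hm
  -- a regular `E`-invariant line
  obtain ⟨L₀, hL₀A, hL₀c, hL₀E, hL₀g⟩ : ∃ L₀ : Subgroup G, L₀ ≤ A ∧ Nat.card L₀ = p ∧
      U ≤ normalizer (L₀ : Set G) ∧ sigmaCore M ⊓ centralizer (L₀ : Set G) = ⊥ := by
    by_cases hY : sigmaCore M ⊓ centralizer (Y : Set G) = ⊥
    · exact ⟨Y, hYA, hYc, hYU, hY⟩
    · have hY'A : Y.map (MulAut.conj n).toMonoidHom ≤ A := by
        rintro _ ⟨y, hy, rfl⟩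
        exact (mem_normalizer_iff.mp hnN y).mp (hYA hy)
      have hY'c : Nat.card (Y.map (MulAut.conj n).toMonoidHom) = p := by
        rw [Subgroup.card_map_of_injective (MulAut.conj n).injective]; exact hYc
      refine ⟨Y.map (MulAut.conj n).toMonoidHom, hY'A, hY'c, ?_, ?_⟩
      · apply bg8_le_normalizer_of_conj_mem
        rintro e he _ ⟨y, hy, rfl⟩
        have hcc : n⁻¹ * e * n⁻¹⁻¹ * e⁻¹ ∈ centralizer (A : Set G) :=
          hcomm n⁻¹ (inv_mem hnN) e (hEA (hUE he))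
        have hcy : (n⁻¹ * e * n⁻¹⁻¹ * e⁻¹) * (e * y * e⁻¹) * (n⁻¹ * e * n⁻¹⁻¹ * e⁻¹)⁻¹
            = e * y * e⁻¹ := by
          have hey : e * y * e⁻¹ ∈ Y := (mem_normalizer_iff.mp (hYU he) y).mp hy
          have h5 := (Subgroup.mem_centralizer_iff.mp hcc) _ (hYA hey)
          rw [← h5]; group
        have h2 : (n⁻¹ * e * n) * y * (n⁻¹ * e * n)⁻¹ ∈ Y := by
          have h6 : (n⁻¹ * e * n) * y * (n⁻¹ * e * n)⁻¹
              = (n⁻¹ * e * n⁻¹⁻¹ * e⁻¹) * (e * y * e⁻¹) * (n⁻¹ * e * n⁻¹⁻¹ * e⁻¹)⁻¹ := by group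
          rw [h6, hcy]
          exact (mem_normalizer_iff.mp (hYU he) y).mp hy
        refine ⟨_, h2, ?_⟩
        simp only [MulEquiv.coe_toMonoidHom, MulAut.conj_apply]
        group
      · exact hTI Y _ hYA hYc hY'A hY'c (fun x hx => ⟨x, hx, by simp [MulAut.conj_apply]⟩) hY
  -- an element of maximal order of `S`
  haveI : Fintype ↥(S : Subgroup G) := Fintype.ofFinite _
  obtain ⟨d0, -, hd0max⟩ := Finset.exists_max_image (Finset.univ : Finset ↥(S : Subgroup G))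
    (fun s => orderOf (s : G)) ⟨1, Finset.mem_univ _⟩
  have hSp : IsPGroup p (S : Subgroup G) := S.isPGroup'
  have hord : ∀ s ∈ (S : Subgroup G), ∃ k, orderOf s = p ^ k := by
    intro s hs
    obtain ⟨k, hk⟩ := hSp ⟨s, hs⟩
    have h1 : s ^ p ^ k = 1 := congrArg Subtype.val hk
    obtain ⟨j, -, hj⟩ := (Nat.dvd_prime_pow hpp).mp (orderOf_dvd_of_pow_eq_one h1)
    exact ⟨j, hj⟩
  obtain ⟨k0, hk0⟩ := hord d0 d0.2
  obtain ⟨⟨a0, ha0A⟩, ha01'⟩ := Subgroup.ne_bot_iff_exists_ne_one.mp hA1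
  have ha01 : a0 ≠ 1 := fun h => ha01' (Subtype.ext h)
  have ha0o : orderOf a0 = p := orderOf_eq_prime (hAel.2 a0 ha0A) ha01
  have hk0pos : k0 ≠ 0 := by
    rintro rfl
    have h1 := hd0max ⟨a0, c.hAS ha0A⟩ (Finset.mem_univ _)
    simp only at h1
    rw [ha0o, hk0, pow_zero] at h1
    have := hpp.one_lt
    omega
  obtain ⟨a, rfl⟩ := Nat.exists_eq_succ_of_ne_zero hk0pos
  have hexp : ∀ s ∈ (S : Subgroup G), s ^ p ^ (a + 1) = 1 := by
    intro s hs
    obtain ⟨j, hj⟩ := hord s hs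
    have h1 := hd0max ⟨s, hs⟩ (Finset.mem_univ _)
    simp only at h1
    rw [hj, hk0] at h1
    have h2 : j ≤ a + 1 := (Nat.pow_le_pow_iff_right hpp.one_lt).mp h1
    rw [← orderOf_dvd_iff_pow_eq_one, hj]
    exact pow_dvd_pow p h2
  set z0 : G := (d0 : G) ^ p ^ a with hz0
  have hz01 : z0 ≠ 1 := by
    intro h1
    have h2 := orderOf_dvd_of_pow_eq_one h1
    rw [hk0] at h2
    have := (Nat.pow_dvd_pow_iff_le_right hpp.one_lt).mp h2
    omega
  have hz0p : z0 ^ p = 1 := by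
    rw [hz0, ← pow_mul, ← pow_succ]; exact hexp d0 d0.2
  have hz0S : z0 ∈ (S : Subgroup G) := Subgroup.pow_mem _ d0.2 _
  -- the line and the element to lift
  obtain ⟨L', u, hL'A, hL'c, hL'E, hL'g, huS, huL, hu1⟩ : ∃ (L' : Subgroup G) (u : G), L' ≤ A ∧
      Nat.card L' = p ∧ U ≤ normalizer (L' : Set G) ∧
      sigmaCore M ⊓ centralizer (L' : Set G) = ⊥ ∧ u ∈ (S : Subgroup G) ∧ u ^ p ^ a ∈ L' ∧
      u ^ p ^ a ≠ 1 := by
    by_cases hex : ∃ u ∈ (S : Subgroup G), u ^ p ^ a ∈ L₀ ∧ u ^ p ^ a ≠ 1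
    · obtain ⟨u, huS, huL, hu1⟩ := hex
      exact ⟨L₀, u, hL₀A, hL₀c, hL₀E, hL₀g, huS, huL, hu1⟩
    · let I : Subgroup G :=
        { carrier := {x | ∃ u ∈ (S : Subgroup G), u ^ p ^ a = x}
          mul_mem' := by
            rintro _ _ ⟨u, hu, rfl⟩ ⟨v, hv, rfl⟩
            exact ⟨u * v, Subgroup.mul_mem _ hu hv,
              (Commute.mul_pow (show Commute u v from c.hSab u hu v hv) _)⟩
          one_mem' := ⟨1, Subgroup.one_mem _, one_pow _⟩
          inv_mem' := by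
            rintro _ ⟨u, hu, rfl⟩
            exact ⟨u⁻¹, Subgroup.inv_mem _ hu, inv_pow _ _⟩ }
      have hIA : I ≤ A := by
        rintro _ ⟨u, hu, rfl⟩
        apply hΩ _ (Subgroup.pow_mem _ hu _)
        rw [← pow_mul, ← pow_succ]; exact hexp u hu
      have hz0I : z0 ∈ I := ⟨d0, d0.2, rfl⟩
      have hIN : normalizer (A : Set G) ≤ normalizer (I : Set G) := by
        apply bg8_le_normalizer_of_conj_mem
        rintro g hg _ ⟨u, hu, rfl⟩
        refine ⟨g * u * g⁻¹, (mem_normalizer_iff.mp (hNS hg) u).mp hu, ?_⟩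
        rw [conj_pow]
      have hIL : ∀ x ∈ I, x ∈ L₀ → x = 1 := by
        rintro _ ⟨u, hu, rfl⟩ hx
        by_contra h1
        exact hex ⟨u, hu, hx, h1⟩
      have hIc : Nat.card I = p := by
        obtain ⟨k, hk2, hk⟩ := (Nat.dvd_prime_pow hpp).mp (hA2 ▸ Subgroup.card_dvd_of_le hIA)
        interval_cases k
        · exfalso
          have h1 : I = ⊥ := Subgroup.eq_bot_of_card_eq I (by simpa using hk)
          rw [h1] at hz0I
          exact hz01 (Subgroup.mem_bot.mp hz0I)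
        · simpa using hk
        · exfalso
          have hIeq : I = A := Subgroup.eq_of_le_of_card_ge hIA (by rw [hk, hA2])
          have hL₀1 : L₀ ≠ ⊥ := by
            rintro rfl
            rw [Subgroup.card_bot] at hL₀c
            exact hpp.one_lt.ne hL₀c
          obtain ⟨⟨l, hl⟩, hl1⟩ := Subgroup.ne_bot_iff_exists_ne_one.mp hL₀1
          exact hl1 (Subtype.ext (hIL l (hIeq ▸ hL₀A hl) hl))
      refine ⟨I, d0, hIA, hIc, (hUE.trans hEA).trans hIN, ?_, d0.2, hz0I, hz01⟩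
      by_contra hIbad
      exact hIbad (hTI I I hIA hIc hIA hIc
        (fun x hx => (mem_normalizer_iff.mp (hIN hnN) x).mp hx) hIbad)
  -- Teichmüller lift
  have hSyl : ¬ p ∣ (S : Subgroup G).relIndex (U ⊔ (S : Subgroup G)) := fun hd =>
    S.not_dvd_index (hd.trans (Subgroup.relIndex_dvd_index_of_le le_sup_right))
  have hUSn : U ⊔ (S : Subgroup G) ≤ normalizer (((S : Subgroup G)) : Set G) :=
    sup_le (hUE.trans (hEA.trans hNS)) le_normalizer
  have hL'US : U ⊔ (S : Subgroup G) ≤ normalizer (L' : Set G) := by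
    refine sup_le hL'E ?_
    apply bg8_le_normalizer_of_conj_mem
    intro s hs l hl
    have h1 : s * l = l * s := c.hSab s hs l (c.hAS (hL'A hl))
    have h2 : s * l * s⁻¹ = l := by rw [h1]; group
    rw [h2]; exact hl
  obtain ⟨v, hvS, hvL, hv1, hvE'⟩ := bg8_inv_cyclic_lift p a (U ⊔ (S : Subgroup G))
    (S : Subgroup G) L' le_sup_right
    hUSn c.hSab hSp hSyl hexp hL'c hL'US u huS huL hu1
  have hvE : U ≤ normalizer ((zpowers v : Subgroup G) : Set G) := le_sup_left.trans hvE'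
  have hvo : orderOf v = p ^ (a + 1) := by
    obtain ⟨j, hj, hjo⟩ := (Nat.dvd_prime_pow hpp).mp (orderOf_dvd_of_pow_eq_one (hexp v hvS))
    rcases Nat.lt_or_ge j (a + 1) with h1 | h1
    · exfalso
      apply hv1
      rw [← orderOf_dvd_iff_pow_eq_one, hjo]
      exact pow_dvd_pow p (by omega)
    · rw [hjo]; congr 1; omega
  have hL'eq : zpowers (v ^ p ^ a) = L' := bg8_zpowers_eq_of_card hL'c hvL hv1
  refine ⟨zpowers v, zpowers_le.mpr hvS, Subgroup.isCyclic_zpowers v, hvE, ?_, ?_⟩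
  · intro s hs
    rw [Nat.card_zpowers, hvo]; exact hexp s hs
  · intro d hd hd1
    show sigmaCore M ⊓ centralizer ({d} : Set G) = ⊥
    rw [eq_bot_iff]
    intro x hx
    obtain ⟨hxσ, hxc⟩ := hx
    obtain ⟨k, hk⟩ := hord d (zpowers_le.mpr hvS hd)
    have hkpos : k ≠ 0 := by
      rintro rfl
      rw [pow_zero, orderOf_eq_one_iff] at hk
      exact hd1 hk
    obtain ⟨k', rfl⟩ := Nat.exists_eq_succ_of_ne_zero hkpos
    set d' : G := d ^ p ^ k' with hd'
    have hd'1 : d' ≠ 1 := by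
      intro h1
      have h2 := orderOf_dvd_of_pow_eq_one h1
      rw [hk] at h2
      have := (Nat.pow_dvd_pow_iff_le_right hpp.one_lt).mp h2
      omega
    have hd'p : d' ^ p = 1 := by
      rw [hd', ← pow_mul, ← pow_succ, ← hk]; exact pow_orderOf_eq_one d
    have hd'L : d' ∈ L' := by
      have hd'D : d' ∈ zpowers v := Subgroup.pow_mem _ hd _
      obtain ⟨i, hi⟩ := mem_zpowers_iff.mp hd'D
      have h1 : v ^ (i * (p : ℤ)) = 1 := by
        rw [zpow_mul, hi, zpow_natCast]; exact hd'p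
      have h2 : ((p ^ (a + 1) : ℕ) : ℤ) ∣ i * (p : ℤ) := by
        rw [← hvo]; exact orderOf_dvd_iff_zpow_eq_one.mpr h1
      have h3 : ((p ^ a : ℕ) : ℤ) ∣ i := by
        rw [pow_succ] at h2
        push_cast at h2 ⊢
        exact Int.dvd_of_mul_dvd_mul_right (by exact_mod_cast hpp.ne_zero) h2
      obtain ⟨j, hj⟩ := h3
      rw [← hL'eq, ← hi, hj, zpow_mul, zpow_natCast]
      exact Subgroup.zpow_mem _ (mem_zpowers _) j
    have hL'd : zpowers d' = L' := bg8_zpowers_eq_of_card hL'c hd'L hd'1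
    have hxL : x ∈ centralizer (L' : Set G) := by
      rw [← hL'd, Subgroup.mem_centralizer_iff]
      intro y hy
      obtain ⟨i, rfl⟩ := mem_zpowers_iff.mp hy
      have h1 : d * x = x * d := (Subgroup.mem_centralizer_iff.mp hxc) d rfl
      have h2 : Commute d x := h1
      exact ((h2.pow_left _).zpow_left i).eq
    have h4 : x ∈ sigmaCore M ⊓ centralizer (L' : Set G) := ⟨hxσ, hxL⟩
    rw [hL'g] at h4
    exact h4

end Cfsg.Agent.Lib.helper36
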