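import Mathlib
import Cfsg.Prelude.Def_Characters
import Cfsg.Prelude.Def_Blocks
import Cfsg.Prelude.Def_Solvable
import Cfsg.Prelude.Def_CaseTheorems
import Cfsg.Agent.Lib.helper84.BrDefs
import Cfsg.Agent.Lib.helper14.BR0Defs
import Cfsg.Agent.Lib.helper81.CharOrtho
import Cfsg.Agent.Lib.helper81.Kernel

/-! S4700 piece VK (`cent_eq`), parallel copy under a prefixed name: a character of `X` of degree
`p - 1` and sign `-1` forces `C_G(P) = P` when `O_{p'}(G) = 1`. -/

set_option autoImplicit false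

namespace Cfsg.Agent.Lib.helper36.BR

open Cfsg Cfsg.Agent.Lib.helper81 Cfsg.Agent.Lib.helper84.Br Cfsg.Agent.Lib.helper14.BR
open scoped ComplexConjugate

universe u

/-- If the sum of a character over a finite subgroup `Q` vanishes (no `Q`-fixed vectors), then
so does the sum over every coset `b Q`. -/
theorem h36_sum_translate {G : Type u} [Group G] (Q : Subgroup G) [Fintype Q] (χ : G → ℂ)
    (hχ : IsCharacter G χ) (h0 : ∑ a : Q, χ (a : G) = 0) (b : G) :
    ∑ a : Q, χ (b * (a : G)) = 0 := by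
  classical
  obtain ⟨n, ρ, rfl⟩ := hχ
  have hE : ∃ E : (Fin n → ℂ) →ₗ[ℂ] (Fin n → ℂ), E = ∑ a : Q, ρ (a : G) := ⟨_, rfl⟩
  obtain ⟨E, hE⟩ := hE
  have htr : LinearMap.trace ℂ _ E = 0 := by
    rw [hE, map_sum]
    exact h0
  have hEE : E * E = (Fintype.card Q : ℂ) • E := by
    have h1 : ∀ a : Q, ρ (a : G) * E = E := by
      intro a
      rw [hE, Finset.mul_sum]
      have h2 : ∀ c : Q, ρ (a : G) * ρ (c : G) = ρ ((a * c : Q) : G) := by
        intro c
        rw [← map_mul]
        rfl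
      simp_rw [h2]
      exact Fintype.sum_equiv (Equiv.mulLeft a) _ _ (fun c => rfl)
    calc E * E = (∑ a : Q, ρ (a : G)) * E := by rw [← hE]
      _ = ∑ a : Q, ρ (a : G) * E := Finset.sum_mul _ _ _
      _ = ∑ _a : Q, E := Finset.sum_congr rfl (fun a _ => h1 a)
      _ = (Fintype.card Q : ℂ) • E := by
          rw [Finset.sum_const, Finset.card_univ, Nat.cast_smul_eq_nsmul]
  have hc : (Fintype.card Q : ℂ) ≠ 0 := by exact_mod_cast Fintype.card_ne_zero
  have hidem : IsIdempotentElem ((Fintype.card Q : ℂ)⁻¹ • E) := by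
    unfold IsIdempotentElem
    rw [smul_mul_smul_comm, hEE, smul_smul]
    congr 1
    field_simp
  have htrF : LinearMap.trace ℂ _ ((Fintype.card Q : ℂ)⁻¹ • E) = 0 := by
    rw [map_smul, htr, smul_zero]
  have hF0 : (Fintype.card Q : ℂ)⁻¹ • E = 0 :=
    LinearMap.IsIdempotentElem.eq_zero_of_trace_eq_zero hidem htrF
  have hE0 : E = 0 := by
    have h1 : E = (Fintype.card Q : ℂ) • ((Fintype.card Q : ℂ)⁻¹ • E) := by
      rw [smul_smul, mul_inv_cancel₀ hc, one_smul]
    rw [h1, hF0, smul_zero]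
  have h3 : ∑ a : Q, ρ.character (b * (a : G)) = LinearMap.trace ℂ _ (ρ b * E) := by
    rw [hE, Finset.mul_sum, map_sum]
    refine Finset.sum_congr rfl fun a _ => ?_
    rw [← map_mul]
    rfl
  rw [h3, hE0, mul_zero, map_zero]

section pieces

variable {G : Type u} [Group G] [Fintype G] {p : ℕ} [Fact p.Prime] {P : Sylow p G} {e n : ℕ}

/-- VK : a character of `X` of degree `p - 1` and sign `-1` forces `C_G(P) = P`
when `O_{p'}(G) = 1`. -/
theorem h36_cent_eq (D : Data0 G p P e) (hP : Nat.card P = p) (hcore : Cfsg.pPrimeCore p G = ⊥)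
    (χ : IrrCharacter G) (hχ : χ ∈ D.X) (hδ : D.δ χ = -1)
    (hdeg : charDegree (χ : G → ℂ) = p - 1) :
    Subgroup.centralizer ((P : Subgroup G) : Set G) = (P : Subgroup G) := by
  classical
  have hp : p.Prime := Fact.out
  have hp2 := hp.two_le
  have hχc : IsCharacter G (χ : G → ℂ) := irr_isCharacter χ
  have hχ1 : (χ : G → ℂ) 1 = (p : ℂ) - 1 := by
    rw [irr_one_eq_charDegree, hdeg, Nat.cast_sub (by omega : 1 ≤ p)]
    simp
  have hreg1 : ¬ p ∣ orderOf (1 : G) := by
    rw [orderOf_one]; exact fun hd => hp.one_lt.ne' (Nat.dvd_one.mp hd)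
  -- the values `-1`
  have hval : ∀ a : G, a ∈ (P : Subgroup G) → a ≠ 1 →
      ∀ y : G, y ∈ Subgroup.centralizer ((P : Subgroup G) : Set G) → ¬ p ∣ orderOf y →
        (χ : G → ℂ) (a * y) = -1 := by
    intro a ha ha1 y hy hyp
    rw [D.val_X χ hχ a ha ha1 y hy hyp, hδ]
    simp
  letI : Fintype (P : Subgroup G) := Fintype.ofFinite _
  have hcardP : Fintype.card (P : Subgroup G) = p := by
    rw [← Nat.card_eq_fintype_card]; exact hP
  have hcardE : (Finset.univ.erase (1 : (P : Subgroup G))).card = p - 1 := by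
    rw [Finset.card_erase_of_mem (Finset.mem_univ _), Finset.card_univ, hcardP]
  have hpc : ((p - 1 : ℕ) : ℂ) = (p : ℂ) - 1 := by
    rw [Nat.cast_sub (by omega : 1 ≤ p)]; simp
  -- the sum of `χ` over `P` vanishes
  have hsum0 : ∑ a : (P : Subgroup G), (χ : G → ℂ) (a : G) = 0 := by
    rw [← Finset.add_sum_erase Finset.univ _ (Finset.mem_univ (1 : (P : Subgroup G)))]
    have h1 : ∀ a ∈ (Finset.univ.erase (1 : (P : Subgroup G))), (χ : G → ℂ) (a : G) = -1 := by
      intro a ha
      have ha1 : (a : G) ≠ 1 := fun h => (Finset.ne_of_mem_erase ha) (Subtype.ext h)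
      have h2 := hval a a.2 ha1 1 (Subgroup.one_mem _) hreg1
      rwa [mul_one] at h2
    rw [Finset.sum_congr rfl h1, Finset.sum_const, hcardE, OneMemClass.coe_one, hχ1,
      nsmul_eq_mul, hpc]
    ring
  -- `p`-regular elements of `C_G(P)` lie in the kernel of `χ`
  have hker : ∀ y : G, y ∈ Subgroup.centralizer ((P : Subgroup G) : Set G) → ¬ p ∣ orderOf y →
      (χ : G → ℂ) y = (χ : G → ℂ) 1 := by
    intro y hy hyp
    have h := h36_sum_translate (P : Subgroup G) (χ : G → ℂ) hχc hsum0 y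
    rw [← Finset.add_sum_erase Finset.univ _ (Finset.mem_univ (1 : (P : Subgroup G)))] at h
    have h1 : ∀ a ∈ (Finset.univ.erase (1 : (P : Subgroup G))),
        (χ : G → ℂ) (y * (a : G)) = -1 := by
      intro a ha
      have ha1 : (a : G) ≠ 1 := fun h => (Finset.ne_of_mem_erase ha) (Subtype.ext h)
      have hcomm : y * (a : G) = (a : G) * y :=
        (Subgroup.mem_centralizer_iff.mp hy (a : G) a.2).symm
      rw [hcomm]
      exact hval a a.2 ha1 y hy hyp
    rw [Finset.sum_congr rfl h1, Finset.sum_const, hcardE, OneMemClass.coe_one, mul_one,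
      nsmul_eq_mul, hpc] at h
    rw [hχ1]
    linear_combination h
  -- the kernel of `χ`
  have hKP : ∀ g : G, g ∈ charKer (χ : G → ℂ) hχc → g ∈ (P : Subgroup G) → g = 1 := by
    intro g hgK hgP
    by_contra hg1
    have h1 := hval g hgP hg1 1 (Subgroup.one_mem _) hreg1
    rw [mul_one] at h1
    have h2 : (χ : G → ℂ) g = (χ : G → ℂ) 1 := (mem_charKer _ _ g).mp hgK
    rw [h1, hχ1] at h2
    have h3 : (p : ℂ) = 0 := by linear_combination -h2
    exact (by exact_mod_cast hp.ne_zero : (p : ℂ) ≠ 0) h3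
  have hfact : (Nat.card G).factorization p = 1 := by
    have h1 := Sylow.card_eq_multiplicity P
    rw [hP] at h1
    have h2 : p ^ 1 = p ^ (Nat.card G).factorization p := by rw [pow_one]; exact h1
    exact (Nat.pow_right_injective hp2 h2).symm
  have hKcop : (Nat.card (charKer (χ : G → ℂ) hχc)).Coprime p := by
    rw [Nat.coprime_comm]
    refine (Nat.Prime.coprime_iff_not_dvd hp).mpr ?_
    intro hpK
    have h1 : (charKer (χ : G → ℂ) hχc).relIndex ((P : Subgroup G) ⊔ charKer (χ : G → ℂ) hχc)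
        = (charKer (χ : G → ℂ) hχc).relIndex (P : Subgroup G) :=
      Subgroup.relIndex_sup_right _ _
    have h2 : (charKer (χ : G → ℂ) hχc).relIndex (P : Subgroup G) = p := by
      have h3 : (charKer (χ : G → ℂ) hχc).subgroupOf (P : Subgroup G) = ⊥ := by
        rw [Subgroup.subgroupOf_eq_bot, Subgroup.disjoint_def]
        intro g hg1 hg2
        exact hKP g hg1 hg2
      unfold Subgroup.relIndex
      rw [h3, Subgroup.index_bot]
      exact hP
    have h4 := Subgroup.relIndex_mul_index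
      (le_sup_right : charKer (χ : G → ℂ) hχc ≤ (P : Subgroup G) ⊔ charKer (χ : G → ℂ) hχc)
    rw [h1, h2] at h4
    have h5 := Subgroup.index_mul_card (charKer (χ : G → ℂ) hχc)
    rw [← h4] at h5
    obtain ⟨k, hk⟩ := hpK
    have h6 : p ^ 2 ∣ Nat.card G := by
      rw [← h5, hk]
      exact ⟨((P : Subgroup G) ⊔ charKer (χ : G → ℂ) hχc).index * k, by ring⟩
    have h7 := (Nat.Prime.pow_dvd_iff_le_factorization hp Nat.card_pos.ne').mp h6
    omega
  -- `p`-regular elements of `C_G(P)` are trivial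
  have hreg_triv : ∀ y : G, y ∈ Subgroup.centralizer ((P : Subgroup G) : Set G) →
      ¬ p ∣ orderOf y → y = 1 := by
    intro y hy hyp
    have hyK : y ∈ charKer (χ : G → ℂ) hχc := (mem_charKer _ _ y).mpr (hker y hy hyp)
    have hKle : charKer (χ : G → ℂ) hχc ≤ Cfsg.pPrimeCore p G :=
      le_sSup ⟨inferInstance, hKcop⟩
    rw [hcore] at hKle
    exact (Subgroup.mem_bot).mp (hKle hyK)
  -- `C_G(P)` is a `p`-group
  have hCp : IsPGroup p ↥(Subgroup.centralizer ((P : Subgroup G) : Set G)) := by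
    intro g
    obtain ⟨a, m', hm', hom⟩ :=
      Nat.exists_eq_pow_mul_and_not_dvd (orderOf_pos (g : G)).ne' p hp.ne_one
    refine ⟨a, ?_⟩
    have h1 : orderOf ((g : G) ^ p ^ a) = m' := by
      rw [orderOf_pow_of_dvd (pow_ne_zero a hp.ne_zero) (by rw [hom]; exact dvd_mul_right _ _),
        hom, Nat.mul_div_cancel_left _ (pow_pos hp.pos a)]
    have h2 := hreg_triv ((g : G) ^ p ^ a) (Subgroup.pow_mem _ g.2 _) (by rw [h1]; exact hm')
    apply Subtype.ext
    rw [Subgroup.coe_pow, h2]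
    rfl
  -- `P ≤ C_G(P)`
  have hPC : (P : Subgroup G) ≤ Subgroup.centralizer ((P : Subgroup G) : Set G) := by
    intro a ha
    rw [Subgroup.mem_centralizer_iff]
    intro b hb
    have hcyc : IsCyclic (P : Subgroup G) := isCyclic_of_prime_card (p := p) hP
    letI := IsCyclic.commGroup (α := (P : Subgroup G))
    have h1 : (⟨b, hb⟩ : (P : Subgroup G)) * ⟨a, ha⟩ = ⟨a, ha⟩ * ⟨b, hb⟩ := mul_comm _ _
    exact congrArg Subtype.val h1
  exact P.is_maximal' hCp hPC

end pieces

end Cfsg.Agent.Lib.helper36.BR
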