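import Mathlib
import Cfsg.Prelude.Def_Characters
import Cfsg.Prelude.Def_Blocks
import Cfsg.Agent.Lib.helper84.BrDefs
import Cfsg.Agent.Lib.helper81.CharOrtho
import Cfsg.Agent.Lib.helper20.BrC1

/-! S0998 pieces DEGEQ (`deg_eq`) and STEPAB (`step_ab`), parallel copies under prefixed names. -/

set_option autoImplicit false

namespace Cfsg.Agent.Lib.helper36.BT

open Cfsg Cfsg.Agent.Lib.helper81 Cfsg.Agent.Lib.helper84.Br
open scoped ComplexConjugate

universe u

/-- A non-cyclic simple group is perfect. -/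
theorem h36_perfect {G : Type u} [Group G] [IsSimpleGroup G] (hG : ¬ IsCyclic G) :
    commutator G = ⊤ := by
  haveI : (commutator G).Normal := by
    rw [commutator_def]; infer_instance
  rcases (Subgroup.Normal.eq_bot_or_eq_top (H := commutator G) inferInstance) with h | h
  · exfalso
    apply hG
    have hcomm : ∀ a b : G, a * b = b * a := by
      intro a b
      have h1 : (⊤ : Subgroup G) ≤ Subgroup.centralizer ((⊤ : Subgroup G) : Set G) := by
        rw [← Subgroup.commutator_eq_bot_iff_le_centralizer, ← commutator_def]; exact h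
      exact Subgroup.mem_centralizer_iff.mp (h1 (Subgroup.mem_top b)) a (Subgroup.mem_top a)
    letI : CommGroup G := { ‹Group G› with mul_comm := hcomm }
    exact IsSimpleGroup.isCyclic
  · exact h

section pieces

variable {G : Type u} [Group G] [Fintype G]

variable {p : ℕ} [Fact p.Prime] {P : Sylow p G} {e : ℕ}

/-- DEGEQ : the degree equation `ε f₀ = 1 + Σ_{χ ∈ X ∖ 1} δ_χ χ(1)`. -/
theorem h36_deg_eq (hP : Nat.card P = p) (D : Data G p P e) (θ : IrrCharacter G) (hθ : θ ∈ D.Y) :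
    D.ε * (charDegree (θ : G → ℂ) : ℤ) =
      1 + ∑ χ ∈ D.X.erase (trivChar G), D.δ χ * (charDegree (χ : G → ℂ) : ℤ) := by
  classical
  have hp : p.Prime := Fact.out
  obtain ⟨y₀, hy₀, hy₀1⟩ : ∃ y : G, y ∈ (P : Subgroup G) ∧ y ≠ 1 := by
    have h1 : 1 < Nat.card (P : Subgroup G) := by
      have : Nat.card (P : Subgroup G) = p := hP
      have := hp.two_le
      omega
    have hnt : Nontrivial (P : Subgroup G) := (Finite.one_lt_card_iff_nontrivial).mp h1
    obtain ⟨⟨y, hy⟩, hy1⟩ := exists_ne (1 : (P : Subgroup G))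
    exact ⟨y, hy, fun h => hy1 (Subtype.ext h)⟩
  have hδ1 : D.δ (trivChar G) = 1 := D.δ_triv y₀ hy₀ hy₀1
  have hreg1 : ¬ p ∣ orderOf (1 : G) := by
    rw [orderOf_one]; exact fun hd => hp.one_lt.ne' (Nat.dvd_one.mp hd)
  have h := D.rel θ hθ 1 hreg1
  rw [← Finset.add_sum_erase D.X _ D.one_mem, trivChar_apply, hδ1] at h
  simp only [irr_one_eq_charDegree] at h
  have h' : ((D.ε * (charDegree (θ : G → ℂ) : ℤ) : ℤ) : ℂ) =
      ((1 + ∑ χ ∈ D.X.erase (trivChar G), D.δ χ * (charDegree (χ : G → ℂ) : ℤ) : ℤ) : ℂ) := by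
    push_cast
    rw [h]
    ring
  exact_mod_cast h'

/-- STEPAB : the degrees in the principal `p`-block of a simple group of order `p r q^b`,
`r ≤ p - 2`. -/
theorem h36_step_ab [IsSimpleGroup G] (hG : ¬ IsCyclic G) (hP : Nat.card P = p) (D : Data G p P e)
    (q r b : ℕ) (hq : q.Prime) (hr : r.Prime) (hpq : p ≠ q) (hpr : p ≠ r) (hqr : q ≠ r)
    (hcard : Nat.card G = p * r * q ^ b) (hrp : r + 2 ≤ p) :
    (∀ χ ∈ D.X, χ ≠ trivChar G → q ∣ charDegree (χ : G → ℂ)) ∧
    (∀ θ ∈ D.Y, charDegree (θ : G → ℂ) = r) ∧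
    ((D.ε = 1 ∧ r = e ∧ q ∣ r - 1) ∨ (D.ε = -1 ∧ r + e = p ∧ q ∣ r + 1)) := by
  classical
  have hp : p.Prime := Fact.out
  have hp2 := hp.two_le
  have hr2 := hr.two_le
  have hperf : commutator G = ⊤ := h36_perfect hG
  -- facts on `e`
  have he1 : 1 ≤ e := by
    rw [← D.cardX]; exact Finset.card_pos.mpr ⟨_, D.one_mem⟩
  have hcY := D.cardY
  have hYpos : 1 ≤ D.Y.card := by
    by_contra h
    have h0 : D.Y.card = 0 := by omega
    rw [h0, zero_mul] at hcY
    omega
  have hep : e ≤ p - 1 := by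
    rw [← hcY]
    exact Nat.le_mul_of_pos_left e hYpos
  -- a degree prime to `p` divides `r q^b`
  have hdvd : ∀ χ : IrrCharacter G, ¬ p ∣ charDegree (χ : G → ℂ) →
      charDegree (χ : G → ℂ) ∣ r * q ^ b := by
    intro χ hχ
    have h1 := irr_degree_dvd_card χ
    rw [hcard, mul_assoc] at h1
    have hc : Nat.Coprime (charDegree (χ : G → ℂ)) p :=
      ((Nat.Prime.coprime_iff_not_dvd hp).mpr hχ).symm
    exact hc.dvd_of_dvd_mul_left h1
  -- a divisor of `r q^b` prime to `q` is `1` or `r`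
  have hdr : ∀ d : ℕ, d ∣ r * q ^ b → ¬ q ∣ d → d = 1 ∨ d = r := by
    intro d h1 h2
    have hc : Nat.Coprime d (q ^ b) :=
      Nat.Coprime.pow_right b ((Nat.Prime.coprime_iff_not_dvd hq).mpr h2).symm
    have h3 : d ∣ r := hc.dvd_of_dvd_mul_right h1
    exact (Nat.dvd_prime hr).mp h3
  -- `p` does not divide `±1`
  have hp1 : ¬ (p : ℤ) ∣ 1 := by
    intro h
    have := Int.le_of_dvd (by norm_num) h
    omega
  -- part 1
  have part1 : ∀ χ ∈ D.X, χ ≠ trivChar G → q ∣ charDegree (χ : G → ℂ) := by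
    intro χ hχ hχ1
    by_contra hq'
    have hmod := D.deg_X χ hχ
    have hδ := D.δ_sq χ hχ
    have hmod' : (p : ℤ) ∣ D.δ χ - (charDegree (χ : G → ℂ) : ℤ) := Int.modEq_iff_dvd.mp hmod
    have hpd : ¬ p ∣ charDegree (χ : G → ℂ) := by
      intro hd
      have h1 : (p : ℤ) ∣ (charDegree (χ : G → ℂ) : ℤ) := by exact_mod_cast hd
      have h2 : (p : ℤ) ∣ D.δ χ := by
        have h3 : D.δ χ = (D.δ χ - (charDegree (χ : G → ℂ) : ℤ)) + (charDegree (χ : G → ℂ) : ℤ) := by
          ring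
        rw [h3]; exact dvd_add hmod' h1
      rcases hδ with h | h <;> rw [h] at h2
      · exact hp1 h2
      · exact hp1 ((dvd_neg).mp h2)
    rcases hdr _ (hdvd χ hpd) hq' with h1 | h1
    · exact hχ1 (Cfsg.Agent.Lib.helper20.Br.lin_perfect hperf χ h1)
    · rw [h1] at hmod'
      rcases hδ with h | h <;> rw [h] at hmod'
      · have h2 : (p : ℤ) ∣ (r : ℤ) - 1 := by
          have := (dvd_neg).mpr hmod'
          rwa [neg_sub] at this
        have h3 := Int.le_of_dvd (by omega) h2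
        omega
      · have h2 : (p : ℤ) ∣ (r : ℤ) + 1 := by
          have := (dvd_neg).mpr hmod'
          have e1 : -(-1 - (r : ℤ)) = (r : ℤ) + 1 := by ring
          rwa [e1] at this
        have h3 := Int.le_of_dvd (by omega) h2
        omega
  -- part 2, with the congruences kept
  have part2 : ∀ θ ∈ D.Y, charDegree (θ : G → ℂ) = r ∧ (q : ℤ) ∣ D.ε * (r : ℤ) - 1 ∧
      (p : ℤ) ∣ D.ε * (e : ℤ) - (r : ℤ) := by
    intro θ hθ
    have hdeg := h36_deg_eq hP D θ hθ
    have hqsum : (q : ℤ) ∣ ∑ χ ∈ D.X.erase (trivChar G),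
        D.δ χ * (charDegree (χ : G → ℂ) : ℤ) := by
      apply Finset.dvd_sum
      intro χ hχ
      rw [Finset.mem_erase] at hχ
      have h1 : (q : ℤ) ∣ (charDegree (χ : G → ℂ) : ℤ) := by
        exact_mod_cast part1 χ hχ.2 hχ.1
      exact Dvd.dvd.mul_left h1 _
    have hq1 : (q : ℤ) ∣ D.ε * (charDegree (θ : G → ℂ) : ℤ) - 1 := by
      rw [hdeg]
      have e1 : (1 + ∑ χ ∈ D.X.erase (trivChar G), D.δ χ * (charDegree (χ : G → ℂ) : ℤ)) - 1
          = ∑ χ ∈ D.X.erase (trivChar G), D.δ χ * (charDegree (χ : G → ℂ) : ℤ) := by ring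
      rw [e1]; exact hqsum
    have hq1' : ¬ (q : ℤ) ∣ 1 := by
      intro h
      have := Int.le_of_dvd (by norm_num) h
      have := hq.two_le
      omega
    have hqf : ¬ q ∣ charDegree (θ : G → ℂ) := by
      intro hd
      have h1 : (q : ℤ) ∣ D.ε * (charDegree (θ : G → ℂ) : ℤ) :=
        Dvd.dvd.mul_left (by exact_mod_cast hd) _
      have h2 : (q : ℤ) ∣ 1 := by
        have := dvd_sub h1 hq1
        simpa using this
      exact hq1' h2
    have hmodY : (p : ℤ) ∣ D.ε * (e : ℤ) - (charDegree (θ : G → ℂ) : ℤ) :=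
      Int.modEq_iff_dvd.mp (D.deg_Y θ hθ)
    have hpf : ¬ p ∣ charDegree (θ : G → ℂ) := by
      intro hd
      have h1 : (p : ℤ) ∣ (charDegree (θ : G → ℂ) : ℤ) := by exact_mod_cast hd
      have h2 : (p : ℤ) ∣ D.ε * (e : ℤ) := by
        have := dvd_add hmodY h1
        simpa using this
      have h3 : (p : ℤ) ∣ (e : ℤ) := by
        rcases D.ε_sq with h | h <;> rw [h] at h2
        · simpa using h2
        · have := (dvd_neg).mpr h2
          simpa using this
      have h4 := Int.le_of_dvd (by omega) h3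
      omega
    have hθ1 : θ ≠ trivChar G := by
      intro h
      exact Finset.disjoint_left.mp D.disj D.one_mem (h ▸ hθ)
    have hfr : charDegree (θ : G → ℂ) = r := by
      rcases hdr _ (hdvd θ hpf) hqf with h1 | h1
      · exact absurd (Cfsg.Agent.Lib.helper20.Br.lin_perfect hperf θ h1) hθ1
      · exact h1
    rw [hfr] at hq1 hmodY
    exact ⟨hfr, hq1, hmodY⟩
  refine ⟨part1, fun θ hθ => (part2 θ hθ).1, ?_⟩
  obtain ⟨θ0, hθ0⟩ : D.Y.Nonempty := Finset.card_pos.mp hYpos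
  obtain ⟨-, hq1, hpm⟩ := part2 θ0 hθ0
  rcases D.ε_sq with hε | hε
  · left
    rw [hε] at hq1 hpm
    refine ⟨hε, ?_, ?_⟩
    · have h1 : (1 : ℤ) * (e : ℤ) - (r : ℤ) = 0 := by
        apply Int.eq_zero_of_abs_lt_dvd hpm
        rw [abs_lt]
        constructor <;> omega
      omega
    · have h1 : ((r - 1 : ℕ) : ℤ) = 1 * (r : ℤ) - 1 := by omega
      have h2 : (q : ℤ) ∣ ((r - 1 : ℕ) : ℤ) := by rw [h1]; exact hq1
      exact_mod_cast h2
  · right
    rw [hε] at hq1 hpm
    refine ⟨hε, ?_, ?_⟩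
    · have h1 : (p : ℤ) ∣ ((r + e : ℕ) : ℤ) := by
        have := (dvd_neg).mpr hpm
        have e1 : -(-1 * (e : ℤ) - (r : ℤ)) = ((r + e : ℕ) : ℤ) := by push_cast; ring
        rwa [e1] at this
      have h2 : p ∣ r + e := by exact_mod_cast h1
      obtain ⟨k, hk⟩ := h2
      rcases k with _ | _ | k
      · omega
      · omega
      · have : p * (k + 1 + 1) = p * k + 2 * p := by ring
        omega
    · have h1 : (q : ℤ) ∣ ((r + 1 : ℕ) : ℤ) := by
        have := (dvd_neg).mpr hq1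
        have e1 : -(-1 * (r : ℤ) - 1) = ((r + 1 : ℕ) : ℤ) := by push_cast; ring
        rwa [e1] at this
      exact_mod_cast h1

end pieces

end Cfsg.Agent.Lib.helper36.BT
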