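import Mathlib
import Cfsg.Prelude.Def_Local
import Cfsg.Agent.Lib.helper28.BenderMax
import Cfsg.Agent.Lib.helper36.CharP

set_option autoImplicit false
set_option linter.style.haveILetI false
set_option linter.unusedSectionVars false

namespace Cfsg.Agent.Lib.helper36

open Cfsg
open Cfsg.Agent.Lib.helper28
open scoped commutatorElement Pointwise

/-! ### Bender's theorem on primitive pairs (adapted from `helper28/BenderMax.lean`) -/

/-- A subgroup of `M ⊓ N` normalized by both members of a primitive pair `M ≠ N` is trivial. -/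
theorem eq_bot_of_primitive_pair {G : Type*} [Group G] {M N : Subgroup G} (hMN : M ≠ N)
    (hPrim : ∀ A : Subgroup G, A ≠ ⊥ → A ≤ M ⊓ N →
      (M ≤ Subgroup.normalizer (A : Set G) → N ⊓ Subgroup.normalizer (A : Set G) = M ⊓ N) ∧
      (N ≤ Subgroup.normalizer (A : Set G) → M ⊓ Subgroup.normalizer (A : Set G) = M ⊓ N))
    (X : Subgroup G) (hX : X ≤ M ⊓ N)
    (hMX : M ≤ Subgroup.normalizer (X : Set G)) (hNX : N ≤ Subgroup.normalizer (X : Set G)) :
    X = ⊥ := by
  by_contra hne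
  obtain ⟨h1, h2⟩ := hPrim X hne hX
  have h3 := h1 hMX
  have h4 := h2 hNX
  rw [inf_eq_left.mpr hNX] at h3
  rw [inf_eq_left.mpr hMX] at h4
  apply hMN
  exact le_antisymm (h4.le.trans inf_le_right) (h3.le.trans inf_le_left)

/-- A set invariant under conjugation by `M` generates a subgroup normalized by `M`. -/
theorem le_normalizer_closure_of_conj_mem {G : Type*} [Group G] {M : Subgroup G} {S : Set G}
    (h : ∀ m ∈ M, ∀ a ∈ S, m * a * m⁻¹ ∈ S) :
    M ≤ Subgroup.normalizer ((Subgroup.closure S : Subgroup G) : Set G) := by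
  apply le_normalizer_of_conj_mem
  intro m hm d hd
  induction hd using Subgroup.closure_induction with
  | mem x hx => exact Subgroup.subset_closure (h m hm x hx)
  | one => simp
  | mul x y _ _ hx hy =>
    have : m * (x * y) * m⁻¹ = (m * x * m⁻¹) * (m * y * m⁻¹) := by group
    rw [this]
    exact Subgroup.mul_mem _ hx hy
  | inv x _ hx =>
    have : m * x⁻¹ * m⁻¹ = (m * x * m⁻¹)⁻¹ := by group
    rw [this]
    exact Subgroup.inv_mem _ hx

/-- The key step of Bender's maximal subgroup theorem: let `F = P × P'` with `P` a `p`-group and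
`P'` a `p'`-group, both normal in `M`, with `C_M(F) ≤ F` and `C_G(P) ≤ M`; let `Q ≤ M` be a
`p`-group centralizing `P'`.  Then every `p'`-element of `C_G(P)` centralizes `Q`. -/
theorem commute_of_coprime_of_mem_centralizer_of_mem {G : Type*} [Group G] [Finite G] {p : ℕ}
    [Fact p.Prime] {M F P P' Q : Subgroup G}
    (hCF : ∀ c ∈ M, (∀ x ∈ F, c * x = x * c) → c ∈ F)
    (hF : F ≤ P ⊔ P') (hPn : M ≤ Subgroup.normalizer (P : Set G))
    (hP'n : M ≤ Subgroup.normalizer (P' : Set G)) (hPM : P ≤ M) (hP'M : P' ≤ M)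
    (hP : IsPGroup p P) (hP' : (Nat.card P').Coprime p)
    (hQ : IsPGroup p Q) (hQM : Q ≤ M) (hQP' : ∀ k ∈ Q, ∀ y ∈ P', k * y = y * k)
    {a : G} (haM : a ∈ M) (ha : a ∈ Subgroup.centralizer (P : Set G)) (hao : (orderOf a).Coprime p)
    {k : G} (hk : k ∈ Q) : a * k = k * a := by
  have hkM : k ∈ M := hQM hk
  rw [Subgroup.mem_centralizer_iff] at ha
  -- `P` and `P'` commute elementwise
  have hPP' : ∀ x ∈ P, ∀ y ∈ P', x * y = y * x := by
    intro x hx y hy
    have hdisj : P ⊓ P' = ⊥ := by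
      apply Disjoint.eq_bot
      apply Subgroup.disjoint_of_coprime_natCard
      obtain ⟨n, hn⟩ := (IsPGroup.iff_card.mp hP)
      rw [hn]
      exact Nat.Coprime.pow_left n hP'.symm
    have h1 : x * y * x⁻¹ * y⁻¹ ∈ P ⊓ P' := by
      refine ⟨?_, ?_⟩
      · have h2 := (Subgroup.mem_normalizer_iff.mp (hPn (hP'M hy)) x⁻¹).mp (P.inv_mem hx)
        have h3 := P.mul_mem hx h2
        have h4 : x * (y * x⁻¹ * y⁻¹) = x * y * x⁻¹ * y⁻¹ := by group
        rw [h4] at h3
        exact h3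
      · have h2 := (Subgroup.mem_normalizer_iff.mp (hP'n (hPM hx)) y).mp hy
        exact P'.mul_mem h2 (P'.inv_mem hy)
    rw [hdisj, Subgroup.mem_bot] at h1
    calc x * y = (x * y * x⁻¹ * y⁻¹) * (y * x) := by group
      _ = y * x := by rw [h1, one_mul]
  -- the commutator `c = k⁻¹ a⁻¹ k a` centralizes `P` and `P'`, hence lies in `F`
  have hcM : k⁻¹ * a⁻¹ * k * a ∈ M :=
    M.mul_mem (M.mul_mem (M.mul_mem (M.inv_mem hkM) (M.inv_mem haM)) hkM) haM
  have hcP : ∀ x ∈ P, (k⁻¹ * a⁻¹ * k * a) * x = x * (k⁻¹ * a⁻¹ * k * a) := by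
    intro x hx
    have h1 : k * x * k⁻¹ ∈ P := (Subgroup.mem_normalizer_iff.mp (hPn hkM) x).mp hx
    have h2 := ha _ h1
    have h3 := ha x hx
    have h2' : a⁻¹ * (k * x * k⁻¹) = (k * x * k⁻¹) * a⁻¹ := by
      calc a⁻¹ * (k * x * k⁻¹) = a⁻¹ * ((k * x * k⁻¹) * a) * a⁻¹ := by group
        _ = a⁻¹ * (a * (k * x * k⁻¹)) * a⁻¹ := by rw [h2]
        _ = (k * x * k⁻¹) * a⁻¹ := by group
    calc (k⁻¹ * a⁻¹ * k * a) * x = k⁻¹ * a⁻¹ * k * (a * x) := by group
      _ = k⁻¹ * a⁻¹ * k * (x * a) := by rw [h3]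
      _ = k⁻¹ * (a⁻¹ * (k * x * k⁻¹)) * k * a := by group
      _ = k⁻¹ * ((k * x * k⁻¹) * a⁻¹) * k * a := by rw [h2']
      _ = x * (k⁻¹ * a⁻¹ * k * a) := by group
  have hcP' : ∀ y ∈ P', (k⁻¹ * a⁻¹ * k * a) * y = y * (k⁻¹ * a⁻¹ * k * a) := by
    intro y hy
    have h1 : a * y * a⁻¹ ∈ P' := (Subgroup.mem_normalizer_iff.mp (hP'n haM) y).mp hy
    have h2 := hQP' k hk _ h1
    have h3 := hQP' k hk y hy
    have h3' : k⁻¹ * y = y * k⁻¹ := by
      calc k⁻¹ * y = k⁻¹ * (y * k) * k⁻¹ := by group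
        _ = k⁻¹ * (k * y) * k⁻¹ := by rw [h3]
        _ = y * k⁻¹ := by group
    calc (k⁻¹ * a⁻¹ * k * a) * y = k⁻¹ * a⁻¹ * (k * (a * y * a⁻¹)) * a := by group
      _ = k⁻¹ * a⁻¹ * ((a * y * a⁻¹) * k) * a := by rw [h2]
      _ = (k⁻¹ * y) * a⁻¹ * k * a := by group
      _ = (y * k⁻¹) * a⁻¹ * k * a := by rw [h3']
      _ = y * (k⁻¹ * a⁻¹ * k * a) := by group
  have hcF : k⁻¹ * a⁻¹ * k * a ∈ F := by
    apply hCF _ hcM
    have h1 : P ⊔ P' ≤ Subgroup.centralizer ({k⁻¹ * a⁻¹ * k * a} : Set G) := by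
      apply sup_le
      · intro x hx
        rw [Subgroup.mem_centralizer_singleton_iff]
        exact (hcP x hx).symm
      · intro y hy
        rw [Subgroup.mem_centralizer_singleton_iff]
        exact (hcP' y hy).symm
    intro x hx
    have h2 := h1 (hF hx)
    rw [Subgroup.mem_centralizer_singleton_iff] at h2
    exact h2.symm
  obtain ⟨x, hx, y, hy, hxy⟩ := exists_mul_of_mem_sup_of_le_normalizer (hPM.trans hP'n) (hF hcF)
  -- `a⁻¹ k a = (k x) y`
  have hconj : a⁻¹ * k * a = k * x * y := by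
    calc a⁻¹ * k * a = k * (k⁻¹ * a⁻¹ * k * a) := by group
      _ = k * x * y := by rw [← hxy]; group
  -- `y = 1`
  have hkx : ∃ s : ℕ, (k * x) ^ (p ^ s) = 1 := by
    have hQP : IsPGroup p ↥(Q ⊔ P) := IsPGroup.to_sup_of_normal_right' hQ hP (hQM.trans hPn)
    obtain ⟨s, hs⟩ := hQP ⟨k * x, Subgroup.mul_mem _ (Subgroup.mem_sup_left hk)
      (Subgroup.mem_sup_right hx)⟩
    refine ⟨s, ?_⟩
    have := congrArg Subtype.val hs
    simpa using this
  have hka : ∃ t : ℕ, (a⁻¹ * k * a) ^ (p ^ t) = 1 := by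
    obtain ⟨t, ht⟩ := hQ ⟨k, hk⟩
    refine ⟨t, ?_⟩
    have h1 : k ^ (p ^ t) = 1 := by
      have := congrArg Subtype.val ht
      simpa using this
    have h2 : a⁻¹ * k * a = a⁻¹ * k * (a⁻¹)⁻¹ := by group
    rw [h2, conj_pow, h1]
    group
  obtain ⟨s, hs⟩ := hkx
  obtain ⟨t, ht⟩ := hka
  have hcomm : Commute (k * x) y := by
    have h1 : Commute k y := hQP' k hk y hy
    have h2 : Commute x y := hPP' x hx y hy
    exact h1.mul_left h2
  have hy1 : y = 1 := by
    have h1 : y = (k * x)⁻¹ * (a⁻¹ * k * a) := by rw [hconj]; group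
    have h2 : Commute ((k * x)⁻¹) (a⁻¹ * k * a) := by
      rw [hconj]
      have h3 : Commute (k * x) (k * x * y) := (Commute.refl _).mul_right hcomm
      exact h3.inv_left
    have h3 : y ^ (p ^ s * p ^ t) = 1 := by
      rw [h1, h2.mul_pow, inv_pow, pow_mul, hs, one_pow, inv_one, one_mul, mul_comm (p ^ s),
        pow_mul, ht, one_pow]
    have h4 : orderOf y ∣ p ^ s * p ^ t := orderOf_dvd_of_pow_eq_one h3
    have h5 : orderOf y ∣ Nat.card P' := Subgroup.orderOf_dvd_natCard _ hy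
    have h6 : Nat.Coprime (p ^ s * p ^ t) (Nat.card P') := by
      rw [← pow_add]
      exact Nat.Coprime.pow_left _ hP'.symm
    have h7 : orderOf y = 1 := Nat.eq_one_of_dvd_coprimes h6 h4 h5
    exact orderOf_eq_one_iff.mp h7
  rw [hy1, mul_one] at hconj
  -- `a⁻ʲ k aʲ = k xʲ`
  have hax : Commute a x := (ha x hx).symm
  have hpow : ∀ j : ℕ, (a⁻¹) ^ j * k * a ^ j = k * x ^ j := by
    intro j
    induction j with
    | zero => simp
    | succ j ih =>
      have h1 : Commute a (x ^ j) := hax.pow_right j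
      calc (a⁻¹) ^ (j + 1) * k * a ^ (j + 1) = a⁻¹ * ((a⁻¹) ^ j * k * a ^ j) * a := by
            rw [pow_succ', pow_succ]; group
        _ = a⁻¹ * (k * x ^ j) * a := by rw [ih]
        _ = (a⁻¹ * k * a) * (a⁻¹ * (x ^ j * a)) := by group
        _ = (k * x) * (a⁻¹ * (a * x ^ j)) := by rw [hconj, h1.eq]
        _ = k * x ^ (j + 1) := by rw [pow_succ']; group
  have hx1 : x = 1 := by
    have h1 := hpow (orderOf a)
    rw [inv_pow, pow_orderOf_eq_one, inv_one, one_mul, mul_one] at h1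
    have h2 : x ^ orderOf a = 1 := by
      have := mul_left_cancel (a := k) (b := 1) (c := x ^ orderOf a) (by rw [mul_one]; exact h1)
      exact this.symm
    have h3 : orderOf x ∣ orderOf a := orderOf_dvd_of_pow_eq_one h2
    obtain ⟨u, hu⟩ := hP ⟨x, hx⟩
    have hu' : x ^ (p ^ u) = 1 := by
      have := congrArg Subtype.val hu
      simpa using this
    have h4 : orderOf x ∣ p ^ u := orderOf_dvd_of_pow_eq_one hu'
    have h5 : Nat.Coprime (orderOf a) (p ^ u) := Nat.Coprime.pow_right _ hao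
    have h6 : orderOf x = 1 := Nat.eq_one_of_dvd_coprimes h5 h3 h4
    exact orderOf_eq_one_iff.mp h6
  rw [hx1, mul_one] at hconj
  calc a * k = a * (a⁻¹ * k * a) := by rw [hconj]
    _ = k * a := by group


/-- The key step for primitive pairs: with `F*(M) = P × P'`, `F*(N) = Q × Q'` nilpotent and the
Sylow `p`-subgroups `P`, `Q` nontrivial, the `p'`-parts `P'`, `Q'` are trivial. -/
theorem eq_bot_of_primitive_setup {G : Type*} [Group G] [Finite G]
    {p : ℕ} [Fact p.Prime] {M N F K P P' Q Q' : Subgroup G}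
    (hMN : M ≠ N)
    (hPrim : ∀ A : Subgroup G, A ≠ ⊥ → A ≤ M ⊓ N →
      (M ≤ Subgroup.normalizer (A : Set G) → N ⊓ Subgroup.normalizer (A : Set G) = M ⊓ N) ∧
      (N ≤ Subgroup.normalizer (A : Set G) → M ⊓ Subgroup.normalizer (A : Set G) = M ⊓ N))
    (hCF : ∀ c ∈ M, (∀ x ∈ F, c * x = x * c) → c ∈ F)
    (hCK : ∀ c ∈ N, (∀ x ∈ K, c * x = x * c) → c ∈ K)
    (hFN : F ≤ N) (hKM : K ≤ M) (hF : F ≤ P ⊔ P') (hK : K ≤ Q ⊔ Q')
    (hPF : P ≤ F) (hP'F : P' ≤ F) (hQK : Q ≤ K) (hQ'K : Q' ≤ K)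
    (hPn : M ≤ Subgroup.normalizer (P : Set G)) (hP'n : M ≤ Subgroup.normalizer (P' : Set G))
    (hQn : N ≤ Subgroup.normalizer (Q : Set G)) (hQ'n : N ≤ Subgroup.normalizer (Q' : Set G))
    (hFM : F ≤ M) (hKN : K ≤ N)
    (hP : IsPGroup p P) (hP' : (Nat.card P').Coprime p)
    (hQ : IsPGroup p Q) (hQ' : (Nat.card Q').Coprime p)
    (hP1 : P ≠ ⊥) (hQ1 : Q ≠ ⊥) : P' = ⊥ ∧ Q' = ⊥ := by
  have hQP' : ∀ k ∈ Q, ∀ y ∈ P', k * y = y * k :=
    commute_of_le_normalizer_of_coprime ((hQK.trans hKM).trans hP'n)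
      ((hP'F.trans hFN).trans hQn) hQ hP'
  have hPQ' : ∀ k ∈ P, ∀ y ∈ Q', k * y = y * k :=
    commute_of_le_normalizer_of_coprime ((hPF.trans hFN).trans hQ'n)
      ((hQ'K.trans hKM).trans hPn) hP hQ'
  have hPP' : ∀ k ∈ P, ∀ y ∈ P', k * y = y * k :=
    commute_of_le_normalizer_of_coprime ((hPF.trans hFM).trans hP'n)
      ((hP'F.trans hFM).trans hPn) hP hP'
  have hQQ' : ∀ k ∈ Q, ∀ y ∈ Q', k * y = y * k :=
    commute_of_le_normalizer_of_coprime ((hQK.trans hKN).trans hQ'n)
      ((hQ'K.trans hKN).trans hQn) hQ hQ'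
  have hPMN : P ≤ M ⊓ N := le_inf (hPF.trans hFM) (hPF.trans hFN)
  have hQMN : Q ≤ M ⊓ N := le_inf (hQK.trans hKM) (hQK.trans hKN)
  -- the two generating sets coincide
  have hset : {a : G | a ∈ M ∧ a ∈ Subgroup.centralizer (P : Set G) ∧ (orderOf a).Coprime p} =
      {a : G | a ∈ N ∧ a ∈ Subgroup.centralizer (Q : Set G) ∧ (orderOf a).Coprime p} := by
    ext a
    constructor
    · rintro ⟨haM, ha, hao⟩
      have haQ : a ∈ Subgroup.centralizer (Q : Set G) := by
        rw [Subgroup.mem_centralizer_iff]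
        intro k hk
        exact (commute_of_coprime_of_mem_centralizer_of_mem hCF hF hPn hP'n (hPF.trans hFM)
          (hP'F.trans hFM) hP hP' hQ (hQK.trans hKM) hQP' haM ha hao hk).symm
      refine ⟨?_, haQ, hao⟩
      have h1 : a ∈ M ⊓ Subgroup.normalizer (Q : Set G) :=
        ⟨haM, Subgroup.centralizer_le_normalizer _ haQ⟩
      rw [(hPrim Q hQ1 hQMN).2 hQn] at h1
      exact h1.2
    · rintro ⟨haN, ha, hao⟩
      have haP : a ∈ Subgroup.centralizer (P : Set G) := by
        rw [Subgroup.mem_centralizer_iff]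
        intro k hk
        exact (commute_of_coprime_of_mem_centralizer_of_mem hCK hK hQn hQ'n (hQK.trans hKN)
          (hQ'K.trans hKN) hQ hQ' hP (hPF.trans hFN) hPQ' haN ha hao hk).symm
      refine ⟨?_, haP, hao⟩
      have h1 : a ∈ N ⊓ Subgroup.normalizer (P : Set G) :=
        ⟨haN, Subgroup.centralizer_le_normalizer _ haP⟩
      rw [(hPrim P hP1 hPMN).1 hPn] at h1
      exact h1.1
  have hinv : ∀ (M' P₀ : Subgroup G), M' ≤ Subgroup.normalizer (P₀ : Set G) →
      ∀ m ∈ M', ∀ a ∈ {a : G | a ∈ M' ∧ a ∈ Subgroup.centralizer (P₀ : Set G) ∧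
        (orderOf a).Coprime p}, m * a * m⁻¹ ∈ {a : G | a ∈ M' ∧
          a ∈ Subgroup.centralizer (P₀ : Set G) ∧ (orderOf a).Coprime p} := by
    rintro M' P₀ hn m hm a ⟨haM, ha, hao⟩
    refine ⟨M'.mul_mem (M'.mul_mem hm haM) (M'.inv_mem hm), ?_, ?_⟩
    · rw [Subgroup.mem_centralizer_iff] at ha ⊢
      intro x hx
      have hx' : m⁻¹ * x * m⁻¹⁻¹ ∈ P₀ :=
        (Subgroup.mem_normalizer_iff.mp (Subgroup.inv_mem _ (hn hm)) x).mp hx
      have h1 := ha _ hx'
      calc x * (m * a * m⁻¹) = m * ((m⁻¹ * x * m⁻¹⁻¹) * a) * m⁻¹ := by group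
        _ = m * (a * (m⁻¹ * x * m⁻¹⁻¹)) * m⁻¹ := by rw [h1]
        _ = m * a * m⁻¹ * x := by group
    · have h1 : orderOf (m * a * m⁻¹) = orderOf a := by
        have := (MulAut.conj m).orderOf_eq a
        rwa [MulAut.conj_apply] at this
      rw [h1]
      exact hao
  have hXM : M ≤ Subgroup.normalizer ((Subgroup.closure {a : G | a ∈ M ∧
      a ∈ Subgroup.centralizer (P : Set G) ∧ (orderOf a).Coprime p} : Subgroup G) : Set G) :=
    le_normalizer_closure_of_conj_mem (hinv M P hPn)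
  have hXN : N ≤ Subgroup.normalizer ((Subgroup.closure {a : G | a ∈ M ∧
      a ∈ Subgroup.centralizer (P : Set G) ∧ (orderOf a).Coprime p} : Subgroup G) : Set G) := by
    rw [hset]
    exact le_normalizer_closure_of_conj_mem (hinv N Q hQn)
  have hXle : Subgroup.closure {a : G | a ∈ M ∧ a ∈ Subgroup.centralizer (P : Set G) ∧
      (orderOf a).Coprime p} ≤ M ⊓ N := by
    apply le_inf
    · rw [Subgroup.closure_le]
      intro a ha
      exact ha.1
    · rw [hset, Subgroup.closure_le]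
      intro a ha
      exact ha.1
  have hXbot : Subgroup.closure {a : G | a ∈ M ∧ a ∈ Subgroup.centralizer (P : Set G) ∧
      (orderOf a).Coprime p} = ⊥ := eq_bot_of_primitive_pair hMN hPrim _ hXle hXM hXN
  constructor
  · rw [eq_bot_iff, ← hXbot]
    intro y hy
    apply Subgroup.subset_closure
    refine ⟨hFM (hP'F hy), ?_, ?_⟩
    · rw [Subgroup.mem_centralizer_iff]
      intro x hx
      exact hPP' x hx y hy
    · exact Nat.Coprime.coprime_dvd_left (Subgroup.orderOf_dvd_natCard _ hy) hP'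
  · rw [eq_bot_iff, ← hXbot, hset]
    intro y hy
    apply Subgroup.subset_closure
    refine ⟨hKN (hQ'K hy), ?_, ?_⟩
    · rw [Subgroup.mem_centralizer_iff]
      intro x hx
      exact hQQ' x hx y hy
    · exact Nat.Coprime.coprime_dvd_left (Subgroup.orderOf_dvd_natCard _ hy) hQ'

/-- **Bender's theorem on primitive pairs.** If `(M, N)` is a primitive pair of the finite group
`G` with `F*(M) ≤ N` and `F*(N) ≤ M`, then `F*(M)` and `F*(N)` are `p`-groups for the same
prime `p`. -/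
theorem bender_primitive_pair {G : Type*} [Group G] [Finite G]
    (M N : Subgroup G) (hMN : M ≠ N)
    (hPrim : ∀ A : Subgroup G, A ≠ ⊥ → A ≤ M ⊓ N →
      (M ≤ Subgroup.normalizer (A : Set G) → N ⊓ Subgroup.normalizer (A : Set G) = M ⊓ N) ∧
      (N ≤ Subgroup.normalizer (A : Set G) → M ⊓ Subgroup.normalizer (A : Set G) = M ⊓ N))
    (h1 : (generalizedFittingSubgroup ↥M).map M.subtype ≤ N)
    (h2 : (generalizedFittingSubgroup ↥N).map N.subtype ≤ M) :
    ∃ p : ℕ, p.Prime ∧ IsPGroup p ↥(generalizedFittingSubgroup ↥M) ∧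
      IsPGroup p ↥(generalizedFittingSubgroup ↥N) := by
  -- the layers coincide, hence are trivial
  have hE : (layer ↥M).map M.subtype = (layer ↥N).map N.subtype :=
    le_antisymm (map_layer_le_of_generalizedFitting_le h1 h2)
      (map_layer_le_of_generalizedFitting_le h2 h1)
  have hEM0 : (layer ↥M).map M.subtype = ⊥ := by
    have hMn : M ≤ Subgroup.normalizer (((layer ↥M).map M.subtype : Subgroup G) : Set G) :=
      Cfsg.Agent.Lib.helper27.le_normalizer_map_subtype_of_characteristic M (layer ↥M)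
    have hNn : N ≤ Subgroup.normalizer (((layer ↥M).map M.subtype : Subgroup G) : Set G) := by
      rw [hE]
      exact Cfsg.Agent.Lib.helper27.le_normalizer_map_subtype_of_characteristic N (layer ↥N)
    apply eq_bot_of_primitive_pair hMN hPrim _ _ hMn hNn
    apply le_inf (Subgroup.map_subtype_le _)
    rw [hE]
    exact Subgroup.map_subtype_le _
  have hEN0 : (layer ↥N).map N.subtype = ⊥ := hE ▸ hEM0
  have hlM : layer ↥M = ⊥ := (Subgroup.map_eq_bot_iff_of_injective _ M.subtype_injective).mp hEM0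
  have hlN : layer ↥N = ⊥ := (Subgroup.map_eq_bot_iff_of_injective _ N.subtype_injective).mp hEN0
  have hFM : generalizedFittingSubgroup ↥M = fittingSubgroup ↥M := by
    rw [generalizedFittingSubgroup, hlM, bot_sup_eq]
  have hFN : generalizedFittingSubgroup ↥N = fittingSubgroup ↥N := by
    rw [generalizedFittingSubgroup, hlN, bot_sup_eq]
  haveI hFnil0 : Group.IsNilpotent ↥(generalizedFittingSubgroup ↥M) := by
    rw [hFM]; exact fittingSubgroup_isNilpotent ↥M
  haveI hKnil0 : Group.IsNilpotent ↥(generalizedFittingSubgroup ↥N) := by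
    rw [hFN]; exact fittingSubgroup_isNilpotent ↥N
  haveI hFnil : Group.IsNilpotent ↥((generalizedFittingSubgroup ↥M).map M.subtype) :=
    Group.nilpotent_of_mulEquiv
      ((generalizedFittingSubgroup ↥M).equivMapOfInjective M.subtype M.subtype_injective)
  haveI hKnil : Group.IsNilpotent ↥((generalizedFittingSubgroup ↥N).map N.subtype) :=
    Group.nilpotent_of_mulEquiv
      ((generalizedFittingSubgroup ↥N).equivMapOfInjective N.subtype N.subtype_injective)
  -- notation
  obtain ⟨F, hFdef⟩ : ∃ F : Subgroup G, F = (generalizedFittingSubgroup ↥M).map M.subtype :=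
    ⟨_, rfl⟩
  obtain ⟨K, hKdef⟩ : ∃ K : Subgroup G, K = (generalizedFittingSubgroup ↥N).map N.subtype :=
    ⟨_, rfl⟩
  rw [← hFdef] at h1 hFnil
  rw [← hKdef] at h2 hKnil
  have hFleM : F ≤ M := by rw [hFdef]; exact Subgroup.map_subtype_le _
  have hKleN : K ≤ N := by rw [hKdef]; exact Subgroup.map_subtype_le _
  have hCF : ∀ c ∈ M, (∀ x ∈ F, c * x = x * c) → c ∈ F := by
    intro c hc hcx
    have h3 : (⟨c, hc⟩ : ↥M) ∈
        Subgroup.centralizer (generalizedFittingSubgroup ↥M : Set ↥M) := by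
      rw [Subgroup.mem_centralizer_iff]
      intro f hf
      apply Subtype.ext
      exact (hcx (f : G) (by rw [hFdef]; exact ⟨f, hf, rfl⟩)).symm
    rw [hFdef]
    exact ⟨⟨c, hc⟩, centralizer_generalizedFittingSubgroup_le ↥M h3, rfl⟩
  have hCK : ∀ c ∈ N, (∀ x ∈ K, c * x = x * c) → c ∈ K := by
    intro c hc hcx
    have h3 : (⟨c, hc⟩ : ↥N) ∈
        Subgroup.centralizer (generalizedFittingSubgroup ↥N : Set ↥N) := by
      rw [Subgroup.mem_centralizer_iff]
      intro f hf
      apply Subtype.ext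
      exact (hcx (f : G) (by rw [hKdef]; exact ⟨f, hf, rfl⟩)).symm
    rw [hKdef]
    exact ⟨⟨c, hc⟩, centralizer_generalizedFittingSubgroup_le ↥N h3, rfl⟩
  have hMF : M ≤ Subgroup.normalizer (F : Set G) := by
    rw [hFdef]
    exact Cfsg.Agent.Lib.helper27.le_normalizer_map_subtype_of_characteristic M
      (generalizedFittingSubgroup ↥M)
  have hNK : N ≤ Subgroup.normalizer (K : Set G) := by
    rw [hKdef]
    exact Cfsg.Agent.Lib.helper27.le_normalizer_map_subtype_of_characteristic N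
      (generalizedFittingSubgroup ↥N)
  -- `F ≠ ⊥`
  have hF1 : F ≠ ⊥ := by
    intro hbot
    have hMbot : M = ⊥ := by
      rw [eq_bot_iff]
      intro c hc
      have h3 := hCF c hc (by
        intro x hx
        rw [hbot, Subgroup.mem_bot] at hx
        rw [hx, mul_one, one_mul])
      rwa [hbot] at h3
    have hKbot : K = ⊥ := by
      rw [eq_bot_iff, ← hMbot]
      exact h2
    have hNbot : N = ⊥ := by
      rw [eq_bot_iff]
      intro c hc
      have h3 := hCK c hc (by
        intro x hx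
        rw [hKbot, Subgroup.mem_bot] at hx
        rw [hx, mul_one, one_mul])
      rwa [hKbot] at h3
    exact hMN (hMbot.trans hNbot.symm)
  have hcard : Nat.card ↥F ≠ 1 := by
    intro h
    exact hF1 (Subgroup.card_eq_one.mp h)
  obtain ⟨p, hp, hpdvd⟩ := Nat.exists_prime_and_dvd hcard
  haveI : Fact p.Prime := ⟨hp⟩
  obtain ⟨S, S', hSc, hS'c, hSp, hS'p, hSS', hSne⟩ := exists_sylow_hall_of_isNilpotent ↥F p
  obtain ⟨T, T', hTc, hT'c, hTp, hT'p, hTT', hTne⟩ := exists_sylow_hall_of_isNilpotent ↥K p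
  have hPF : S.map F.subtype ≤ F := Subgroup.map_subtype_le _
  have hP'F : S'.map F.subtype ≤ F := Subgroup.map_subtype_le _
  have hQK : T.map K.subtype ≤ K := Subgroup.map_subtype_le _
  have hQ'K : T'.map K.subtype ≤ K := Subgroup.map_subtype_le _
  have hFPP' : F ≤ S.map F.subtype ⊔ S'.map F.subtype := by
    rw [← Subgroup.map_sup, hSS', ← MonoidHom.range_eq_map, Subgroup.range_subtype]
  have hKQQ' : K ≤ T.map K.subtype ⊔ T'.map K.subtype := by
    rw [← Subgroup.map_sup, hTT', ← MonoidHom.range_eq_map, Subgroup.range_subtype]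
  have hPn : M ≤ Subgroup.normalizer ((S.map F.subtype : Subgroup G) : Set G) :=
    hMF.trans (Cfsg.Agent.Lib.helper27.normalizer_le_normalizer_map_subtype_of_characteristic F S)
  have hP'n : M ≤ Subgroup.normalizer ((S'.map F.subtype : Subgroup G) : Set G) :=
    hMF.trans (Cfsg.Agent.Lib.helper27.normalizer_le_normalizer_map_subtype_of_characteristic F S')
  have hQn : N ≤ Subgroup.normalizer ((T.map K.subtype : Subgroup G) : Set G) :=
    hNK.trans (Cfsg.Agent.Lib.helper27.normalizer_le_normalizer_map_subtype_of_characteristic K T)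
  have hQ'n : N ≤ Subgroup.normalizer ((T'.map K.subtype : Subgroup G) : Set G) :=
    hNK.trans (Cfsg.Agent.Lib.helper27.normalizer_le_normalizer_map_subtype_of_characteristic K T')
  have hPp : IsPGroup p ↥(S.map F.subtype) := hSp.map _
  have hQp : IsPGroup p ↥(T.map K.subtype) := hTp.map _
  have hP'p : (Nat.card ↥(S'.map F.subtype)).Coprime p := by
    rw [Subgroup.card_map_of_injective F.subtype_injective]
    exact hS'p
  have hQ'p : (Nat.card ↥(T'.map K.subtype)).Coprime p := by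
    rw [Subgroup.card_map_of_injective K.subtype_injective]
    exact hT'p
  have hP1 : S.map F.subtype ≠ ⊥ := by
    intro h
    exact hSne hpdvd ((Subgroup.map_eq_bot_iff_of_injective _ F.subtype_injective).mp h)
  have hQ1 : T.map K.subtype ≠ ⊥ := by
    intro hQbot
    have hKQ' : K ≤ T'.map K.subtype := by
      have h3 := hKQQ'
      rwa [hQbot, bot_sup_eq] at h3
    have hcomm : ∀ x ∈ S.map F.subtype, ∀ y ∈ T'.map K.subtype, x * y = y * x :=
      commute_of_le_normalizer_of_coprime ((hPF.trans h1).trans hQ'n)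
        ((hQ'K.trans h2).trans hPn) hPp hQ'p
    have hPK : S.map F.subtype ≤ K := by
      intro x hx
      apply hCK x (h1 (hPF hx))
      intro y hy
      exact hcomm x hx y (hKQ' hy)
    apply hP1
    have hdisj : S.map F.subtype ⊓ T'.map K.subtype = ⊥ := by
      apply Disjoint.eq_bot
      apply Subgroup.disjoint_of_coprime_natCard
      obtain ⟨n, hn⟩ := (IsPGroup.iff_card.mp hPp)
      rw [hn]
      exact Nat.Coprime.pow_left n hQ'p.symm
    rw [eq_bot_iff, ← hdisj]
    exact le_inf le_rfl (hPK.trans hKQ')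
  obtain ⟨hP'bot, hQ'bot⟩ := eq_bot_of_primitive_setup hMN hPrim hCF hCK h1 h2 hFPP' hKQQ'
    hPF hP'F hQK hQ'K hPn hP'n hQn hQ'n hFleM hKleN hPp hP'p hQp hQ'p hP1 hQ1
  refine ⟨p, hp, ?_, ?_⟩
  · have hFP : F ≤ S.map F.subtype := by
      have h3 := hFPP'
      rwa [hP'bot, sup_bot_eq] at h3
    have h4 : IsPGroup p ↥F := hPp.to_le hFP
    rw [hFdef] at h4
    exact h4.of_equiv
      ((generalizedFittingSubgroup ↥M).equivMapOfInjective M.subtype M.subtype_injective).symm
  · have hKQ : K ≤ T.map K.subtype := by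
      have h3 := hKQQ'
      rwa [hQ'bot, sup_bot_eq] at h3
    have h4 : IsPGroup p ↥K := hQp.to_le hKQ
    rw [hKdef] at h4
    exact h4.of_equiv
      ((generalizedFittingSubgroup ↥N).equivMapOfInjective N.subtype N.subtype_injective).symm



end Cfsg.Agent.Lib.helper36
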