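import Mathlib
import Cfsg.Agent.Lib.helper54.AxB
import Cfsg.Agent.Lib.helper54.FStar

/-!
# Characteristic `p` and centralizers of `p`-subgroups (helper36)

Uses the ambient predicate `CharPIn` of helper54.

* `CharPIn.inf_centralizer_of_normalizes`: if `Y` has characteristic `p` and the `p`-group `P`
  normalizes `Y` (`P` need not lie in `Y`), then `C_Y(P)` has characteristic `p`.
* `charPIn_centralizer_of_le`: if `V ≤ U` are `p`-subgroups and `C_G(V)` has characteristic `p`
  then `C_G(U)` has characteristic `p`.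
* `charPIn_normalizer_of_mem`: if `z ∈ U`, `U` a `p`-subgroup and `C_G(z)` has characteristic `p`,
  then `N_G(U)` has characteristic `p` (no assumption that `z` is central in `U`).
-/

set_option autoImplicit false

namespace Cfsg.Agent.Lib.helper36

open Cfsg.Agent.Lib.helper53 Cfsg.Agent.Lib.helper54

/-- If `Y` has characteristic `p` and the `p`-group `P` normalizes `Y`, then `C_Y(P)` has
characteristic `p`. -/
theorem CharPIn.inf_centralizer_of_normalizes {G : Type*} [Group G] [Finite G] {p : ℕ}
    [Fact p.Prime] {Y P : Subgroup G} (hY : CharPIn p Y) (hP : IsPGroup p P)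
    (hPY : P ≤ Subgroup.normalizer (Y : Set G)) :
    CharPIn p (Y ⊓ Subgroup.centralizer (P : Set G)) := by
  have hQY : Cfsg.pCoreOf p Y ≤ Y := pCoreOf_le p Y
  have hYQ : Y ≤ Subgroup.normalizer (Cfsg.pCoreOf p Y : Set G) := le_normalizer_pCoreOf p Y
  have hQp : IsPGroup p (Cfsg.pCoreOf p Y) := pCoreOf_isPGroup p Y
  have hcen := hY.pCoreOf_spec
  have hPQ : P ≤ Subgroup.normalizer (Cfsg.pCoreOf p Y : Set G) :=
    hPY.trans (normalizer_le_normalizer_pCoreOf p Y)
  have hWN : Cfsg.pCoreOf p Y ⊓ Subgroup.centralizer (P : Set G) ≤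
      Y ⊓ Subgroup.centralizer (P : Set G) := inf_le_inf_right _ hQY
  have hNW : Y ⊓ Subgroup.centralizer (P : Set G) ≤ Subgroup.normalizer
      ((Cfsg.pCoreOf p Y ⊓ Subgroup.centralizer (P : Set G) : Subgroup G) : Set G) := by
    refine le_trans ?_ Subgroup.inf_normalizer_le_normalizer_inf
    exact le_inf (inf_le_left.trans hYQ) (inf_le_right.trans Subgroup.le_normalizer)
  have hWp : IsPGroup p (Cfsg.pCoreOf p Y ⊓ Subgroup.centralizer (P : Set G) : Subgroup G) :=
    hQp.to_le inf_le_left
  apply charPIn_of_isPGroup_centralizer hWN hNW hWp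
  apply isPGroup_of_forall_coprime_eq_one
  intro d hd
  obtain ⟨hdN, hdc⟩ := Subgroup.mem_inf.mp d.2
  obtain ⟨hdY, hdP⟩ := Subgroup.mem_inf.mp hdN
  have hd' : (orderOf (d : G)).Coprime p := by rwa [Subgroup.orderOf_coe]
  have hcomm := thompson_AxB P hP (d : G) hd'
    (fun x hx => (Subgroup.mem_centralizer_iff.mp hdP x hx).symm)
    (Cfsg.pCoreOf p Y) hQp hPQ (hYQ hdY) (fun q hq hqP => by
      have hqW : q ∈ (Cfsg.pCoreOf p Y ⊓ Subgroup.centralizer (P : Set G) : Subgroup G) := by
        refine Subgroup.mem_inf.mpr ⟨hq, ?_⟩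
        rw [Subgroup.mem_centralizer_iff]
        intro x hx
        exact hqP x hx
      exact (Subgroup.mem_centralizer_iff.mp hdc q hqW).symm)
  have hdQ : (d : G) ∈ Cfsg.pCoreOf p Y := by
    apply hcen
    refine Subgroup.mem_inf.mpr ⟨hdY, ?_⟩
    rw [Subgroup.mem_centralizer_iff]
    intro q hq
    exact (hcomm q hq).symm
  have h3 := hQp.orderOf_coprime (n := orderOf (d : G)) hd'.symm ⟨(d : G), hdQ⟩
  rw [Subgroup.orderOf_mk, Nat.coprime_self, orderOf_eq_one_iff] at h3
  exact Subtype.ext h3

/-- In a finite `p`-group `U`, a proper subgroup `V` is properly contained in `N_U(V)`. -/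
theorem lt_inf_normalizer_of_lt {G : Type*} [Group G] [Finite G] {p : ℕ} [Fact p.Prime]
    {U V : Subgroup G} (hU : IsPGroup p U) (hVU : V < U) :
    V < U ⊓ Subgroup.normalizer (V : Set G) := by
  have hnil : Group.IsNilpotent ↥U := hU.isNilpotent
  have hnc : NormalizerCondition ↥U := Group.normalizerCondition_of_isNilpotent
  have hlt : V.subgroupOf U < ⊤ := by
    rw [lt_top_iff_ne_top]
    intro h
    rw [Subgroup.subgroupOf_eq_top] at h
    exact absurd hVU (not_lt_of_ge h)
  have h1 := hnc _ hlt
  obtain ⟨y, hyN, hyV⟩ := SetLike.exists_of_lt h1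
  rw [← Subgroup.subgroupOf_normalizer_eq hVU.le, Subgroup.mem_subgroupOf] at hyN
  rw [Subgroup.mem_subgroupOf] at hyV
  refine lt_of_le_of_ne (le_inf hVU.le Subgroup.le_normalizer) ?_
  intro h
  apply hyV
  rw [h]
  exact Subgroup.mem_inf.mpr ⟨y.2, hyN⟩

/-- If `V ≤ U` are `p`-subgroups and `C_G(V)` has characteristic `p`, so has `C_G(U)`. -/
theorem charPIn_centralizer_of_le {G : Type*} [Group G] [Finite G] {p : ℕ} [Fact p.Prime]
    {U : Subgroup G} (hU : IsPGroup p U) (V : Subgroup G) (hVU : V ≤ U)
    (hV : CharPIn p (Subgroup.centralizer (V : Set G))) :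
    CharPIn p (Subgroup.centralizer (U : Set G)) := by
  induction V using WellFoundedGT.induction with
  | ind V ih =>
    by_cases hVeq : V = U
    · rw [← hVeq]; exact hV
    · have hlt : V < U := lt_of_le_of_ne hVU hVeq
      have hlt' := lt_inf_normalizer_of_lt hU hlt
      apply ih (U ⊓ Subgroup.normalizer (V : Set G)) hlt' inf_le_left
      have hP : IsPGroup p (U ⊓ Subgroup.normalizer (V : Set G) : Subgroup G) :=
        hU.to_le inf_le_left
      have hPY : U ⊓ Subgroup.normalizer (V : Set G) ≤
          Subgroup.normalizer ((Subgroup.centralizer (V : Set G) : Subgroup G) : Set G) :=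
        inf_le_right.trans (normalizer_le_normalizer_centralizer_coe V)
      have h1 := CharPIn.inf_centralizer_of_normalizes hV hP hPY
      have h2 : Subgroup.centralizer (V : Set G) ⊓
          Subgroup.centralizer ((U ⊓ Subgroup.normalizer (V : Set G) : Subgroup G) : Set G) =
          Subgroup.centralizer ((U ⊓ Subgroup.normalizer (V : Set G) : Subgroup G) : Set G) :=
        inf_eq_right.mpr (Subgroup.centralizer_le (SetLike.coe_subset_coe.mpr hlt'.le))
      rwa [h2] at h1

/-- `C_G(⟨z⟩) = C_G(z)`. -/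
theorem centralizer_zpowers_eq (G : Type*) [Group G] (z : G) :
    Subgroup.centralizer ((Subgroup.zpowers z : Subgroup G) : Set G) =
      Subgroup.centralizer ({z} : Set G) := by
  apply le_antisymm
  · exact Subgroup.centralizer_le (by simp)
  · intro x hx
    rw [Subgroup.mem_centralizer_iff] at hx ⊢
    intro y hy
    obtain ⟨k, rfl⟩ := Subgroup.mem_zpowers_iff.mp hy
    have h1 : Commute z x := hx z rfl
    exact (h1.zpow_left k).eq

/-- If `z ∈ U`, `U` a `p`-subgroup, and `C_G(z)` has characteristic `p`, then `N_G(U)` has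
characteristic `p`. (`z` need not be central in `U`.) -/
theorem charPIn_normalizer_of_mem {G : Type*} [Group G] [Finite G] {p : ℕ} [Fact p.Prime]
    {U : Subgroup G} (hU : IsPGroup p U) {z : G} (hz : z ∈ U)
    (hC : CharPIn p (Subgroup.centralizer ({z} : Set G))) :
    CharPIn p (Subgroup.normalizer (U : Set G)) := by
  have h1 : CharPIn p (Subgroup.centralizer (U : Set G)) := by
    apply charPIn_centralizer_of_le hU (Subgroup.zpowers z) (Subgroup.zpowers_le.mpr hz)
    rw [centralizer_zpowers_eq]; exact hC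
  apply charPIn_of_centralizer_subgroup (P := U) Subgroup.le_normalizer le_rfl hU
  have h2 : Subgroup.normalizer (U : Set G) ⊓ Subgroup.centralizer (U : Set G) =
      Subgroup.centralizer (U : Set G) :=
    inf_eq_right.mpr (Subgroup.centralizer_le_normalizer _)
  rw [h2]; exact h1

end Cfsg.Agent.Lib.helper36
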