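import Mathlib
import Cfsg.Agent.Lib.helper28.PCores
import Cfsg.Agent.Lib.helper53.Conj

/-!
# Lifting normalizers modulo a normal `p'`-subgroup (helper36)

* `exists_mul_mem_normalizer_of_coprime`: if `x P x⁻¹ ≤ N P` for a `p`-subgroup `P` and a normal
  `p'`-subgroup `N`, then `x ∈ N * N_X(P)` (Frattini argument).
* `normalizer_map_mk_le`: `N_{X/N}(PN/N) ≤ N_X(P) N / N`.
-/

set_option autoImplicit false

namespace Cfsg.Agent.Lib.helper36

open Cfsg.Agent.Lib.helper53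

/-- Lifting normalizers modulo a normal `p'`-subgroup: if `x` normalizes the `p`-subgroup `P`
modulo the normal `p'`-subgroup `N`, then `x ∈ N * N(P)`. -/
theorem exists_mul_mem_normalizer_of_coprime {X : Type*} [Group X] [Finite X] {p : ℕ}
    [hp : Fact p.Prime] (N : Subgroup X) [hNn : N.Normal] (hN : (Nat.card N).Coprime p)
    (P : Subgroup X) (hP : IsPGroup p P) (x : X)
    (hx : P.map (MulAut.conj x).toMonoidHom ≤ N ⊔ P) :
    ∃ n ∈ N, n⁻¹ * x ∈ Subgroup.normalizer (P : Set X) := by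
  have hPH : P ≤ N ⊔ P := le_sup_right
  have hidx : ¬ p ∣ (P.subgroupOf (N ⊔ P)).index := by
    intro hdvd
    have h1 : Nat.card P * P.relIndex (N ⊔ P) = Nat.card (N ⊔ P : Subgroup X) := by
      have := Subgroup.relIndex_mul_relIndex (⊥ : Subgroup X) P (N ⊔ P) bot_le hPH
      rwa [Subgroup.relIndex_bot_left, Subgroup.relIndex_bot_left] at this
    have h2 : Nat.card (N ⊔ P : Subgroup X) ∣ Nat.card P * Nat.card N := by
      rw [sup_comm]
      exact Cfsg.Agent.Lib.helper40.card_sup_dvd_mul P N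
    rw [← h1] at h2
    have h3 : P.relIndex (N ⊔ P) ∣ Nat.card N := Nat.dvd_of_mul_dvd_mul_left Nat.card_pos h2
    have h4 : p ∣ Nat.card N := hdvd.trans h3
    exact (Nat.Prime.coprime_iff_not_dvd hp.out).mp hN.symm h4
  let S : Sylow p ↥(N ⊔ P : Subgroup X) :=
    (hP.comap_of_injective (N ⊔ P : Subgroup X).subtype
      (N ⊔ P : Subgroup X).subtype_injective).toSylow hidx
  have hPxp : IsPGroup p (P.map (MulAut.conj x).toMonoidHom) := hP.map _
  obtain ⟨Q, hQ⟩ := (hPxp.comap_of_injective (N ⊔ P : Subgroup X).subtype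
    (N ⊔ P : Subgroup X).subtype_injective).exists_le_sylow
  obtain ⟨h, hh⟩ := MulAction.exists_smul_eq ↥(N ⊔ P : Subgroup X) S Q
  obtain ⟨n, hn, y', hy', hny⟩ := Subgroup.mem_sup_of_normal_left.mp h.2
  refine ⟨n, hn, ?_⟩
  apply mem_normalizer_of_conj_le
  rw [conj_le_iff]
  intro y hy
  have h1 : (⟨x * y * x⁻¹, hx ⟨y, hy, rfl⟩⟩ : ↥(N ⊔ P : Subgroup X)) ∈
      (Q : Subgroup ↥(N ⊔ P : Subgroup X)) :=
    hQ (show _ ∈ P.map (MulAut.conj x).toMonoidHom from ⟨y, hy, rfl⟩)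
  rw [← hh, Sylow.coe_subgroup_smul, Subgroup.mem_smul_pointwise_iff_exists] at h1
  obtain ⟨s, hs, hsx⟩ := h1
  have hsP : (s : X) ∈ P := hs
  have hsx' : (h : X) * s * (h : X)⁻¹ = x * y * x⁻¹ := by
    have := congrArg Subtype.val hsx
    simpa [MulAut.smul_def, MulAut.conj_apply] using this
  have h2 : n⁻¹ * x * y * (n⁻¹ * x)⁻¹ = y' * s * y'⁻¹ := by
    calc n⁻¹ * x * y * (n⁻¹ * x)⁻¹ = n⁻¹ * (x * y * x⁻¹) * n := by group
      _ = n⁻¹ * ((h : X) * s * (h : X)⁻¹) * n := by rw [hsx']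
      _ = n⁻¹ * ((n * y') * s * (n * y')⁻¹) * n := by rw [hny]
      _ = y' * s * y'⁻¹ := by group
  rw [h2]
  exact P.mul_mem (P.mul_mem hy' hsP) (P.inv_mem hy')

/-- `N_{X/N}(PN/N)` is the image of `N_X(P)` when `N` is a normal `p'`-subgroup and `P` a
`p`-subgroup. -/
theorem normalizer_map_mk_le {X : Type*} [Group X] [Finite X] {p : ℕ}
    [hp : Fact p.Prime] (N : Subgroup X) [hNn : N.Normal] (hN : (Nat.card N).Coprime p)
    (P : Subgroup X) (hP : IsPGroup p P) :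
    Subgroup.normalizer ((P.map (QuotientGroup.mk' N) : Subgroup (X ⧸ N)) : Set (X ⧸ N)) ≤
      (Subgroup.normalizer (P : Set X)).map (QuotientGroup.mk' N) := by
  intro ybar hy
  obtain ⟨y, rfl⟩ := QuotientGroup.mk'_surjective N ybar
  have hx : P.map (MulAut.conj y).toMonoidHom ≤ N ⊔ P := by
    rintro _ ⟨u, hu, rfl⟩
    have h1 : (QuotientGroup.mk' N) y * (QuotientGroup.mk' N) u * ((QuotientGroup.mk' N) y)⁻¹ ∈
        P.map (QuotientGroup.mk' N) :=
      (Subgroup.mem_normalizer_iff.mp hy _).mp ⟨u, hu, rfl⟩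
    obtain ⟨u', hu', hu'eq⟩ := h1
    have h2 : (QuotientGroup.mk' N) (u'⁻¹ * (y * u * y⁻¹)) = 1 := by
      rw [map_mul, map_inv, hu'eq, map_mul, map_mul, map_inv]
      group
    have h3 : u'⁻¹ * (y * u * y⁻¹) ∈ N := by
      rw [← QuotientGroup.ker_mk' N]; exact h2
    have h4 : (MulAut.conj y).toMonoidHom u = u' * (u'⁻¹ * (y * u * y⁻¹)) := by
      simp [MulAut.conj_apply]
    rw [h4]
    have h5 : u' * (u'⁻¹ * (y * u * y⁻¹)) = (u' * (u'⁻¹ * (y * u * y⁻¹)) * u'⁻¹) * u' := by group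
    rw [h5]
    exact Subgroup.mul_mem_sup (hNn.conj_mem _ h3 u') hu'
  obtain ⟨n, hn, hnorm⟩ := exists_mul_mem_normalizer_of_coprime N hN P hP y hx
  refine ⟨n⁻¹ * y, hnorm, ?_⟩
  rw [map_mul, map_inv]
  have h6 : (QuotientGroup.mk' N) n = 1 := by
    have : n ∈ (QuotientGroup.mk' N).ker := by rw [QuotientGroup.ker_mk']; exact hn
    exact this
  rw [h6, inv_one, one_mul]

end Cfsg.Agent.Lib.helper36
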