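import Mathlib
import Cfsg.Prelude.Def_Transfer
import Cfsg.Agent.Lib.helper13.Thompson
import Cfsg.Agent.Lib.helper14.Thompson
import Cfsg.Agent.Lib.helper65.Fitting

/-!
# Elementary abelian 2-subgroups: counting tools

* `card_sup_zpowers_of_sq_eq_one`: adjoining a centralizing involution outside `V` doubles `|V|`.
* `card_le_card_inf_centralizer_sq`: an involution `w` normalizing an elementary abelian
  2-subgroup `D` has `|D| ≤ |C_D(w)|²`.
* `card_le_card_inf_centralizer_pow`: iterated version for an elementary abelian 2-group `A`.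
* `exists_le_card_two_mul`: growing a subgroup of an elementary abelian 2-group by a factor 2.
-/

set_option autoImplicit false

namespace Cfsg.Agent.Lib.helper36

open Subgroup

section ElemAb2

variable {X : Type*} [Group X]

/-- Adjoining to `V` an element `e ∉ V` with `e ^ 2 = 1` centralizing `V` doubles the order. -/
theorem card_sup_zpowers_of_sq_eq_one [Finite X] (V : Subgroup X) (e : X) (heV : e ∉ V)
    (he2 : e ^ 2 = 1) (hec : e ∈ Subgroup.centralizer (V : Set X)) :
    Nat.card ↥(V ⊔ Subgroup.zpowers e) = 2 * Nat.card V := by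
  have he1 : e ≠ 1 := fun h => heV (h ▸ V.one_mem)
  have hoe : orderOf e = 2 := orderOf_eq_prime he2 he1
  have hcz : Nat.card (Subgroup.zpowers e) = 2 := by rw [Nat.card_zpowers, hoe]
  have hnorm : Subgroup.zpowers e ≤ Subgroup.normalizer (V : Set X) := by
    rw [Subgroup.zpowers_le]
    exact Subgroup.centralizer_le_normalizer _ hec
  have h1 : Nat.card ↥(Subgroup.zpowers e ⊔ V) ∣ Nat.card (Subgroup.zpowers e) * Nat.card V :=
    Cfsg.Agent.Lib.helper65.card_sup_dvd_mul hnorm
  rw [sup_comm, hcz] at h1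
  have h2 : Nat.card V ∣ Nat.card ↥(V ⊔ Subgroup.zpowers e) := Subgroup.card_dvd_of_le le_sup_left
  have h3 : Nat.card ↥(V ⊔ Subgroup.zpowers e) ≠ Nat.card V := by
    intro h
    have h4 := Subgroup.eq_of_le_of_card_ge (le_sup_left : V ≤ V ⊔ Subgroup.zpowers e) (le_of_eq h)
    apply heV
    rw [h4]
    exact (le_sup_right : Subgroup.zpowers e ≤ V ⊔ Subgroup.zpowers e) (Subgroup.mem_zpowers e)
  have hpos : 0 < Nat.card V := Nat.card_pos
  obtain ⟨k, hk⟩ := h2
  rw [hk] at h1 h3 ⊢
  have hk2 : k ∣ 2 := by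
    have h5 : Nat.card V * k ∣ Nat.card V * 2 := by rwa [mul_comm (Nat.card V) 2]
    exact (Nat.mul_dvd_mul_iff_left hpos).mp h5
  have hk' : k = 1 ∨ k = 2 := by
    have h6 := Nat.le_of_dvd (by norm_num) hk2
    have h7 : k ≠ 0 := by
      rintro rfl
      simp at hk2
    omega
  rcases hk' with h | h
  · rw [h, mul_one] at h3; exact absurd rfl h3
  · rw [h, mul_comm]

/-- An element `w` with `w * w = 1` normalizing an elementary abelian 2-subgroup `D`:
`|D| ≤ |C_D(w)|²`. -/
theorem card_le_card_inf_centralizer_sq [Finite X] (D : Subgroup X)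
    (hD : Cfsg.IsElementaryAbelian 2 D) (w : X) (hw : w * w = 1)
    (hn : ∀ d ∈ D, w * d * w⁻¹ ∈ D) :
    Nat.card D ≤ Nat.card ↥(D ⊓ Subgroup.centralizer {w}) ^ 2 := by
  rw [Cfsg.Agent.Lib.helper13.isElementaryAbelian_iff] at hD
  obtain ⟨hcomm, hsq⟩ := hD
  have hwinv : w⁻¹ = w := inv_eq_of_mul_eq_one_left hw
  let f : ↥D →* ↥D :=
    { toFun := fun d => ⟨(d : X) * (w * d * w⁻¹), D.mul_mem d.2 (hn d d.2)⟩
      map_one' := by
        apply Subtype.ext
        simp
      map_mul' := by
        intro d d'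
        apply Subtype.ext
        simp only [Subgroup.coe_mul]
        have h1 := hcomm (d' : X) d'.2 (w * d * w⁻¹) (hn d d.2)
        calc (d : X) * d' * (w * (d * d') * w⁻¹)
            = d * ((d' : X) * (w * d * w⁻¹)) * (w * d' * w⁻¹) := by group
          _ = d * ((w * d * w⁻¹) * (d' : X)) * (w * d' * w⁻¹) := by rw [h1]
          _ = (d : X) * (w * d * w⁻¹) * (d' * (w * d' * w⁻¹)) := by group }
  have hfval : ∀ d : ↥D, ((f d : ↥D) : X) = (d : X) * (w * d * w⁻¹) := fun d => rfl
  have hker : f.ker.map D.subtype ≤ D ⊓ Subgroup.centralizer {w} := by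
    rintro x ⟨d, hd, rfl⟩
    refine Subgroup.mem_inf.mpr ⟨d.2, ?_⟩
    rw [Subgroup.mem_centralizer_iff]
    intro y hy
    rw [Set.mem_singleton_iff] at hy
    rw [hy]
    have h1 : (d : X) * (w * d * w⁻¹) = 1 := by
      rw [← hfval]
      exact congrArg Subtype.val (MonoidHom.mem_ker.mp hd)
    have h2 : (d : X) * d = 1 := by rw [← pow_two]; exact hsq d d.2
    have h3 : w * (d : X) * w⁻¹ = d := mul_left_cancel (h1.trans h2.symm)
    change w * (d : X) = (d : X) * w
    calc w * (d : X) = w * d * w⁻¹ * w := by group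
      _ = d * w := by rw [h3]
  have hrange : f.range.map D.subtype ≤ D ⊓ Subgroup.centralizer {w} := by
    rintro x ⟨y, ⟨d, rfl⟩, rfl⟩
    refine Subgroup.mem_inf.mpr ⟨(f d).2, ?_⟩
    rw [Subgroup.mem_centralizer_iff]
    intro y hy
    rw [Set.mem_singleton_iff] at hy
    rw [hy]
    change w * ((f d : ↥D) : X) = ((f d : ↥D) : X) * w
    rw [hfval]
    have h1 := hcomm (d : X) d.2 (w * d * w⁻¹) (hn d d.2)
    rw [hwinv] at h1 ⊢
    calc w * ((d : X) * (w * d * w)) = (w * d * w) * d * w := by group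
      _ = d * (w * d * w) * w := by rw [h1]
  have h1 : Nat.card f.ker * f.ker.index = Nat.card D := Subgroup.card_mul_index f.ker
  have h2 : f.ker.index = Nat.card f.range := Subgroup.index_ker f
  have h3 : Nat.card f.ker ≤ Nat.card ↥(D ⊓ Subgroup.centralizer {w}) := by
    rw [← Subgroup.card_map_of_injective D.subtype_injective]
    exact Subgroup.card_le_of_le hker
  have h4 : Nat.card f.range ≤ Nat.card ↥(D ⊓ Subgroup.centralizer {w}) := by
    rw [← Subgroup.card_map_of_injective D.subtype_injective]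
    exact Subgroup.card_le_of_le hrange
  rw [← h1, h2, pow_two]
  exact Nat.mul_le_mul h3 h4

/-- Iterated form: an elementary abelian 2-group `A` normalizing an elementary abelian 2-group
`D`, with `B ≤ A` centralizing `D` and `|A : B| = 2 ^ k`, has `|D| ≤ |C_D(A)| ^ (2 ^ k)`. -/
theorem card_le_card_inf_centralizer_pow [Finite X] :
    ∀ (k : ℕ) (A B D : Subgroup X), Cfsg.IsElementaryAbelian 2 A → B ≤ A →
      D ≤ Subgroup.centralizer (B : Set X) → Cfsg.IsElementaryAbelian 2 D →
      (∀ a ∈ A, ∀ d ∈ D, a * d * a⁻¹ ∈ D) → Nat.card A = 2 ^ k * Nat.card B →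
      Nat.card D ≤ Nat.card ↥(D ⊓ Subgroup.centralizer (A : Set X)) ^ (2 ^ k) := by
  intro k
  induction k with
  | zero =>
    intro A B D hA hBA hDB hD hn hcard
    have hAB : B = A := Subgroup.eq_of_le_of_card_ge hBA (by rw [hcard]; simp)
    have h1 : D ⊓ Subgroup.centralizer (A : Set X) = D := by
      rw [← hAB]; exact inf_eq_left.mpr hDB
    rw [h1]; simp
  | succ k ih =>
    intro A B D hA hBA hDB hD hn hcard
    have hA' := (Cfsg.Agent.Lib.helper13.isElementaryAbelian_iff A).mp hA
    obtain ⟨w, hwA, hwB⟩ : ∃ w ∈ A, w ∉ B := by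
      by_contra hall
      push Not at hall
      have h1 : A = B := le_antisymm hall hBA
      rw [h1] at hcard
      have hpos : 0 < Nat.card B := Nat.card_pos
      have h2 : 2 ≤ 2 ^ (k + 1) := by
        calc 2 = 2 ^ 1 := by norm_num
          _ ≤ 2 ^ (k + 1) := Nat.pow_le_pow_right (by norm_num) (by omega)
      nlinarith
    have hw2 : w ^ 2 = 1 := hA'.2 w hwA
    have hww : w * w = 1 := by rw [← pow_two]; exact hw2
    have hwcB : w ∈ Subgroup.centralizer (B : Set X) := by
      rw [Subgroup.mem_centralizer_iff]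
      intro b hb
      exact hA'.1 b (hBA hb) w hwA
    have hcardB' := card_sup_zpowers_of_sq_eq_one B w hwB hw2 hwcB
    have hB'A : B ⊔ Subgroup.zpowers w ≤ A :=
      sup_le hBA (by rw [Subgroup.zpowers_le]; exact hwA)
    have hD' : Cfsg.IsElementaryAbelian 2 (D ⊓ Subgroup.centralizer {w}) :=
      Cfsg.Agent.Lib.helper13.elemAb_mono hD inf_le_left
    have hn' : ∀ a ∈ A, ∀ d ∈ D ⊓ Subgroup.centralizer {w},
        a * d * a⁻¹ ∈ D ⊓ Subgroup.centralizer {w} := by
      intro a ha d hd
      obtain ⟨hdD, hdw⟩ := Subgroup.mem_inf.mp hd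
      refine Subgroup.mem_inf.mpr ⟨hn a ha d hdD, ?_⟩
      have haw : a ∈ Subgroup.centralizer {w} := by
        rw [Subgroup.mem_centralizer_iff]
        intro y hy
        rw [Set.mem_singleton_iff] at hy
        rw [hy]
        exact hA'.1 w hwA a ha
      exact Subgroup.mul_mem _ (Subgroup.mul_mem _ haw hdw) (Subgroup.inv_mem _ haw)
    have hDB' : D ⊓ Subgroup.centralizer {w} ≤
        Subgroup.centralizer ((B ⊔ Subgroup.zpowers w : Subgroup X) : Set X) := by
      intro d hd
      obtain ⟨hdD, hdw⟩ := Subgroup.mem_inf.mp hd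
      have hsup : B ⊔ Subgroup.zpowers w ≤ Subgroup.centralizer {d} := by
        apply sup_le
        · intro b hb
          rw [Subgroup.mem_centralizer_iff]
          intro y hy
          rw [Set.mem_singleton_iff] at hy
          rw [hy]
          exact (Subgroup.mem_centralizer_iff.mp (hDB hdD) b hb).symm
        · rw [Subgroup.zpowers_le, Subgroup.mem_centralizer_iff]
          intro y hy
          rw [Set.mem_singleton_iff] at hy
          rw [hy]
          exact (Subgroup.mem_centralizer_iff.mp hdw w rfl).symm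
      rw [Subgroup.mem_centralizer_iff]
      intro b hb
      exact (Subgroup.mem_centralizer_iff.mp (hsup hb) d rfl).symm
    have hcard' : Nat.card A = 2 ^ k * Nat.card ↥(B ⊔ Subgroup.zpowers w) := by
      rw [hcardB', hcard]; ring
    have hih := ih A (B ⊔ Subgroup.zpowers w) (D ⊓ Subgroup.centralizer {w}) hA hB'A hDB' hD'
      hn' hcard'
    have heq : D ⊓ Subgroup.centralizer {w} ⊓ Subgroup.centralizer (A : Set X) =
        D ⊓ Subgroup.centralizer (A : Set X) := by
      rw [inf_assoc]
      congr 1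
      exact inf_eq_right.mpr (Subgroup.centralizer_le (by simpa using hwA))
    rw [heq] at hih
    have hT1 := card_le_card_inf_centralizer_sq D hD w hww (fun d hd => hn w hwA d hd)
    calc Nat.card D ≤ Nat.card ↥(D ⊓ Subgroup.centralizer {w}) ^ 2 := hT1
      _ ≤ (Nat.card ↥(D ⊓ Subgroup.centralizer (A : Set X)) ^ (2 ^ k)) ^ 2 :=
          Nat.pow_le_pow_left hih 2
      _ = Nat.card ↥(D ⊓ Subgroup.centralizer (A : Set X)) ^ (2 ^ (k + 1)) := by
          rw [← pow_mul, pow_succ]

/-- Inside an elementary abelian 2-group `A`, a proper subgroup `B` lies in a subgroup of `A`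
of twice its order. -/
theorem exists_le_card_two_mul [Finite X] {A B : Subgroup X}
    (hA : Cfsg.IsElementaryAbelian 2 A) (hBA : B ≤ A) (hne : B ≠ A) :
    ∃ B' : Subgroup X, B ≤ B' ∧ B' ≤ A ∧ Nat.card B' = 2 * Nat.card B := by
  obtain ⟨w, hwA, hwB⟩ : ∃ w ∈ A, w ∉ B := by
    by_contra hall
    push Not at hall
    exact hne (le_antisymm hBA hall)
  have hA' := (Cfsg.Agent.Lib.helper13.isElementaryAbelian_iff A).mp hA
  refine ⟨B ⊔ Subgroup.zpowers w, le_sup_left,
    sup_le hBA (by rw [Subgroup.zpowers_le]; exact hwA),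
    card_sup_zpowers_of_sq_eq_one B w hwB (hA'.2 w hwA) ?_⟩
  rw [Subgroup.mem_centralizer_iff]
  intro b hb
  exact hA'.1 b (hBA hb) w hwA

end ElemAb2

end Cfsg.Agent.Lib.helper36
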