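import Mathlib
import Cfsg.Prelude.Def_FusionSystem
import Cfsg.Agent.Lib.helper88.Saturated
import Cfsg.Agent.Lib.helper89.FusionSat
import Cfsg.Agent.Lib.helper53.SPE
import Cfsg.Agent.S5082

/-!
# Fusion-system Camina–Herzog (helper36)

Tools for S5274: in a saturated fusion system over a 2-group `S`, a subgroup `Z ≤ Z(S)` has
`Aut_F(Z)` of odd order; transport of a conjugation through a map of the system; consequences.
-/

set_option autoImplicit false

namespace Cfsg.Agent.Lib.helper36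

open Cfsg Cfsg.FusionSystem

variable {Ω : Type*} [Group Ω] {S : Subgroup Ω}

/-- A subgroup normalized by `S` is fully normalized. -/
theorem fusch_fn_of_normal [Finite S] (F : FusionSystem S) {U : Subgroup Ω}
    (hUS : U ≤ S) (hSU : S ≤ Subgroup.normalizer (U : Set Ω)) : F.IsFullyNormalized U := by
  refine ⟨hUS, fun Q _ => ?_⟩
  have h1 : normalizerIn S U = S := inf_eq_left.mpr hSU
  rw [h1]
  exact Nat.card_le_card_of_injective
    (Subgroup.inclusion (inf_le_left : normalizerIn S Q ≤ S)) (Subgroup.inclusion_injective _)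

/-- For `Z ≤ Z(S)`, the group `Aut_F(Z)` of a saturated system over a 2-group has no involution. -/
theorem fusch_no_invol_aut [Finite S] (hS : IsPGroup 2 S) (F : FusionSystem S)
    (hF : F.IsSaturated 2) {Z : Subgroup Ω} (hZS : Z ≤ S)
    (hZc : ∀ z ∈ Z, ∀ s ∈ S, s * z = z * s)
    (β : MulAut Z) (hβ : β ∈ F.autGroup Z) (h2 : β * β = 1) : β = 1 := by
  haveI : Fact (Nat.Prime 2) := ⟨Nat.prime_two⟩
  have hSN : S ≤ Subgroup.normalizer (Z : Set Ω) := by
    intro s hs
    rw [Subgroup.mem_normalizer_iff]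
    intro z
    constructor
    · intro hz
      have h1 : s * z * s⁻¹ = z := by rw [hZc z hz s hs]; group
      rw [h1]; exact hz
    · intro hz
      have h1 := hZc _ hz s hs
      have h3 : s * (s * z * s⁻¹) = s * z := by rw [h1]; group
      have h4 : s * z * s⁻¹ = z := mul_left_cancel h3
      rw [h4] at hz; exact hz
  have hfn := fusch_fn_of_normal F hZS hSN
  obtain ⟨hfa, -⟩ :=
    Cfsg.Agent.Lib.helper88.fullyAutomized_receptive_of_fullyNormalized hS F hF hfn
  obtain ⟨-, R, hR⟩ := hfa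
  have hbot : autInducedBy S Z = ⊥ := by
    rw [eq_bot_iff]
    unfold autInducedBy
    rw [Subgroup.closure_le]
    rintro α ⟨g, hg, hα⟩
    simp only [Subgroup.coe_bot, Set.mem_singleton_iff]
    ext x
    rw [hα x]
    have h1 := hZc x x.2 g hg
    rw [h1]
    simp
  haveI : Finite (F.autGroup Z) := Cfsg.Agent.Lib.helper89.finite_autGroup F hZS
  have hRbot : (R : Subgroup (F.autGroup Z)) = ⊥ := by
    rw [hR, hbot]
    simp
  by_contra hne
  have hord : orderOf (⟨β, hβ⟩ : F.autGroup Z) = 2 := by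
    apply orderOf_eq_prime
    · apply Subtype.ext
      rw [pow_two]
      exact h2
    · intro h
      exact hne (congrArg Subtype.val h)
  have hdvd : 2 ∣ Nat.card (F.autGroup Z) := hord ▸ orderOf_dvd_natCard _
  have h3 := R.dvd_card_of_dvd_card hdvd
  rw [hRbot, Subgroup.card_bot] at h3
  omega

/-- Transport of conjugation by `g ∈ S` through a map `ψ` of the system defined on a `g`-invariant
subgroup `T`: an automorphism of `ψ(T)` in the system. -/
theorem fusch_exists_transport [Finite S] (F : FusionSystem S) {T : Subgroup Ω} {ψ : T →* Ω}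
    (hψ : ψ ∈ F.Hom T) {g : Ω} (hg : g ∈ S) (hgT : ∀ t ∈ T, g * t * g⁻¹ ∈ T) :
    ∃ β : MulAut ψ.range, β ∈ F.autGroup ψ.range ∧
      ∀ y : T, ((β ⟨ψ y, ⟨y, rfl⟩⟩ : ψ.range) : Ω) = ψ ⟨g * y * g⁻¹, hgT y y.2⟩ := by
  have hTS : T ≤ S := (F.le_of_mem hψ).1
  obtain ⟨σ, hσ, hσinv, hσT⟩ := Cfsg.Agent.Lib.helper89.exists_inv_hom F hψ
  have hc : conjHom T g ∈ F.Hom T := F.conj_mem hTS hg
  have hχ1 : (conjHom T g).comp (σ.codRestrict T hσT) ∈ F.Hom ψ.range := F.comp_mem hσ hc hσT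
  have hχ1v : ∀ u : ψ.range, ((conjHom T g).comp (σ.codRestrict T hσT)) u = g * σ u * g⁻¹ := by
    intro u
    simp [conjHom]
  have h2 : ∀ u : ψ.range, ((conjHom T g).comp (σ.codRestrict T hσT)) u ∈ T := by
    intro u
    rw [hχ1v]
    exact hgT _ (hσT u)
  have hχ2 := F.comp_mem hχ1 hψ h2
  have hχ2r : ∀ u : ψ.range,
      (ψ.comp (((conjHom T g).comp (σ.codRestrict T hσT)).codRestrict T h2)) u ∈ ψ.range :=
    fun u => ⟨_, rfl⟩
  obtain ⟨α, hα⟩ := Cfsg.Agent.Lib.helper89.exists_aut_of_mem F hχ2 hχ2r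
  refine ⟨α, ?_, ?_⟩
  · rw [Cfsg.Agent.Lib.helper89.mem_autGroup_iff F (Cfsg.Agent.Lib.helper89.range_le_of_hom F hψ)]
    have h3 : ψ.range.subtype.comp α.toMonoidHom
        = ψ.comp (((conjHom T g).comp (σ.codRestrict T hσT)).codRestrict T h2) := by
      ext u
      exact hα u
    rw [h3]
    exact hχ2
  · intro y
    rw [hα]
    show ψ ⟨((conjHom T g).comp (σ.codRestrict T hσT)) ⟨ψ y, ⟨y, rfl⟩⟩, _⟩ = _
    congr 1
    apply Subtype.ext
    show ((conjHom T g).comp (σ.codRestrict T hσT)) ⟨ψ y, ⟨y, rfl⟩⟩ = g * y * g⁻¹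
    rw [hχ1v, hσinv]

/-- Key lemma: if `ψ` maps the `g`-invariant subgroup `T` into `Z(S)` and `g` acts on `T` as an
involution (or trivially), then `g` centralizes `T`. -/
theorem fusch_conj_fix [Finite S] (hS : IsPGroup 2 S) (F : FusionSystem S)
    (hF : F.IsSaturated 2) {T : Subgroup Ω} {ψ : T →* Ω}
    (hψ : ψ ∈ F.Hom T) {g : Ω} (hg : g ∈ S) (hgT : ∀ t ∈ T, g * t * g⁻¹ ∈ T)
    (hsq : ∀ t ∈ T, g * (g * t * g⁻¹) * g⁻¹ = t)
    (hcent : ∀ t : T, ∀ s ∈ S, s * ψ t = ψ t * s) :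
    ∀ t ∈ T, g * t * g⁻¹ = t := by
  obtain ⟨β, hβ, hβv⟩ := fusch_exists_transport F hψ hg hgT
  have hrS : ψ.range ≤ S := Cfsg.Agent.Lib.helper89.range_le_of_hom F hψ
  have hrc : ∀ z ∈ ψ.range, ∀ s ∈ S, s * z = z * s := by
    rintro _ ⟨t, rfl⟩ s hs
    exact hcent t s hs
  have hββ : β * β = 1 := by
    ext u
    rcases u with ⟨_, y, rfl⟩
    show ((β (β ⟨ψ y, ⟨y, rfl⟩⟩) : ψ.range) : Ω) = ψ y
    have h1 : β ⟨ψ y, ⟨y, rfl⟩⟩
        = ⟨ψ ⟨g * y * g⁻¹, hgT y y.2⟩, ⟨⟨g * y * g⁻¹, hgT y y.2⟩, rfl⟩⟩ :=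
      Subtype.ext (hβv y)
    rw [h1, hβv ⟨g * y * g⁻¹, hgT y y.2⟩]
    congr 1
    apply Subtype.ext
    exact hsq y y.2
  have hβ1 := fusch_no_invol_aut hS F hF hrS hrc β hβ hββ
  intro t ht
  have h1 := hβv ⟨t, ht⟩
  rw [hβ1] at h1
  have h2 : ψ ⟨t, ht⟩ = ψ ⟨g * t * g⁻¹, hgT t ht⟩ := h1
  have h3 := F.injective_of_mem hψ h2
  exact (congrArg Subtype.val h3).symm

/-- Under the hypothesis that every element of `S` is conjugate in the system into `Z(S)`, any two
elements of `S` of order at most 2 commute. -/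
theorem fusch_invol_commute [Finite S] (hS : IsPGroup 2 S) (F : FusionSystem S)
    (hF : F.IsSaturated 2)
    (h : ∀ x ∈ S, ∃ z ∈ S ⊓ Subgroup.centralizer (S : Set Ω), F.IsConjElt x z)
    {a b : Ω} (ha : a ∈ S) (hb : b ∈ S) (ha2 : a * a = 1) (hb2 : b * b = 1) :
    a * b = b * a := by
  have hai : a⁻¹ = a := inv_eq_of_mul_eq_one_left ha2
  have hbi : b⁻¹ = b := inv_eq_of_mul_eq_one_left hb2
  obtain ⟨z, hz, φ, hφ, hφw⟩ := h (a * b) (mul_mem ha hb)
  have hconj : a * (a * b) * a⁻¹ = (a * b)⁻¹ := by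
    rw [mul_inv_rev, hbi, hai, ← mul_assoc, ha2, one_mul]
  have hgT : ∀ t ∈ Subgroup.zpowers (a * b), a * t * a⁻¹ ∈ Subgroup.zpowers (a * b) := by
    intro t ht
    obtain ⟨k, rfl⟩ := Subgroup.mem_zpowers_iff.mp ht
    rw [← conj_zpow, hconj]
    exact Subgroup.zpow_mem _ (Subgroup.inv_mem _ (Subgroup.mem_zpowers _)) k
  have hsq : ∀ t ∈ Subgroup.zpowers (a * b), a * (a * t * a⁻¹) * a⁻¹ = t := by
    intro t _
    rw [hai]
    calc a * (a * t * a) * a = (a * a) * t * (a * a) := by group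
      _ = t := by rw [ha2]; simp
  have hcent : ∀ t : Subgroup.zpowers (a * b), ∀ s ∈ S, s * φ t = φ t * s := by
    intro t s hs
    obtain ⟨k, hk⟩ := Subgroup.mem_zpowers_iff.mp t.2
    have ht : t = (⟨a * b, Subgroup.mem_zpowers _⟩ : Subgroup.zpowers (a * b)) ^ k := by
      apply Subtype.ext
      simp [hk]
    rw [ht, map_zpow, hφw]
    have hzc : Commute s z := Subgroup.mem_centralizer_iff.mp hz.2 s hs
    exact hzc.zpow_right k
  have hfix := fusch_conj_fix hS F hF hφ ha hgT hsq hcent (a * b) (Subgroup.mem_zpowers _)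
  rw [hconj, mul_inv_rev, hbi, hai] at hfix
  exact hfix.symm

/-- A group with a strongly `p`-embedded subgroup has no nontrivial normal `p`-subgroup. -/
theorem fusch_spe_no_normal {X : Type*} [Group X] [Finite X] {p : ℕ} [Fact p.Prime]
    {Y : Subgroup X} (hY : Cfsg.IsStronglyPEmbedded p Y) (N : Subgroup X) [N.Normal]
    (hN : IsPGroup p N) : N = ⊥ := by
  by_contra hne
  obtain ⟨P, -, -, key⟩ := Cfsg.Agent.Lib.helper53.spe_exists_sylow hY
  have h1 : N ≤ P := hN.le_sylow_of_normal P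
  have h2 := key N h1 hne
  rw [Subgroup.normalizer_eq_top] at h2
  exact hY.2.1 (top_le_iff.mp h2)

/-- If any two elements of `S` of order at most 2 commute, then every such element lies in every
essential subgroup. -/
theorem fusch_invol_mem_essential [Finite S] (hS : IsPGroup 2 S) (F : FusionSystem S)
    (hcomm : ∀ a ∈ S, ∀ b ∈ S, a * a = 1 → b * b = 1 → a * b = b * a)
    {P : Subgroup Ω} (hP : F.IsEssential 2 P) : ∀ e ∈ S, e * e = 1 → e ∈ P := by
  haveI : Fact (Nat.Prime 2) := ⟨Nat.prime_two⟩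
  obtain ⟨hcen, -, hnorm, Y, hY⟩ := hP
  have hPS : P ≤ S := hcen.1
  have hCP : centralizerIn S P ≤ P := hcen.2 P (Cfsg.Agent.Lib.helper88.isConj_refl F hPS)
  haveI : Finite P := Cfsg.Agent.Lib.helper89.finite_of_le hPS
  haveI : Finite (F.autGroup P) := Cfsg.Agent.Lib.helper89.finite_autGroup F hPS
  -- two elements of `P` of order ≤ 2 commute
  have hcP : ∀ u v : P, u * u = 1 → v * v = 1 → u * v = v * u := by
    intro u v hu hv
    apply Subtype.ext
    exact hcomm u (hPS u.2) v (hPS v.2) (congrArg Subtype.val hu) (congrArg Subtype.val hv)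
  have hprod : ∀ u v : P, u * u = 1 → v * v = 1 → (u * v) * (u * v) = 1 := by
    intro u v hu hv
    calc (u * v) * (u * v) = u * (v * u) * v := by group
      _ = u * (u * v) * v := by rw [hcP v u hv hu]
      _ = (u * u) * (v * v) := by group
      _ = 1 := by rw [hu, hv, one_mul]
  let D : Subgroup (MulAut P) :=
    { carrier := {α | (∀ y : P, y * y = 1 → α y = y) ∧
        ∀ y : P, (α y * y⁻¹) * (α y * y⁻¹) = 1}
      mul_mem' := by
        rintro α β ⟨hα1, hα2⟩ ⟨hβ1, hβ2⟩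
        refine ⟨fun y hy => ?_, fun y => ?_⟩
        · rw [MulAut.mul_apply, hβ1 y hy, hα1 y hy]
        · have h1 : (α * β) y * y⁻¹ = (α (β y) * (β y)⁻¹) * (β y * y⁻¹) := by
            rw [MulAut.mul_apply]; group
          rw [h1]
          exact hprod _ _ (hα2 (β y)) (hβ2 y)
      one_mem' := by
        refine ⟨fun y _ => rfl, fun y => ?_⟩
        simp
      inv_mem' := by
        rintro α ⟨hα1, hα2⟩
        refine ⟨fun y hy => ?_, fun y => ?_⟩
        · have h1 := hα1 y hy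
          calc α⁻¹ y = α⁻¹ (α y) := by rw [h1]
            _ = y := by simp
        · have h1 := hα2 (α⁻¹ y)
          have h2 : α (α⁻¹ y) = y := by simp
          rw [h2] at h1
          calc (α⁻¹ y * y⁻¹) * (α⁻¹ y * y⁻¹)
              = ((y * (α⁻¹ y)⁻¹) * (y * (α⁻¹ y)⁻¹))⁻¹ := by group
            _ = 1 := by rw [h1, inv_one] }
  have hDmem : ∀ α : MulAut P, α ∈ D ↔ ((∀ y : P, y * y = 1 → α y = y) ∧
        ∀ y : P, (α y * y⁻¹) * (α y * y⁻¹) = 1) := fun α => Iff.rfl
  have hDsq : ∀ α ∈ D, α * α = 1 := by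
    intro α hα
    obtain ⟨hα1, hα2⟩ := (hDmem α).mp hα
    ext y
    have h1 := hα1 _ (hα2 y)
    have h2 : α y = (α y * y⁻¹) * y := by group
    show ((α (α y) : P) : Ω) = y
    have h3 : α (α y) = y := by
      calc α (α y) = α ((α y * y⁻¹) * y) := by rw [← h2]
        _ = α (α y * y⁻¹) * α y := by rw [map_mul]
        _ = (α y * y⁻¹) * α y := by rw [h1]
        _ = ((α y * y⁻¹) * (α y * y⁻¹)) * y := by group
        _ = y := by rw [hα2 y, one_mul]
    rw [h3]
  have hDconj : ∀ γ : MulAut P, ∀ α ∈ D, γ * α * γ⁻¹ ∈ D := by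
    intro γ α hα
    obtain ⟨hα1, hα2⟩ := (hDmem α).mp hα
    rw [hDmem]
    refine ⟨fun y hy => ?_, fun y => ?_⟩
    · have h1 : γ⁻¹ y * γ⁻¹ y = 1 := by rw [← map_mul, hy, map_one]
      show γ (α (γ⁻¹ y)) = y
      rw [hα1 _ h1]
      simp
    · have h1 : (γ * α * γ⁻¹) y * y⁻¹ = γ (α (γ⁻¹ y) * (γ⁻¹ y)⁻¹) := by
        show γ (α (γ⁻¹ y)) * y⁻¹ = _
        rw [map_mul, map_inv]
        simp
      rw [h1, ← map_mul, hα2, map_one]
  -- the image of `D ∩ Aut_F(P)` in `Out_F(P)` is a normal 2-subgroup, hence trivial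
  have hD2 : IsPGroup 2 (D.subgroupOf (F.autGroup P)) := by
    intro g
    refine ⟨1, ?_⟩
    apply Subtype.ext
    apply Subtype.ext
    rw [pow_one, pow_two]
    exact hDsq _ g.2
  haveI hDn : (D.subgroupOf (F.autGroup P)).Normal := by
    refine ⟨fun n hn g => ?_⟩
    rw [Subgroup.mem_subgroupOf] at hn ⊢
    exact hDconj g _ hn
  have hNbot := fusch_spe_no_normal hY
    ((D.subgroupOf (F.autGroup P)).map (QuotientGroup.mk' ((Inn P).subgroupOf (F.autGroup P))))
    (hD2.map _)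
  have hDinn : ∀ α ∈ D, α ∈ F.autGroup P → α ∈ Inn P := by
    intro α hαD hαA
    have h1 : QuotientGroup.mk' ((Inn P).subgroupOf (F.autGroup P)) ⟨α, hαA⟩
        ∈ (D.subgroupOf (F.autGroup P)).map
          (QuotientGroup.mk' ((Inn P).subgroupOf (F.autGroup P))) :=
      Subgroup.mem_map_of_mem _ (Subgroup.mem_subgroupOf.mpr hαD)
    rw [hNbot, Subgroup.mem_bot] at h1
    have h2 := (QuotientGroup.eq_one_iff _).mp h1
    exact Subgroup.mem_subgroupOf.mp h2
  -- step 1: an element of order ≤ 2 normalizing `P` lies in `P`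
  have step1 : ∀ e ∈ S, e * e = 1 → e ∈ Subgroup.normalizer (P : Set Ω) → e ∈ P := by
    intro e heS he2 heN
    have hei : e⁻¹ = e := inv_eq_of_mul_eq_one_left he2
    have hαA : Cfsg.Agent.Lib.helper88.conjAut P e heN ∈ F.autGroup P :=
      Cfsg.Agent.Lib.helper88.autInducedBy_le_autGroup F hPS
        (Cfsg.Agent.Lib.helper88.conjAut_mem S P e heN heS)
    have hαD : Cfsg.Agent.Lib.helper88.conjAut P e heN ∈ D := by
      rw [hDmem]
      refine ⟨fun y hy => ?_, fun y => ?_⟩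
      · apply Subtype.ext
        rw [Cfsg.Agent.Lib.helper88.conjAut_apply]
        have h1 := hcomm e heS y (hPS y.2) he2 (congrArg Subtype.val hy)
        rw [h1]; group
      · apply Subtype.ext
        show ((Cfsg.Agent.Lib.helper88.conjAut P e heN y : P) : Ω) * (y : Ω)⁻¹
          * (((Cfsg.Agent.Lib.helper88.conjAut P e heN y : P) : Ω) * (y : Ω)⁻¹) = 1
        rw [Cfsg.Agent.Lib.helper88.conjAut_apply, hei]
        have hf2 : ((y : Ω) * e * (y : Ω)⁻¹) * ((y : Ω) * e * (y : Ω)⁻¹) = 1 := by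
          calc ((y : Ω) * e * (y : Ω)⁻¹) * ((y : Ω) * e * (y : Ω)⁻¹)
              = (y : Ω) * (e * e) * (y : Ω)⁻¹ := by group
            _ = 1 := by rw [he2]; group
        have hfS : (y : Ω) * e * (y : Ω)⁻¹ ∈ S :=
          S.mul_mem (S.mul_mem (hPS y.2) heS) (S.inv_mem (hPS y.2))
        have h1 := hcomm e heS _ hfS he2 hf2
        calc e * (y : Ω) * e * (y : Ω)⁻¹ * (e * (y : Ω) * e * (y : Ω)⁻¹)
            = e * ((y : Ω) * e * (y : Ω)⁻¹) * e * ((y : Ω) * e * (y : Ω)⁻¹) := by group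
          _ = ((y : Ω) * e * (y : Ω)⁻¹) * e * e * ((y : Ω) * e * (y : Ω)⁻¹) := by rw [h1]
          _ = ((y : Ω) * e * (y : Ω)⁻¹) * (e * e) * ((y : Ω) * e * (y : Ω)⁻¹) := by group
          _ = 1 := by rw [he2, mul_one, hf2]
    obtain ⟨u, hu⟩ := hDinn _ hαD hαA
    have hcz : (u : Ω)⁻¹ * e ∈ centralizerIn S P := by
      refine Subgroup.mem_inf.mpr ⟨S.mul_mem (S.inv_mem (hPS u.2)) heS,
        Subgroup.mem_centralizer_iff.mpr ?_⟩
      intro y hy
      have h1 : ((MulAut.conj u) ⟨y, hy⟩ : P) = Cfsg.Agent.Lib.helper88.conjAut P e heN ⟨y, hy⟩ := by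
        rw [hu]
      have h2 := congrArg Subtype.val h1
      rw [Cfsg.Agent.Lib.helper88.conjAut_apply] at h2
      have h3 : (u : Ω) * y * (u : Ω)⁻¹ = e * y * e⁻¹ := by simpa using h2
      calc y * ((u : Ω)⁻¹ * e) = (u : Ω)⁻¹ * ((u : Ω) * y * (u : Ω)⁻¹) * e := by group
        _ = (u : Ω)⁻¹ * (e * y * e⁻¹) * e := by rw [h3]
        _ = (u : Ω)⁻¹ * e * y := by group
    have h4 := hCP hcz
    have h5 : e = (u : Ω) * ((u : Ω)⁻¹ * e) := by group
    rw [h5]
    exact P.mul_mem u.2 h4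
  -- step 2: climb the normalizer chain
  have step2 : ∀ n : ℕ, ∀ R : Subgroup Ω, P ≤ R → R ≤ S → Nat.card S - Nat.card R = n →
      (∀ e ∈ R, e * e = 1 → e ∈ P) → ∀ e ∈ S, e * e = 1 → e ∈ P := by
    intro n
    induction n using Nat.strong_induction_on with
    | _ n IH =>
      intro R hPR hRS hn hgood e heS he2
      by_cases hRS' : R = S
      · exact hgood e (hRS' ▸ heS) he2
      have hlt : R < S := lt_of_le_of_ne hRS hRS'
      have hlt' := Cfsg.Agent.Lib.helper89.lt_normalizerIn hS hlt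
      have hR'S : normalizerIn S R ≤ S := inf_le_left
      have hc1 := Cfsg.Agent.Lib.helper89.card_lt_of_lt hlt' hR'S
      have hc2 : Nat.card (normalizerIn S R) ≤ Nat.card S :=
        Nat.card_le_card_of_injective (Subgroup.inclusion hR'S) (Subgroup.inclusion_injective _)
      refine IH (Nat.card S - Nat.card (normalizerIn S R)) (by omega) (normalizerIn S R)
        (hPR.trans hlt'.le) hR'S rfl ?_ e heS he2
      intro e' he' he'2
      have he'S : e' ∈ S := he'.1
      have he'N : e' ∈ Subgroup.normalizer (R : Set Ω) := he'.2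
      have he'i : e'⁻¹ = e' := inv_eq_of_mul_eq_one_left he'2
      apply step1 e' he'S he'2
      apply Cfsg.Agent.Lib.helper88.mem_normalizer_of_conj_mem
      intro u hu
      have huR : u ∈ R := hPR hu
      have hf2 : (u * e' * u⁻¹) * (u * e' * u⁻¹) = 1 := by
        calc (u * e' * u⁻¹) * (u * e' * u⁻¹) = u * (e' * e') * u⁻¹ := by group
          _ = 1 := by rw [he'2]; group
      have hfS : u * e' * u⁻¹ ∈ S := S.mul_mem (S.mul_mem (hPS hu) he'S) (S.inv_mem (hPS hu))
      have h1 := hcomm e' he'S _ hfS he'2 hf2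
      have hg2 : (e' * (u * e' * u⁻¹)) * (e' * (u * e' * u⁻¹)) = 1 := by
        calc (e' * (u * e' * u⁻¹)) * (e' * (u * e' * u⁻¹))
            = e' * ((u * e' * u⁻¹) * e') * (u * e' * u⁻¹) := by group
          _ = e' * (e' * (u * e' * u⁻¹)) * (u * e' * u⁻¹) := by rw [h1]
          _ = (e' * e') * ((u * e' * u⁻¹) * (u * e' * u⁻¹)) := by group
          _ = 1 := by rw [he'2, hf2, one_mul]
      have hgR : e' * (u * e' * u⁻¹) ∈ R := by
        have h2 : e' * (u * e' * u⁻¹) = (e' * u * e'⁻¹) * u⁻¹ := by rw [he'i]; group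
        rw [h2]
        exact R.mul_mem ((Subgroup.mem_normalizer_iff.mp he'N u).mp huR) (R.inv_mem huR)
      have h3 := hgood _ hgR hg2
      have h4 : e' * u * e'⁻¹ = (e' * (u * e' * u⁻¹)) * u := by rw [he'i]; group
      rw [h4]
      exact P.mul_mem h3 hu
  exact step2 _ P le_rfl hPS rfl (fun e he _ => he)

/-- The predicate "lies in `C_S(Ω₁)`": in `S` and commuting with every element of `S` of order at
most 2. -/
def fuschPred (S : Subgroup Ω) (x : Ω) : Prop := x ∈ S ∧ ∀ e ∈ S, e * e = 1 → e * x = x * e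

/-- The subsystem of the maps of `F` that preserve `fuschPred` in both directions. -/
def fuschSystem (F : FusionSystem S) : FusionSystem S where
  Hom P := {φ | φ ∈ F.Hom P ∧ ∀ x : P, (fuschPred S (x : Ω) ↔ fuschPred S (φ x))}
  le_of_mem := fun h => F.le_of_mem h.1
  injective_of_mem := fun h => F.injective_of_mem h.1
  conj_mem := by
    intro P g hP hg
    refine ⟨F.conj_mem hP hg, fun x => ?_⟩
    have hval : conjHom P g x = g * x * g⁻¹ := by simp [conjHom]
    rw [hval]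
    constructor
    · rintro ⟨hxS, hx⟩
      refine ⟨S.mul_mem (S.mul_mem hg hxS) (S.inv_mem hg), fun e he he2 => ?_⟩
      have h1 := hx (g⁻¹ * e * g) (S.mul_mem (S.mul_mem (S.inv_mem hg) he) hg) (by
        calc g⁻¹ * e * g * (g⁻¹ * e * g) = g⁻¹ * (e * e) * g := by group
          _ = 1 := by rw [he2]; group)
      calc e * (g * x * g⁻¹) = g * (g⁻¹ * e * g * x) * g⁻¹ := by group
        _ = g * (x * (g⁻¹ * e * g)) * g⁻¹ := by rw [h1]
        _ = g * x * g⁻¹ * e := by group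
    · rintro ⟨hxS, hx⟩
      refine ⟨?_, fun e he he2 => ?_⟩
      · have h0 : (x : Ω) = g⁻¹ * (g * x * g⁻¹) * g := by group
        rw [h0]
        exact S.mul_mem (S.mul_mem (S.inv_mem hg) hxS) hg
      · have h1 := hx (g * e * g⁻¹) (S.mul_mem (S.mul_mem hg he) (S.inv_mem hg)) (by
          calc g * e * g⁻¹ * (g * e * g⁻¹) = g * (e * e) * g⁻¹ := by group
            _ = 1 := by rw [he2]; group)
        calc e * x = g⁻¹ * (g * e * g⁻¹ * (g * x * g⁻¹)) * g := by group
          _ = g⁻¹ * (g * x * g⁻¹ * (g * e * g⁻¹)) * g := by rw [h1]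
          _ = x * e := by group
  comp_mem := by
    intro P Q φ ψ hφ hψ h
    refine ⟨F.comp_mem hφ.1 hψ.1 h, fun x => ?_⟩
    rw [hφ.2 x]
    exact hψ.2 ⟨φ x, h x⟩
  inv_mem := by
    intro P φ hφ
    obtain ⟨ψ, hψ, hinv⟩ := F.inv_mem hφ.1
    refine ⟨ψ, ⟨hψ, ?_⟩, hinv⟩
    rintro ⟨_, x, rfl⟩
    rw [hinv x]
    exact (hφ.2 x).symm

/-- Under the hypothesis that every element of `S` is conjugate in the system into `Z(S)`, every
element of `S` of order at most 2 is central in `S`. -/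
theorem fusch_invol_central [Finite S] (hS : IsPGroup 2 S) (F : FusionSystem S)
    (hF : F.IsSaturated 2)
    (h : ∀ x ∈ S, ∃ z ∈ S ⊓ Subgroup.centralizer (S : Set Ω), F.IsConjElt x z) :
    ∀ e ∈ S, e * e = 1 → ∀ s ∈ S, e * s = s * e := by
  haveI : Fact (Nat.Prime 2) := ⟨Nat.prime_two⟩
  have hcomm : ∀ a ∈ S, ∀ b ∈ S, a * a = 1 → b * b = 1 → a * b = b * a :=
    fun a ha b hb ha2 hb2 => fusch_invol_commute hS F hF h ha hb ha2 hb2
  have hle : F ≤ fuschSystem F := by
    apply Cfsg.Agent.S5082.result 2 hS F hF (fuschSystem F)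
    intro P hP
    have hE : ∀ e ∈ S, e * e = 1 → e ∈ P := by
      rcases hP with rfl | hP
      · exact fun e he _ => he
      · exact fusch_invol_mem_essential hS F hcomm hP
    unfold FusionSystem.autGroup
    apply Subgroup.closure_mono
    intro α hα
    have hPS : P ≤ S := (F.le_of_mem hα).1
    refine ⟨hα, fun x => ?_⟩
    show fuschPred S (x : Ω) ↔ fuschPred S ((α x : P) : Ω)
    constructor
    · rintro ⟨-, hx⟩
      refine ⟨hPS (α x).2, fun e he he2 => ?_⟩
      have heP := hE e he he2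
      have h0 : α.symm ⟨e, heP⟩ * α.symm ⟨e, heP⟩ = 1 := by
        rw [← map_mul]
        have h00 : (⟨e, heP⟩ : P) * ⟨e, heP⟩ = 1 := Subtype.ext he2
        rw [h00, map_one]
      have h2 := hx _ (hPS (α.symm ⟨e, heP⟩).2) (congrArg Subtype.val h0)
      have h3 : α.symm ⟨e, heP⟩ * x = x * α.symm ⟨e, heP⟩ := Subtype.ext h2
      have h4 := congrArg α h3
      rw [map_mul, map_mul, MulEquiv.apply_symm_apply] at h4
      exact congrArg Subtype.val h4
    · rintro ⟨-, hx⟩
      refine ⟨hPS x.2, fun e he he2 => ?_⟩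
      have heP := hE e he he2
      have h0 : α ⟨e, heP⟩ * α ⟨e, heP⟩ = 1 := by
        rw [← map_mul]
        have h00 : (⟨e, heP⟩ : P) * ⟨e, heP⟩ = 1 := Subtype.ext he2
        rw [h00, map_one]
      have h2 := hx _ (hPS (α ⟨e, heP⟩).2) (congrArg Subtype.val h0)
      have h3 : α (⟨e, heP⟩ * x) = α (x * ⟨e, heP⟩) := by
        rw [map_mul, map_mul]
        exact Subtype.ext h2
      have h4 := α.injective h3
      exact congrArg Subtype.val h4
  intro e he he2 s hs
  obtain ⟨z, hz, φ, hφ, hφs⟩ := h s hs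
  have h1 := (hle (Subgroup.zpowers s) hφ).2 ⟨s, Subgroup.mem_zpowers s⟩
  rw [hφs] at h1
  have hzp : fuschPred S z :=
    ⟨hz.1, fun e' he' _ => Subgroup.mem_centralizer_iff.mp hz.2 e' he'⟩
  exact (h1.mpr hzp).2 e he he2

/-- A subgroup of `Z(S)` is receptive in a saturated system. -/
theorem fusch_central_receptive [Finite S] {p : ℕ} [Fact p.Prime] (hS : IsPGroup p S)
    (F : FusionSystem S) (hF : F.IsSaturated p) {Z : Subgroup Ω} (hZS : Z ≤ S)
    (hZc : ∀ z ∈ Z, ∀ s ∈ S, s * z = z * s) : F.IsReceptive Z := by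
  have hSN : S ≤ Subgroup.normalizer (Z : Set Ω) := by
    intro s hs
    rw [Subgroup.mem_normalizer_iff]
    intro z
    constructor
    · intro hz
      have h1 : s * z * s⁻¹ = z := by rw [hZc z hz s hs]; group
      rw [h1]; exact hz
    · intro hz
      have h1 := hZc _ hz s hs
      have h3 : s * (s * z * s⁻¹) = s * z := by rw [h1]; group
      have h4 : s * z * s⁻¹ = z := mul_left_cancel h3
      rw [h4] at hz; exact hz
  have hfn := fusch_fn_of_normal F hZS hSN
  exact (Cfsg.Agent.Lib.helper88.fullyAutomized_receptive_of_fullyNormalized hS F hF hfn).2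

end Cfsg.Agent.Lib.helper36
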