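import Mathlib
import Cfsg.Agent.Lib.helper30.Critical
import Cfsg.Agent.Lib.helper66.OddAction
import Cfsg.Agent.Lib.helper54.AxB
import Cfsg.Agent.Lib.helper27.AxB
import Cfsg.Agent.Lib.helper26.PResidual

/-!
# Small abelian subgroups detecting `p'`-automorphisms

* `smallab_exists`: in a finite group `X`, for `p`-subgroups `H ≤ N` with `N` normalizing `H`
  there is an abelian subgroup `A ≤ H` of exponent `p` (`p` odd) resp. dividing `4` (`p = 2`),
  normalized by `N`, such that every `p'`-element of `N_X(H)` centralizing `A` centralizes `H`.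
* `smallab_aut`: the same for a finite `p`-group `P` with groups `T ≤ Γ` of automorphisms.
-/

set_option autoImplicit false

namespace Cfsg.Agent.Lib.helper36

section SmallAb

variable {X : Type*} [Group X]

theorem smallab_cl2_sq (x y c : X) (hc : c = y * x * y⁻¹ * x⁻¹) (hcx : c * x = x * c) :
    x * y * (x * y) = c * (x * x) * (y * y) := by
  calc x * y * (x * y) = x * (y * x * y⁻¹ * x⁻¹) * x * y * y := by group
    _ = (x * c) * x * y * y := by rw [hc]
    _ = (c * x) * x * y * y := by rw [hcx]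
    _ = c * (x * x) * (y * y) := by group

theorem smallab_cl2_comm_sq (x y c : X) (hc : c = y * x * y⁻¹ * x⁻¹) (hcy : c * y = y * c)
    (hyy : y * y * x = x * (y * y)) : c * c = 1 := by
  calc c * c = (c * y) * x * y⁻¹ * x⁻¹ := by rw [hc]; group
    _ = y * c * x * y⁻¹ * x⁻¹ := by rw [hcy]
    _ = (y * y * x) * y⁻¹ * y⁻¹ * x⁻¹ := by rw [hc]; group
    _ = x * (y * y) * y⁻¹ * y⁻¹ * x⁻¹ := by rw [hyy]
    _ = 1 := by group

/-- The elements of a class-2 group whose square is central. -/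
def smallabSq (C : Subgroup X)
    (hcl : ∀ x ∈ C, ∀ y ∈ C, ∀ z ∈ C, (x * y * x⁻¹ * y⁻¹) * z = z * (x * y * x⁻¹ * y⁻¹)) :
    Subgroup X where
  carrier := {x | x ∈ C ∧ ∀ z ∈ C, (x * x) * z = z * (x * x)}
  one_mem' := ⟨C.one_mem, fun z _ => by simp⟩
  mul_mem' := by
    rintro x y ⟨hx, hxz⟩ ⟨hy, hyz⟩
    refine ⟨C.mul_mem hx hy, fun z hz => ?_⟩
    have hcC : y * x * y⁻¹ * x⁻¹ ∈ C :=
      C.mul_mem (C.mul_mem (C.mul_mem hy hx) (C.inv_mem hy)) (C.inv_mem hx)
    have h1 := smallab_cl2_sq x y _ rfl (hcl y hy x hx x hx)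
    rw [h1]
    have hcz := hcl y hy x hx z hz
    calc y * x * y⁻¹ * x⁻¹ * (x * x) * (y * y) * z
        = y * x * y⁻¹ * x⁻¹ * (x * x) * ((y * y) * z) := by simp only [mul_assoc]
      _ = y * x * y⁻¹ * x⁻¹ * ((x * x) * z) * (y * y) := by rw [hyz z hz]; simp only [mul_assoc]
      _ = (y * x * y⁻¹ * x⁻¹ * z) * (x * x) * (y * y) := by rw [hxz z hz]; simp only [mul_assoc]
      _ = z * (y * x * y⁻¹ * x⁻¹ * (x * x) * (y * y)) := by rw [hcz]; simp only [mul_assoc]
  inv_mem' := by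
    rintro x ⟨hx, hxz⟩
    refine ⟨C.inv_mem hx, fun z hz => ?_⟩
    have h := hxz z hz
    calc x⁻¹ * x⁻¹ * z = (x * x)⁻¹ * (z * (x * x)) * (x * x)⁻¹ := by group
      _ = (x * x)⁻¹ * ((x * x) * z) * (x * x)⁻¹ := by rw [h]
      _ = z * (x⁻¹ * x⁻¹) := by group

theorem mem_smallabSq (C : Subgroup X)
    (hcl : ∀ x ∈ C, ∀ y ∈ C, ∀ z ∈ C, (x * y * x⁻¹ * y⁻¹) * z = z * (x * y * x⁻¹ * y⁻¹)) (x : X) :
    x ∈ smallabSq C hcl ↔ x ∈ C ∧ ∀ z ∈ C, (x * x) * z = z * (x * x) := Iff.rfl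

/-- The elements of a class-2 group whose square is central and whose fourth power is trivial. -/
def smallabFour (C : Subgroup X)
    (hcl : ∀ x ∈ C, ∀ y ∈ C, ∀ z ∈ C, (x * y * x⁻¹ * y⁻¹) * z = z * (x * y * x⁻¹ * y⁻¹)) :
    Subgroup X where
  carrier := {x | x ∈ smallabSq C hcl ∧ (x * x) * (x * x) = 1}
  one_mem' := ⟨Subgroup.one_mem _, by simp⟩
  mul_mem' := by
    rintro x y ⟨hx, hx4⟩ ⟨hy, hy4⟩
    refine ⟨Subgroup.mul_mem _ hx hy, ?_⟩
    obtain ⟨hxC, hxz⟩ := hx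
    obtain ⟨hyC, hyz⟩ := hy
    have hcC : y * x * y⁻¹ * x⁻¹ ∈ C :=
      C.mul_mem (C.mul_mem (C.mul_mem hyC hxC) (C.inv_mem hyC)) (C.inv_mem hxC)
    have h1 := smallab_cl2_sq x y _ rfl (hcl y hyC x hxC x hxC)
    have h2 := smallab_cl2_comm_sq x y _ rfl (hcl y hyC x hxC y hyC) (hyz x hxC)
    rw [h1]
    have e1 : (x * x) * (y * x * y⁻¹ * x⁻¹) = (y * x * y⁻¹ * x⁻¹) * (x * x) := hxz _ hcC
    have e2 : (y * y) * (y * x * y⁻¹ * x⁻¹) = (y * x * y⁻¹ * x⁻¹) * (y * y) := hyz _ hcC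
    have e3 : (y * y) * (x * x) = (x * x) * (y * y) := hyz _ (C.mul_mem hxC hxC)
    generalize y * x * y⁻¹ * x⁻¹ = c at *
    generalize x * x = u at *
    generalize y * y = v at *
    calc c * u * v * (c * u * v) = c * u * (v * c) * u * v := by simp only [mul_assoc]
      _ = c * (u * c) * (v * u) * v := by rw [e2]; simp only [mul_assoc]
      _ = (c * c) * (u * u) * (v * v) := by rw [e1, e3]; simp only [mul_assoc]
      _ = 1 := by rw [h2, hx4, hy4]; simp
  inv_mem' := by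
    rintro x ⟨hx, hx4⟩
    refine ⟨Subgroup.inv_mem _ hx, ?_⟩
    calc x⁻¹ * x⁻¹ * (x⁻¹ * x⁻¹) = ((x * x) * (x * x))⁻¹ := by group
      _ = 1 := by rw [hx4, inv_one]

theorem smallab_normalizer_le (C D : Subgroup X)
    (hD : ∀ n ∈ Subgroup.normalizer (C : Set X), ∀ x ∈ D, n * x * n⁻¹ ∈ D) :
    Subgroup.normalizer (C : Set X) ≤ Subgroup.normalizer (D : Set X) := by
  intro n hn
  refine Cfsg.Agent.Lib.helper30.mem_normalizer_of_conj D n (hD n hn) (fun x hx => ?_)
  have := hD n⁻¹ (Subgroup.inv_mem _ hn) x hx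
  simpa using this

theorem smallab_orderOf_sq_lt {x : X} (hx1 : x ≠ 1) {k : ℕ} (hk : x ^ 2 ^ k = 1) :
    orderOf (x * x) < orderOf x := by
  have hdvd : orderOf x ∣ 2 ^ k := orderOf_dvd_of_pow_eq_one hk
  obtain ⟨j, -, hj⟩ := (Nat.dvd_prime_pow Nat.prime_two).mp hdvd
  have hj0 : j ≠ 0 := by
    rintro rfl
    rw [pow_zero, orderOf_eq_one_iff] at hj
    exact hx1 hj
  obtain ⟨i, rfl⟩ := Nat.exists_eq_succ_of_ne_zero hj0
  have hpos : 0 < orderOf x := by rw [hj]; positivity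
  have h2 : x * x = x ^ 2 := by rw [pow_two]
  have h3 : (x ^ 2) ^ 2 ^ i = 1 := by
    rw [← pow_mul, ← pow_succ', ← hj, pow_orderOf_eq_one]
  have h4 : orderOf (x ^ 2) ∣ 2 ^ i := orderOf_dvd_of_pow_eq_one h3
  have h5 : orderOf (x ^ 2) ≤ 2 ^ i := Nat.le_of_dvd (by positivity) h4
  have h6 : orderOf (x * x) ≤ 2 ^ i := h2 ▸ h5
  have h7 : (2 : ℕ) ^ (i + 1) = 2 * 2 ^ i := pow_succ' 2 i
  have h8 : 0 < 2 ^ i := by positivity
  rw [hj, h7]
  omega

theorem smallab_omega_two [Finite X] (C : Subgroup X) (hC : IsPGroup 2 C)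
    (hcl : ∀ x ∈ C, ∀ y ∈ C, ∀ z ∈ C, (x * y * x⁻¹ * y⁻¹) * z = z * (x * y * x⁻¹ * y⁻¹)) :
    ∃ D : Subgroup X, D ≤ C ∧
      Subgroup.normalizer (C : Set X) ≤ Subgroup.normalizer (D : Set X) ∧
      (∀ x ∈ D, x ^ 4 = 1) ∧
      ∀ a ∈ Subgroup.normalizer (C : Set X), (orderOf a).Coprime 2 →
        (∀ x ∈ D, a * x = x * a) → ∀ c ∈ C, a * c = c * a := by
  have hconjC : ∀ n ∈ Subgroup.normalizer (C : Set X), ∀ x ∈ C, n * x * n⁻¹ ∈ C :=
    fun n hn x hx => (Subgroup.mem_normalizer_iff.mp hn x).mp hx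
  have hconjSq : ∀ n ∈ Subgroup.normalizer (C : Set X), ∀ x ∈ smallabSq C hcl,
      n * x * n⁻¹ ∈ smallabSq C hcl := by
    rintro n hn x ⟨hx, hxz⟩
    refine ⟨hconjC n hn x hx, fun z hz => ?_⟩
    have hz' : n⁻¹ * z * n ∈ C := by
      have := hconjC n⁻¹ (Subgroup.inv_mem _ hn) z hz
      simpa using this
    have h := hxz _ hz'
    calc n * x * n⁻¹ * (n * x * n⁻¹) * z = n * ((x * x) * (n⁻¹ * z * n)) * n⁻¹ := by group
      _ = n * ((n⁻¹ * z * n) * (x * x)) * n⁻¹ := by rw [h]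
      _ = z * (n * x * n⁻¹ * (n * x * n⁻¹)) := by group
  have hconjD : ∀ n ∈ Subgroup.normalizer (C : Set X), ∀ x ∈ smallabFour C hcl,
      n * x * n⁻¹ ∈ smallabFour C hcl := by
    rintro n hn x ⟨hx, hx4⟩
    refine ⟨hconjSq n hn x hx, ?_⟩
    calc n * x * n⁻¹ * (n * x * n⁻¹) * (n * x * n⁻¹ * (n * x * n⁻¹))
        = n * ((x * x) * (x * x)) * n⁻¹ := by group
      _ = 1 := by rw [hx4]; group
  refine ⟨smallabFour C hcl, fun x hx => hx.1.1, smallab_normalizer_le _ _ hconjD, ?_, ?_⟩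
  · intro x hx
    have : x ^ 4 = (x * x) * (x * x) := by
      rw [show 4 = 2 + 2 from rfl, pow_add, pow_two]
    rw [this]; exact hx.2
  · intro a ha hcop hD
    have hSq : ∀ x ∈ smallabSq C hcl, a * x * a⁻¹ = x := by
      apply Cfsg.Agent.Lib.helper66.conj_eq_of_fixes_order_four
        (hC.to_le (show smallabSq C hcl ≤ C from fun x hx => hx.1))
        (Nat.Coprime.odd_of_right hcop)
        (smallab_normalizer_le _ _ hconjSq ha)
      intro x hx h4
      have hxD : x ∈ smallabFour C hcl :=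
        ⟨hx, by rw [← h4, show 4 = 2 + 2 from rfl, pow_add, pow_two]⟩
      rw [hD x hxD]; group
    have main : ∀ (n : ℕ) (x : X), x ∈ C → orderOf x = n → a * x * a⁻¹ = x := by
      intro n
      induction n using Nat.strong_induction_on with
      | _ n ih =>
        intro x hx hn
        by_cases hx1 : x = 1
        · subst hx1; group
        · obtain ⟨k, hk⟩ := hC ⟨x, hx⟩
          have hk' : x ^ 2 ^ k = 1 := by
            have := congrArg Subtype.val hk
            simpa using this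
          have hlt : orderOf (x * x) < orderOf x := smallab_orderOf_sq_lt hx1 hk'
          have hxx : a * (x * x) * a⁻¹ = x * x :=
            ih _ (hn ▸ hlt) (x * x) (C.mul_mem hx hx) rfl
          have hx'C : a * x * a⁻¹ ∈ C := hconjC a ha x hx
          have hx'2 : (a * x * a⁻¹) * (a * x * a⁻¹) = x * x := by rw [← hxx]; group
          have hy : x⁻¹ * (a * x * a⁻¹) ∈ smallabSq C hcl := by
            refine ⟨C.mul_mem (C.inv_mem hx) hx'C, fun z hz => ?_⟩
            have h1 := smallab_cl2_sq x⁻¹ (a * x * a⁻¹) _ rfl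
              (hcl _ hx'C x⁻¹ (C.inv_mem hx) x⁻¹ (C.inv_mem hx))
            have h2 : x⁻¹ * (a * x * a⁻¹) * (x⁻¹ * (a * x * a⁻¹))
                = (a * x * a⁻¹) * x⁻¹ * (a * x * a⁻¹)⁻¹ * x⁻¹⁻¹ := by
              rw [h1, hx'2]; group
            rw [h2]
            exact hcl _ hx'C x⁻¹ (C.inv_mem hx) z hz
          have hay := hSq _ hy
          obtain ⟨m, hm⟩ := hC ⟨x⁻¹ * (a * x * a⁻¹), C.mul_mem (C.inv_mem hx) hx'C⟩
          have hm' : (x⁻¹ * (a * x * a⁻¹)) ^ 2 ^ m = 1 := by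
            have := congrArg Subtype.val hm
            simpa using this
          have hy1 : x⁻¹ * (a * x * a⁻¹) = 1 :=
            Cfsg.Agent.Lib.helper66.eq_one_of_conj_eq_mul_of_coprime (p := 2) (b := a) (x := x)
              hcop (by group) hay hm'
          calc a * x * a⁻¹ = x * (x⁻¹ * (a * x * a⁻¹)) := by group
            _ = x := by rw [hy1, mul_one]
    intro c hc
    have := main _ c hc rfl
    calc a * c = (a * c * a⁻¹) * a := by group
      _ = c * a := by rw [this]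

theorem smallab_omega [Finite X] (p : ℕ) [Fact p.Prime] (C : Subgroup X) (hC : IsPGroup p C)
    (hcl : ∀ x ∈ C, ∀ y ∈ C, ∀ z ∈ C, (x * y * x⁻¹ * y⁻¹) * z = z * (x * y * x⁻¹ * y⁻¹)) :
    ∃ D : Subgroup X, D ≤ C ∧
      Subgroup.normalizer (C : Set X) ≤ Subgroup.normalizer (D : Set X) ∧
      (p ≠ 2 → ∀ x ∈ D, x ^ p = 1) ∧ (p = 2 → ∀ x ∈ D, x ^ 4 = 1) ∧
      ∀ a ∈ Subgroup.normalizer (C : Set X), (orderOf a).Coprime p →
        (∀ x ∈ D, a * x = x * a) → ∀ c ∈ C, a * c = c * a := by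
  by_cases hp2 : p = 2
  · subst hp2
    obtain ⟨D, h1, h2, h3, h4⟩ := smallab_omega_two C hC hcl
    exact ⟨D, h1, h2, fun h => absurd rfl h, fun _ => h3, h4⟩
  · obtain ⟨D, hD⟩ := Cfsg.Agent.Lib.helper30.exists_omega p hp2 C hcl
    have hconjC : ∀ n ∈ Subgroup.normalizer (C : Set X), ∀ x ∈ C, n * x * n⁻¹ ∈ C :=
      fun n hn x hx => (Subgroup.mem_normalizer_iff.mp hn x).mp hx
    refine ⟨D, fun x hx => ((hD x).mp hx).1, smallab_normalizer_le _ _ ?_,
      fun _ x hx => ((hD x).mp hx).2, fun h => absurd h hp2, ?_⟩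
    · intro n hn x hx
      rw [hD] at hx ⊢
      refine ⟨hconjC n hn x hx.1, ?_⟩
      rw [conj_pow, hx.2]; group
    · intro a ha hcop hDa c hc
      have h := Cfsg.Agent.Lib.helper66.conj_eq_of_fixes_order_p hp2 hC hcop ha
        (fun x hx hxp => by rw [hDa x ((hD x).mpr ⟨hx, hxp⟩)]; group) c hc
      calc a * c = (a * c * a⁻¹) * a := by group
        _ = c * a := by rw [h]

theorem smallab_exists [Finite X] (p : ℕ) [Fact p.Prime] (H N : Subgroup X)
    (hN : IsPGroup p N) (hHN : H ≤ N) (hNH : N ≤ Subgroup.normalizer (H : Set X)) :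
    ∃ A : Subgroup X, A ≤ H ∧ (∀ x ∈ A, ∀ y ∈ A, x * y = y * x) ∧
      (p ≠ 2 → ∀ x ∈ A, x ^ p = 1) ∧ (p = 2 → ∀ x ∈ A, x ^ 4 = 1) ∧
      N ≤ Subgroup.normalizer (A : Set X) ∧
      ∀ a ∈ Subgroup.normalizer (H : Set X), (orderOf a).Coprime p →
        (∀ x ∈ A, a * x = x * a) → ∀ h ∈ H, a * h = h * a := by
  classical
  have hH : IsPGroup p H := hN.to_le hHN
  obtain ⟨C, hCH, hCn, hcl, hCdet⟩ := Cfsg.Agent.Lib.helper30.exists_critical p H hH
  have hC : IsPGroup p C := hH.to_le hCH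
  obtain ⟨D, hDC, hDn, hDodd, hDtwo, hDdet⟩ := smallab_omega p C hC hcl
  have hD : IsPGroup p D := hC.to_le hDC
  have hDN : D ≤ N := hDC.trans (hCH.trans hHN)
  have hND : N ≤ Subgroup.normalizer (D : Set X) := hNH.trans (hCn.trans hDn)
  have hfin : {B : Subgroup X | B ≤ D ∧ (∀ x ∈ B, ∀ y ∈ B, x * y = y * x) ∧
      N ≤ Subgroup.normalizer (B : Set X)}.Finite := Set.toFinite _
  have hne : {B : Subgroup X | B ≤ D ∧ (∀ x ∈ B, ∀ y ∈ B, x * y = y * x) ∧
      N ≤ Subgroup.normalizer (B : Set X)}.Nonempty := by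
    refine ⟨⊥, bot_le, ?_, ?_⟩
    · intro x hx y hy
      rw [Subgroup.mem_bot] at hx hy
      rw [hx, hy]
    · intro n _
      rw [Subgroup.mem_normalizer_iff]
      intro h
      simp only [Subgroup.mem_bot]
      constructor
      · rintro rfl; group
      · intro hh
        have : h = n⁻¹ * (n * h * n⁻¹) * n := by group
        rw [this, hh]; group
  obtain ⟨A, ⟨hAD, hAab, hNA⟩, hAmax⟩ :=
    Set.exists_max_image _ (fun B : Subgroup X => Nat.card B) hfin hne
  have hconjA : ∀ n ∈ N, ∀ x ∈ A, n * x * n⁻¹ ∈ A :=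
    fun n hn x hx => (Subgroup.mem_normalizer_iff.mp (hNA hn) x).mp hx
  -- `C_D(A) ≤ A`
  have hCA : ∀ q ∈ D, (∀ x ∈ A, x * q = q * x) → q ∈ A := by
    intro q hqD hq
    by_contra hqA
    have : Group.IsNilpotent ↥N := hN.isNilpotent
    have hle : D ⊓ Subgroup.centralizer (A : Set X) ≤ N := inf_le_left.trans hDN
    have hnorm : N ≤ Subgroup.normalizer ((D ⊓ Subgroup.centralizer (A : Set X) : Subgroup X) : Set X) := by
      intro n hn
      apply Subgroup.inf_normalizer_le_normalizer_inf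
      exact ⟨hND hn, Cfsg.Agent.Lib.helper30.normalizer_le_normalizer_centralizer A (hNA hn)⟩
    have hQn : ((D ⊓ Subgroup.centralizer (A : Set X)).subgroupOf N).Normal :=
      (Subgroup.normal_subgroupOf_iff_le_normalizer hle).mpr hnorm
    have hQM : ¬ (D ⊓ Subgroup.centralizer (A : Set X)).subgroupOf N ≤ A.subgroupOf N := by
      intro h
      have hq' : (⟨q, hDN hqD⟩ : ↥N) ∈ (D ⊓ Subgroup.centralizer (A : Set X)).subgroupOf N := by
        rw [Subgroup.mem_subgroupOf]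
        exact ⟨hqD, Subgroup.mem_centralizer_iff.mpr (fun x hx => hq x hx)⟩
      exact hqA (Subgroup.mem_subgroupOf.mp (h hq'))
    obtain ⟨k, hkQ, hkM, hk⟩ := Cfsg.Agent.Lib.helper30.exists_central_mod _ _ hQM
    rw [Subgroup.mem_subgroupOf] at hkQ hkM
    have hkD : (k : X) ∈ D := hkQ.1
    have hkc : ∀ h ∈ (A : Set X), h * (k : X) = (k : X) * h :=
      Subgroup.mem_centralizer_iff.mp hkQ.2
    have hkA : ∀ n ∈ N, n * (k : X) * n⁻¹ * (k : X)⁻¹ ∈ A := by
      intro n hn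
      have h1 := hk ⟨n, hn⟩
      rw [Subgroup.mem_subgroupOf] at h1
      have h2 := A.inv_mem h1
      have h3 : ((k * ⟨n, hn⟩ * k⁻¹ * (⟨n, hn⟩ : ↥N)⁻¹ : ↥N) : X)⁻¹ = n * (k : X) * n⁻¹ * (k : X)⁻¹ := by
        simp only [Subgroup.coe_mul, Subgroup.coe_inv]
        group
      rwa [h3] at h2
    -- the bigger subgroup
    have hBD : A ⊔ Subgroup.zpowers (k : X) ≤ D := sup_le hAD (Subgroup.zpowers_le.mpr hkD)
    have hBZ : A ⊔ Subgroup.zpowers (k : X) ≤ Subgroup.centralizer ((A : Set X) ∪ {(k : X)}) := by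
      refine sup_le (fun a ha => ?_) (Subgroup.zpowers_le.mpr ?_)
      · rw [Subgroup.mem_centralizer_iff]
        rintro h (hh | hh)
        · exact hAab h hh a ha
        · rw [Set.mem_singleton_iff] at hh
          rw [hh]; exact (hkc a ha).symm
      · rw [Subgroup.mem_centralizer_iff]
        rintro h (hh | hh)
        · exact hkc h hh
        · rw [Set.mem_singleton_iff] at hh
          rw [hh]
    have hBab : ∀ x ∈ A ⊔ Subgroup.zpowers (k : X), ∀ y ∈ A ⊔ Subgroup.zpowers (k : X),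
        x * y = y * x := by
      intro x hx y hy
      have hy' := Subgroup.mem_centralizer_iff.mp (hBZ hy)
      have h1 : A ⊔ Subgroup.zpowers (k : X) ≤ Subgroup.centralizer ({y} : Set X) := by
        refine sup_le (fun a ha => ?_) (Subgroup.zpowers_le.mpr ?_)
        · rw [Subgroup.mem_centralizer_iff]
          intro h hh
          rw [Set.mem_singleton_iff] at hh
          rw [hh]; exact (hy' a (Or.inl ha)).symm
        · rw [Subgroup.mem_centralizer_iff]
          intro h hh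
          rw [Set.mem_singleton_iff] at hh
          rw [hh]; exact (hy' _ (Or.inr rfl)).symm
      have h2 := Subgroup.mem_centralizer_iff.mp (h1 hx) y rfl
      exact h2.symm
    have hBconj : ∀ n ∈ N, ∀ x ∈ A ⊔ Subgroup.zpowers (k : X),
        n * x * n⁻¹ ∈ A ⊔ Subgroup.zpowers (k : X) := by
      intro n hn
      have h1 : A ⊔ Subgroup.zpowers (k : X) ≤
          (A ⊔ Subgroup.zpowers (k : X)).comap (MulAut.conj n).toMonoidHom := by
        refine sup_le (fun a ha => ?_) (Subgroup.zpowers_le.mpr ?_)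
        · rw [Subgroup.mem_comap]
          exact (le_sup_left : A ≤ A ⊔ Subgroup.zpowers (k : X)) (hconjA n hn a ha)
        · rw [Subgroup.mem_comap]
          have h2 : (MulAut.conj n).toMonoidHom (k : X) = (n * (k : X) * n⁻¹ * (k : X)⁻¹) * k := by
            simp [MulAut.conj_apply]
          rw [h2]
          exact Subgroup.mul_mem _ ((le_sup_left : A ≤ A ⊔ Subgroup.zpowers (k : X)) (hkA n hn))
            ((le_sup_right : Subgroup.zpowers (k : X) ≤ A ⊔ Subgroup.zpowers (k : X))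
              (Subgroup.mem_zpowers _))
      intro x hx
      have := h1 hx
      rw [Subgroup.mem_comap] at this
      simpa [MulAut.conj_apply] using this
    have hBN : N ≤ Subgroup.normalizer ((A ⊔ Subgroup.zpowers (k : X) : Subgroup X) : Set X) := by
      intro n hn
      refine Cfsg.Agent.Lib.helper30.mem_normalizer_of_conj _ n (hBconj n hn) (fun x hx => ?_)
      have := hBconj n⁻¹ (N.inv_mem hn) x hx
      simpa using this
    have hcard := hAmax (A ⊔ Subgroup.zpowers (k : X)) ⟨hBD, hBab, hBN⟩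
    have heq : A = A ⊔ Subgroup.zpowers (k : X) := Subgroup.eq_of_le_of_card_ge le_sup_left hcard
    apply hkM
    rw [heq]
    exact (le_sup_right : Subgroup.zpowers (k : X) ≤ A ⊔ Subgroup.zpowers (k : X))
      (Subgroup.mem_zpowers _)
  refine ⟨A, hAD.trans (hDC.trans hCH), hAab, fun hp x hx => hDodd hp x (hAD hx),
    fun hp x hx => hDtwo hp x (hAD hx), hNA, ?_⟩
  intro a ha hcop haA
  have haC : a ∈ Subgroup.normalizer (C : Set X) := hCn ha
  have haD : a ∈ Subgroup.normalizer (D : Set X) := hDn haC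
  have h1 : ∀ q ∈ D, a * q = q * a :=
    Cfsg.Agent.Lib.helper54.thompson_AxB A (hD.to_le hAD) a hcop haA D hD
      (hAD.trans Subgroup.le_normalizer) haD (fun q hq hqA => haA q (hCA q hq hqA))
  exact hCdet a ha hcop (hDdet a haC hcop h1)

end SmallAb

section Bridge

variable {P : Type*} [Group P]

/-- Left multiplication, as a homomorphism into the permutation group. -/
def smallabL (P : Type*) [Group P] : P →* Equiv.Perm P where
  toFun x := Equiv.mulLeft x
  map_one' := by ext y; simp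
  map_mul' x y := by ext z; simp

theorem smallabL_apply (x y : P) : smallabL P x y = x * y := rfl

theorem smallabL_injective : Function.Injective (smallabL P) := by
  intro x y h
  have := congrArg (fun f : Equiv.Perm P => f 1) h
  simpa [smallabL_apply] using this

theorem smallab_toPerm_injective : Function.Injective (MulAut.toPerm P) := by
  intro a b h
  ext x
  exact congrArg (fun f : Equiv.Perm P => f x) h

theorem smallab_conj_L (γ : MulAut P) (x : P) :
    MulAut.toPerm P γ * smallabL P x * (MulAut.toPerm P γ)⁻¹ = smallabL P (γ x) := by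
  have h : MulAut.toPerm P γ * smallabL P x = smallabL P (γ x) * MulAut.toPerm P γ := by
    ext y
    show γ (x * y) = γ x * γ y
    exact map_mul γ x y
  rw [h]; group

theorem smallab_aut [Finite P] (p : ℕ) [Fact p.Prime] (hP : IsPGroup p P)
    (Γ T K : Subgroup (MulAut P)) (hT : IsPGroup p T) (hTΓ : T ≤ Γ)
    (hInn : ∀ g : P, MulAut.conj g ∈ T)
    (hKn : ∀ γ ∈ Γ, ∀ k ∈ K, γ * k * γ⁻¹ ∈ K)
    (hK : ∀ γ ∈ Γ, (orderOf γ).Coprime p → γ ∈ K) :
    ∃ A : Subgroup P, (∀ x ∈ A, ∀ y ∈ A, x * y = y * x) ∧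
      (p ≠ 2 → ∀ x ∈ A, x ^ p = 1) ∧ (p = 2 → ∀ x ∈ A, x ^ 4 = 1) ∧
      (∀ t ∈ T, ∀ x ∈ A, t x ∈ A) ∧
      (∀ γ ∈ Γ, ∀ x ∈ A, γ x ∈ Subgroup.closure {y : P | ∃ α ∈ K, ∃ x : P, y = x⁻¹ * α x}) ∧
      ∀ γ ∈ Γ, (orderOf γ).Coprime p → (∀ x ∈ A, γ x = x) → γ = 1 := by
  classical
  have hHΓ : ∀ γ ∈ Γ, ∀ h ∈ Subgroup.closure {y : P | ∃ α ∈ K, ∃ x : P, y = x⁻¹ * α x},
      γ h ∈ Subgroup.closure {y : P | ∃ α ∈ K, ∃ x : P, y = x⁻¹ * α x} := by
    intro γ hγ
    have h1 : Subgroup.closure {y : P | ∃ α ∈ K, ∃ x : P, y = x⁻¹ * α x} ≤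
        (Subgroup.closure {y : P | ∃ α ∈ K, ∃ x : P, y = x⁻¹ * α x}).comap γ.toMonoidHom := by
      rw [Subgroup.closure_le]
      rintro y ⟨α, hα, x, rfl⟩
      apply Subgroup.subset_closure
      refine ⟨γ * α * γ⁻¹, hKn γ hγ α hα, γ x, ?_⟩
      show γ (x⁻¹ * α x) = (γ x)⁻¹ * (γ * α * γ⁻¹) (γ x)
      simp [MulAut.mul_apply]
    intro h hh
    exact h1 hh
  have hτΓ : ∀ γ ∈ Γ, MulAut.toPerm P γ ∈ Subgroup.normalizer
      (((Subgroup.closure {y : P | ∃ α ∈ K, ∃ x : P, y = x⁻¹ * α x}).map (smallabL P) :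
        Subgroup (Equiv.Perm P)) : Set (Equiv.Perm P)) := by
    have key : ∀ γ ∈ Γ, ∀ x ∈ (Subgroup.closure {y : P | ∃ α ∈ K, ∃ x : P, y = x⁻¹ * α x}).map
        (smallabL P), MulAut.toPerm P γ * x * (MulAut.toPerm P γ)⁻¹ ∈
        (Subgroup.closure {y : P | ∃ α ∈ K, ∃ x : P, y = x⁻¹ * α x}).map (smallabL P) := by
      rintro γ hγ _ ⟨h, hh, rfl⟩
      rw [smallab_conj_L]
      exact Subgroup.mem_map_of_mem _ (hHΓ γ hγ h hh)
    intro γ hγ
    refine Cfsg.Agent.Lib.helper30.mem_normalizer_of_conj _ _ (key γ hγ) (fun x hx => ?_)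
    have := key γ⁻¹ (Γ.inv_mem hγ) x hx
    simpa using this
  have hLn : ∀ g : P, smallabL P g ∈ Subgroup.normalizer
      (((Subgroup.closure {y : P | ∃ α ∈ K, ∃ x : P, y = x⁻¹ * α x}).map (smallabL P) :
        Subgroup (Equiv.Perm P)) : Set (Equiv.Perm P)) := by
    have key : ∀ g : P, ∀ x ∈ (Subgroup.closure {y : P | ∃ α ∈ K, ∃ x : P, y = x⁻¹ * α x}).map
        (smallabL P), smallabL P g * x * (smallabL P g)⁻¹ ∈
        (Subgroup.closure {y : P | ∃ α ∈ K, ∃ x : P, y = x⁻¹ * α x}).map (smallabL P) := by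
      rintro g _ ⟨h, hh, rfl⟩
      have h1 : smallabL P g * smallabL P h * (smallabL P g)⁻¹ = smallabL P (MulAut.conj g h) := by
        rw [MulAut.conj_apply, map_mul, map_mul, map_inv]
      rw [h1]
      exact Subgroup.mem_map_of_mem _ (hHΓ _ (hTΓ (hInn g)) h hh)
    intro g
    refine Cfsg.Agent.Lib.helper30.mem_normalizer_of_conj _ _ (key g) (fun x hx => ?_)
    have := key g⁻¹ x hx
    simpa using this
  have hTL : T.map (MulAut.toPerm P) ≤ Subgroup.normalizer ((smallabL P).range : Set (Equiv.Perm P)) := by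
    have key : ∀ t : MulAut P, ∀ x ∈ (smallabL P).range,
        MulAut.toPerm P t * x * (MulAut.toPerm P t)⁻¹ ∈ (smallabL P).range := by
      rintro t _ ⟨h, rfl⟩
      rw [smallab_conj_L]
      exact ⟨_, rfl⟩
    rintro _ ⟨t, -, rfl⟩
    refine Cfsg.Agent.Lib.helper30.mem_normalizer_of_conj _ _ (key t) (fun x hx => ?_)
    have := key t⁻¹ x hx
    simpa using this
  have hNp : IsPGroup p ↥(T.map (MulAut.toPerm P) ⊔ (smallabL P).range) :=
    IsPGroup.to_sup_of_normal_right' (hT.map _)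
      (hP.of_surjective (smallabL P).rangeRestrict (smallabL P).rangeRestrict_surjective) hTL
  have hHN : (Subgroup.closure {y : P | ∃ α ∈ K, ∃ x : P, y = x⁻¹ * α x}).map (smallabL P) ≤
      T.map (MulAut.toPerm P) ⊔ (smallabL P).range :=
    (Subgroup.map_le_range _ _).trans le_sup_right
  have hNH : T.map (MulAut.toPerm P) ⊔ (smallabL P).range ≤ Subgroup.normalizer
      (((Subgroup.closure {y : P | ∃ α ∈ K, ∃ x : P, y = x⁻¹ * α x}).map (smallabL P) :
        Subgroup (Equiv.Perm P)) : Set (Equiv.Perm P)) := by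
    refine sup_le ?_ ?_
    · rintro _ ⟨t, ht, rfl⟩
      exact hτΓ t (hTΓ ht)
    · rintro _ ⟨g, rfl⟩
      exact hLn g
  obtain ⟨A, hAH, hAab, hAodd, hAtwo, hNA, hAdet⟩ := smallab_exists p _ _ hNp hHN hNH
  have hAmem : ∀ x ∈ A, ∃ h ∈ Subgroup.closure {y : P | ∃ α ∈ K, ∃ x : P, y = x⁻¹ * α x},
      smallabL P h = x := fun x hx => hAH hx
  refine ⟨A.comap (smallabL P), ?_, ?_, ?_, ?_, ?_, ?_⟩
  · intro x hx y hy
    apply smallabL_injective
    rw [map_mul, map_mul]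
    exact hAab _ hx _ hy
  · intro hp x hx
    apply smallabL_injective
    rw [map_pow, map_one]
    exact hAodd hp _ hx
  · intro hp x hx
    apply smallabL_injective
    rw [map_pow, map_one]
    exact hAtwo hp _ hx
  · intro t ht x hx
    rw [Subgroup.mem_comap] at hx ⊢
    have h1 : MulAut.toPerm P t ∈ Subgroup.normalizer (A : Set (Equiv.Perm P)) :=
      hNA (le_sup_left (a := T.map (MulAut.toPerm P)) (Subgroup.mem_map_of_mem _ ht))
    have h2 := (Subgroup.mem_normalizer_iff.mp h1 _).mp hx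
    rwa [smallab_conj_L] at h2
  · intro γ hγ x hx
    rw [Subgroup.mem_comap] at hx
    obtain ⟨h, hh, hhx⟩ := hAmem _ hx
    have : h = x := smallabL_injective hhx
    rw [← this]
    exact hHΓ γ hγ h hh
  · intro γ hγ hcop hγA
    have hord : (orderOf (MulAut.toPerm P γ)).Coprime p := by
      rw [orderOf_injective _ smallab_toPerm_injective]; exact hcop
    have hcent : ∀ x ∈ A, MulAut.toPerm P γ * x = x * MulAut.toPerm P γ := by
      intro x hx
      obtain ⟨h, hh, rfl⟩ := hAmem x hx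
      have h1 := smallab_conj_L γ h
      rw [hγA h (Subgroup.mem_comap.mpr hx)] at h1
      calc MulAut.toPerm P γ * smallabL P h
          = (MulAut.toPerm P γ * smallabL P h * (MulAut.toPerm P γ)⁻¹) * MulAut.toPerm P γ := by
            group
        _ = smallabL P h * MulAut.toPerm P γ := by rw [h1]
    have hall := hAdet _ (hτΓ γ hγ) hord hcent
    have hfixH : ∀ h ∈ Subgroup.closure {y : P | ∃ α ∈ K, ∃ x : P, y = x⁻¹ * α x}, γ h = h := by
      intro h hh
      have h1 := hall _ (Subgroup.mem_map_of_mem _ hh)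
      have h2 := smallab_conj_L γ h
      rw [h1] at h2
      apply smallabL_injective
      rw [← h2]; group
    have hγK : γ ∈ K := hK γ hγ hcop
    ext x
    have hy : x⁻¹ * γ x ∈ Subgroup.closure {y : P | ∃ α ∈ K, ∃ x : P, y = x⁻¹ * α x} :=
      Subgroup.subset_closure ⟨γ, hγK, x, rfl⟩
    have hγy := hfixH _ hy
    obtain ⟨m, hm⟩ := hP (x⁻¹ * γ x)
    have h1 : smallabL P (x⁻¹ * γ x) = 1 := by
      refine Cfsg.Agent.Lib.helper66.eq_one_of_conj_eq_mul_of_coprime (p := p)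
        (b := MulAut.toPerm P γ) (x := smallabL P x) hord ?_ ?_ (m := m) ?_
      · rw [smallab_conj_L, ← map_mul]
        congr 1
        group
      · rw [smallab_conj_L, hγy]
      · rw [← map_pow, hm, map_one]
    have h2 : x⁻¹ * γ x = 1 := smallabL_injective (by rw [h1, map_one])
    have h3 : γ x = x := by
      calc γ x = x * (x⁻¹ * γ x) := by group
        _ = x := by rw [h2, mul_one]
    rw [h3]; rfl

/-- Automorphisms fixing `A` pointwise lie in the "Sylow" group `T`. -/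
theorem smallab_cent_le [Finite P] (p : ℕ) [Fact p.Prime]
    (Γ T : Subgroup (MulAut P)) (hT : IsPGroup p T) (hTΓ : T ≤ Γ)
    (hmax : ∀ Q : Subgroup (MulAut P), IsPGroup p Q → T ≤ Q → Q ≤ Γ → Q ≤ T)
    (A : Subgroup P) (hTA : ∀ t ∈ T, ∀ x ∈ A, t x ∈ A)
    (hdet : ∀ γ ∈ Γ, (orderOf γ).Coprime p → (∀ x ∈ A, γ x = x) → γ = 1)
    (γ : MulAut P) (hγ : γ ∈ Γ) (hγA : ∀ x ∈ A, γ x = x) : γ ∈ T := by
  let Cent : Subgroup (MulAut P) :=
    { carrier := {γ | γ ∈ Γ ∧ ∀ x ∈ A, γ x = x}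
      one_mem' := ⟨Γ.one_mem, fun x _ => rfl⟩
      mul_mem' := by
        rintro a b ⟨ha, hax⟩ ⟨hb, hbx⟩
        refine ⟨Γ.mul_mem ha hb, fun x hx => ?_⟩
        rw [MulAut.mul_apply, hbx x hx, hax x hx]
      inv_mem' := by
        rintro a ⟨ha, hax⟩
        refine ⟨Γ.inv_mem ha, fun x hx => ?_⟩
        have := hax x hx
        rw [MulAut.inv_apply, MulEquiv.symm_apply_eq]
        exact this.symm }
  have hCmem : ∀ c : MulAut P, c ∈ Cent ↔ c ∈ Γ ∧ ∀ x ∈ A, c x = x := fun c => Iff.rfl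
  have hCp : IsPGroup p Cent := by
    rintro ⟨g, hg⟩
    obtain ⟨k, hk⟩ := Cfsg.Agent.Lib.helper27.exists_pow_coprime p g
    have hgk : g ^ p ^ k ∈ Cent := Cent.pow_mem hg _
    have h1 := hdet _ ((hCmem _).mp hgk).1 hk ((hCmem _).mp hgk).2
    exact ⟨k, Subtype.ext (by simpa using h1)⟩
  have hTn : T ≤ Subgroup.normalizer (Cent : Set (MulAut P)) := by
    have key : ∀ t ∈ T, ∀ c ∈ Cent, t * c * t⁻¹ ∈ Cent := by
      intro t ht c hc
      rw [hCmem] at hc ⊢
      refine ⟨Γ.mul_mem (Γ.mul_mem (hTΓ ht) hc.1) (Γ.inv_mem (hTΓ ht)), fun x hx => ?_⟩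
      have h1 : t⁻¹ x ∈ A := hTA _ (T.inv_mem ht) x hx
      rw [MulAut.mul_apply, MulAut.mul_apply, hc.2 _ h1, ← MulAut.mul_apply, mul_inv_cancel]
      rfl
    intro t ht
    refine Cfsg.Agent.Lib.helper30.mem_normalizer_of_conj _ _ (key t ht) (fun x hx => ?_)
    have := key t⁻¹ (T.inv_mem ht) x hx
    simpa using this
  have hQ : IsPGroup p ↥(T ⊔ Cent) := IsPGroup.to_sup_of_normal_right' hT hCp hTn
  have hQT : T ⊔ Cent ≤ T :=
    hmax _ hQ le_sup_left (sup_le hTΓ (fun c hc => ((hCmem c).mp hc).1))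
  exact hQT (le_sup_right (a := T) ((hCmem γ).mpr ⟨hγ, hγA⟩))

end Bridge

end Cfsg.Agent.Lib.helper36
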