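import Mathlib
import Cfsg.Prelude.Def_FusionSystem
import Cfsg.Agent.Lib.helper36.SmallAb
import Cfsg.Agent.Lib.helper88.FusionBasic
import Cfsg.Agent.Lib.helper88.Saturated
import Cfsg.Agent.Lib.helper89.FusionSat
import Cfsg.Agent.Lib.helper26.PResidual

/-!
# Small abelian subgroups of the hyperfocal subgroup control fusion

`fussmall_main`: if `E ≤ F` are saturated fusion systems over `S` with the same maps between
abelian subgroups of small exponent of the hyperfocal subgroup of `F`, then `E = F`.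
-/

set_option autoImplicit false

namespace Cfsg.Agent.Lib.helper36

open Cfsg Cfsg.FusionSystem

variable {Ω : Type*} [Group Ω] {S : Subgroup Ω}

/-- Abelian of exponent `p` (`p` odd), resp. of exponent dividing `4` (`p = 2`). -/
def FusSmallAb (p : ℕ) (A : Subgroup Ω) : Prop :=
  (∀ x ∈ A, ∀ y ∈ A, x * y = y * x) ∧ (p ≠ 2 → ∀ x ∈ A, x ^ p = 1) ∧ (p = 2 → ∀ x ∈ A, x ^ 4 = 1)

theorem fussmall_data [Finite S] (p : ℕ) [Fact p.Prime] (hS : IsPGroup p S) (F : FusionSystem S)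
    {R : Subgroup Ω} (hfa : F.IsFullyAutomized p R) :
    ∃ (A : Subgroup Ω) (hAR : A ≤ R), FusSmallAb p A ∧
      (∀ g ∈ R, ∀ a ∈ A, g * a * g⁻¹ ∈ A) ∧
      (∀ χ ∈ F.Hom R, (∀ x : R, χ x ∈ R) →
        ∀ a : A, χ (Subgroup.inclusion hAR a) ∈ F.hyperfocalSubgroup p) ∧
      (∀ χ ∈ F.Hom R, (∀ x : R, χ x ∈ R) → (∀ a : A, χ (Subgroup.inclusion hAR a) = a) →
        ∃ h ∈ S, ∀ x : R, χ x = h * x * h⁻¹) := by
  have hRS : R ≤ S := hfa.1
  have hRfin : Finite R := Cfsg.Agent.Lib.helper88.finite_of_le hRS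
  have hRp : IsPGroup p R := hS.to_le hRS
  have hT : IsPGroup p (autInducedBy S R) := Cfsg.Agent.Lib.helper88.isPGroup_autInducedBy hS R
  have hTΓ : autInducedBy S R ≤ F.autGroup R :=
    Cfsg.Agent.Lib.helper88.autInducedBy_le_autGroup F hRS
  have hInn : ∀ g : R, MulAut.conj g ∈ autInducedBy S R := by
    intro g
    rw [Cfsg.Agent.Lib.helper88.mem_autInducedBy_iff]
    exact ⟨g, hRS g.2, fun x => by simp [MulAut.conj_apply]⟩
  have hKn : ∀ γ ∈ F.autGroup R, ∀ k ∈ (pResidual p (F.autGroup R)).map (F.autGroup R).subtype,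
      γ * k * γ⁻¹ ∈ (pResidual p (F.autGroup R)).map (F.autGroup R).subtype := by
    rintro γ hγ _ ⟨k, hk, rfl⟩
    have hn := Cfsg.Agent.Lib.helper26.pResidual_normal p (F.autGroup R)
    exact ⟨⟨γ, hγ⟩ * k * ⟨γ, hγ⟩⁻¹, hn.conj_mem k hk ⟨γ, hγ⟩, rfl⟩
  have hK : ∀ γ ∈ F.autGroup R, (orderOf γ).Coprime p →
      γ ∈ (pResidual p (F.autGroup R)).map (F.autGroup R).subtype := by
    intro γ hγ hcop
    refine ⟨⟨γ, hγ⟩, Cfsg.Agent.Lib.helper26.mem_pResidual_of_coprime ?_, rfl⟩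
    rw [Subgroup.orderOf_mk]; exact hcop
  obtain ⟨A₀, hab, hodd, htwo, hTA, hHyp, hdet⟩ :=
    smallab_aut p hRp (F.autGroup R) (autInducedBy S R) _ hT hTΓ hInn hKn hK
  have hmax : ∀ Q : Subgroup (MulAut R), IsPGroup p Q → autInducedBy S R ≤ Q → Q ≤ F.autGroup R →
      Q ≤ autInducedBy S R := by
    intro Q hQ hTQ hQΓ
    obtain ⟨Syl, hSyl⟩ := hfa.2
    have h1 : (Syl : Subgroup (F.autGroup R)) ≤ Q.subgroupOf (F.autGroup R) := by
      rw [hSyl]
      intro x hx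
      rw [Subgroup.mem_subgroupOf] at hx ⊢
      exact hTQ hx
    have h2 : Q.subgroupOf (F.autGroup R) = (Syl : Subgroup (F.autGroup R)) :=
      Syl.is_maximal' hQ.comap_subtype h1
    intro q hq
    have h3 : (⟨q, hQΓ hq⟩ : F.autGroup R) ∈ Q.subgroupOf (F.autGroup R) :=
      Subgroup.mem_subgroupOf.mpr hq
    rw [h2, hSyl, Subgroup.mem_subgroupOf] at h3
    exact h3
  have hH₀ : (Subgroup.closure {y : R | ∃ α ∈ (pResidual p (F.autGroup R)).map
      (F.autGroup R).subtype, ∃ x : R, y = x⁻¹ * α x}).map R.subtype ≤ F.hyperfocalSubgroup p := by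
    rw [Subgroup.map_le_iff_le_comap, Subgroup.closure_le]
    rintro y ⟨α, ⟨α', hα', rfl⟩, x, rfl⟩
    rw [SetLike.mem_coe, Subgroup.mem_comap]
    apply Subgroup.subset_closure
    exact ⟨R, α', x, hRS, hα', by simp⟩
  -- automorphism attached to a map
  have haut : ∀ χ ∈ F.Hom R, (∀ x : R, χ x ∈ R) →
      ∃ γ ∈ F.autGroup R, ∀ x : R, ((γ x : R) : Ω) = χ x := by
    intro χ hχ hχR
    obtain ⟨γ, hγ⟩ := Cfsg.Agent.Lib.helper89.exists_aut_of_mem F hχ hχR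
    refine ⟨γ, ?_, hγ⟩
    rw [Cfsg.Agent.Lib.helper89.mem_autGroup_iff F hRS]
    have : R.subtype.comp γ.toMonoidHom = χ := by
      ext x
      exact hγ x
    rw [this]; exact hχ
  refine ⟨A₀.map R.subtype, Subgroup.map_subtype_le A₀, ⟨?_, ?_, ?_⟩, ?_, ?_, ?_⟩
  · rintro _ ⟨x, hx, rfl⟩ _ ⟨y, hy, rfl⟩
    have := hab x hx y hy
    exact congrArg Subtype.val this
  · rintro hp _ ⟨x, hx, rfl⟩
    have := hodd hp x hx
    have h2 := congrArg Subtype.val this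
    simpa using h2
  · rintro hp _ ⟨x, hx, rfl⟩
    have := htwo hp x hx
    have h2 := congrArg Subtype.val this
    simpa using h2
  · rintro g hg _ ⟨a, ha, rfl⟩
    refine ⟨MulAut.conj (⟨g, hg⟩ : R) a, hTA _ (hInn ⟨g, hg⟩) a ha, ?_⟩
    simp [MulAut.conj_apply]
  · intro χ hχ hχR a
    obtain ⟨γ, hγΓ, hγ⟩ := haut χ hχ hχR
    obtain ⟨a₀, ha₀, ha₀a⟩ := a.2
    have h1 : Subgroup.inclusion (Subgroup.map_subtype_le A₀) a = a₀ := Subtype.ext ha₀a.symm
    rw [h1, ← hγ a₀]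
    exact hH₀ ⟨γ a₀, hHyp γ hγΓ a₀ ha₀, rfl⟩
  · intro χ hχ hχR hfix
    obtain ⟨γ, hγΓ, hγ⟩ := haut χ hχ hχR
    have hγA : ∀ x ∈ A₀, γ x = x := by
      intro x hx
      apply Subtype.ext
      rw [hγ x]
      exact hfix ⟨x, ⟨x, hx, rfl⟩⟩
    have hγT := smallab_cent_le p (F.autGroup R) (autInducedBy S R) hT hTΓ hmax A₀ hTA hdet γ hγΓ hγA
    rw [Cfsg.Agent.Lib.helper88.mem_autInducedBy_iff] at hγT
    obtain ⟨g, hg, hgx⟩ := hγT
    exact ⟨g, hg, fun x => by rw [← hγ x, hgx x]⟩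

theorem fussmall_aut [Finite S] (p : ℕ) [Fact p.Prime] (hS : IsPGroup p S) (E F : FusionSystem S)
    (hE : E.IsSaturated p) (hEF : ∀ P : Subgroup Ω, E.Hom P ⊆ F.Hom P)
    (hsmall : ∀ A B : Subgroup Ω, A ≤ F.hyperfocalSubgroup p → B ≤ F.hyperfocalSubgroup p →
      FusSmallAb p A → FusSmallAb p B → E.homSet A B = F.homSet A B)
    (R : Subgroup Ω) (hfa : F.IsFullyAutomized p R) (hrec : F.IsReceptive R)
    (hind : ∀ P : Subgroup Ω, R < P → F.Hom P ⊆ E.Hom P)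
    (γ : R →* Ω) (hγ : γ ∈ F.Hom R) (hγR : ∀ x : R, γ x ∈ R) : γ ∈ E.Hom R := by
  obtain ⟨A, hAR, hAsm, hAn, hAhyp, hAK⟩ := fussmall_data p hS F hfa
  have hRS : R ≤ S := hfa.1
  have hRfin : Finite R := Cfsg.Agent.Lib.helper88.finite_of_le hRS
  have hAS : A ≤ S := hAR.trans hRS
  have hAfin : Finite A := Cfsg.Agent.Lib.helper88.finite_of_le hAS
  -- step 1: the restriction `φ` of `γ` to `A` is a map of `E`
  have hφF : γ.comp (Subgroup.inclusion hAR) ∈ F.Hom A :=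
    Cfsg.Agent.Lib.helper88.restrict_mem F hAR hγ
  have hA'hyp : (γ.comp (Subgroup.inclusion hAR)).range ≤ F.hyperfocalSubgroup p := by
    rintro _ ⟨a, rfl⟩
    exact hAhyp γ hγ hγR a
  have hAhyp' : A ≤ F.hyperfocalSubgroup p := by
    intro a ha
    exact hAhyp R.subtype (Cfsg.Agent.Lib.helper88.subtype_mem F hRS) (fun x => x.2) ⟨a, ha⟩
  have hA'sm : FusSmallAb p (γ.comp (Subgroup.inclusion hAR)).range := by
    refine ⟨?_, ?_, ?_⟩
    · rintro _ ⟨a, rfl⟩ _ ⟨b, rfl⟩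
      rw [← map_mul, ← map_mul]
      congr 1
      exact Subtype.ext (hAsm.1 a a.2 b b.2)
    · rintro hp _ ⟨a, rfl⟩
      rw [← map_pow]
      have : a ^ p = 1 := Subtype.ext (by simpa using hAsm.2.1 hp a a.2)
      rw [this, map_one]
    · rintro hp _ ⟨a, rfl⟩
      rw [← map_pow]
      have : a ^ 4 = 1 := Subtype.ext (by simpa using hAsm.2.2 hp a a.2)
      rw [this, map_one]
  have hφE : γ.comp (Subgroup.inclusion hAR) ∈ E.Hom A := by
    have h1 : γ.comp (Subgroup.inclusion hAR) ∈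
        F.homSet A (γ.comp (Subgroup.inclusion hAR)).range := ⟨hφF, fun x => ⟨x, rfl⟩⟩
    rw [← hsmall A _ hAhyp' hA'hyp hAsm hA'sm] at h1
    exact h1.1
  -- step 2: move `A' = γ(A)` to a fully `E`-normalized conjugate
  have hA'S : (γ.comp (Subgroup.inclusion hAR)).range ≤ S :=
    Cfsg.Agent.Lib.helper89.range_le_of_hom F hφF
  obtain ⟨A'', hconj, hfn⟩ := Cfsg.Agent.Lib.helper88.exists_fullyNormalized_conj E hA'S
  obtain ⟨ρ, hρ, hρA⟩ :=
    Cfsg.Agent.Lib.helper88.exists_map_normalizer_of_fullyNormalized hS E hE hfn hconj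
  have hrecA'' : E.IsReceptive A'' :=
    (Cfsg.Agent.Lib.helper88.fullyAutomized_receptive_of_fullyNormalized hS E hE hfn).2
  -- step 3: `γ(R)` normalizes `A'`
  have hA'fin : Finite (γ.comp (Subgroup.inclusion hAR)).range :=
    Cfsg.Agent.Lib.helper88.finite_of_le hA'S
  have hγN : ∀ x : R, γ x ∈ normalizerIn S (γ.comp (Subgroup.inclusion hAR)).range := by
    intro x
    refine ⟨hRS (hγR x), Cfsg.Agent.Lib.helper88.mem_normalizer_of_conj_mem ?_⟩
    rintro _ ⟨a, rfl⟩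
    have ha : (x : Ω) * a * (x : Ω)⁻¹ ∈ A := hAn x x.2 a a.2
    refine ⟨⟨(x : Ω) * a * (x : Ω)⁻¹, ha⟩, ?_⟩
    have h1 : Subgroup.inclusion hAR ⟨(x : Ω) * a * (x : Ω)⁻¹, ha⟩ =
        x * Subgroup.inclusion hAR a * x⁻¹ := Subtype.ext (by simp)
    show γ (Subgroup.inclusion hAR ⟨(x : Ω) * a * (x : Ω)⁻¹, ha⟩) =
      γ x * γ (Subgroup.inclusion hAR a) * (γ x)⁻¹
    rw [h1, map_mul, map_mul, map_inv]
  have hlamF : ρ.comp (γ.codRestrict _ hγN) ∈ F.Hom R := F.comp_mem hγ (hEF _ hρ) hγN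
  have hlamS : ∀ x : R, (ρ.comp (γ.codRestrict _ hγN)) x ∈ S := fun x => (F.le_of_mem hlamF).2 x
  -- reduction: it suffices to show that `lam = ρ ∘ γ` is a map of `E`
  suffices hlamE : ρ.comp (γ.codRestrict _ hγN) ∈ E.Hom R by
    obtain ⟨ρ', hρ', hρ'ρ, -⟩ := Cfsg.Agent.Lib.helper89.exists_inv_hom E hρ
    refine Cfsg.Agent.Lib.helper89.comp_mem_of_eq E hlamE hρ'
      (fun x => ⟨γ.codRestrict _ hγN x, rfl⟩) (fun x => ?_)
    exact (hρ'ρ (γ.codRestrict _ hγN x)).symm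
  generalize hlamdef : ρ.comp (γ.codRestrict _ hγN) = lam at hlamF hlamS ⊢
  -- step 4: `ρ ∘ φ`
  have hφN : ∀ a : A, (γ.comp (Subgroup.inclusion hAR)) a ∈
      normalizerIn S (γ.comp (Subgroup.inclusion hAR)).range :=
    fun a => hγN (Subgroup.inclusion hAR a)
  have hρφE : ρ.comp ((γ.comp (Subgroup.inclusion hAR)).codRestrict _ hφN) ∈ E.Hom A :=
    E.comp_mem hφE hρ hφN
  have hρφlam : ∀ a : A, (ρ.comp ((γ.comp (Subgroup.inclusion hAR)).codRestrict _ hφN)) a =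
      lam (Subgroup.inclusion hAR a) := by
    intro a
    rw [← hlamdef]
    rfl
  have hρφrange : (ρ.comp ((γ.comp (Subgroup.inclusion hAR)).codRestrict _ hφN)).range = A'' := by
    rw [← hρA]
    ext y
    constructor
    · rintro ⟨a, rfl⟩
      exact ⟨(γ.comp (Subgroup.inclusion hAR)).codRestrict _ hφN a,
        Subgroup.mem_subgroupOf.mpr ⟨a, rfl⟩, rfl⟩
    · rintro ⟨n, hn, rfl⟩
      rw [SetLike.mem_coe, Subgroup.mem_subgroupOf] at hn
      obtain ⟨a, ha⟩ := hn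
      refine ⟨a, ?_⟩
      show ρ ((γ.comp (Subgroup.inclusion hAR)).codRestrict _ hφN a) = ρ n
      congr 1
      exact Subtype.ext ha
  have hlamA'' : ∀ a : A, lam (Subgroup.inclusion hAR a) ∈ A'' := by
    intro a
    rw [← hρφrange, ← hρφlam]
    exact ⟨a, rfl⟩
  have hA''lam : ∀ y ∈ A'', ∃ a : A, lam (Subgroup.inclusion hAR a) = y := by
    intro y hy
    rw [← hρφrange] at hy
    obtain ⟨a, ha⟩ := hy
    exact ⟨a, by rw [← hρφlam]; exact ha⟩
  -- step 5: the extension `ψ₁` of `ρ ∘ φ` to `R`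
  obtain ⟨ψ₁, hψ₁, hψ₁A⟩ := Cfsg.Agent.Lib.helper89.exists_extension E hrecA'' hρφE hρφrange R (by
    intro g hg
    refine ⟨hRS hg, Cfsg.Agent.Lib.helper88.mem_normalizer_of_conj_mem (hAn g hg),
      lam ⟨g, hg⟩, hlamS _, ?_⟩
    intro x hx
    rw [hρφlam, hρφlam]
    have h1 : Subgroup.inclusion hAR ⟨g * (x : Ω) * g⁻¹, hx⟩ =
        ⟨g, hg⟩ * Subgroup.inclusion hAR x * (⟨g, hg⟩ : R)⁻¹ := Subtype.ext (by simp)
    rw [h1, map_mul, map_mul, map_inv])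
  have hψ₁A' : ∀ a : A, ψ₁ (Subgroup.inclusion hAR a) = lam (Subgroup.inclusion hAR a) := by
    intro a
    rw [← hρφlam]
    exact hψ₁A a a.2 (hAR a.2)
  -- step 6: the inverse of `lam`
  obtain ⟨σ, hσ, hσlam, hσR⟩ := Cfsg.Agent.Lib.helper89.exists_inv_hom F hlamF
  have hlamσ : ∀ y : lam.range, lam ⟨σ y, hσR y⟩ = y := by
    rintro ⟨_, z, rfl⟩
    congr 1
    exact Subtype.ext (hσlam z)
  have hR₂S : lam.range ≤ S := Cfsg.Agent.Lib.helper89.range_le_of_hom F hlamF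
  by_cases hex : ∃ g ∈ S, g ∈ Subgroup.centralizer (A'' : Set Ω) ∧
      g ∈ Subgroup.normalizer (lam.range : Set Ω) ∧ g ∉ lam.range
  · obtain ⟨g, hgS, hgc, hgn, hgR₂⟩ := hex
    have hconjR₂ : ∀ x : R, g * lam x * g⁻¹ ∈ lam.range := fun x =>
      (Subgroup.mem_normalizer_iff.mp hgn _).mp ⟨x, rfl⟩
    have hμ₀ : (conjHom lam.range g).comp (lam.codRestrict lam.range (fun x => ⟨x, rfl⟩)) ∈
        F.Hom R := F.comp_mem hlamF (F.conj_mem hR₂S hgS) (fun x => ⟨x, rfl⟩)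
    have hμ₀R₂ : ∀ x : R, ((conjHom lam.range g).comp
        (lam.codRestrict lam.range (fun x => ⟨x, rfl⟩))) x ∈ lam.range := fun x => hconjR₂ x
    have hχ : σ.comp (((conjHom lam.range g).comp
        (lam.codRestrict lam.range (fun x => ⟨x, rfl⟩))).codRestrict lam.range hμ₀R₂) ∈ F.Hom R :=
      F.comp_mem hμ₀ hσ hμ₀R₂
    have hχval : ∀ x : R, (σ.comp (((conjHom lam.range g).comp
        (lam.codRestrict lam.range (fun x => ⟨x, rfl⟩))).codRestrict lam.range hμ₀R₂)) x =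
        σ ⟨g * lam x * g⁻¹, hconjR₂ x⟩ := fun x => rfl
    generalize σ.comp (((conjHom lam.range g).comp
        (lam.codRestrict lam.range (fun x => ⟨x, rfl⟩))).codRestrict lam.range hμ₀R₂) = χ
        at hχ hχval
    have hχR : ∀ x : R, χ x ∈ R := fun x => by rw [hχval]; exact hσR _
    have hχfix : ∀ a : A, χ (Subgroup.inclusion hAR a) = a := by
      intro a
      rw [hχval]
      have h1 : g * lam (Subgroup.inclusion hAR a) * g⁻¹ = lam (Subgroup.inclusion hAR a) := by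
        have := Subgroup.mem_centralizer_iff.mp hgc _ (hlamA'' a)
        rw [← this]; group
      have h2 : (⟨g * lam (Subgroup.inclusion hAR a) * g⁻¹, hconjR₂ _⟩ : lam.range) =
          ⟨lam (Subgroup.inclusion hAR a), ⟨_, rfl⟩⟩ := Subtype.ext h1
      rw [h2, hσlam]
      rfl
    obtain ⟨h, hhS, hh⟩ := hAK χ hχ hχR hχfix
    have hgext : g ∈ extender S lam.range σ := by
      apply Subgroup.subset_closure
      refine ⟨hgS, hgn, h, hhS, ?_⟩
      rintro ⟨_, y, rfl⟩ hx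
      have h1 := hh y
      rw [hχval] at h1
      rw [hσlam y]
      exact h1
    have hσrange : σ.range = R := by
      apply le_antisymm
      · rintro _ ⟨y, rfl⟩
        exact hσR y
      · intro x hx
        exact ⟨⟨lam ⟨x, hx⟩, ⟨_, rfl⟩⟩, hσlam ⟨x, hx⟩⟩
    obtain ⟨μ, hμ, hμσ⟩ := hrec.2 lam.range σ hσ hσrange
    have hR₂N : lam.range ≤ extender S lam.range σ := Cfsg.Agent.Lib.helper88.le_extender F hσ
    have hμlam : ∀ x : R, μ ⟨lam x, hR₂N ⟨x, rfl⟩⟩ = x := by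
      intro x
      rw [hμσ (lam x) ⟨x, rfl⟩ (hR₂N ⟨x, rfl⟩)]
      exact hσlam x
    have hRμ : R ≤ μ.range := by
      intro x hx
      exact ⟨⟨lam ⟨x, hx⟩, hR₂N ⟨_, rfl⟩⟩, hμlam ⟨x, hx⟩⟩
    have hlt : R < μ.range := by
      refine lt_of_le_of_ne hRμ (fun heq => hgR₂ ?_)
      have h1 : μ ⟨g, hgext⟩ ∈ R := heq.ge ⟨⟨g, hgext⟩, rfl⟩
      have h2 := hμlam ⟨μ ⟨g, hgext⟩, h1⟩
      have h3 := F.injective_of_mem hμ h2
      have h4 := congrArg Subtype.val h3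
      exact ⟨_, h4⟩
    obtain ⟨μ', hμ', hμ'μ, -⟩ := Cfsg.Agent.Lib.helper89.exists_inv_hom F hμ
    have hμ'E : μ' ∈ E.Hom μ.range := hind _ hlt hμ'
    have h5 : lam = μ'.comp (Subgroup.inclusion hRμ) := by
      ext x
      show lam x = μ' (Subgroup.inclusion hRμ x)
      have h6 : Subgroup.inclusion hRμ x = ⟨μ ⟨lam x, hR₂N ⟨x, rfl⟩⟩, ⟨_, rfl⟩⟩ :=
        Subtype.ext (hμlam x).symm
      rw [h6, hμ'μ]
    rw [h5]
    exact Cfsg.Agent.Lib.helper88.restrict_mem E hRμ hμ'E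
  · replace hex : ∀ g ∈ S, g ∈ Subgroup.centralizer (A'' : Set Ω) →
        g ∈ Subgroup.normalizer (lam.range : Set Ω) → g ∈ lam.range :=
      fun g hgS hgc hgn => by_contra (fun h => hex ⟨g, hgS, hgc, hgn, h⟩)
    have hR₂A'' : ∀ r ∈ lam.range, ∀ y ∈ A'', r * y * r⁻¹ ∈ A'' := by
      rintro _ ⟨x, rfl⟩ y hy
      obtain ⟨a, rfl⟩ := hA''lam y hy
      have ha : (x : Ω) * a * (x : Ω)⁻¹ ∈ A := hAn x x.2 a a.2
      have h1 : Subgroup.inclusion hAR ⟨(x : Ω) * a * (x : Ω)⁻¹, ha⟩ =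
          x * Subgroup.inclusion hAR a * x⁻¹ := Subtype.ext (by simp)
      have h2 := hlamA'' ⟨(x : Ω) * a * (x : Ω)⁻¹, ha⟩
      rw [h1, map_mul, map_mul, map_inv] at h2
      exact h2
    have hCSconj : ∀ r ∈ lam.range, ∀ c ∈ S ⊓ Subgroup.centralizer (A'' : Set Ω),
        r * c * r⁻¹ ∈ S ⊓ Subgroup.centralizer (A'' : Set Ω) := by
      intro r hr c hc
      refine ⟨S.mul_mem (S.mul_mem (hR₂S hr) hc.1) (S.inv_mem (hR₂S hr)), ?_⟩
      show r * c * r⁻¹ ∈ Subgroup.centralizer (A'' : Set Ω)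
      rw [Subgroup.mem_centralizer_iff]
      intro y hy
      have hy' : r⁻¹ * y * r ∈ A'' := by
        have := hR₂A'' r⁻¹ (Subgroup.inv_mem _ hr) y hy
        simpa using this
      have h1 := Subgroup.mem_centralizer_iff.mp hc.2 _ hy'
      calc y * (r * c * r⁻¹) = r * ((r⁻¹ * y * r) * c) * r⁻¹ := by group
        _ = r * (c * (r⁻¹ * y * r)) * r⁻¹ := by rw [h1]
        _ = r * c * r⁻¹ * y := by group
    let U : Subgroup Ω :=
      { carrier := {u | ∃ r ∈ lam.range, ∃ c ∈ S ⊓ Subgroup.centralizer (A'' : Set Ω), u = r * c}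
        one_mem' := ⟨1, Subgroup.one_mem _, 1, Subgroup.one_mem _, by simp⟩
        mul_mem' := by
          rintro _ _ ⟨r, hr, c, hc, rfl⟩ ⟨r', hr', c', hc', rfl⟩
          refine ⟨r * r', Subgroup.mul_mem _ hr hr', (r'⁻¹ * c * r') * c',
            Subgroup.mul_mem _ ?_ hc', by group⟩
          have := hCSconj r'⁻¹ (Subgroup.inv_mem _ hr') c hc
          simpa using this
        inv_mem' := by
          rintro _ ⟨r, hr, c, hc, rfl⟩
          exact ⟨r⁻¹, Subgroup.inv_mem _ hr, r * c⁻¹ * r⁻¹,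
            hCSconj r hr c⁻¹ (Subgroup.inv_mem _ hc), by group⟩ }
    have hUmem : ∀ u : Ω, u ∈ U ↔ ∃ r ∈ lam.range, ∃ c ∈ S ⊓ Subgroup.centralizer (A'' : Set Ω),
        u = r * c := fun u => Iff.rfl
    have hUS : U ≤ S := by
      intro u hu
      obtain ⟨r, hr, c, hc, rfl⟩ := (hUmem u).mp hu
      exact S.mul_mem (hR₂S hr) hc.1
    have hR₂U : lam.range ≤ U := fun r hr => (hUmem r).mpr ⟨r, hr, 1, Subgroup.one_mem _, by simp⟩
    have hCU : S ⊓ Subgroup.centralizer (A'' : Set Ω) ≤ U :=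
      fun c hc => (hUmem c).mpr ⟨1, Subgroup.one_mem _, c, hc, by simp⟩
    have hUfin : Finite U := Cfsg.Agent.Lib.helper88.finite_of_le hUS
    have hUp : IsPGroup p U := hS.to_le hUS
    have hUeq : U = lam.range := by
      by_contra hne
      have hlt : lam.range < U := lt_of_le_of_ne hR₂U (Ne.symm hne)
      obtain ⟨y, hy, hyR₂⟩ :=
        Cfsg.Agent.Lib.helper89.exists_mem_normalizerIn_not_mem (S := U) hUp hlt
      obtain ⟨r, hr, c, hc, rfl⟩ := (hUmem y).mp hy.1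
      have hcn : c ∈ Subgroup.normalizer (lam.range : Set Ω) := by
        have h1 : r⁻¹ ∈ Subgroup.normalizer (lam.range : Set Ω) :=
          Subgroup.le_normalizer (Subgroup.inv_mem _ hr)
        have h2 := Subgroup.mul_mem _ h1 hy.2
        simpa using h2
      have hcR₂ := hex c hc.1 hc.2 hcn
      exact hyR₂ (Subgroup.mul_mem _ hr hcR₂)
    have hCR₂ : ∀ c ∈ S, c ∈ Subgroup.centralizer (A'' : Set Ω) → c ∈ lam.range := by
      intro c hcS hcc
      rw [← hUeq]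
      exact hCU ⟨hcS, hcc⟩
    have hψ₁S : ∀ x : R, ψ₁ x ∈ S := fun x => (E.le_of_mem hψ₁).2 x
    have hψ₁R₂ : ∀ x : R, ψ₁ x ∈ lam.range := by
      intro x
      have hc : ψ₁ x * (lam x)⁻¹ ∈ lam.range := by
        apply hCR₂ _ (S.mul_mem (hψ₁S x) (S.inv_mem (hlamS x)))
        rw [Subgroup.mem_centralizer_iff]
        intro y hy
        obtain ⟨a, rfl⟩ := hA''lam y hy
        have ha : (x : Ω)⁻¹ * a * (x : Ω) ∈ A := by
          have := hAn (x : Ω)⁻¹ (R.inv_mem x.2) a a.2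
          simpa using this
        have h1 : Subgroup.inclusion hAR ⟨(x : Ω)⁻¹ * a * (x : Ω), ha⟩ =
            x⁻¹ * Subgroup.inclusion hAR a * x := Subtype.ext (by simp)
        have h2 := hψ₁A' ⟨(x : Ω)⁻¹ * a * (x : Ω), ha⟩
        rw [h1, map_mul, map_mul, map_inv, map_mul, map_mul, map_inv, hψ₁A' a] at h2
        generalize lam (Subgroup.inclusion hAR a) = y at h2 ⊢
        generalize ψ₁ x = u at h2 ⊢
        generalize lam x = v at h2 ⊢
        calc y * (u * v⁻¹) = u * (u⁻¹ * y * u) * v⁻¹ := by group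
          _ = u * (v⁻¹ * y * v) * v⁻¹ := by rw [h2]
          _ = u * v⁻¹ * y := by group
      have : ψ₁ x = (ψ₁ x * (lam x)⁻¹) * lam x := by group
      rw [this]
      exact Subgroup.mul_mem _ hc ⟨x, rfl⟩
    have hθ : σ.comp (ψ₁.codRestrict lam.range hψ₁R₂) ∈ F.Hom R :=
      F.comp_mem (hEF _ hψ₁) hσ hψ₁R₂
    have hθR : ∀ x : R, (σ.comp (ψ₁.codRestrict lam.range hψ₁R₂)) x ∈ R := fun x => hσR _
    have hθfix : ∀ a : A,
        (σ.comp (ψ₁.codRestrict lam.range hψ₁R₂)) (Subgroup.inclusion hAR a) = a := by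
      intro a
      show σ ⟨ψ₁ (Subgroup.inclusion hAR a), hψ₁R₂ _⟩ = a
      have h2 : (⟨ψ₁ (Subgroup.inclusion hAR a), hψ₁R₂ _⟩ : lam.range) =
          ⟨lam (Subgroup.inclusion hAR a), ⟨_, rfl⟩⟩ := Subtype.ext (hψ₁A' a)
      rw [h2, hσlam]; rfl
    obtain ⟨h, hhS, hh⟩ := hAK _ hθ hθR hθfix
    have hhR : ∀ x ∈ R, h * x * h⁻¹ ∈ R := by
      intro x hx
      rw [← hh ⟨x, hx⟩]
      exact hθR _
    have hhn : h ∈ Subgroup.normalizer (R : Set Ω) :=
      Cfsg.Agent.Lib.helper88.mem_normalizer_of_conj_mem hhR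
    have hhR' : ∀ x : R, conjHom R h⁻¹ x ∈ R := by
      intro x
      exact (Subgroup.mem_normalizer_iff.mp (Subgroup.inv_mem _ hhn) x).mp x.2
    refine Cfsg.Agent.Lib.helper89.comp_mem_of_eq E (E.conj_mem hRS (S.inv_mem hhS)) hψ₁ hhR'
      (fun x => ?_)
    have h1 := hh ⟨conjHom R h⁻¹ x, hhR' x⟩
    have h2 : (σ.comp (ψ₁.codRestrict lam.range hψ₁R₂)) ⟨conjHom R h⁻¹ x, hhR' x⟩ = x := by
      rw [h1]
      show h * (h⁻¹ * (x : Ω) * h⁻¹⁻¹) * h⁻¹ = x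
      group
    have h3 := hlamσ (ψ₁.codRestrict lam.range hψ₁R₂ ⟨conjHom R h⁻¹ x, hhR' x⟩)
    have h4 : ψ₁ ⟨conjHom R h⁻¹ x, hhR' x⟩ =
        lam ⟨σ (ψ₁.codRestrict lam.range hψ₁R₂ ⟨conjHom R h⁻¹ x, hhR' x⟩), hσR _⟩ := h3.symm
    rw [h4]
    congr 1
    exact Subtype.ext h2.symm

/-- Small-exponent abelian subgroups of the hyperfocal subgroup control fusion. -/
theorem fussmall_main [Finite S] (p : ℕ) [Fact p.Prime] (hS : IsPGroup p S)
    (E F : FusionSystem S) (hE : E.IsSaturated p) (hF : F.IsSaturated p)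
    (hEF : E.IsSubsystemOf F)
    (hodd : p ≠ 2 → ∀ A B : Subgroup Ω, A ≤ (F.hyperfocalSubgroup p) →
      B ≤ (F.hyperfocalSubgroup p) → Cfsg.IsElementaryAbelian p A →
      Cfsg.IsElementaryAbelian p B → E.homSet A B = F.homSet A B)
    (htwo : p = 2 → ∀ A B : Subgroup Ω, A ≤ (F.hyperfocalSubgroup p) →
      B ≤ (F.hyperfocalSubgroup p) → IsMulCommutative ↥A → IsMulCommutative ↥B →
      (∀ a ∈ A, a ^ 4 = 1) → (∀ b ∈ B, b ^ 4 = 1) → E.homSet A B = F.homSet A B) :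
    ∀ P : Subgroup Ω, E.Hom P = F.Hom P := by
  have hcomm : ∀ A : Subgroup Ω, (∀ x ∈ A, ∀ y ∈ A, x * y = y * x) → IsMulCommutative ↥A :=
    fun A h => ⟨⟨fun a b => Subtype.ext (h a a.2 b b.2)⟩⟩
  have hsmall : ∀ A B : Subgroup Ω, A ≤ F.hyperfocalSubgroup p → B ≤ F.hyperfocalSubgroup p →
      FusSmallAb p A → FusSmallAb p B → E.homSet A B = F.homSet A B := by
    intro A B hA hB hAs hBs
    by_cases hp : p = 2
    · exact htwo hp A B hA hB (hcomm A hAs.1) (hcomm B hBs.1) (hAs.2.2 hp) (hBs.2.2 hp)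
    · exact hodd hp A B hA hB ⟨hcomm A hAs.1, hAs.2.1 hp⟩ ⟨hcomm B hBs.1, hBs.2.1 hp⟩
  intro P
  refine Set.Subset.antisymm (hEF P) ?_
  refine Cfsg.Agent.Lib.helper89.saturated_induction F E hS hF ?_ P
  intro R hfa hrec hind α hα
  refine fussmall_aut p hS E F hE hEF hsmall R hfa hrec hind _ ?_ (fun x => (α x).2)
  exact (Cfsg.Agent.Lib.helper89.mem_autGroup_iff F hfa.1 α).mp hα

end Cfsg.Agent.Lib.helper36
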