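import Mathlib
import Cfsg.Agent.Lib.helper3.GfDefs
import Cfsg.Agent.Lib.helper3.PGroupFrattini
import Cfsg.Agent.Lib.helper2.Schmidt
import Cfsg.Agent.S3736

set_option autoImplicit false

namespace Cfsg.Agent.Lib.helper3.Gf

universe u

open scoped Pointwise commutatorElement

/-- the product trick: a normal subgroup `X ≤ P` with `X ⊔ zpowers a = ⊤`, `P ⊓ zpowers a = ⊥`. -/
theorem h36_le_of_sup_zpowers {Y : Type u} [Group Y] (P X : Subgroup Y) (a : Y) [X.Normal]
    (hXP : X ≤ P) (hdisj : P ⊓ Subgroup.zpowers a = ⊥) (htop : X ⊔ Subgroup.zpowers a = ⊤) :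
    P ≤ X := by
  intro x hx
  have hx' : x ∈ ((X ⊔ Subgroup.zpowers a : Subgroup Y) : Set Y) := by
    rw [htop]
    trivial
  rw [Subgroup.normal_mul] at hx'
  obtain ⟨n, hn, b, hb, hnb⟩ := Set.mem_mul.1 hx'
  have hbP : b ∈ P := by
    have : b = n⁻¹ * x := by rw [← hnb]; group
    rw [this]
    exact P.mul_mem (P.inv_mem (hXP hn)) hx
  have hb1 : b = 1 := by
    have : b ∈ P ⊓ Subgroup.zpowers a := ⟨hbP, hb⟩
    rw [hdisj] at this
    exact Subgroup.mem_bot.1 this
  rw [← hnb, hb1, mul_one]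
  exact hn

/-- S2, racing copy -/
theorem h36_cov_of_schmidt (p q r : ℕ) [Fact p.Prime] [Fact q.Prime] (hpq : p ≠ q) (hr : 1 ≤ r) {Y : Type u} [Group Y] [Finite Y]
    (P : Subgroup Y) (y : Y) (hPn : P.Normal) (hP : IsPGroup p ↥P) (hy : orderOf y = q ^ r)
    (hsup : P ⊔ Subgroup.zpowers y = ⊤)
    (hnil : ∀ H : Subgroup Y, H ≠ ⊤ → Group.IsNilpotent ↥H) (hnn : ¬ Group.IsNilpotent Y) :
    ∃ N : Subgroup Y, Cov p q r N P y ∧ NonGen N := by
  classical
  have hpp : p.Prime := Fact.out
  have hqp : q.Prime := Fact.out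
  -- basic facts
  have hAq : IsPGroup q ↥(Subgroup.zpowers y) := by
    apply IsPGroup.of_card (n := r)
    rw [Nat.card_zpowers, hy]
  have hdisj : P ⊓ Subgroup.zpowers y = ⊥ := by
    apply Subgroup.inf_eq_bot_of_coprime
    obtain ⟨n, hn⟩ := IsPGroup.iff_card.mp hP
    rw [hn, Nat.card_zpowers, hy]
    exact Nat.Coprime.pow _ _ ((Nat.coprime_primes hpp hqp).2 hpq)
  -- if y commutes with P then Y is nilpotent
  have hcontra : (∀ u ∈ P, y * u = u * y) → False := by
    intro hc
    apply hnn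
    have hcomm : ∀ (m : ↥P) (n : ↥(Subgroup.zpowers y)),
        Commute (P.subtype m) ((Subgroup.zpowers y).subtype n) := by
      intro m n
      obtain ⟨k, hk⟩ := Subgroup.mem_zpowers_iff.1 n.2
      have h1 : Commute (m : Y) y := (hc m.1 m.2).symm
      have h2 : Commute (m : Y) (y ^ k) := h1.zpow_right k
      show Commute (m : Y) (n : Y)
      rw [← hk]
      exact h2
    haveI : Group.IsNilpotent ↥P := hP.isNilpotent
    haveI : IsCyclic ↥(Subgroup.zpowers y) := inferInstance
    letI : CommGroup ↥(Subgroup.zpowers y) := IsCyclic.commGroup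
    haveI : Group.IsNilpotent ↥(Subgroup.zpowers y) := CommGroup.isNilpotent
    apply Group.nilpotent_of_surjective (MonoidHom.noncommCoprod P.subtype (Subgroup.zpowers y).subtype hcomm)
    rw [← MonoidHom.range_eq_top, MonoidHom.noncommCoprod_range, Subgroup.range_subtype,
      Subgroup.range_subtype]
    exact hsup
  -- proper subgroups: commuting
  have hcommute : ∀ (U A : Subgroup Y), U ≤ P → A ≤ Subgroup.zpowers y → U ⊔ A ≠ ⊤ →
      ∀ u ∈ U, ∀ a ∈ A, u * a = a * u := by
    intro U A hUP hA hne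
    exact Cfsg.Agent.Lib.helper2.commute_of_le_isNilpotent (U ⊔ A) (hnil _ hne) hpq U A le_sup_left
      le_sup_right (hP.to_le hUP) (hAq.to_le hA)
  obtain ⟨N, hN⟩ : ∃ N : Subgroup Y, N = (frattini ↥P).map P.subtype := ⟨_, rfl⟩
  have hNP : N ≤ P := by
    rw [hN]
    intro x hx
    obtain ⟨x', -, rfl⟩ := Subgroup.mem_map.1 hx
    exact x'.2
  haveI hNn : N.Normal := by
    rw [hN]
    haveI := hPn
    infer_instance
  have hPne : P ≠ ⊥ := by
    intro hP0
    apply hcontra
    intro u hu
    rw [hP0] at hu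
    rw [Subgroup.mem_bot.1 hu, mul_one, one_mul]
  have hNltP : ¬ P ≤ N := by
    intro hle
    apply hPne
    have h1 : frattini ↥P = ⊤ := by
      rw [eq_top_iff]
      intro x _
      have hx : (x : Y) ∈ N := hle x.2
      rw [hN] at hx
      obtain ⟨x', hx', hxx⟩ := Subgroup.mem_map.1 hx
      have : x' = x := Subtype.ext hxx
      rw [← this]
      exact hx'
    have h2 : (⊥ : Subgroup ↥P) = ⊤ := by
      apply frattini_nongenerating
      rw [h1, bot_sup_eq]
    rw [eq_bot_iff]
    intro x hx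
    have : (⟨x, hx⟩ : ↥P) ∈ (⊥ : Subgroup ↥P) := by
      rw [h2]
      trivial
    have h3 := Subgroup.mem_bot.1 this
    exact Subgroup.mem_bot.2 (congrArg Subtype.val h3)
  -- S3736
  have hPnorm : Subgroup.zpowers y ≤ Subgroup.normalizer (P : Set Y) := by
    rw [Subgroup.normalizer_eq_top]
    exact le_top
  have hAp : (Nat.card ↥(Subgroup.zpowers y)).Coprime p := by
    rw [Nat.card_zpowers, hy]
    exact Nat.Coprime.pow_left _ ((Nat.coprime_primes hqp hpp).2 (Ne.symm hpq))
  have hnt : ⁅P, Subgroup.zpowers y⁆ ≠ ⊥ := by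
    intro h0
    rw [Subgroup.commutator_eq_bot_iff_le_centralizer] at h0
    apply hcontra
    intro u hu
    have := h0 hu
    rw [Subgroup.mem_centralizer_iff] at this
    exact this y (Subgroup.mem_zpowers y)
  have hmin : ∀ U : Subgroup Y, U < P → Subgroup.zpowers y ≤ Subgroup.normalizer (U : Set Y) →
      ⁅U, Subgroup.zpowers y⁆ = ⊥ := by
    intro U hU hUn
    rw [Subgroup.commutator_eq_bot_iff_le_centralizer]
    have hne : U ⊔ Subgroup.zpowers y ≠ ⊤ := by
      intro htop
      have hUnorm : U.Normal := by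
        rw [← Subgroup.normalizer_eq_top_iff]
        rw [eq_top_iff, ← htop]
        exact sup_le Subgroup.le_normalizer hUn
      exact (not_le_of_gt hU) (h36_le_of_sup_zpowers P U y hU.le hdisj htop)
    intro u hu
    rw [Subgroup.mem_centralizer_iff]
    intro a ha
    exact (hcommute U (Subgroup.zpowers y) hU.le le_rfl hne u hu a ha).symm
  obtain ⟨-, hstr, hirr, -⟩ := Cfsg.Agent.S3736.result (Subgroup.zpowers y) (Subgroup.zpowers y) P hP
    hPnorm le_rfl Subgroup.le_normalizer hAp hnt hmin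
  rw [← hN] at hirr
  -- N central
  have hNcP : ∀ n ∈ N, ∀ u ∈ P, u * n = n * u := by
    intro n hn u hu
    rcases hstr with hE | hS
    · have h1 := hE.1.is_comm.comm (⟨u, hu⟩ : ↥P) ⟨n, hNP hn⟩
      exact congrArg Subtype.val h1
    · rw [hN] at hn
      obtain ⟨n', hn', rfl⟩ := Subgroup.mem_map.1 hn
      rw [hS.2.1, Subgroup.mem_center_iff] at hn'
      exact congrArg Subtype.val (hn' ⟨u, hu⟩)
  have hNy_ne : N ⊔ Subgroup.zpowers y ≠ ⊤ := by
    intro htop
    exact hNltP (h36_le_of_sup_zpowers P N y hNP hdisj htop)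
  have hNcy : ∀ n ∈ N, n * y = y * n := by
    intro n hn
    exact hcommute N (Subgroup.zpowers y) hNP le_rfl hNy_ne n hn y (Subgroup.mem_zpowers y)
  have hNc : N ≤ Subgroup.center Y := by
    intro n hn
    rw [Subgroup.mem_center_iff]
    intro g
    have hle : P ⊔ Subgroup.zpowers y ≤ Subgroup.centralizer ({n} : Set Y) := by
      apply sup_le
      · intro u hu
        rw [Subgroup.mem_centralizer_iff]
        intro m hm
        rw [Set.mem_singleton_iff] at hm
        rw [hm]
        exact (hNcP n hn u hu).symm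
      · rw [Subgroup.zpowers_le, Subgroup.mem_centralizer_iff]
        intro m hm
        rw [Set.mem_singleton_iff] at hm
        rw [hm]
        exact hNcy n hn
    have hg : g ∈ Subgroup.centralizer ({n} : Set Y) := hle (by rw [hsup]; trivial)
    rw [Subgroup.mem_centralizer_iff] at hg
    exact (hg n rfl).symm
  -- y^q centralizes P
  have hyq : ∀ u ∈ P, y ^ q * u = u * y ^ q := by
    have hne : P ⊔ Subgroup.zpowers (y ^ q) ≠ ⊤ := by
      intro htop
      have hzle : Subgroup.zpowers (y ^ q) ≤ Subgroup.zpowers y :=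
        (Subgroup.zpowers_le).2 (Subgroup.pow_mem _ (Subgroup.mem_zpowers y) q)
      have hyin : y ∈ ((P ⊔ Subgroup.zpowers (y ^ q) : Subgroup Y) : Set Y) := by
        rw [htop]
        trivial
      haveI := hPn
      rw [Subgroup.normal_mul] at hyin
      obtain ⟨u, hu, b, hb, hub⟩ := Set.mem_mul.1 hyin
      have hu1 : u = 1 := by
        have hu' : u = y * b⁻¹ := by rw [← hub]; group
        have : u ∈ P ⊓ Subgroup.zpowers y := by
          refine ⟨hu, ?_⟩
          rw [hu']
          exact Subgroup.mul_mem _ (Subgroup.mem_zpowers y) (Subgroup.inv_mem _ (hzle hb))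
        rw [hdisj] at this
        exact Subgroup.mem_bot.1 this
      rw [hu1, one_mul] at hub
      rw [hub] at hb
      have hdvd := orderOf_dvd_of_mem_zpowers hb
      rw [orderOf_pow' y hqp.ne_zero, hy] at hdvd
      have hgcd : Nat.gcd (q ^ r) q = q := Nat.gcd_eq_right (dvd_pow_self q (by omega))
      rw [hgcd] at hdvd
      have hpos : 0 < q ^ r / q := by
        apply Nat.div_pos
        · exact Nat.le_self_pow (by omega) q
        · exact hqp.pos
      have hle := Nat.le_of_dvd hpos hdvd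
      have hlt : q ^ r / q < q ^ r := Nat.div_lt_self (pow_pos hqp.pos r) hqp.one_lt
      omega
    intro u hu
    have hzle : Subgroup.zpowers (y ^ q) ≤ Subgroup.zpowers y :=
      (Subgroup.zpowers_le).2 (Subgroup.pow_mem _ (Subgroup.mem_zpowers y) q)
    exact (hcommute P (Subgroup.zpowers (y ^ q)) le_rfl hzle hne u hu (y ^ q)
      (Subgroup.mem_zpowers _)).symm
  -- conjugation by powers
  have hconj_pow : ∀ W : Subgroup Y, (∀ w ∈ W, y * w * y⁻¹ ∈ W) → ∀ k : ℕ, ∀ w ∈ W,
      y ^ k * w * (y ^ k)⁻¹ ∈ W := by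
    intro W hW k
    induction k with
    | zero => intro w hw; simpa using hw
    | succ k ih =>
      intro w hw
      have h1 := hW _ (ih w hw)
      have : y ^ (k + 1) * w * (y ^ (k + 1))⁻¹ = y * (y ^ k * w * (y ^ k)⁻¹) * y⁻¹ := by
        rw [pow_succ']
        group
      rw [this]
      exact h1
  refine ⟨N, ⟨hNP, hNc, hPn, hP, ?_, ?_, hsup, ?_, ?_, ?_, ?_, ?_⟩, ?_⟩
  · -- comm_mem
    intro u hu v hv
    have h1 : ⁅(⟨u, hu⟩ : ↥P), ⟨v, hv⟩⁆ ∈ commutator ↥P := by
      rw [commutator_def]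
      exact Subgroup.commutator_mem_commutator (Subgroup.mem_top _) (Subgroup.mem_top _)
    have h2 := Cfsg.Agent.Lib.helper3.commutator_le_frattini hP h1
    rw [hN]
    refine Subgroup.mem_map.2 ⟨_, h2, ?_⟩
    rw [commutatorElement_def]
    rfl
  · -- pow_mem
    intro u hu
    have h2 := Cfsg.Agent.Lib.helper3.pow_prime_mem_frattini hP (⟨u, hu⟩ : ↥P)
    rw [hN]
    exact Subgroup.mem_map.2 ⟨_, h2, rfl⟩
  · -- ord_dvd
    intro k hk
    have : y ^ k ∈ P ⊓ Subgroup.zpowers y := ⟨hk, Subgroup.pow_mem _ (Subgroup.mem_zpowers y) k⟩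
    rw [hdisj] at this
    rw [← hy]
    exact orderOf_dvd_of_pow_eq_one (Subgroup.mem_bot.1 this)
  · -- ord_mem
    rw [← hy, pow_orderOf_eq_one]
    exact P.one_mem
  · -- yq
    intro u hu
    have : y ^ q * u * (y ^ q)⁻¹ * u⁻¹ = 1 := by
      rw [hyq u hu]
      group
    rw [this]
    exact N.one_mem
  · -- nontriv
    by_contra hall
    push Not at hall
    apply hcontra
    intro u hu
    obtain ⟨n, hn⟩ : ∃ n, n = y * u * y⁻¹ * u⁻¹ := ⟨_, rfl⟩
    have hnN : n ∈ N := by rw [hn]; exact hall u hu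
    have hnc : ∀ g : Y, g * n = n * g := fun g => (Subgroup.mem_center_iff.1 (hNc hnN)) g
    have hconj : u⁻¹ * y * u = n * y := by
      have h1 : y * u = n * u * y := by rw [hn]; group
      have h2 : u⁻¹ * y * u = u⁻¹ * (y * u) := by group
      rw [h2, h1]
      have h3 : u⁻¹ * (n * u * y) = (u⁻¹ * n) * u * y := by group
      rw [h3, hnc u⁻¹]
      group
    have hpow : (n * y) ^ (q ^ r) = 1 := by
      rw [← hconj]
      have : (u⁻¹ * y * u) ^ (q ^ r) = u⁻¹ * y ^ (q ^ r) * u := by
        have := conj_pow (a := u⁻¹) (b := y) (i := q ^ r)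
        simpa using this
      rw [this, ← hy, pow_orderOf_eq_one]
      group
    have hcomm_ny : Commute n y := (hnc y).symm
    have hn1 : n ^ (q ^ r) = 1 := by
      rw [hcomm_ny.mul_pow, ← hy, pow_orderOf_eq_one, mul_one, hy] at hpow
      exact hpow
    have hn_one : n = 1 := by
      obtain ⟨k, hk⟩ := hP ⟨n, hNP hnN⟩
      have hk' : n ^ (p ^ k) = 1 := congrArg Subtype.val hk
      have hd1 : orderOf n ∣ q ^ r := orderOf_dvd_of_pow_eq_one hn1
      have hd2 : orderOf n ∣ p ^ k := orderOf_dvd_of_pow_eq_one hk'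
      have hcop : Nat.Coprime (q ^ r) (p ^ k) :=
        Nat.Coprime.pow _ _ ((Nat.coprime_primes hqp hpp).2 (Ne.symm hpq))
      have h1 : orderOf n = 1 := Nat.eq_one_of_dvd_coprimes hcop hd1 hd2
      exact orderOf_eq_one_iff.1 h1
    rw [hn_one, one_mul] at hconj
    have : y * u = u * (u⁻¹ * y * u) := by group
    rw [this, hconj]
  · -- irr
    intro W hNW hWP hW
    apply hirr W hNW hWP
    rw [Subgroup.zpowers_le, Subgroup.mem_normalizer_iff]
    intro h
    constructor
    · exact fun hh => hW h hh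
    · intro hh
      have hk := hconj_pow W hW (orderOf y - 1) _ hh
      have hpos : 0 < orderOf y := by rw [hy]; exact pow_pos hqp.pos r
      have : y ^ (orderOf y - 1) * (y * h * y⁻¹) * (y ^ (orderOf y - 1))⁻¹ = h := by
        have h1 : y ^ (orderOf y - 1) * y = 1 := by
          rw [← pow_succ, Nat.sub_add_cancel hpos, pow_orderOf_eq_one]
        have h2 : y ^ (orderOf y - 1) = y⁻¹ := eq_inv_of_mul_eq_one_left h1
        rw [h2]
        group
      rw [this] at hk
      exact hk
  · -- NonGen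
    intro S hS
    have hPS : P ≤ S := by
      have hsub : S.subgroupOf P = ⊤ := by
        apply frattini_nongenerating
        rw [eq_top_iff]
        intro x _
        have hx : (x : Y) ∈ ((S ⊔ N : Subgroup Y) : Set Y) := by
          rw [hS]
          trivial
        rw [Subgroup.mul_normal] at hx
        obtain ⟨s, hs, n, hn, hsn⟩ := Set.mem_mul.1 hx
        have hsP : s ∈ P := by
          have : s = x * n⁻¹ := by rw [← hsn]; group
          rw [this]
          exact P.mul_mem x.2 (P.inv_mem (hNP hn))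
        rw [hN] at hn
        obtain ⟨n', hn', hnn'⟩ := Subgroup.mem_map.1 hn
        have hxe : x = ⟨s, hsP⟩ * n' := by
          apply Subtype.ext
          show (x : Y) = s * (n' : Y)
          have : (n' : Y) = n := hnn'
          rw [this, hsn]
        rw [hxe]
        exact Subgroup.mul_mem_sup (Subgroup.mem_subgroupOf.2 hs) hn'
      exact Subgroup.subgroupOf_eq_top.1 hsub
    have hNS : N ≤ S := hNP.trans hPS
    rw [← hS]
    exact (sup_eq_left.2 hNS).symm

end Cfsg.Agent.Lib.helper3.Gf
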