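import Mathlib
import Cfsg.Agent.Lib.helper76.KazGroup
import Cfsg.Agent.Lib.helper76.SylowBasic
import Cfsg.Agent.Lib.helper55.Conj
import Cfsg.Agent.Lib.helper62.SpectrumLarge
import Cfsg.Agent.Lib.helper53.PCore

/-!
# Involution classes with `p`-power products (helper36)

Reduction of the "Z*-type result for an odd prime" (a class of involutions whose pairwise products
are `p`-elements generates, via its products, a normal `p`-subgroup) to Glauberman's Z*-theorem,
which is taken as an explicit hypothesis `ZStarHyp`, and Kazarin's theorem.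
-/

set_option autoImplicit false

namespace Cfsg.Agent.Lib.helper36

universe u

/-- The statement of Glauberman's Z*-theorem at universe `u`, used as a hypothesis. -/
def ZStarHyp : Prop :=
  ∀ (G : Type u) [Group G] [Finite G] (P : Sylow 2 G) (t : G), orderOf t = 2 → t ∈ P →
    (∀ g : G, g * t * g⁻¹ ∈ P → g * t * g⁻¹ = t) →
    ∃ N : Subgroup G, N.Normal ∧ Odd (Nat.card N) ∧ ∀ g : G, (t * g * t⁻¹ * g⁻¹) ∈ N

/-- Two involutions whose product has odd order are conjugate by a power of the product. -/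
theorem invol_conj_of_odd {G : Type*} [Group G] (a b : G) (ha : a * a = 1) (hb : b * b = 1) (j : ℕ)
    (h : (a * b) ^ (2 * j + 1) = 1) : (a * b) ^ (j + 1) * b * ((a * b) ^ (j + 1))⁻¹ = a := by
  have hb' : b⁻¹ = b := inv_eq_of_mul_eq_one_left hb
  have ha' : a⁻¹ = a := inv_eq_of_mul_eq_one_left ha
  have h1 : SemiconjBy b (a * b)⁻¹ (a * b) := by
    unfold SemiconjBy
    rw [mul_inv_rev, hb', ha', ← mul_assoc, hb, one_mul, mul_assoc, hb, mul_one]
  have h2 := h1.pow_right (j + 1)
  rw [← inv_pow, mul_assoc, h2.eq, ← mul_assoc, ← pow_add]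
  have e : j + 1 + (j + 1) = (2 * j + 1) + 1 := by ring
  rw [e, pow_succ, h, one_mul, mul_assoc, hb, mul_one]

/-- An element whose order is a power of `p` and which is killed by a power of a different prime
is trivial. -/
theorem eq_one_of_prime_pow_orders {G : Type*} [Group G] {p q : ℕ} (hp : p.Prime) (hq : q.Prime)
    (hpq : p ≠ q) (x : G) (k m : ℕ) (h1 : orderOf x = p ^ k) (h2 : x ^ (q ^ m) = 1) : x = 1 := by
  have hd : orderOf x ∣ q ^ m := orderOf_dvd_of_pow_eq_one h2
  rw [h1] at hd
  have hc : Nat.Coprime (p ^ k) (q ^ m) := Nat.Coprime.pow _ _ ((Nat.coprime_primes hp hq).mpr hpq)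
  have h3 : p ^ k = 1 := Nat.Coprime.eq_one_of_dvd hc hd
  rw [h3] at h1
  exact orderOf_eq_one_iff.mp h1

/-- Under the conclusion of the Z*-theorem, the conjugacy class of `d` has `p`-power size. -/
theorem index_centralizer_prime_pow {G : Type*} [Group G] [Finite G] {p : ℕ} (hp : p.Prime)
    (hp2 : p ≠ 2) (d : G) (hd : orderOf d = 2)
    (hprod : ∀ a ∈ conjugatesOf d, ∀ b ∈ conjugatesOf d, ∃ k : ℕ, orderOf (a * b) = p ^ k)
    (R : Subgroup G) (hRn : R.Normal) (hRodd : Odd (Nat.card R))
    (hR : ∀ g : G, d * g * d⁻¹ * g⁻¹ ∈ R) :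
    ∃ e : ℕ, (Subgroup.centralizer ({d} : Set G)).index = p ^ e := by
  classical
  have : Fact p.Prime := ⟨hp⟩
  have : Fact (Nat.Prime 2) := ⟨Nat.prime_two⟩
  have hpodd : Odd p := hp.odd_of_ne_two hp2
  have hdd : d * d = 1 := by rw [← pow_two, ← hd, pow_orderOf_eq_one]
  have hdinv : d⁻¹ = d := inv_eq_of_mul_eq_one_left hdd
  have hdK : d ∈ conjugatesOf d := mem_conjugatesOf_self
  have hconjK : ∀ g : G, g * d * g⁻¹ ∈ conjugatesOf d := fun g =>
    isConj_iff.mpr ⟨g, rfl⟩
  have hinvK : ∀ g : G, (g * d * g⁻¹) * (g * d * g⁻¹) = 1 := by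
    intro g
    have e : (g * d * g⁻¹) * (g * d * g⁻¹) = g * (d * d) * g⁻¹ := by group
    rw [e, hdd]; group
  set C := Subgroup.centralizer ({d} : Set G) with hC
  -- G = R ⊔ C
  have hsup : R ⊔ C = ⊤ := by
    rw [eq_top_iff]
    intro g _
    obtain ⟨k, hk⟩ := hprod d hdK (g * d * g⁻¹) (hconjK g)
    obtain ⟨j, hj⟩ := Odd.pow (n := k) hpodd
    have hx : d * (g * d * g⁻¹) ∈ R := by
      have h1 := hR g
      rw [hdinv] at h1
      have e : d * (g * d * g⁻¹) = d * g * d * g⁻¹ := by group
      rw [e]; exact h1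
    have hpow : (d * (g * d * g⁻¹)) ^ (2 * j + 1) = 1 := by
      rw [← hj, ← hk]; exact pow_orderOf_eq_one _
    have hw := invol_conj_of_odd d (g * d * g⁻¹) hdd (hinvK g) j hpow
    have hwR : (d * (g * d * g⁻¹)) ^ (j + 1) ∈ R := pow_mem hx _
    generalize (d * (g * d * g⁻¹)) ^ (j + 1) = w at hw hwR
    have hwgC : w * g ∈ C := by
      rw [hC, Subgroup.mem_centralizer_singleton_iff]
      have e : w * g * d = (w * (g * d * g⁻¹) * w⁻¹) * (w * g) := by group
      rw [e, hw]
    have e : g = w⁻¹ * (w * g) := by group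
    rw [e]
    exact Subgroup.mul_mem_sup (inv_mem hwR) hwgC
  -- card identity
  have hidx : Nat.card ↥(C.subgroupOf R) * C.index = Nat.card R := by
    have h1 : C.relIndex (R ⊔ C) = C.relIndex R :=
      Cfsg.Agent.Lib.helper76.relIndex_sup_of_normal C R
    rw [hsup, Subgroup.relIndex_top_right] at h1
    rw [h1]
    exact Subgroup.card_mul_index (C.subgroupOf R)
  have hR0 : Nat.card R ≠ 0 := Nat.card_pos.ne'
  -- primes
  have hq : ∀ q : ℕ, q.Prime → q ∣ C.index → q = p := by
    intro q hq hqdvd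
    by_contra hne
    have : Fact q.Prime := ⟨hq⟩
    have hdn : d ∈ Subgroup.normalizer (R : Set G) := by
      rw [Subgroup.normalizer_eq_top]; trivial
    have hcop : (Nat.card R).Coprime 2 := Nat.Coprime.symm (Nat.coprime_two_left.mpr hRodd)
    obtain ⟨T, hTR, hTcard, hdT⟩ := Cfsg.Agent.Lib.helper55.exists_invariant_sylow (p := 2)
      (q := q) R d (by rw [pow_two]; exact hdd) hdn hcop
    have hTC : T ≤ C := by
      intro y hy
      obtain ⟨k, hk⟩ := hprod (y * d * y⁻¹) (hconjK y) d hdK
      have hxT : y * d * y⁻¹ * d ∈ T := by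
        have h1 : d * y⁻¹ * d⁻¹ ∈ T := (Subgroup.mem_normalizer_iff.mp hdT y⁻¹).mp (inv_mem hy)
        have h2 : y * d * y⁻¹ * d = y * (d * y⁻¹ * d⁻¹) := by rw [hdinv]; group
        rw [h2]; exact mul_mem hy h1
      have hpowT : (y * d * y⁻¹ * d) ^ (q ^ (Nat.card R).factorization q) = 1 := by
        rw [← hTcard]
        have h3 := pow_card_eq_one' (G := T) (x := ⟨_, hxT⟩)
        have h4 := congrArg Subtype.val h3
        rw [Subgroup.coe_pow] at h4
        exact h4
      have h1 := eq_one_of_prime_pow_orders hp hq (Ne.symm hne) _ k _ hk hpowT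
      rw [hC, Subgroup.mem_centralizer_singleton_iff]
      have h4 : y * d * y⁻¹ = d := by
        have h5 : y * d * y⁻¹ = (y * d * y⁻¹ * d) * d⁻¹ := by group
        rw [h5, h1, one_mul, hdinv]
      have h6 : y * d = (y * d * y⁻¹) * y := by group
      rw [h6, h4]
    have hdvd : q ^ (Nat.card R).factorization q ∣ Nat.card ↥(C.subgroupOf R) := by
      rw [← hTcard]
      have h1 : T.subgroupOf R ≤ C.subgroupOf R := by
        intro x hx
        exact hTC hx
      have h2 : Nat.card ↥(T.subgroupOf R) = Nat.card T :=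
        Nat.card_congr (Subgroup.subgroupOfEquivOfLe hTR).toEquiv
      rw [← h2]; exact Subgroup.card_dvd_of_le h1
    have hbad : q ^ ((Nat.card R).factorization q + 1) ∣ Nat.card R := by
      have h7 : q ^ ((Nat.card R).factorization q + 1) ∣ Nat.card ↥(C.subgroupOf R) * C.index := by
        rw [pow_succ]; exact mul_dvd_mul hdvd hqdvd
      rw [hidx] at h7; exact h7
    exact Nat.pow_succ_factorization_not_dvd hR0 hq hbad
  exact ⟨_, Nat.eq_prime_pow_of_unique_prime_dvd (Subgroup.index_ne_zero_of_finite)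
    (fun {q} h1 h2 => hq q h1 h2)⟩

/-- The set of products of two conjugates of `d`. -/
def prodSet {G : Type*} [Group G] (d : G) : Set G :=
  {x : G | ∃ a ∈ conjugatesOf d, ∃ b ∈ conjugatesOf d, x = a * b}

/-- Main induction: the products of two conjugates of `d` generate a `p`-group. -/
theorem invclass_aux (hZ : ZStarHyp.{u}) {p : ℕ} (hp : p.Prime) (hp2 : p ≠ 2) :
    ∀ (n : ℕ) (G : Type u) [Group G] [Finite G], Nat.card G = n → ∀ d : G, orderOf d = 2 →
      (∀ a ∈ conjugatesOf d, ∀ b ∈ conjugatesOf d, ∃ k : ℕ, orderOf (a * b) = p ^ k) →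
      IsPGroup p ↥(Subgroup.closure (prodSet d)) := by
  intro n
  induction n using Nat.strong_induction_on with
  | _ n ih =>
  intro G _ _ hn d hd hprod
  classical
  have : Fact p.Prime := ⟨hp⟩
  have : Fact (Nat.Prime 2) := ⟨Nat.prime_two⟩
  have hpodd : Odd p := hp.odd_of_ne_two hp2
  have hdd : d * d = 1 := by rw [← pow_two, ← hd, pow_orderOf_eq_one]
  have hdinv : d⁻¹ = d := inv_eq_of_mul_eq_one_left hdd
  have hd1 : d ≠ 1 := by
    intro h; rw [h, orderOf_one] at hd; norm_num at hd
  have hdK : d ∈ conjugatesOf d := mem_conjugatesOf_self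
  have hconjK : ∀ g : G, g * d * g⁻¹ ∈ conjugatesOf d := fun g => isConj_iff.mpr ⟨g, rfl⟩
  have hKinv : ∀ a ∈ conjugatesOf d, a * a = 1 := by
    intro a ha
    obtain ⟨g, rfl⟩ := isConj_iff.mp ha
    have e : (g * d * g⁻¹) * (g * d * g⁻¹) = g * (d * d) * g⁻¹ := by group
    rw [e, hdd]; group
  have hKinv' : ∀ a ∈ conjugatesOf d, a⁻¹ = a := fun a ha =>
    inv_eq_of_mul_eq_one_left (hKinv a ha)
  have hKconj : ∀ a ∈ conjugatesOf d, ∀ g : G, g * a * g⁻¹ ∈ conjugatesOf d := by
    intro a ha g
    obtain ⟨h, rfl⟩ := isConj_iff.mp ha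
    exact isConj_iff.mpr ⟨g * h, by group⟩
  -- Z*
  obtain ⟨P, hP⟩ : ∃ P : Sylow 2 G, Subgroup.zpowers d ≤ P := by
    apply IsPGroup.exists_le_sylow
    apply IsPGroup.of_card (n := 1)
    rw [Nat.card_zpowers, hd, pow_one]
  have hdP : d ∈ P := hP (Subgroup.mem_zpowers d)
  have hiso : ∀ g : G, g * d * g⁻¹ ∈ P → g * d * g⁻¹ = d := by
    intro g hg
    obtain ⟨k, hk⟩ := hprod d hdK (g * d * g⁻¹) (hconjK g)
    have hmem : d * (g * d * g⁻¹) ∈ (P : Subgroup G) := mul_mem hdP hg
    obtain ⟨m, hm⟩ := P.isPGroup' ⟨_, hmem⟩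
    have hm' : (d * (g * d * g⁻¹)) ^ (2 ^ m) = 1 := by
      have h4 := congrArg Subtype.val hm
      rw [Subgroup.coe_pow] at h4
      exact h4
    have h1 := eq_one_of_prime_pow_orders hp Nat.prime_two hp2 _ k m hk hm'
    have h2 : g * d * g⁻¹ = d⁻¹ * (d * (g * d * g⁻¹)) := by group
    rw [h2, h1, mul_one, hdinv]
  obtain ⟨R, hRn, hRodd, hR⟩ := hZ G P d hd hdP hiso
  obtain ⟨e, he⟩ := index_centralizer_prime_pow hp hp2 d hd hprod R hRn hRodd hR
  have hsolv : Group.IsSolvable ↥(Subgroup.normalClosure ({d} : Set G)) :=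
    Cfsg.Agent.Lib.helper76.kazarin hp d e he
  have hne : Subgroup.normalClosure ({d} : Set G) ≠ ⊥ := by
    intro h
    have h1 : d ∈ Subgroup.normalClosure ({d} : Set G) :=
      Subgroup.subset_normalClosure (Set.mem_singleton d)
    rw [h, Subgroup.mem_bot] at h1
    exact hd1 h1
  obtain ⟨r, V, hr, hVn, hV1, hVexp⟩ :=
    Cfsg.Agent.Lib.helper62.exists_normal_prime_exponent
      (Subgroup.normalClosure ({d} : Set G)) hne hsolv
  -- the subgroup N
  set N := Subgroup.closure (prodSet d) with hN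
  by_cases hdV : d ∈ V
  · -- all products are trivial
    have hall : ∀ x ∈ prodSet d, x = 1 := by
      rintro x ⟨a, ha, b, hb, rfl⟩
      obtain ⟨k, hk⟩ := hprod a ha b hb
      have haV : a ∈ V := by
        obtain ⟨g, rfl⟩ := isConj_iff.mp ha
        exact hVn.conj_mem d hdV g
      have hbV : b ∈ V := by
        obtain ⟨g, rfl⟩ := isConj_iff.mp hb
        exact hVn.conj_mem d hdV g
      have hrp : r ≠ p := by
        rintro rfl
        have h1 := hVexp d hdV
        have h2 : orderOf d ∣ r := orderOf_dvd_of_pow_eq_one h1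
        rw [hd] at h2
        exact hp2 ((Nat.prime_dvd_prime_iff_eq Nat.prime_two hp).mp h2).symm
      exact eq_one_of_prime_pow_orders hp hr (Ne.symm hrp) _ k 1 hk
        (by rw [pow_one]; exact hVexp _ (mul_mem haV hbV))
    have hNbot : N ≤ ⊥ := by
      rw [hN, Subgroup.closure_le]
      intro x hx
      rw [hall x hx]; exact Subgroup.mem_bot.mpr rfl
    intro x
    refine ⟨0, ?_⟩
    have h1 := hNbot x.2
    rw [Subgroup.mem_bot] at h1
    ext
    rw [Subgroup.coe_pow, h1, one_pow]; rfl
  · -- main case: pass to G ⧸ V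
    have hVcard : 1 < Nat.card V := V.one_lt_card_iff_ne_bot.mpr hV1
    have hcard : Nat.card (G ⧸ V) < n := by
      have h1 := Subgroup.card_eq_card_quotient_mul_card_subgroup V
      rw [hn] at h1
      have h2 : 0 < Nat.card (G ⧸ V) := Nat.card_pos
      nlinarith
    let π : G →* G ⧸ V := QuotientGroup.mk' V
    have hπd : orderOf (π d) = 2 := by
      apply orderOf_eq_prime
      · rw [← map_pow, pow_two, hdd, map_one]
      · intro h
        exact hdV ((QuotientGroup.eq_one_iff d).mp h)
    have hprod' : ∀ a ∈ conjugatesOf (π d), ∀ b ∈ conjugatesOf (π d),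
        ∃ k : ℕ, orderOf (a * b) = p ^ k := by
      intro a ha b hb
      obtain ⟨g, rfl⟩ := isConj_iff.mp ha
      obtain ⟨h, rfl⟩ := isConj_iff.mp hb
      obtain ⟨g, rfl⟩ := QuotientGroup.mk'_surjective V g
      obtain ⟨h, rfl⟩ := QuotientGroup.mk'_surjective V h
      obtain ⟨k, hk⟩ := hprod _ (hconjK g) _ (hconjK h)
      have h1 : (QuotientGroup.mk' V g) * π d * (QuotientGroup.mk' V g)⁻¹ *
          ((QuotientGroup.mk' V h) * π d * (QuotientGroup.mk' V h)⁻¹) =
          π ((g * d * g⁻¹) * (h * d * h⁻¹)) := by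
        simp [π]
      rw [h1]
      have h2 : orderOf (π ((g * d * g⁻¹) * (h * d * h⁻¹))) ∣ p ^ k := by
        rw [← hk]; exact orderOf_map_dvd π _
      obtain ⟨k', _, hk'⟩ := (Nat.dvd_prime_pow hp).mp h2
      exact ⟨k', hk'⟩
    have hIH := ih (Nat.card (G ⧸ V)) hcard (G ⧸ V) rfl (π d) hπd hprod'
    have hmap : ∀ x ∈ N, ∃ k : ℕ, x ^ (p ^ k) ∈ V := by
      intro x hx
      have hle : N ≤ (Subgroup.closure (prodSet (π d))).comap π := by
        rw [hN, Subgroup.closure_le]
        rintro y ⟨a, ha, b, hb, rfl⟩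
        apply Subgroup.subset_closure
        refine ⟨π a, ?_, π b, ?_, map_mul π a b⟩
        · exact MonoidHom.map_isConj π ha
        · exact MonoidHom.map_isConj π hb
      have hx' : π x ∈ Subgroup.closure (prodSet (π d)) := hle hx
      obtain ⟨k, hk⟩ := hIH ⟨π x, hx'⟩
      refine ⟨k, ?_⟩
      have h4 := congrArg Subtype.val hk
      rw [Subgroup.coe_pow] at h4
      rw [← map_pow] at h4
      exact (QuotientGroup.eq_one_iff _).mp h4
    by_cases hrp : r = p
    · subst hrp
      intro x
      obtain ⟨k, hk⟩ := hmap x x.2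
      refine ⟨k + 1, ?_⟩
      ext
      rw [Subgroup.coe_pow, pow_succ, pow_mul]
      exact hVexp _ hk
    · -- r ≠ p: K centralizes V
      have hKV : ∀ a ∈ conjugatesOf d, ∀ v ∈ V, v * a = a * v := by
        intro a ha v hv
        obtain ⟨k, hk⟩ := hprod (v * a * v⁻¹) (hKconj a ha v) a ha
        have hxV : v * a * v⁻¹ * a ∈ V := by
          have h1 : a * v⁻¹ * a⁻¹ ∈ V := hVn.conj_mem _ (inv_mem hv) a
          have h2 : v * a * v⁻¹ * a = v * (a * v⁻¹ * a⁻¹) := by rw [hKinv' a ha]; group
          rw [h2]; exact mul_mem hv h1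
        have h1 := eq_one_of_prime_pow_orders hp hr (Ne.symm hrp) _ k 1 hk
          (by rw [pow_one]; exact hVexp _ hxV)
        have h4 : v * a * v⁻¹ = a := by
          have h5 : v * a * v⁻¹ = (v * a * v⁻¹ * a) * a⁻¹ := by group
          rw [h5, h1, one_mul, hKinv' a ha]
        have h6 : v * a = (v * a * v⁻¹) * v := by group
        rw [h6, h4]
      have hNV : ∀ x ∈ N, ∀ v ∈ V, v * x = x * v := by
        intro x hx v hv
        have hle : N ≤ Subgroup.centralizer ({v} : Set G) := by
          rw [hN, Subgroup.closure_le]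
          rintro y ⟨a, ha, b, hb, rfl⟩
          rw [SetLike.mem_coe, Subgroup.mem_centralizer_singleton_iff]
          rw [mul_assoc, ← hKV b hb v hv, ← mul_assoc, ← hKV a ha v hv, mul_assoc]
        have h1 := hle hx
        rw [Subgroup.mem_centralizer_singleton_iff] at h1
        exact h1.symm
      -- nilpotency
      let Z : Subgroup N := V.subgroupOf N
      have hZc : Z ≤ Subgroup.center N := by
        intro z hz
        rw [Subgroup.mem_center_iff]
        intro y
        ext
        simp only [Subgroup.coe_mul]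
        exact (hNV y y.2 z (Subgroup.mem_subgroupOf.mp hz)).symm
      have hQ : IsPGroup p (N ⧸ Z) := by
        intro y
        induction y using QuotientGroup.induction_on with
        | _ x =>
          obtain ⟨k, hk⟩ := hmap x x.2
          refine ⟨k, ?_⟩
          rw [← QuotientGroup.mk_pow, QuotientGroup.eq_one_iff]
          exact Subgroup.mem_subgroupOf.mpr (by simpa using hk)
      have hnilQ : Group.IsNilpotent (N ⧸ Z) := hQ.isNilpotent
      have hnil : Group.IsNilpotent N :=
        Subgroup.isNilpotent_of_ker_le_center (QuotientGroup.mk' Z)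
          (by rw [QuotientGroup.ker_mk']; exact hZc)
      obtain ⟨S⟩ : Nonempty (Sylow p N) := inferInstance
      have hSn : (S : Subgroup N).Normal :=
        Sylow.normal_of_normalizerCondition Group.normalizerCondition_of_isNilpotent S
      have hgen : ∀ x : N, (x : G) ∈ prodSet d → x ∈ S := by
        intro x hx
        obtain ⟨a, ha, b, hb, hxab⟩ := hx
        obtain ⟨k, hk⟩ := hprod a ha b hb
        apply Cfsg.Agent.Lib.helper76.mem_sylow_of_normalizes p S x
        · refine ⟨k, ?_⟩
          rw [← hk, ← hxab]; exact (Subgroup.orderOf_coe x).symm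
        · intro y hy; exact hSn.conj_mem y hy x
      have hStop : (S : Subgroup N) = ⊤ := by
        rw [eq_top_iff, ← Subgroup.closure_closure_coe_preimage (k := prodSet d)]
        rw [Subgroup.closure_le]
        intro x hx
        exact hgen x hx
      intro x
      have hxS : x ∈ (S : Subgroup N) := by rw [hStop]; trivial
      obtain ⟨k, hk⟩ := S.isPGroup' ⟨x, hxS⟩
      refine ⟨k, ?_⟩
      have h4 := congrArg Subtype.val hk
      rw [Subgroup.coe_pow] at h4
      exact h4

/-- The closure of a conjugation-invariant set is a normal subgroup. -/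
theorem closure_normal_of_conj_inv {G : Type*} [Group G] (s : Set G)
    (hs : ∀ g x, x ∈ s → g * x * g⁻¹ ∈ s) : (Subgroup.closure s).Normal := by
  constructor
  intro n hn g
  have hle : Subgroup.closure s ≤ (Subgroup.closure s).comap (MulAut.conj g).toMonoidHom := by
    rw [Subgroup.closure_le]
    intro x hx
    exact Subgroup.subset_closure (hs g x hx)
  exact hle hn

/-- Assuming the Z*-theorem: if `d` is an involution such that the product of any two conjugates
of `d` has `p`-power order (`p` odd), then these products lie in `O_p(G)`. -/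
theorem invclass_mem_pCore (hZ : ZStarHyp.{u}) {G : Type u} [Group G] [Finite G] {p : ℕ}
    (hp : p.Prime) (hp2 : p ≠ 2) (d : G) (hd : orderOf d = 2)
    (hprod : ∀ a ∈ conjugatesOf d, ∀ b ∈ conjugatesOf d, ∃ k : ℕ, orderOf (a * b) = p ^ k) :
    ∀ a ∈ conjugatesOf d, ∀ b ∈ conjugatesOf d, a * b ∈ Cfsg.pCore p G := by
  intro a ha b hb
  have hpg := invclass_aux hZ hp hp2 (Nat.card G) G rfl d hd hprod
  have hnorm : (Subgroup.closure (prodSet d)).Normal := by
    apply closure_normal_of_conj_inv
    rintro g x ⟨a, ha, b, hb, rfl⟩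
    obtain ⟨h, rfl⟩ := isConj_iff.mp ha
    obtain ⟨h', rfl⟩ := isConj_iff.mp hb
    refine ⟨g * (h * d * h⁻¹) * g⁻¹, isConj_iff.mpr ⟨g * h, by group⟩,
      g * (h' * d * h'⁻¹) * g⁻¹, isConj_iff.mpr ⟨g * h', by group⟩, by group⟩
  exact Cfsg.Agent.Lib.helper53.le_pCore hnorm hpg
    (Subgroup.subset_closure ⟨a, ha, b, hb, rfl⟩)

/-- Assuming the Z*-theorem: a group generated by a class of involutions whose pairwise products
(of distinct members) have `p`-power order, `p` odd, has nilpotent derived subgroup. -/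
theorem invclass_derived_nilpotent (hZ : ZStarHyp.{u}) {G : Type u} [Group G] [Finite G] (p : ℕ)
    (hp : p.Prime) (hodd : p ≠ 2) {D : Set G} (hinv : ∀ d ∈ D, orderOf d = 2)
    (hconj : ∃ d ∈ D, D = conjugatesOf d) (hgen : Subgroup.closure D = ⊤)
    (hprod : ∀ x ∈ D, ∀ y ∈ D, x ≠ y → ∃ k : ℕ, orderOf (x * y) = p ^ k) :
    Group.IsNilpotent ↥(commutator G) := by
  obtain ⟨d, hdD, rfl⟩ := hconj
  have : Fact p.Prime := ⟨hp⟩
  have hd := hinv d hdD
  have hdd : d * d = 1 := by rw [← pow_two, ← hd, pow_orderOf_eq_one]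
  have hprod' : ∀ a ∈ conjugatesOf d, ∀ b ∈ conjugatesOf d,
      ∃ k : ℕ, orderOf (a * b) = p ^ k := by
    intro a ha b hb
    by_cases hab : a = b
    · subst hab
      refine ⟨0, ?_⟩
      have h2 := hinv a ha
      have h3 : a * a = 1 := by rw [← pow_two, ← h2, pow_orderOf_eq_one]
      rw [h3, orderOf_one, pow_zero]
    · exact hprod a ha b hb hab
  have hcore := invclass_mem_pCore hZ hp hodd d hd hprod'
  have hOn : (Cfsg.pCore p G).Normal := Cfsg.Agent.Lib.helper53.pCore_normal p G
  let π : G →* G ⧸ Cfsg.pCore p G := QuotientGroup.mk' (Cfsg.pCore p G)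
  -- every element maps to a power of `π d`
  have hall : ∀ g : G, π g ∈ Subgroup.zpowers (π d) := by
    intro g
    have hle : Subgroup.closure (conjugatesOf d) ≤ (Subgroup.zpowers (π d)).comap π := by
      rw [Subgroup.closure_le]
      intro a ha
      have h1 : a * d ∈ Cfsg.pCore p G := hcore a ha d mem_conjugatesOf_self
      have h2 : π (a * d) = 1 := (QuotientGroup.eq_one_iff _).mpr h1
      have h3 : π d * π d = 1 := by rw [← map_mul, hdd, map_one]
      have h4 : π a = π d := by
        rw [map_mul] at h2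
        calc π a = π a * (π d * π d) := by rw [h3, mul_one]
          _ = (π a * π d) * π d := by rw [mul_assoc]
          _ = π d := by rw [h2, one_mul]
      show π a ∈ Subgroup.zpowers (π d)
      rw [h4]; exact Subgroup.mem_zpowers _
    have hg : g ∈ Subgroup.closure (conjugatesOf d) := by rw [hgen]; trivial
    exact hle hg
  have hcomm : commutator G ≤ Cfsg.pCore p G := by
    rw [commutator_def, Subgroup.commutator_le]
    intro g _ h _
    obtain ⟨i, hi⟩ := Subgroup.mem_zpowers_iff.mp (hall g)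
    obtain ⟨j, hj⟩ := Subgroup.mem_zpowers_iff.mp (hall h)
    have h1 : π (g * h * g⁻¹ * h⁻¹) = 1 := by
      rw [map_mul, map_mul, map_mul, map_inv, map_inv, ← hi, ← hj]
      group
    exact (QuotientGroup.eq_one_iff _).mp h1
  have hpg : IsPGroup p ↥(commutator G) :=
    (Cfsg.Agent.Lib.helper53.pCore_isPGroup p G).to_le hcomm
  exact hpg.isNilpotent

end Cfsg.Agent.Lib.helper36
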