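import Mathlib
import Cfsg.Prelude.Def_LocalEven
import Cfsg.Agent.Lib.helper27.Radical
import Cfsg.Agent.Lib.helper40.Cores
import Cfsg.Agent.Lib.helper53.Conj

set_option autoImplicit false
set_option linter.style.haveILetI false
set_option linter.unusedSectionVars false

namespace Cfsg.Agent.Lib.helper36

open Cfsg
open Cfsg.Agent.Lib.helper53

variable {G : Type*} [Group G]

/-! ### Maximal `p`-local subgroups of groups of local characteristic `p` (KS 10.1) -/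

/-- `M` is a `p`-local subgroup: the normalizer of a nontrivial `p`-subgroup. -/
def IsPLocalSub (p : ℕ) (M : Subgroup G) : Prop :=
  ∃ T : Subgroup G, IsPGroup p T ∧ T ≠ ⊥ ∧ M = Subgroup.normalizer (T : Set G)

/-- `M` is a maximal `p`-local subgroup. -/
def IsMaxPLocalSub (p : ℕ) (M : Subgroup G) : Prop :=
  IsPLocalSub p M ∧ ∀ L : Subgroup G, IsPLocalSub p L → M ≤ L → L = M

theorem IsPLocalSub.conj {p : ℕ} {M : Subgroup G} (hM : IsPLocalSub p M) (g : G) :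
    IsPLocalSub p (M.map (MulAut.conj g).toMonoidHom) := by
  obtain ⟨T, hT, hT1, rfl⟩ := hM
  exact ⟨T.map (MulAut.conj g).toMonoidHom, isPGroup_conj hT g, conj_ne_bot hT1 g,
    (normalizer_conj T g).symm⟩

theorem conj_conj_inv (Q : Subgroup G) (g : G) :
    (Q.map (MulAut.conj g⁻¹).toMonoidHom).map (MulAut.conj g).toMonoidHom = Q := by
  rw [conj_conj, mul_inv_cancel, conj_one]

theorem conj_inv_conj (Q : Subgroup G) (g : G) :
    (Q.map (MulAut.conj g).toMonoidHom).map (MulAut.conj g⁻¹).toMonoidHom = Q := by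
  rw [conj_conj, inv_mul_cancel, conj_one]

theorem IsMaxPLocalSub.conj {p : ℕ} {M : Subgroup G} (hM : IsMaxPLocalSub p M) (g : G) :
    IsMaxPLocalSub p (M.map (MulAut.conj g).toMonoidHom) := by
  refine ⟨hM.1.conj g, ?_⟩
  intro L hL hML
  have h1 : M ≤ L.map (MulAut.conj g⁻¹).toMonoidHom := by
    have := conj_mono hML g⁻¹
    rwa [conj_inv_conj] at this
  have h2 := hM.2 _ (hL.conj g⁻¹) h1
  rw [← h2, conj_conj_inv]

theorem exists_le_isMaxPLocalSub [Finite G] {p : ℕ} {L : Subgroup G} (hL : IsPLocalSub p L) :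
    ∃ M : Subgroup G, IsMaxPLocalSub p M ∧ L ≤ M := by
  obtain ⟨M, hLM, hM⟩ := Finite.exists_le_maximal (p := fun M : Subgroup G => IsPLocalSub p M) hL
  refine ⟨M, ⟨hM.1, ?_⟩, hLM⟩
  intro L' hL' hML'
  exact le_antisymm (hM.2 hL' hML') hML'

theorem IsPLocalSub.centralizer_pCore_le {p : ℕ} (hloc : IsOfLocalCharacteristic p G)
    {M : Subgroup G} (hM : IsPLocalSub p M) :
    Subgroup.centralizer (pCore p ↥M : Set ↥M) ≤ pCore p ↥M := by
  obtain ⟨T, hT, hT1, rfl⟩ := hM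
  exact hloc.2 T hT hT1

theorem IsPLocalSub.ne_bot {p : ℕ} {M : Subgroup G} (hM : IsPLocalSub p M) : M ≠ ⊥ := by
  obtain ⟨T, hT, hT1, rfl⟩ := hM
  intro h
  apply hT1
  rw [eq_bot_iff, ← h]
  exact Subgroup.le_normalizer

theorem IsPLocalSub.ne_top_and_dvd [Finite G] {p : ℕ} [Fact p.Prime] (hOp : pCore p G = ⊥)
    {M : Subgroup G} (hM : IsPLocalSub p M) : M ≠ ⊤ ∧ p ∣ Nat.card M := by
  obtain ⟨T, hT, hT1, rfl⟩ := hM
  constructor
  · intro h
    apply hT1
    rw [eq_bot_iff, ← hOp]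
    exact Cfsg.Agent.Lib.helper40.le_pCore T (Subgroup.normalizer_eq_top_iff.mp h) hT
  · have h1 : Nat.card T ∣ Nat.card ↥(Subgroup.normalizer (T : Set G)) :=
      Subgroup.card_dvd_of_le Subgroup.le_normalizer
    refine dvd_trans ?_ h1
    obtain ⟨n, hn⟩ := (IsPGroup.iff_card.mp hT)
    rw [hn]
    apply dvd_pow_self
    intro hn0
    apply hT1
    rw [hn0, pow_zero] at hn
    exact Subgroup.card_eq_one.mp hn

/-- In a group of local characteristic `p`, a maximal `p`-local subgroup is the full normalizer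
of each of its nontrivial normal subgroups. -/
theorem IsMaxPLocalSub.normalizer_eq [Finite G] {p : ℕ} [Fact p.Prime]
    (hloc : IsOfLocalCharacteristic p G) {M : Subgroup G} (hM : IsMaxPLocalSub p M)
    (A : Subgroup G) (hAM : A ≤ M) (hA1 : A ≠ ⊥)
    (hMA : M ≤ Subgroup.normalizer (A : Set G)) : Subgroup.normalizer (A : Set G) = M := by
  have hMQ : M ≤ Subgroup.normalizer (((pCore p ↥M).map M.subtype : Subgroup G) : Set G) :=
    Cfsg.Agent.Lib.helper27.le_normalizer_map_subtype_of_characteristic M (pCore p ↥M)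
  have hQM : (pCore p ↥M).map M.subtype ≤ M := Subgroup.map_subtype_le _
  have hQp : IsPGroup p ↥((pCore p ↥M).map M.subtype) :=
    (Cfsg.Agent.Lib.helper40.pCore_isPGroup p ↥M).map _
  have hCQ : ∀ c ∈ M, (∀ x ∈ (pCore p ↥M).map M.subtype, c * x = x * c) →
      c ∈ (pCore p ↥M).map M.subtype := by
    intro c hc hcx
    have h3 : (⟨c, hc⟩ : ↥M) ∈ Subgroup.centralizer (pCore p ↥M : Set ↥M) := by
      rw [Subgroup.mem_centralizer_iff]
      intro f hf
      apply Subtype.ext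
      exact (hcx (f : G) ⟨f, hf, rfl⟩).symm
    exact ⟨⟨c, hc⟩, hM.1.centralizer_pCore_le hloc h3, rfl⟩
  -- `A ∩ O_p(M) ≠ 1`
  have hAQ : A ⊓ (pCore p ↥M).map M.subtype ≠ ⊥ := by
    intro hbot
    apply hA1
    rw [eq_bot_iff]
    intro a ha
    have haQ : a ∈ (pCore p ↥M).map M.subtype := by
      apply hCQ a (hAM ha)
      intro q hq
      have h1 : a * q * a⁻¹ * q⁻¹ ∈ A ⊓ (pCore p ↥M).map M.subtype := by
        refine ⟨?_, ?_⟩
        · have h2 := (Subgroup.mem_normalizer_iff.mp (hMA (hQM hq)) a⁻¹).mp (A.inv_mem ha)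
          have h3 := A.mul_mem ha h2
          have h4 : a * (q * a⁻¹ * q⁻¹) = a * q * a⁻¹ * q⁻¹ := by group
          rw [h4] at h3
          exact h3
        · have h2 := (Subgroup.mem_normalizer_iff.mp (hMQ (hAM ha)) q).mp hq
          exact Subgroup.mul_mem _ h2 (Subgroup.inv_mem _ hq)
      rw [hbot, Subgroup.mem_bot] at h1
      calc a * q = (a * q * a⁻¹ * q⁻¹) * (q * a) := by group
        _ = q * a := by rw [h1, one_mul]
    have : a ∈ A ⊓ (pCore p ↥M).map M.subtype := ⟨ha, haQ⟩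
    rwa [hbot] at this
  -- `O_p(A) ≠ 1`
  have hnorm : ((A ⊓ (pCore p ↥M).map M.subtype).subgroupOf A).Normal := by
    constructor
    intro n hn g
    rw [Subgroup.mem_subgroupOf] at hn ⊢
    refine ⟨?_, ?_⟩
    · exact (g * n * g⁻¹).2
    · have h2 := (Subgroup.mem_normalizer_iff.mp (hMQ (hAM g.2)) (n : G)).mp hn.2
      simpa using h2
  have hp' : IsPGroup p ↥((A ⊓ (pCore p ↥M).map M.subtype).subgroupOf A) := by
    have h1 : IsPGroup p ↥(A ⊓ (pCore p ↥M).map M.subtype) := hQp.to_le inf_le_right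
    exact h1.comap_of_injective _ A.subtype_injective
  have hle := Cfsg.Agent.Lib.helper40.le_pCore _ hnorm hp'
  have hR1 : (pCore p ↥A).map A.subtype ≠ ⊥ := by
    intro hbot
    apply hAQ
    rw [eq_bot_iff, ← hbot]
    intro x hx
    have hx' : (⟨x, hx.1⟩ : ↥A) ∈ (A ⊓ (pCore p ↥M).map M.subtype).subgroupOf A := by
      rw [Subgroup.mem_subgroupOf]
      exact hx
    exact ⟨⟨x, hx.1⟩, hle hx', rfl⟩
  have hRp : IsPGroup p ↥((pCore p ↥A).map A.subtype) := by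
    haveI : Finite ↥A := inferInstance
    exact (Cfsg.Agent.Lib.helper40.pCore_isPGroup p ↥A).map _
  have hNR : Subgroup.normalizer (A : Set G) ≤
      Subgroup.normalizer (((pCore p ↥A).map A.subtype : Subgroup G) : Set G) :=
    Cfsg.Agent.Lib.helper27.normalizer_le_normalizer_map_subtype_of_characteristic A (pCore p ↥A)
  have hloc' : IsPLocalSub p (Subgroup.normalizer (((pCore p ↥A).map A.subtype : Subgroup G) : Set G)) :=
    ⟨_, hRp, hR1, rfl⟩
  have h5 := hM.2 _ hloc' (hMA.trans hNR)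
  exact le_antisymm (hNR.trans h5.le) hMA

theorem IsMaxPLocalSub.normalizer_self [Finite G] {p : ℕ} [Fact p.Prime]
    (hloc : IsOfLocalCharacteristic p G) {M : Subgroup G} (hM : IsMaxPLocalSub p M) :
    Subgroup.normalizer (M : Set G) = M :=
  hM.normalizer_eq hloc M le_rfl hM.1.ne_bot Subgroup.le_normalizer

/-- A maximal `p`-subgroup of `M` contains `O_p(M)`. -/
theorem map_pCore_le_of_maximal [Finite G] {p : ℕ} [Fact p.Prime] {M T : Subgroup G}
    (hT : IsPGroup p T) (hTM : T ≤ M)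
    (hmax : ∀ T' : Subgroup G, IsPGroup p T' → T' ≤ M → T ≤ T' → T' = T) :
    (pCore p ↥M).map M.subtype ≤ T := by
  have hMQ : M ≤ Subgroup.normalizer (((pCore p ↥M).map M.subtype : Subgroup G) : Set G) :=
    Cfsg.Agent.Lib.helper27.le_normalizer_map_subtype_of_characteristic M (pCore p ↥M)
  have hQM : (pCore p ↥M).map M.subtype ≤ M := Subgroup.map_subtype_le _
  have hQp : IsPGroup p ↥((pCore p ↥M).map M.subtype) :=
    (Cfsg.Agent.Lib.helper40.pCore_isPGroup p ↥M).map _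
  have h1 : IsPGroup p ↥(T ⊔ (pCore p ↥M).map M.subtype) :=
    IsPGroup.to_sup_of_normal_right' hT hQp (hTM.trans hMQ)
  have h2 := hmax _ h1 (sup_le hTM hQM) le_sup_left
  rw [← h2]
  exact le_sup_right

/-- If some maximal `p`-local subgroup `M` meets a conjugate `M^g ≠ M` in a subgroup of order
divisible by `p`, then two distinct maximal `p`-local subgroups share a maximal `p`-subgroup. -/
theorem exists_pair_common_sylow [Finite G] {p : ℕ} [Fact p.Prime]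
    (hloc : IsOfLocalCharacteristic p G) {M : Subgroup G} (hM : IsMaxPLocalSub p M)
    (g : G) (hg : g ∉ M)
    (hdvd : p ∣ Nat.card ↥(M ⊓ M.map (MulAut.conj g).toMonoidHom)) :
    ∃ N₁ N₂ T : Subgroup G, IsMaxPLocalSub p N₁ ∧ IsMaxPLocalSub p N₂ ∧ N₁ ≠ N₂ ∧
      IsPGroup p T ∧ T ≤ N₁ ∧ T ≤ N₂ ∧
      (∀ T' : Subgroup G, IsPGroup p T' → T' ≤ N₁ → T ≤ T' → T' = T) ∧
      (∀ T' : Subgroup G, IsPGroup p T' → T' ≤ N₂ → T ≤ T' → T' = T) := by
  have hp : p.Prime := Fact.out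
  have hMg : M ≠ M.map (MulAut.conj g).toMonoidHom := by
    intro h
    apply hg
    have h1 := conj_eq_self_iff.mp h.symm
    rwa [hM.normalizer_self hloc] at h1
  -- a nontrivial `p`-subgroup of the intersection
  obtain ⟨x, hx⟩ := exists_prime_orderOf_dvd_card' p hdvd
  have hx' : orderOf (x : G) = p := by
    rw [← hx]
    exact (Subgroup.orderOf_coe x)
  have hT₀ : IsPGroup p ↥(Subgroup.zpowers (x : G)) := by
    apply IsPGroup.of_card (n := 1)
    rw [Nat.card_zpowers, hx', pow_one]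
  have hT₀1 : Subgroup.zpowers (x : G) ≠ ⊥ := by
    intro h
    rw [Subgroup.zpowers_eq_bot] at h
    rw [h, orderOf_one] at hx'
    exact hp.one_lt.ne hx'
  have hT₀le : Subgroup.zpowers (x : G) ≤ M ⊓ M.map (MulAut.conj g).toMonoidHom := by
    rw [Subgroup.zpowers_le]
    exact x.2
  obtain ⟨T, hT₀T, hTmax⟩ := Finite.exists_le_maximal
    (p := fun T : Subgroup G => IsPGroup p T ∧ ∃ M₁ M₂ : Subgroup G, IsMaxPLocalSub p M₁ ∧
      IsMaxPLocalSub p M₂ ∧ M₁ ≠ M₂ ∧ T ≤ M₁ ∧ T ≤ M₂)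
    (a := Subgroup.zpowers (x : G))
    ⟨hT₀, M, _, hM, hM.conj g, hMg, hT₀le.trans inf_le_left, hT₀le.trans inf_le_right⟩
  obtain ⟨⟨hTp, M₁, M₂, hM₁, hM₂, hne, hTM₁, hTM₂⟩, hTmax'⟩ := hTmax
  have hmaxT : ∀ T' : Subgroup G, IsPGroup p T' → ∀ L₁ L₂ : Subgroup G, IsMaxPLocalSub p L₁ →
      IsMaxPLocalSub p L₂ → L₁ ≠ L₂ → T' ≤ L₁ → T' ≤ L₂ → T ≤ T' → T' = T := by
    intro T' hT' L₁ L₂ hL₁ hL₂ hL hT'1 hT'2 hle
    exact le_antisymm (hTmax' ⟨hT', L₁, L₂, hL₁, hL₂, hL, hT'1, hT'2⟩ hle) hle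
  have hT1 : T ≠ ⊥ := by
    intro h
    apply hT₀1
    rw [eq_bot_iff, ← h]
    exact hT₀T
  -- the key step
  have hK : ∀ M₁ M₂ : Subgroup G, IsMaxPLocalSub p M₁ → IsMaxPLocalSub p M₂ → M₁ ≠ M₂ →
      T ≤ M₁ → T ≤ M₂ → (∃ T' : Subgroup G, IsPGroup p T' ∧ T' ≤ M₁ ∧ T < T') →
      ∃ N₁ N₂ T : Subgroup G, IsMaxPLocalSub p N₁ ∧ IsMaxPLocalSub p N₂ ∧ N₁ ≠ N₂ ∧
      IsPGroup p T ∧ T ≤ N₁ ∧ T ≤ N₂ ∧
      (∀ T' : Subgroup G, IsPGroup p T' → T' ≤ N₁ → T ≤ T' → T' = T) ∧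
      (∀ T' : Subgroup G, IsPGroup p T' → T' ≤ N₂ → T ≤ T' → T' = T) := by
    intro M₁ M₂ hM₁ hM₂ hne hTM₁ hTM₂ hex
    obtain ⟨Tq, hTq, hTqM, hlt⟩ := hex
    obtain ⟨y, hyTq, hyT, hyN⟩ := exists_mem_normalizer_not_mem hTq hlt
    have hT'p : IsPGroup p ↥(T ⊔ Subgroup.zpowers y) :=
      hTq.to_le (sup_le hlt.le (by rw [Subgroup.zpowers_le]; exact hyTq))
    have hT'lt : T ⊔ Subgroup.zpowers y ≠ T := by
      intro h
      apply hyT
      rw [← h]
      exact Subgroup.mem_sup_right (Subgroup.mem_zpowers y)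
    have hT'N : T ⊔ Subgroup.zpowers y ≤ Subgroup.normalizer (T : Set G) :=
      sup_le Subgroup.le_normalizer (by rw [Subgroup.zpowers_le]; exact hyN)
    have hT'M₁ : T ⊔ Subgroup.zpowers y ≤ M₁ :=
      sup_le hTM₁ (by rw [Subgroup.zpowers_le]; exact hTqM hyTq)
    obtain ⟨L, hL, hNL⟩ := exists_le_isMaxPLocalSub (p := p)
      (L := Subgroup.normalizer (T : Set G)) ⟨T, hTp, hT1, rfl⟩
    have hLM₁ : L = M₁ := by
      by_contra hLne
      exact hT'lt (hmaxT _ hT'p M₁ L hM₁ hL (Ne.symm hLne) hT'M₁ (hT'N.trans hNL) le_sup_left)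
    have hNT : Subgroup.normalizer (T : Set G) ≤ M₁ := hLM₁ ▸ hNL
    have hyM₂ : y ∉ M₂ := by
      intro hy
      exact hT'lt (hmaxT _ hT'p M₁ M₂ hM₁ hM₂ hne hT'M₁
        (sup_le hTM₂ (by rw [Subgroup.zpowers_le]; exact hy)) le_sup_left)
    have hTmax₂ : ∀ T'' : Subgroup G, IsPGroup p T'' → T'' ≤ M₂ → T ≤ T'' → T'' = T := by
      intro T'' hT'' hT''M hle
      by_contra hne''
      have hlt'' : T < T'' := lt_of_le_of_ne hle (Ne.symm hne'')
      obtain ⟨w, hwT'', hwT, hwN⟩ := exists_mem_normalizer_not_mem hT'' hlt''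
      have h1 : IsPGroup p ↥(T ⊔ Subgroup.zpowers w) :=
        hT''.to_le (sup_le hle (by rw [Subgroup.zpowers_le]; exact hwT''))
      have h2 : T ⊔ Subgroup.zpowers w ≤ M₂ :=
        sup_le hTM₂ (by rw [Subgroup.zpowers_le]; exact hT''M hwT'')
      have h3 : T ⊔ Subgroup.zpowers w ≤ M₁ :=
        sup_le hTM₁ (by rw [Subgroup.zpowers_le]; exact hNT hwN)
      have h4 := hmaxT _ h1 M₁ M₂ hM₁ hM₂ hne h3 h2 le_sup_left
      apply hwT
      rw [← h4]
      exact Subgroup.mem_sup_right (Subgroup.mem_zpowers w)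
    have hTy : T.map (MulAut.conj y).toMonoidHom = T := conj_eq_self_of_mem_normalizer hyN
    have hTy' : T.map (MulAut.conj y⁻¹).toMonoidHom = T :=
      conj_eq_self_of_mem_normalizer (Subgroup.inv_mem _ hyN)
    refine ⟨M₂, M₂.map (MulAut.conj y).toMonoidHom, T, hM₂, hM₂.conj y, ?_, hTp, hTM₂, ?_,
      hTmax₂, ?_⟩
    · intro h
      apply hyM₂
      have h1 := conj_eq_self_iff.mp h.symm
      rwa [hM₂.normalizer_self hloc] at h1
    · rw [← hTy]
      exact conj_mono hTM₂ y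
    · intro T'' hT'' hT''M hle
      have h1 : T''.map (MulAut.conj y⁻¹).toMonoidHom ≤ M₂ := by
        have := conj_mono hT''M y⁻¹
        rwa [conj_inv_conj] at this
      have h2 : T ≤ T''.map (MulAut.conj y⁻¹).toMonoidHom := by
        rw [← hTy']
        exact conj_mono hle y⁻¹
      have h3 := hTmax₂ _ (isPGroup_conj hT'' y⁻¹) h1 h2
      have h4 : (T''.map (MulAut.conj y⁻¹).toMonoidHom).map (MulAut.conj y).toMonoidHom = T'' :=
        conj_conj_inv T'' y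
      rw [← h4, h3, hTy]
  by_cases h1 : ∃ T' : Subgroup G, IsPGroup p T' ∧ T' ≤ M₁ ∧ T < T'
  · exact hK M₁ M₂ hM₁ hM₂ hne hTM₁ hTM₂ h1
  by_cases h2 : ∃ T' : Subgroup G, IsPGroup p T' ∧ T' ≤ M₂ ∧ T < T'
  · exact hK M₂ M₁ hM₂ hM₁ (Ne.symm hne) hTM₂ hTM₁ h2
  refine ⟨M₁, M₂, T, hM₁, hM₂, hne, hTp, hTM₁, hTM₂, ?_, ?_⟩
  · intro T' hT' hT'M hle
    by_contra hne'
    exact h1 ⟨T', hT', hT'M, lt_of_le_of_ne hle (Ne.symm hne')⟩
  · intro T' hT' hT'M hle
    by_contra hne'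
    exact h2 ⟨T', hT', hT'M, lt_of_le_of_ne hle (Ne.symm hne')⟩

end Cfsg.Agent.Lib.helper36
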