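import Mathlib

set_option autoImplicit false

namespace Cfsg.Agent.Lib.helper36.McL

/-- A functional with value `1` at `v` and `0` at `w`, for `v ∉ span {w}`. -/
theorem h36_sep {F : Type*} [Field F] {X : Type*} [AddCommGroup X] [Module F X]
    (v w : X) (hv : v ∉ Submodule.span F ({w} : Set X)) :
    ∃ f : Module.Dual F X, f v = 1 ∧ f w = 0 := by
  obtain ⟨f, hfv, hf⟩ := Submodule.exists_dual_map_eq_bot_of_notMem hv inferInstance
  refine ⟨(f v)⁻¹ • f, ?_, ?_⟩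
  · simp [hfv]
  · have hw : f w ∈ (Submodule.span F ({w} : Set X)).map f :=
      Submodule.mem_map_of_mem (Submodule.mem_span_singleton_self w)
    rw [hf] at hw
    have : f w = 0 := by simpa using hw
    simp [this]

/-- A functional with value `1` at both of two independent vectors. -/
theorem h36_both {F : Type*} [Field F] {X : Type*} [AddCommGroup X] [Module F X]
    (u w : X) (hu : u ∉ Submodule.span F ({w} : Set X))
    (hw : w ∉ Submodule.span F ({u} : Set X)) :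
    ∃ η : Module.Dual F X, η u = 1 ∧ η w = 1 := by
  obtain ⟨f, hf1, hf2⟩ := h36_sep u w hu
  obtain ⟨g, hg1, hg2⟩ := h36_sep w u hw
  exact ⟨f + g, by simp [hf1, hg2], by simp [hf2, hg1]⟩

/-- The kernel of a functional on a space of dimension `≥ 3` is not inside a line. -/
theorem h36_ker_not_le {F : Type*} [Field F] {X : Type*} [AddCommGroup X] [Module F X]
    [FiniteDimensional F X] (h3 : 3 ≤ Module.finrank F X) (φ : Module.Dual F X) (c : X) :
    ∃ v : X, φ v = 0 ∧ v ∉ Submodule.span F ({c} : Set X) := by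
  by_contra hcon
  have hle : LinearMap.ker φ ≤ Submodule.span F ({c} : Set X) := by
    intro v hv
    by_contra hv'
    exact hcon ⟨v, LinearMap.mem_ker.mp hv, hv'⟩
  have h1 : Module.finrank F (LinearMap.ker φ) ≤ Module.finrank F (Submodule.span F ({c} : Set X)) :=
    Submodule.finrank_mono hle
  have h2 : Module.finrank F (Submodule.span F ({c} : Set X)) ≤ 1 := by
    have := finrank_span_le_card (R := F) ({c} : Set X)
    simpa using this
  have h3' := LinearMap.finrank_range_add_finrank_ker φ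
  have h4 : Module.finrank F (LinearMap.range φ) ≤ 1 := by
    have := Submodule.finrank_le (LinearMap.range φ)
    simpa using this
  omega

section Orb

variable {F : Type*} [Field F] {X : Type*} [AddCommGroup X] [Module F X]

/-- One step: change the centre. -/
theorem h36_stepC0 (S : Set (X × Module.Dual F X))
    (hS : ∀ c φ, (c, φ) ∈ S → ∀ (d : X) (η : Module.Dual F X), η d = 0 →
      (c + η c • d, φ - φ d • η) ∈ S)
    (c c₁ : X) (φ : Module.Dual F X) (h : (c, φ) ∈ S) (hc : φ c = 0) (hc₁ : φ c₁ = 0)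
    (η : Module.Dual F X) (h1 : η c = 1) (h2 : η c₁ = 1) : (c₁, φ) ∈ S := by
  have := hS c φ h (c₁ - c) η (by simp [h1, h2])
  have e1 : c + η c • (c₁ - c) = c₁ := by rw [h1]; simp
  have e2 : φ - φ (c₁ - c) • η = φ := by simp [hc, hc₁]
  rw [e1, e2] at this
  exact this

/-- One step: change the axis. -/
theorem h36_stepA0 (S : Set (X × Module.Dual F X))
    (hS : ∀ c φ, (c, φ) ∈ S → ∀ (d : X) (η : Module.Dual F X), η d = 0 →
      (c + η c • d, φ - φ d • η) ∈ S)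
    (c : X) (φ φ₁ : Module.Dual F X) (h : (c, φ) ∈ S) (hc : φ c = 0) (hc₁ : φ₁ c = 0)
    (d : X) (h1 : φ d = 1) (h2 : φ₁ d = 1) : (c, φ₁) ∈ S := by
  have := hS c φ h d (φ - φ₁) (by simp [h1, h2])
  have e1 : c + (φ - φ₁) c • d = c := by simp [hc, hc₁]
  have e2 : φ - φ d • (φ - φ₁) = φ₁ := by rw [h1]; simp
  rw [e1, e2] at this
  exact this

/-- One step: change the axis, from two separating vectors. -/
theorem h36_stepA1 (S : Set (X × Module.Dual F X))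
    (hS : ∀ c φ, (c, φ) ∈ S → ∀ (d : X) (η : Module.Dual F X), η d = 0 →
      (c + η c • d, φ - φ d • η) ∈ S)
    (c : X) (φ φ₁ : Module.Dual F X) (h : (c, φ) ∈ S) (hc : φ c = 0) (hc₁ : φ₁ c = 0)
    (d₁ d₂ : X) (h11 : φ d₁ = 0) (h12 : φ₁ d₁ ≠ 0) (h21 : φ₁ d₂ = 0) (h22 : φ d₂ ≠ 0) :
    (c, φ₁) ∈ S := by
  refine h36_stepA0 S hS c φ φ₁ h hc hc₁ ((φ₁ d₁)⁻¹ • d₁ + (φ d₂)⁻¹ • d₂) ?_ ?_
  · simp [h11, h22]
  · simp [h21, h12]

end Orb

/-- Step C: change the centre inside the kernel of the axis. -/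
theorem h36_stepC {F : Type*} [Field F] {X : Type*} [AddCommGroup X] [Module F X]
    [FiniteDimensional F X] (h3 : 3 ≤ Module.finrank F X) (S : Set (X × Module.Dual F X))
    (hS : ∀ c φ, (c, φ) ∈ S → ∀ (d : X) (η : Module.Dual F X), η d = 0 →
      (c + η c • d, φ - φ d • η) ∈ S)
    (c c₁ : X) (φ : Module.Dual F X) (h : (c, φ) ∈ S) (hc : φ c = 0) (hc₁ : φ c₁ = 0)
    (hc0 : c ≠ 0) (hc₁0 : c₁ ≠ 0) : (c₁, φ) ∈ S := by
  -- generic: independence from "not in span"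
  have key : ∀ u w : X, u ≠ 0 → w ∉ Submodule.span F ({u} : Set X) →
      u ∉ Submodule.span F ({w} : Set X) := by
    intro u w hu hw hu'
    obtain ⟨b, hb⟩ := Submodule.mem_span_singleton.mp hu'
    have hb0 : b ≠ 0 := by
      rintro rfl
      rw [zero_smul] at hb
      exact hu hb.symm
    apply hw
    rw [Submodule.mem_span_singleton]
    refine ⟨b⁻¹, ?_⟩
    rw [← hb, smul_smul, inv_mul_cancel₀ hb0, one_smul]
  by_cases hin : c₁ ∈ Submodule.span F ({c} : Set X)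
  · obtain ⟨a, ha⟩ := Submodule.mem_span_singleton.mp hin
    obtain ⟨c₂, hc₂, hc₂n⟩ := h36_ker_not_le h3 φ c
    have hc₂0 : c₂ ≠ 0 := by
      rintro rfl
      exact hc₂n (Submodule.zero_mem _)
    -- first step c -> c₂
    obtain ⟨η, hη1, hη2⟩ := h36_both c c₂ (key c c₂ hc0 hc₂n) hc₂n
    have hS2 : (c₂, φ) ∈ S := h36_stepC0 S hS c c₂ φ h hc hc₂ η hη1 hη2
    -- second step c₂ -> c₁
    have hc₂n' : c₂ ∉ Submodule.span F ({c₁} : Set X) := by
      intro hmem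
      obtain ⟨b, hb⟩ := Submodule.mem_span_singleton.mp hmem
      apply hc₂n
      rw [Submodule.mem_span_singleton]
      refine ⟨b * a, ?_⟩
      rw [← hb, ← ha, smul_smul]
    obtain ⟨η', hη'1, hη'2⟩ := h36_both c₂ c₁ hc₂n' (key c₁ c₂ hc₁0 hc₂n')
    exact h36_stepC0 S hS c₂ c₁ φ hS2 hc₂ hc₁ η' hη'1 hη'2
  · obtain ⟨η, hη1, hη2⟩ := h36_both c c₁ (key c c₁ hc0 hin) hin
    exact h36_stepC0 S hS c c₁ φ h hc hc₁ η hη1 hη2

/-- Step A: change the axis among the nonzero functionals killing the centre. -/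
theorem h36_stepA {F : Type*} [Field F] {X : Type*} [AddCommGroup X] [Module F X]
    [FiniteDimensional F X] (h3 : 3 ≤ Module.finrank F X) (S : Set (X × Module.Dual F X))
    (hS : ∀ c φ, (c, φ) ∈ S → ∀ (d : X) (η : Module.Dual F X), η d = 0 →
      (c + η c • d, φ - φ d • η) ∈ S)
    (c : X) (φ φ₁ : Module.Dual F X) (h : (c, φ) ∈ S) (hc : φ c = 0) (hc₁ : φ₁ c = 0)
    (hφ : φ ≠ 0) (hφ₁ : φ₁ ≠ 0) : (c, φ₁) ∈ S := by
  obtain ⟨y, hy⟩ : ∃ y, φ y ≠ 0 := by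
    by_contra hcon
    apply hφ
    ext v
    by_contra hv
    exact hcon ⟨v, hv⟩
  obtain ⟨y₁, hy₁⟩ : ∃ y, φ₁ y ≠ 0 := by
    by_contra hcon
    apply hφ₁
    ext v
    by_contra hv
    exact hcon ⟨v, hv⟩
  by_cases hd : (∃ d₁, φ d₁ = 0 ∧ φ₁ d₁ ≠ 0) ∧ (∃ d₂, φ₁ d₂ = 0 ∧ φ d₂ ≠ 0)
  · obtain ⟨⟨d₁, h11, h12⟩, ⟨d₂, h21, h22⟩⟩ := hd
    exact h36_stepA1 S hS c φ φ₁ h hc hc₁ d₁ d₂ h11 h12 h21 h22
  · -- a common kernel vector outside the line of `c`
    have hv : ∃ v : X, φ v = 0 ∧ φ₁ v = 0 ∧ v ∉ Submodule.span F ({c} : Set X) := by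
      by_cases h1 : ∃ d₁, φ d₁ = 0 ∧ φ₁ d₁ ≠ 0
      · have h2 : ¬ ∃ d₂, φ₁ d₂ = 0 ∧ φ d₂ ≠ 0 := fun h2 => hd ⟨h1, h2⟩
        obtain ⟨v, hv1, hv2⟩ := h36_ker_not_le h3 φ₁ c
        refine ⟨v, ?_, hv1, hv2⟩
        by_contra hv3
        exact h2 ⟨v, hv1, hv3⟩
      · obtain ⟨v, hv1, hv2⟩ := h36_ker_not_le h3 φ c
        refine ⟨v, hv1, ?_, hv2⟩
        by_contra hv3
        exact h1 ⟨v, hv1, hv3⟩
    obtain ⟨v, hv1, hv2, hv3⟩ := hv
    obtain ⟨φ₂, hφ₂v, hφ₂c⟩ := h36_sep v c hv3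
    -- step 1: φ -> φ₂
    have hS2 : (c, φ₂) ∈ S := by
      refine h36_stepA1 S hS c φ φ₂ h hc hφ₂c v (y - φ₂ y • v) hv1 ?_ ?_ ?_
      · rw [hφ₂v]; exact one_ne_zero
      · simp [hφ₂v]
      · simpa [hv1] using hy
    -- step 2: φ₂ -> φ₁
    refine h36_stepA1 S hS c φ₂ φ₁ hS2 hφ₂c hc₁ (y₁ - φ₂ y₁ • v) v ?_ ?_ hv2 ?_
    · simp [hφ₂v]
    · simpa [hv2] using hy₁
    · rw [hφ₂v]; exact one_ne_zero

/-- SUB-PIECE QUOT-ORB (pure linear algebra, Mathlib only). -/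
theorem tv_orbit {F : Type*} [Field F] {X : Type*} [AddCommGroup X] [Module F X]
    [FiniteDimensional F X] (h3 : 3 ≤ Module.finrank F X) (S : Set (X × Module.Dual F X))
    (hS : ∀ c φ, (c, φ) ∈ S → ∀ (d : X) (η : Module.Dual F X), η d = 0 →
      (c + η c • d, φ - φ d • η) ∈ S)
    (c₀ : X) (φ₀ : Module.Dual F X) (h0 : (c₀, φ₀) ∈ S) (hc₀ : c₀ ≠ 0) (hφ₀ : φ₀ ≠ 0)
    (hφc : φ₀ c₀ = 0) (x : X) (ξ : Module.Dual F X) (hx : x ≠ 0) (hξ : ξ ≠ 0) (hξx : ξ x = 0) :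
    (x, ξ) ∈ S := by
  -- a nonzero vector in both kernels
  have hker : ∀ ψ : Module.Dual F X,
      Module.finrank F X ≤ Module.finrank F (LinearMap.ker ψ) + 1 := by
    intro ψ
    have h3' := LinearMap.finrank_range_add_finrank_ker ψ
    have h4 : Module.finrank F (LinearMap.range ψ) ≤ 1 := by
      have := Submodule.finrank_le (LinearMap.range ψ)
      simpa using this
    omega
  have hne : LinearMap.ker φ₀ ⊓ LinearMap.ker ξ ≠ ⊥ := by
    intro hbot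
    have h5 := Submodule.finrank_sup_add_finrank_inf_eq (LinearMap.ker φ₀) (LinearMap.ker ξ)
    rw [hbot] at h5
    have h6 : Module.finrank F (LinearMap.ker φ₀ ⊔ LinearMap.ker ξ : Submodule F X)
        ≤ Module.finrank F X := Submodule.finrank_le _
    have h7 := hker φ₀
    have h8 := hker ξ
    simp only [finrank_bot] at h5
    omega
  obtain ⟨c₁, hc₁m, hc₁0⟩ := Submodule.exists_mem_ne_zero_of_ne_bot hne
  have hc₁φ : φ₀ c₁ = 0 := LinearMap.mem_ker.mp hc₁m.1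
  have hc₁ξ : ξ c₁ = 0 := LinearMap.mem_ker.mp hc₁m.2
  have s1 : (c₁, φ₀) ∈ S := h36_stepC h3 S hS c₀ c₁ φ₀ h0 hφc hc₁φ hc₀ hc₁0
  have s2 : (c₁, ξ) ∈ S := h36_stepA h3 S hS c₁ φ₀ ξ s1 hc₁φ hc₁ξ hφ₀ hξ
  exact h36_stepC h3 S hS c₁ x ξ s2 hc₁ξ hξx hc₁0 hx

end Cfsg.Agent.Lib.helper36.McL
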