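import Mathlib.GroupTheory.Nilpotent
import Mathlib.GroupTheory.Frattini
import Mathlib.GroupTheory.PGroup
import Mathlib.Order.Preorder.Finite

/-!
# Two small general lemmas

* `exists_comm_comm_eq_one`: in a nilpotent group, if `⁅u, t⁆ ≠ 1` then some iterated commutator
  `x = ⁅⁅u, t⁆, …, t⁆` satisfies `⁅x, t⁆ ≠ 1` and `⁅⁅x, t⁆, t⁆ = 1`.
* `frattini_eq_bot_of_sq`: a finite group of exponent dividing 2 has trivial Frattini subgroup.
-/

set_option autoImplicit false

namespace Cfsg.Agent.Lib.helper36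

open scoped commutatorElement

theorem iterate_comm_mem_lcs {G : Type*} [Group G] (t u : G) (n : ℕ) :
    (fun v : G => ⁅v, t⁆)^[n] u ∈ Subgroup.lowerCentralSeries (⊤ : Subgroup G) n := by
  induction n with
  | zero => simp
  | succ n ih =>
    rw [Function.iterate_succ_apply', Subgroup.lowerCentralSeries_succ]
    exact Subgroup.commutator_mem_commutator ih (Subgroup.mem_top t)

/-- In a nilpotent group, if `⁅u, t⁆ ≠ 1` then for some `n` the iterated commutator
`x = (fun v => ⁅v, t⁆)^[n] u` satisfies `⁅x, t⁆ ≠ 1` and `⁅⁅x, t⁆, t⁆ = 1`. -/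
theorem exists_comm_comm_eq_one {G : Type*} [Group G] [Group.IsNilpotent G] (t u : G)
    (hu : ⁅u, t⁆ ≠ 1) :
    ∃ n : ℕ, ⁅(fun v : G => ⁅v, t⁆)^[n] u, t⁆ ≠ 1 ∧ ⁅⁅(fun v : G => ⁅v, t⁆)^[n] u, t⁆, t⁆ = 1 := by
  obtain ⟨N, hN⟩ := Subgroup.nilpotent_iff_lowerCentralSeries.mp (inferInstance : Group.IsNilpotent G)
  set f : G → G := fun v : G => ⁅v, t⁆ with hf
  have hex : ∃ n, f^[n] u = 1 := by
    refine ⟨N, ?_⟩
    have := iterate_comm_mem_lcs t u N
    rw [hN] at this
    exact Subgroup.mem_bot.mp this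
  classical
  have hm := Nat.find_spec hex
  have hmin : ∀ j, j < Nat.find hex → f^[j] u ≠ 1 := fun j hj => Nat.find_min hex hj
  have hu1 : u ≠ 1 := by
    rintro rfl
    exact hu (by simp [commutatorElement_def])
  have hm0 : Nat.find hex ≠ 0 := by
    intro h0
    rw [h0] at hm
    exact hu1 (by simpa using hm)
  have hm1 : Nat.find hex ≠ 1 := by
    intro h1
    rw [h1] at hm
    exact hu (by simpa using hm)
  obtain ⟨m, hmm⟩ : ∃ m, Nat.find hex = m + 2 := ⟨Nat.find hex - 2, by omega⟩
  refine ⟨m, ?_, ?_⟩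
  · have := hmin (m + 1) (by omega)
    rwa [Function.iterate_succ_apply'] at this
  · rw [hmm] at hm
    rwa [Function.iterate_succ_apply', Function.iterate_succ_apply'] at hm

/-- A finite group in which every element squares to `1` has trivial Frattini subgroup. -/
theorem frattini_eq_bot_of_sq {P : Type*} [Group P] [Finite P] (h2 : ∀ g : P, g ^ 2 = 1) :
    frattini P = ⊥ := by
  have hinv : ∀ g : P, g⁻¹ = g := fun g => by
    rw [inv_eq_iff_mul_eq_one, ← pow_two]; exact h2 g
  have hcomm : ∀ a b : P, a * b = b * a := by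
    intro a b
    have h := h2 (a * b)
    rw [pow_two] at h
    have h3 : a * b = (a * b)⁻¹ := by rw [hinv]
    rw [h3, mul_inv_rev, hinv, hinv]
  letI : CommGroup P := { (inferInstance : Group P) with mul_comm := hcomm }
  rw [eq_bot_iff]
  intro x hx
  rw [Subgroup.mem_bot]
  by_contra hx1
  -- a subgroup maximal with respect to not containing x
  obtain ⟨M, -, hM⟩ := Finite.exists_le_maximal (p := fun K : Subgroup P => x ∉ K) (a := ⊥)
    (by simpa using hx1)
  have hxM : x ∉ M := hM.prop
  have hcoatom : IsCoatom M := by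
    refine ⟨fun h => hxM (h ▸ Subgroup.mem_top x), ?_⟩
    intro K hK
    have hxK : x ∈ K := by
      by_contra hxK
      exact absurd (hM.le_of_ge hxK hK.le) (not_le_of_gt hK)
    rw [eq_top_iff]
    intro g _
    by_cases hg : g ∈ M
    · exact hK.le hg
    · have hlt : M < M ⊔ Subgroup.zpowers g := by
        refine lt_of_le_of_ne le_sup_left ?_
        intro h
        apply hg
        rw [h]
        exact (le_sup_right : Subgroup.zpowers g ≤ M ⊔ Subgroup.zpowers g) (Subgroup.mem_zpowers g)
      have hxs : x ∈ M ⊔ Subgroup.zpowers g := by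
        by_contra hxs
        exact absurd (hM.le_of_ge hxs hlt.le) (not_le_of_gt hlt)
      obtain ⟨m, hm, z, hz, hmz⟩ := Subgroup.mem_sup.mp hxs
      obtain ⟨k, rfl⟩ := Subgroup.mem_zpowers_iff.mp hz
      -- g ^ k is 1 or g
      have hgk : g ^ k = 1 ∨ g ^ k = g := by
        rcases Int.even_or_odd k with ⟨j, rfl⟩ | ⟨j, rfl⟩
        · left
          rw [← two_mul, zpow_mul, zpow_ofNat, h2, one_zpow]
        · right
          rw [zpow_add, zpow_mul, zpow_ofNat, h2, one_zpow, one_mul, zpow_one]
      rcases hgk with h | h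
      · rw [h, mul_one] at hmz
        exact absurd (hmz ▸ hm) hxM
      · rw [h] at hmz
        have : g = m⁻¹ * x := by rw [← hmz]; group
        rw [this]
        exact K.mul_mem (K.inv_mem (hK.le hm)) hxK
  exact hxM (frattini_le_coatom hcoatom hx)

end Cfsg.Agent.Lib.helper36
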