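import Mathlib
import Cfsg.Prelude.Def_Transfer
import Cfsg.Agent.Lib.helper4.P3XS

/-!
S5239 split (architect helper79), leaf EXP27 -- racer copy by helper36 (declarations prefixed
`h36_`).  Route: `E` is normal of index 3 with `C_G(E) = E`; `ψ y = y * k` with `k ∈ E`;
commutators are central (extraspecial), so `(y * k) ^ 3 = y ^ 3 * k ^ 3 * c ^ 3 = y ^ 3`, while
`ψ (y ^ 3) = (y ^ 3)⁻¹`.
-/

set_option autoImplicit false
open Cfsg
open scoped commutatorElement

namespace Cfsg.Agent.Lib.helper79.P3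

theorem h36_cube_central {G : Type*} [Group G] (y k c : G) (hc : ∀ g : G, g * c = c * g)
    (hky : k * y = y * k * c) : (y * k) ^ 3 = y ^ 3 * k ^ 3 * c ^ 3 := by
  have cm : ∀ a b : G, a * c * b = a * b * c := fun a b => by
    rw [mul_assoc, ← hc b, ← mul_assoc]
  calc (y * k) ^ 3 = y * (k * y) * (k * y) * k := by
        rw [pow_three]
        simp only [mul_assoc]
    _ = y * (y * k * c) * (y * k * c) * k := by rw [hky]
    _ = y * y * k * c * y * k * c * k := by simp only [mul_assoc]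
    _ = y * y * k * y * k * k * c * c := by
        rw [cm (y * y * k) y, cm (y * y * k * y) k, cm (y * y * k * y * k * c) k,
          cm (y * y * k * y * k) k]
    _ = y * y * (k * y) * k * k * c * c := by simp only [mul_assoc]
    _ = y * y * (y * k * c) * k * k * c * c := by rw [hky]
    _ = y * y * y * k * c * k * k * c * c := by simp only [mul_assoc]
    _ = y * y * y * k * k * k * c * c * c := by
        rw [cm (y * y * y * k) k, cm (y * y * y * k * k) k]
    _ = y ^ 3 * k ^ 3 * c ^ 3 := by simp only [pow_three, mul_assoc]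

/-- EXP27 (L, standalone), racer copy. -/
theorem h36_p3_exp27 {G : Type*} [Group G] [Finite G] (hG : Nat.card G = 27) (hna : ∃ a b : G, a * b ≠ b * a)
    (E : Subgroup G) (hE : Nat.card E = 9) (hEe : ∀ e ∈ E, e ^ 3 = 1) (ψ : G →* G)
    (hψ : Function.Injective ψ) (hψE : ∀ e ∈ E, ψ e = e⁻¹) : ∀ g : G, g ^ 3 = 1 := by
  haveI : Fact (Nat.Prime 3) := ⟨Nat.prime_three⟩
  obtain ⟨⟨-, -, hcomm⟩, hZ⟩ := p3_extraspecial27 hG hna
  -- commutators are central
  have hcen : ∀ a b : G, a⁻¹ * b⁻¹ * a * b ∈ Subgroup.center G := by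
    intro a b
    rw [← hcomm]
    have h1 : ⁅a⁻¹, b⁻¹⁆ ∈ commutator G := by
      rw [commutator_def]
      exact Subgroup.commutator_mem_commutator (Subgroup.mem_top _) (Subgroup.mem_top _)
    have e : ⁅a⁻¹, b⁻¹⁆ = a⁻¹ * b⁻¹ * a * b := by
      rw [commutatorElement_def, inv_inv, inv_inv]
    rwa [e] at h1
  -- `E` is abelian
  have hEab : ∀ a ∈ E, ∀ b ∈ E, a * b = b * a := by
    intro a ha b hb
    have h1 := (IsPGroup.isMulCommutative_of_card_eq_prime_sq (p := 3) (G := ↥E)
      (by rw [hE]; norm_num)).is_comm.comm ⟨a, ha⟩ ⟨b, hb⟩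
    exact congrArg Subtype.val h1
  -- `E` is normal of index 3
  have hidx : E.index = 3 := by
    have h1 := Subgroup.card_mul_index E
    rw [hE, hG] at h1
    omega
  haveI hEn : E.Normal := Subgroup.normal_of_index_eq_minFac_card (by
    rw [hidx, hG]
    norm_num)
  -- the centralizer of `E` is `E`
  have hCE : ∀ k : G, (∀ a ∈ E, k * a = a * k) → k ∈ E := by
    intro k hk
    by_contra hkE
    have hEC : E ≤ Subgroup.centralizer (E : Set G) := by
      intro a ha
      rw [Subgroup.mem_centralizer_iff]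
      intro b hb
      exact hEab b hb a ha
    have hkC : k ∈ Subgroup.centralizer (E : Set G) := by
      rw [Subgroup.mem_centralizer_iff]
      intro b hb
      exact (hk b hb).symm
    have hd1 : Nat.card E ∣ Nat.card (Subgroup.centralizer (E : Set G)) :=
      Subgroup.card_dvd_of_le hEC
    have hd2 : Nat.card (Subgroup.centralizer (E : Set G)) ∣ Nat.card G :=
      Subgroup.card_subgroup_dvd_card _
    rw [hE] at hd1
    rw [hG] at hd2
    obtain ⟨m, hm⟩ := hd1
    have hm3 : m ∣ 3 := by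
      rw [hm] at hd2
      exact (Nat.mul_dvd_mul_iff_left (by norm_num : 0 < 9)).mp (by simpa using hd2)
    rcases (Nat.dvd_prime Nat.prime_three).mp hm3 with h1 | h1
    · -- card = 9: centralizer = E
      have heq : E = Subgroup.centralizer (E : Set G) :=
        Subgroup.eq_of_le_of_card_ge hEC (by rw [hm, h1, hE])
      exact hkE (heq ▸ hkC)
    · -- card = 27: E central
      have htop : Subgroup.centralizer (E : Set G) = ⊤ := by
        rw [← Subgroup.card_eq_iff_eq_top, hm, h1, hG]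
      have hEZ : E ≤ Subgroup.center G := by
        intro e he
        rw [Subgroup.mem_center_iff]
        intro g
        have hg : g ∈ Subgroup.centralizer (E : Set G) := by
          rw [htop]
          exact Subgroup.mem_top g
        rw [Subgroup.mem_centralizer_iff] at hg
        exact (hg e he).symm
      have h9 := Subgroup.card_le_of_le hEZ
      rw [hE, hZ] at h9
      omega
  intro y
  by_cases hyE : y ∈ E
  · exact hEe y hyE
  have hy3 : y ^ 3 ∈ E := by
    have h1 := Subgroup.pow_index_mem E y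
    rwa [hidx] at h1
  have hkE : y⁻¹ * ψ y ∈ E := by
    apply hCE
    intro a ha
    have h1 : y * a⁻¹ * y⁻¹ ∈ E := hEn.conj_mem _ (E.inv_mem ha) y
    have h2 := hψE _ h1
    rw [map_mul, map_mul, map_inv, map_inv, hψE a ha, inv_inv] at h2
    have h3 : ψ y * a * (ψ y)⁻¹ = y * a * y⁻¹ := by
      rw [h2]
      group
    calc y⁻¹ * ψ y * a = y⁻¹ * (ψ y * a * (ψ y)⁻¹) * ψ y := by group
      _ = y⁻¹ * (y * a * y⁻¹) * ψ y := by rw [h3]
      _ = a * (y⁻¹ * ψ y) := by group
  obtain ⟨k, hk, hψy⟩ : ∃ k ∈ E, ψ y = y * k := ⟨y⁻¹ * ψ y, hkE, by group⟩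
  obtain ⟨c, hcdef⟩ : ∃ c : G, c = k⁻¹ * y⁻¹ * k * y := ⟨_, rfl⟩
  have hc : c ∈ Subgroup.center G := by
    rw [hcdef]
    exact hcen k y
  have hcE : c ∈ E := by
    have h1 : y⁻¹ * k * y ∈ E := by
      have h2 := hEn.conj_mem k hk y⁻¹
      rwa [inv_inv] at h2
    have h3 : k⁻¹ * (y⁻¹ * k * y) ∈ E := E.mul_mem (E.inv_mem hk) h1
    have e : c = k⁻¹ * (y⁻¹ * k * y) := by
      rw [hcdef]
      group
    rw [e]
    exact h3
  have hc3 : c ^ 3 = 1 := hEe c hcE
  have hk3 : k ^ 3 = 1 := hEe k hk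
  have hcc : ∀ g : G, g * c = c * g := fun g => Subgroup.mem_center_iff.mp hc g
  have hky : k * y = y * k * c := by
    rw [hcdef]
    group
  have h5 : ψ (y ^ 3) = (y ^ 3)⁻¹ := hψE _ hy3
  have h6 : ψ (y ^ 3) = (y * k) ^ 3 := by rw [map_pow, hψy]
  have h7 : (y * k) ^ 3 = y ^ 3 := by
    rw [h36_cube_central y k c hcc hky, hk3, hc3, mul_one, mul_one]
  have h8 : (y ^ 3)⁻¹ = y ^ 3 := by rw [← h5, h6, h7]
  have h9 : y ^ 3 * y ^ 3 = 1 := by
    calc y ^ 3 * y ^ 3 = (y ^ 3)⁻¹ * y ^ 3 := by rw [h8]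
      _ = 1 := inv_mul_cancel _
  have h10 : (y ^ 3) ^ 3 = 1 := hEe _ hy3
  calc y ^ 3 = (y ^ 3) ^ 3 * (y ^ 3 * y ^ 3)⁻¹ := by group
    _ = 1 := by rw [h10, h9, inv_one, mul_one]

end Cfsg.Agent.Lib.helper79.P3
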