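import Mathlib
import Cfsg.Prelude.Def_Local
import Cfsg.Agent.Lib.helper14.PConstrained2
import Cfsg.Agent.Lib.helper28.PCores
import Cfsg.Agent.Lib.helper40.PComponent3
import Cfsg.Agent.Lib.helper27.PLocal
import Cfsg.Agent.Lib.helper54.FStar
import Cfsg.Agent.Lib.helper36.CharPCent

/-!
# `p`-constrained groups: quotients, and `p`-local subgroups (helper36)

* `isPConstrained_of_surjective_of_isPConstrained`: a homomorphic image of a `p`-constrained group
  modulo a normal `p'`-subgroup is `p`-constrained; `isPConstrained_of_mulEquiv`.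
* `centralizer_pCore_le_of_isPConstrained_centralizer`: `O_{p'}(X) = 1`, `z ∈ O_p(X)` and `C_X(z)`
  `p`-constrained imply `C_X(O_p(X)) ≤ O_p(X)`.
* `isPConstrained_of_isPConstrained_centralizer`: `T ⊴ H` a `p`-group, `z ∈ T`, `C_H(z)`
  `p`-constrained imply `H` `p`-constrained.
* `isPConstrained_normalizer_of_centralizer`: `z ∈ Z(T)`, `C_G(z)` `p`-constrained imply `N_G(T)`
  `p`-constrained.
* `isPConstrained_normalizer_of_le`: `N_G(T) ≤ M`, `M` `p`-constrained imply `N_G(T)`
  `p`-constrained.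
-/

set_option autoImplicit false

namespace Cfsg.Agent.Lib.helper36

open Cfsg.Agent.Lib.helper54

/-- A homomorphic image of a `p`-constrained group modulo a normal `p'`-subgroup is
`p`-constrained. -/
theorem isPConstrained_of_surjective_of_isPConstrained {X Y : Type*} [Group X] [Group Y]
    [Finite X] [Finite Y] {p : ℕ} [Fact p.Prime] (ρ : X →* Y) (hρ : Function.Surjective ρ)
    (hker : (Nat.card ρ.ker).Coprime p) (hX : Cfsg.IsPConstrained p X) :
    Cfsg.IsPConstrained p Y := by
  have hW := (Cfsg.Agent.Lib.helper28.isPConstrained_iff).mp hX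
  have hkerle : ρ.ker ≤ Cfsg.pPrimeCore p X :=
    Cfsg.Agent.Lib.helper40.le_pPrimeCore _ inferInstance hker
  have hkerle' : ρ.ker ≤ (QuotientGroup.mk' (Cfsg.pPrimeCore p X)).ker := by
    rw [QuotientGroup.ker_mk']; exact hkerle
  have hcomp : ∀ x : X, (ρ.liftOfSurjective hρ ⟨QuotientGroup.mk' (Cfsg.pPrimeCore p X), hkerle'⟩)
      (ρ x) = QuotientGroup.mk' (Cfsg.pPrimeCore p X) x := fun x =>
    ρ.liftOfRightInverse_comp_apply _ _ ⟨QuotientGroup.mk' (Cfsg.pPrimeCore p X), hkerle'⟩ x
  apply Cfsg.Agent.Lib.helper14.isPConstrained_of_surjective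
    (ρ.liftOfSurjective hρ ⟨QuotientGroup.mk' (Cfsg.pPrimeCore p X), hkerle'⟩) _ _ hW
  · intro w
    obtain ⟨x, rfl⟩ := QuotientGroup.mk'_surjective (Cfsg.pPrimeCore p X) w
    exact ⟨ρ x, hcomp x⟩
  · have hle : (ρ.liftOfSurjective hρ
        ⟨QuotientGroup.mk' (Cfsg.pPrimeCore p X), hkerle'⟩).ker ≤ (Cfsg.pPrimeCore p X).map ρ := by
      intro y hy
      obtain ⟨x, rfl⟩ := hρ y
      rw [MonoidHom.mem_ker, hcomp x] at hy
      refine ⟨x, ?_, rfl⟩
      rw [← QuotientGroup.ker_mk' (Cfsg.pPrimeCore p X)]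
      exact hy
    exact Nat.Coprime.coprime_dvd_left
      ((Subgroup.card_dvd_of_le hle).trans (Subgroup.card_map_dvd _ _))
      (Cfsg.Agent.Lib.helper40.pPrimeCore_card_coprime p X)

/-- `p`-constraint is invariant under isomorphism. -/
theorem isPConstrained_of_mulEquiv {X Y : Type*} [Group X] [Group Y] [Finite X] [Finite Y]
    {p : ℕ} [Fact p.Prime] (e : X ≃* Y) (hX : Cfsg.IsPConstrained p X) :
    Cfsg.IsPConstrained p Y := by
  apply isPConstrained_of_surjective_of_isPConstrained e.toMonoidHom e.surjective _ hX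
  have h1 : e.toMonoidHom.ker = ⊥ := (MonoidHom.ker_eq_bot_iff _).mpr e.injective
  rw [h1, Subgroup.card_bot]
  exact Nat.coprime_one_left p

/-- If `O_{p'}(X) = 1`, `z ∈ O_p(X)` and `C_X(z)` is `p`-constrained, then `C_X(O_p(X)) ≤ O_p(X)`. -/
theorem centralizer_pCore_le_of_isPConstrained_centralizer {X : Type*} [Group X] [Finite X]
    {p : ℕ} [Fact p.Prime] (hO : Cfsg.pPrimeCore p X = ⊥) {z : X} (hz : z ∈ Cfsg.pCore p X)
    (hC : Cfsg.IsPConstrained p ↥(Subgroup.centralizer ({z} : Set X))) :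
    Subgroup.centralizer (Cfsg.pCore p X : Set X) ≤ Cfsg.pCore p X := by
  rw [← generalizedFittingSubgroup_eq_pCore_iff,
    Cfsg.Agent.Lib.helper27.generalizedFitting_eq_pCore_iff]
  refine ⟨?_, hO⟩
  rw [Cfsg.Agent.Lib.helper28.layer_eq_bot_iff]
  intro K hK
  have hQn : (Cfsg.pCore p X).Normal := Cfsg.Agent.Lib.helper40.pCore_normal' p X
  have hsolv : Group.IsSolvable ↥(Cfsg.pCore p X) :=
    Cfsg.Agent.Lib.helper27.isSolvable_of_isPGroup (Cfsg.Agent.Lib.helper40.pCore_isPGroup p X)
  have hcomm : ⁅K, Cfsg.pCore p X⁆ = ⊥ :=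
    Cfsg.Agent.Lib.helper28.isComponent_commute_of_isSolvable hK hQn.isSubnormal hsolv
  have hKC : K ≤ Subgroup.centralizer ({z} : Set X) :=
    (Subgroup.commutator_eq_bot_iff_le_centralizer.mp hcomm).trans
      (Subgroup.centralizer_le (by simpa using hz))
  have hK' := Cfsg.Agent.Lib.helper28.isComponent_subgroupOf hK hKC
  have hlayer : Cfsg.layer (↥(Subgroup.centralizer ({z} : Set X)) ⧸
      Cfsg.pPrimeCore p ↥(Subgroup.centralizer ({z} : Set X))) = ⊥ :=
    (Cfsg.Agent.Lib.helper28.pLayer_eq_bot_iff p).mp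
      ((Cfsg.Agent.Lib.helper28.isPConstrained_iff_pLayer_eq_bot p).mp hC)
  by_cases hbot : (K.subgroupOf (Subgroup.centralizer ({z} : Set X))).map
      (QuotientGroup.mk' (Cfsg.pPrimeCore p ↥(Subgroup.centralizer ({z} : Set X)))) = ⊥
  · have hle : K.subgroupOf (Subgroup.centralizer ({z} : Set X)) ≤
        Cfsg.pPrimeCore p ↥(Subgroup.centralizer ({z} : Set X)) := by
      have := (Subgroup.map_eq_bot_iff _).mp hbot
      rwa [QuotientGroup.ker_mk'] at this
    have hcard : (Nat.card K).Coprime p := by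
      have h1 : Nat.card (K.subgroupOf (Subgroup.centralizer ({z} : Set X))) = Nat.card K :=
        Nat.card_congr (Subgroup.subgroupOfEquivOfLe hKC).toEquiv
      rw [← h1]
      exact Nat.Coprime.coprime_dvd_left (Subgroup.card_dvd_of_le hle)
        (Cfsg.Agent.Lib.helper40.pPrimeCore_card_coprime p _)
    have h2 := Cfsg.Agent.Lib.helper27.subnormal_coprime_le_pPrimeCore p K hK.1 hcard
    rw [hO] at h2
    exact Cfsg.Agent.Lib.helper28.isComponent_ne_bot hK (le_bot_iff.mp h2)
  · have hcomp := Cfsg.Agent.Lib.helper40.isComponent_map_of_ne_bot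
      (QuotientGroup.mk' (Cfsg.pPrimeCore p ↥(Subgroup.centralizer ({z} : Set X))))
      (QuotientGroup.mk'_surjective _) hK' hbot
    exact (Cfsg.Agent.Lib.helper28.layer_eq_bot_iff.mp hlayer) _ hcomp

/-- If `T` is a normal `p`-subgroup of `H`, `z ∈ T` and `C_H(z)` is `p`-constrained, then `H` is
`p`-constrained. -/
theorem isPConstrained_of_isPConstrained_centralizer {H : Type*} [Group H] [Finite H] {p : ℕ}
    [Fact p.Prime] (T : Subgroup H) [hTn : T.Normal] (hT : IsPGroup p T) {z : H} (hz : z ∈ T)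
    (hC : Cfsg.IsPConstrained p ↥(Subgroup.centralizer ({z} : Set H))) :
    Cfsg.IsPConstrained p H := by
  rw [Cfsg.Agent.Lib.helper28.isPConstrained_iff]
  have hOc : (Nat.card (Cfsg.pPrimeCore p H)).Coprime p :=
    Cfsg.Agent.Lib.helper40.pPrimeCore_card_coprime p H
  apply centralizer_pCore_le_of_isPConstrained_centralizer
    (z := QuotientGroup.mk' (Cfsg.pPrimeCore p H) z)
    (Cfsg.Agent.Lib.helper28.pPrimeCore_quotient_eq_bot p H)
  · have h1 : (T.map (QuotientGroup.mk' (Cfsg.pPrimeCore p H))).Normal :=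
      hTn.map _ (QuotientGroup.mk'_surjective _)
    exact Cfsg.Agent.Lib.helper40.le_pCore _ h1 (hT.map _) ⟨z, hz, rfl⟩
  · have hzp : IsPGroup p (Subgroup.zpowers z) := hT.to_le (Subgroup.zpowers_le.mpr hz)
    have hEq := Cfsg.Agent.Lib.helper14.map_centralizer_of_coprime (Cfsg.pPrimeCore p H) hOc
      (Subgroup.zpowers z) hzp
    rw [centralizer_zpowers_eq, MonoidHom.map_zpowers, centralizer_zpowers_eq] at hEq
    have key : Cfsg.IsPConstrained p ↥((Subgroup.centralizer ({z} : Set H)).map
        (QuotientGroup.mk' (Cfsg.pPrimeCore p H))) := by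
      apply isPConstrained_of_surjective_of_isPConstrained
        ((QuotientGroup.mk' (Cfsg.pPrimeCore p H)).subgroupMap (Subgroup.centralizer ({z} : Set H)))
        ((QuotientGroup.mk' (Cfsg.pPrimeCore p H)).subgroupMap_surjective _) _ hC
      have hle : (((QuotientGroup.mk' (Cfsg.pPrimeCore p H)).subgroupMap
          (Subgroup.centralizer ({z} : Set H))).ker).map
            (Subgroup.centralizer ({z} : Set H)).subtype ≤ Cfsg.pPrimeCore p H := by
        rintro _ ⟨x, hx, rfl⟩
        have hx' : ((QuotientGroup.mk' (Cfsg.pPrimeCore p H)).subgroupMap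
            (Subgroup.centralizer ({z} : Set H))) x = 1 := MonoidHom.mem_ker.mp hx
        have h1 := congrArg Subtype.val hx'
        have h2 : (QuotientGroup.mk' (Cfsg.pPrimeCore p H)) (x : H) = 1 := h1
        rw [QuotientGroup.mk'_apply, QuotientGroup.eq_one_iff] at h2
        exact h2
      have hd := Subgroup.card_dvd_of_le hle
      rw [Subgroup.card_subtype] at hd
      exact Nat.Coprime.coprime_dvd_left hd hOc
    rw [hEq] at key
    exact key

/-- If `z ∈ T`, `T ≤ C_G(z)` is a `p`-subgroup and `C_G(z)` is `p`-constrained, then `N_G(T)` is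
`p`-constrained. -/
theorem isPConstrained_normalizer_of_centralizer {G : Type*} [Group G] [Finite G] {p : ℕ}
    [Fact p.Prime] {T : Subgroup G} (hT : IsPGroup p T) {z : G} (hz : z ∈ T)
    (hTC : T ≤ Subgroup.centralizer ({z} : Set G))
    (hC : Cfsg.IsPConstrained p ↥(Subgroup.centralizer ({z} : Set G))) :
    Cfsg.IsPConstrained p ↥(Subgroup.normalizer (T : Set G)) := by
  have hTN : T ≤ Subgroup.normalizer (T : Set G) := Subgroup.le_normalizer
  have hTn : (T.subgroupOf (Subgroup.normalizer (T : Set G))).Normal :=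
    (Subgroup.normal_subgroupOf_iff_le_normalizer hTN).mpr le_rfl
  have hTp : IsPGroup p (T.subgroupOf (Subgroup.normalizer (T : Set G))) := hT.comap_subtype
  have hz' : (⟨z, hTN hz⟩ : ↥(Subgroup.normalizer (T : Set G))) ∈
      T.subgroupOf (Subgroup.normalizer (T : Set G)) := Subgroup.mem_subgroupOf.mpr hz
  apply isPConstrained_of_isPConstrained_centralizer
    (T.subgroupOf (Subgroup.normalizer (T : Set G))) hTp hz'
  -- `N_C(T)` is `p`-constrained
  have hTp' : IsPGroup p (T.subgroupOf (Subgroup.centralizer ({z} : Set G))) := hT.comap_subtype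
  have h0 := Cfsg.Agent.Lib.helper14.isPConstrained_normalizer hC
    (T.subgroupOf (Subgroup.centralizer ({z} : Set G))) hTp'
  have h1 : Subgroup.normalizer ((T.subgroupOf (Subgroup.centralizer ({z} : Set G)) :
      Subgroup ↥(Subgroup.centralizer ({z} : Set G))) : Set ↥(Subgroup.centralizer ({z} : Set G))) =
      (Subgroup.normalizer (T : Set G) ⊓ Subgroup.centralizer ({z} : Set G)).subgroupOf
        (Subgroup.centralizer ({z} : Set G)) := by
    rw [← Subgroup.subgroupOf_normalizer_eq hTC, Subgroup.inf_subgroupOf_right]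
  have h2 : Subgroup.centralizer
      ({(⟨z, hTN hz⟩ : ↥(Subgroup.normalizer (T : Set G)))} :
        Set ↥(Subgroup.normalizer (T : Set G))) =
      (Subgroup.normalizer (T : Set G) ⊓ Subgroup.centralizer ({z} : Set G)).subgroupOf
        (Subgroup.normalizer (T : Set G)) := by
    ext x
    rw [Subgroup.mem_subgroupOf, Subgroup.mem_inf, Subgroup.mem_centralizer_iff,
      Subgroup.mem_centralizer_iff]
    constructor
    · intro h
      refine ⟨x.2, ?_⟩
      intro y hy
      rw [Set.mem_singleton_iff] at hy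
      subst hy
      exact congrArg Subtype.val (h _ rfl)
    · rintro ⟨-, h⟩ y hy
      rw [Set.mem_singleton_iff] at hy
      subst hy
      exact Subtype.ext (h z rfl)
  exact isPConstrained_of_mulEquiv
    (((MulEquiv.subgroupCongr h1).trans (Subgroup.subgroupOfEquivOfLe inf_le_right)).trans
      ((MulEquiv.subgroupCongr h2).trans (Subgroup.subgroupOfEquivOfLe inf_le_left)).symm) h0

/-- If `N_G(T) ≤ M` with `T` a `p`-subgroup and `M` `p`-constrained, then `N_G(T)` is
`p`-constrained. -/
theorem isPConstrained_normalizer_of_le {G : Type*} [Group G] [Finite G] {p : ℕ}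
    [Fact p.Prime] {T M : Subgroup G} (hT : IsPGroup p T)
    (hNM : Subgroup.normalizer (T : Set G) ≤ M) (hM : Cfsg.IsPConstrained p ↥M) :
    Cfsg.IsPConstrained p ↥(Subgroup.normalizer (T : Set G)) := by
  have hTM : T ≤ M := Subgroup.le_normalizer.trans hNM
  have hTp' : IsPGroup p (T.subgroupOf M) := hT.comap_subtype
  have h0 := Cfsg.Agent.Lib.helper14.isPConstrained_normalizer hM (T.subgroupOf M) hTp'
  have h1 : Subgroup.normalizer ((T.subgroupOf M : Subgroup ↥M) : Set ↥M) =
      (Subgroup.normalizer (T : Set G)).subgroupOf M :=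
    (Subgroup.subgroupOf_normalizer_eq hTM).symm
  exact isPConstrained_of_mulEquiv
    ((MulEquiv.subgroupCongr h1).trans (Subgroup.subgroupOfEquivOfLe hNM)) h0

end Cfsg.Agent.Lib.helper36
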