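import Mathlib
import Cfsg.Agent.Lib.helper75.PQDefs
import Cfsg.Agent.Lib.helper66.S3B

/-!
# S4306, piece DK (core): weights of `K`-type

`Cfsg.Agent.Lib.helper36.PQ` : helper lemmas; the exact-statement piece is in `PQ_DK.lean`.
-/

set_option autoImplicit false

namespace Cfsg.Agent.Lib.helper36.PQ

open Cfsg.Agent.Lib.helper66 (WtV Fx cw rho_mul conj_mem_of_normalizer conj_mem_of_normalizer'
  pow_fix_of_fix inv_fix_of_fix)
open Cfsg.Agent.Lib.helper75.PQ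
open scoped commutatorElement

section DK
variable {Γ : Type*} [Group Γ] {F : Type*} [Field F]
  {W : Type*} [AddCommGroup W] [Module F W]
  {ρ : Γ →* Module.End F W} {K H S R : Subgroup Γ} {p q s r : ℕ}

/-- The weight space of `μ` on `Z`. -/
def dkWt (ρ : Γ →* Module.End F W) (Z : Subgroup Γ) (μ : Γ → F) : Submodule F W where
  carrier := {w | ∀ z ∈ Z, ρ z w = μ z • w}
  add_mem' := by
    intro a b ha hb z hz
    rw [map_add, ha z hz, hb z hz, smul_add]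
  zero_mem' := by
    intro z _
    rw [map_zero, smul_zero]
  smul_mem' := by
    intro c a ha z hz
    rw [map_smul, ha z hz, smul_comm]

theorem mem_dkWt (ρ : Γ →* Module.End F W) (Z : Subgroup Γ) (μ : Γ → F) (w : W) :
    w ∈ dkWt ρ Z μ ↔ ∀ z ∈ Z, ρ z w = μ z • w := Iff.rfl

/-- The normalizer of `R` normalizes the center of `R`. -/
theorem dk_norm_ZR (R : Subgroup Γ) (g : Γ) (hg : g ∈ Subgroup.normalizer (R : Set Γ)) :
    g ∈ Subgroup.normalizer (ZR R : Set Γ) := by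
  rw [Subgroup.mem_normalizer_iff]
  intro z
  constructor
  · intro hz
    rw [mem_ZR] at hz ⊢
    refine ⟨(Subgroup.mem_normalizer_iff.mp hg z).mp hz.1, ?_⟩
    intro x hx
    have hx' : g⁻¹ * x * g ∈ R := conj_mem_of_normalizer' R g hg x hx
    have h1 := hz.2 _ hx'
    calc x * (g * z * g⁻¹) = g * ((g⁻¹ * x * g) * z) * g⁻¹ := by group
      _ = g * (z * (g⁻¹ * x * g)) * g⁻¹ := by rw [h1]
      _ = g * z * g⁻¹ * x := by group
  · intro hz
    rw [mem_ZR] at hz ⊢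
    refine ⟨(Subgroup.mem_normalizer_iff.mp hg z).mpr hz.1, ?_⟩
    intro x hx
    have hx' : g * x * g⁻¹ ∈ R := conj_mem_of_normalizer R g hg x hx
    have h1 := hz.2 _ hx'
    have h2 : g * (x * z) * g⁻¹ = g * (z * x) * g⁻¹ := by
      calc g * (x * z) * g⁻¹ = (g * x * g⁻¹) * (g * z * g⁻¹) := by group
        _ = (g * z * g⁻¹) * (g * x * g⁻¹) := h1
        _ = g * (z * x) * g⁻¹ := by group
    exact mul_left_cancel (mul_right_cancel h2)

theorem dk_le_norm_ZR (A R : Subgroup Γ) (h : A ≤ Subgroup.normalizer (R : Set Γ)) :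
    A ≤ Subgroup.normalizer (ZR R : Set Γ) := fun _ ha => dk_norm_ZR R _ (h ha)

/-- A vector fixed by `k` is fixed by every element of `zpowers k`. -/
theorem dk_zpow_fix (ρ : Γ →* Module.End F W) (k : Γ) (w : W) (h : ρ k w = w) (k' : Γ)
    (hk' : k' ∈ Subgroup.zpowers k) : ρ k' w = w := by
  obtain ⟨n, rfl⟩ := Subgroup.mem_zpowers_iff.mp hk'
  cases n with
  | ofNat m =>
    rw [Int.ofNat_eq_natCast, zpow_natCast]
    exact pow_fix_of_fix ρ k w h m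
  | negSucc m =>
    rw [zpow_negSucc]
    exact inv_fix_of_fix ρ _ w (pow_fix_of_fix ρ k w h (m + 1))

/-- DK, with the other pieces (`dich`, C5, B4, A5, A7) as hypotheses. -/
theorem K_type_core [Finite Γ] (T : MinTower ρ K H S R p q s r)
    (hcl : ∀ u ∈ R, ∀ v ∈ R, ∀ t ∈ R, ⁅u, v⁆ * t = t * ⁅u, v⁆)
    (hdich : ∀ (x : Γ) (M : Submodule F W), x ^ p = 1 →
      x ∈ Subgroup.normalizer (R : Set Γ) →
      (∀ u ∈ R, ∀ w ∈ M, ρ u w ∈ M) → (∀ w ∈ M, ρ x w ∈ M) →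
      (∀ u ∈ R, ∀ v ∈ R, ∃ c : F, ∀ w ∈ M, ρ ⁅u, v⁆ w = c • w) →
      (∀ w ∈ M, ρ x w = w → w = 0) →
      (∀ u ∈ R, ∀ w ∈ M, ρ ⁅x, u⁆ w = w) ∨ (r = 2 ∧ ∃ n : ℕ, p = 2 ^ n + 1))
    (hnofix : ∀ (μ : Γ → F) (w : W), WtV ρ ⊤ (ZR R) μ w →
      (∀ h ∈ H, h ≠ 1 → ¬ Fx (ZR R) h μ) → (∀ k ∈ K, ρ k w = w) → False)
    (hzp : ∀ k ∈ K, k ≠ 1 → K = Subgroup.zpowers k)
    (hdvd : q ∣ p - 1)
    (μ : Γ → F)
    (hK : ∀ k ∈ K, Fx (ZR R) k μ)
    (hH : ∀ h ∈ H, h ≠ 1 → ¬ Fx (ZR R) h μ) :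
    ∀ k ∈ K, ∀ u ∈ R, ∀ w' : W, WtV ρ ⊤ (ZR R) μ w' → ρ ⁅k, u⁆ w' = w' := by
  intro k hk u hu w' hw'
  by_cases hk1 : k = 1
  · subst hk1
    have e : ⁅(1 : Γ), u⁆ = 1 := by rw [commutatorElement_def]; group
    rw [e, map_one, Module.End.one_apply]
  · have hkR : k ∈ Subgroup.normalizer (R : Set Γ) := T.KR hk
    have hkZ : k ∈ Subgroup.normalizer (ZR R : Set Γ) := dk_norm_ZR R k hkR
    have hkp : k ^ p = 1 := by
      have h1 : (⟨k, hk⟩ : K) ^ Nat.card K = 1 := pow_card_eq_one'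
      rw [T.cardK] at h1
      have h2 := congrArg (Subtype.val) h1
      simpa using h2
    have hMR : ∀ u ∈ R, ∀ w ∈ dkWt ρ (ZR R) μ, ρ u w ∈ dkWt ρ (ZR R) μ := by
      intro u hu w hw z hz
      have hzu : z * u = u * z := ((mem_ZR.mp hz).2 u hu).symm
      rw [← rho_mul, hzu, rho_mul, hw z hz, map_smul]
    have hMx : ∀ w ∈ dkWt ρ (ZR R) μ, ρ k w ∈ dkWt ρ (ZR R) μ := by
      intro w hw z hz
      have e : z * k = k * (k⁻¹ * z * k) := by group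
      rw [← rho_mul, e, rho_mul, hw _ (conj_mem_of_normalizer' _ k hkZ z hz), map_smul,
        hK k hk z hz]
    have hsc : ∀ u ∈ R, ∀ v ∈ R, ∃ c : F, ∀ w ∈ dkWt ρ (ZR R) μ, ρ ⁅u, v⁆ w = c • w := by
      intro u hu v hv
      refine ⟨μ ⁅u, v⁆, fun w hw => hw _ ?_⟩
      rw [mem_ZR]
      refine ⟨?_, fun t ht => (hcl u hu v hv t ht).symm⟩
      rw [commutatorElement_def]
      exact R.mul_mem (R.mul_mem (R.mul_mem hu hv) (R.inv_mem hu)) (R.inv_mem hv)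
    have hfix : ∀ w ∈ dkWt ρ (ZR R) μ, ρ k w = w → w = 0 := by
      intro w hw hkw
      by_contra hne
      apply hnofix μ w ⟨Submodule.mem_top, hne, hw⟩ hH
      intro k' hk'
      rw [hzp k hk hk1] at hk'
      exact dk_zpow_fix ρ k w hkw k' hk'
    rcases hdich k (dkWt ρ (ZR R) μ) hkp hkR hMR hMx hsc hfix with h | ⟨hr2, n, hn⟩
    · exact h u hu w' hw'.2.2
    · exfalso
      have h1 : q ∣ 2 ^ n := by
        rw [hn] at hdvd
        simpa using hdvd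
      have hq2 : q = 2 :=
        (Nat.prime_dvd_prime_iff_eq T.hq Nat.prime_two).mp (T.hq.dvd_of_dvd_pow h1)
      exact T.hrq (hr2.trans hq2.symm)

end DK

end Cfsg.Agent.Lib.helper36.PQ
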