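import Mathlib
import Cfsg.Agent.Lib.helper75.PQDefs
import Cfsg.Agent.Lib.helper75.PQTower
import Cfsg.Agent.Lib.helper66.S3B
import Cfsg.Agent.Lib.helper18.PQ_A
import Cfsg.Agent.Lib.helper82.PQ_B45
import Cfsg.Agent.Lib.helper50.PQ_C5
import Cfsg.Agent.Lib.helper47.PQ_D
import Cfsg.Agent.Lib.helper36.PQ_DKcore

/-!
# S4306, piece DK: `MinTower.K_type` (exact skeleton statement)
-/

set_option autoImplicit false

namespace Cfsg.Agent.Lib.helper75.PQ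

open Cfsg.Agent.Lib.helper66 (WtV Fx cw)
open scoped commutatorElement

section D
variable {Γ : Type*} [Group Γ] [Finite Γ] {F : Type*} [Field F] [IsAlgClosed F]
  {W : Type*} [AddCommGroup W] [Module F W] [FiniteDimensional F W]
  {ρ : Γ →* Module.End F W} {K H S R : Subgroup Γ} {p q s r : ℕ}

/-- DK: for a weight of `K`-type, the commutators `[k, u]` act trivially on the weight
space. -/
theorem MinTower.K_type (T : MinTower ρ K H S R p q s r)
    (hnab : ¬ ∀ x ∈ R, ∀ x' ∈ R, x * x' = x' * x) (μ : Γ → F) (w : W)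
    (hw : WtV ρ ⊤ (ZR R) μ w) (hK : ∀ k ∈ K, Fx (ZR R) k μ)
    (hH : ∀ h ∈ H, h ≠ 1 → ¬ Fx (ZR R) h μ) :
    ∀ k ∈ K, ∀ u ∈ R, ∀ w' : W, WtV ρ ⊤ (ZR R) μ w' → ρ ⁅k, u⁆ w' = w' :=
  have _ := hw
  Cfsg.Agent.Lib.helper36.PQ.K_type_core T (T.center_R hnab).2
    (fun x M hxa hxR hMR hMx hsc hfix =>
      (dich ρ R r T.hr T.Rgrp T.rF (T.center_R hnab).2 x p T.hp T.hrp.symm T.pF hxa hxR M
        hMR hMx hsc hfix).imp id (fun h => ⟨h.1, h.2.1⟩))
    (fun μ' w' hw' hH' hfix' =>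
      T.toTower.no_fix_K (ZR R) (Cfsg.Agent.Lib.helper36.PQ.dk_le_norm_ZR H R T.HR) μ' w' hw'
        hH' hfix')
    (fun k hk hk1 => T.toTower.frob.zpowers_K k hk hk1)
    T.toTower.frob.dvd_pred μ hK hH

end D

end Cfsg.Agent.Lib.helper75.PQ
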