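import Mathlib
import Cfsg.Agent.Lib.helper75.PQDefs
import Cfsg.Agent.Lib.helper66.S3B
import Cfsg.Agent.Lib.helper1.Coprime
import Cfsg.Agent.Lib.helper36.PQ_DKcore

/-!
# S4306, piece IIb (core): nonabelian `R`, case (b)

The exact-statement piece is in `PQ_IIb.lean`; here the other pieces are hypotheses.
-/

set_option autoImplicit false

namespace Cfsg.Agent.Lib.helper36.PQ

open Cfsg.Agent.Lib.helper66 (WtV Fx cw rho_mul rho_apply_inv conj_mem_of_normalizer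
  conj_mem_of_normalizer' pow_fix_of_fix inv_fix_of_fix wt_mul wt_one wt_inv wt_conj cw_apply)
open Cfsg.Agent.Lib.helper75.PQ
open Cfsg.Agent.Lib.helper1 (coset_fixed)
open scoped commutatorElement

section IIb
variable {Γ : Type*} [Group Γ] {F : Type*} [Field F]
  {W : Type*} [AddCommGroup W] [Module F W]

/-- The pointwise stabilizer of a subspace. -/
def fixM (ρ : Γ →* Module.End F W) (M : Submodule F W) : Subgroup Γ where
  carrier := {g | ∀ w ∈ M, ρ g w = w}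
  one_mem' := by
    intro w _
    rw [map_one, Module.End.one_apply]
  mul_mem' := by
    intro a b ha hb w hw
    rw [rho_mul, hb w hw, ha w hw]
  inv_mem' := by
    intro a ha w hw
    exact inv_fix_of_fix ρ a w (ha w hw)

/-- The setwise stabilizer of a subspace. -/
def stabM (ρ : Γ →* Module.End F W) (M : Submodule F W) : Subgroup Γ where
  carrier := {g | (∀ w ∈ M, ρ g w ∈ M) ∧ (∀ w ∈ M, ρ g⁻¹ w ∈ M)}
  one_mem' := by
    refine ⟨fun w hw => ?_, fun w hw => ?_⟩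
    · rw [map_one, Module.End.one_apply]; exact hw
    · rw [inv_one, map_one, Module.End.one_apply]; exact hw
  mul_mem' := by
    intro a b ha hb
    refine ⟨fun w hw => ?_, fun w hw => ?_⟩
    · rw [rho_mul]; exact ha.1 _ (hb.1 w hw)
    · rw [mul_inv_rev, rho_mul]; exact hb.2 _ (ha.2 w hw)
  inv_mem' := by
    intro a ha
    refine ⟨ha.2, ?_⟩
    rw [inv_inv]
    exact ha.1

theorem fixM_conj (ρ : Γ →* Module.End F W) (M : Submodule F W) (g a : Γ)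
    (hg : g ∈ stabM ρ M) (ha : a ∈ fixM ρ M) : g * a * g⁻¹ ∈ fixM ρ M := by
  intro w hw
  rw [rho_mul, rho_mul, ha _ (hg.2 w hw), rho_apply_inv]

/-- The elements normalizing `R`, stabilizing `M`, and acting trivially on `R` modulo the
kernel of `R` on `M`. -/
def eSub (ρ : Γ →* Module.End F W) (M : Submodule F W) (R : Subgroup Γ) : Subgroup Γ where
  carrier := {γ | γ ∈ stabM ρ M ∧ γ ∈ Subgroup.normalizer (R : Set Γ) ∧
    ∀ u ∈ R, ⁅γ, u⁆ ∈ fixM ρ M}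
  one_mem' := by
    refine ⟨one_mem _, one_mem _, fun u _ => ?_⟩
    have e : ⁅(1 : Γ), u⁆ = 1 := by rw [commutatorElement_def]; group
    rw [e]
    exact one_mem _
  mul_mem' := by
    intro a b ha hb
    refine ⟨mul_mem ha.1 hb.1, mul_mem ha.2.1 hb.2.1, fun u hu => ?_⟩
    have e : ⁅a * b, u⁆ = a * ⁅b, u⁆ * a⁻¹ * ⁅a, u⁆ := by
      simp only [commutatorElement_def]; group
    rw [e]
    exact mul_mem (fixM_conj ρ M a _ ha.1 (hb.2.2 u hu)) (ha.2.2 u hu)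
  inv_mem' := by
    intro a ha
    refine ⟨inv_mem ha.1, inv_mem ha.2.1, fun u hu => ?_⟩
    have e : ⁅a⁻¹, u⁆ = a⁻¹ * ⁅a, u⁆⁻¹ * a⁻¹⁻¹ := by
      simp only [commutatorElement_def]; group
    rw [e]
    exact fixM_conj ρ M a⁻¹ _ (inv_mem ha.1) (inv_mem (ha.2.2 u hu))

theorem eSub_conj (ρ : Γ →* Module.End F W) (M : Submodule F W) (R : Subgroup Γ) (y γ : Γ)
    (hy : y ∈ stabM ρ M) (hyR : y ∈ Subgroup.normalizer (R : Set Γ)) (hγ : γ ∈ eSub ρ M R) :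
    y * γ * y⁻¹ ∈ eSub ρ M R := by
  refine ⟨mul_mem (mul_mem hy hγ.1) (inv_mem hy), mul_mem (mul_mem hyR hγ.2.1) (inv_mem hyR),
    fun u hu => ?_⟩
  have e : ⁅y * γ * y⁻¹, u⁆ = y * ⁅γ, y⁻¹ * u * y⁆ * y⁻¹ := by
    simp only [commutatorElement_def]; group
  rw [e]
  exact fixM_conj ρ M y _ hy (hγ.2.2 _ (conj_mem_of_normalizer' R y hyR u hu))

/-- The stabilizer in `S` of the coset `g N`. -/
def cstab (S N : Subgroup Γ) (hSN : S ≤ Subgroup.normalizer (N : Set Γ)) (g : Γ) :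
    Subgroup Γ where
  carrier := {y | y ∈ S ∧ ⁅y, g⁆ ∈ N}
  one_mem' := by
    refine ⟨one_mem _, ?_⟩
    have e : ⁅(1 : Γ), g⁆ = 1 := by rw [commutatorElement_def]; group
    rw [e]
    exact one_mem _
  mul_mem' := by
    intro a b ha hb
    refine ⟨mul_mem ha.1 hb.1, ?_⟩
    have e : ⁅a * b, g⁆ = a * ⁅b, g⁆ * a⁻¹ * ⁅a, g⁆ := by
      simp only [commutatorElement_def]; group
    rw [e]
    exact mul_mem (conj_mem_of_normalizer N a (hSN ha.1) _ hb.2) ha.2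
  inv_mem' := by
    intro a ha
    refine ⟨inv_mem ha.1, ?_⟩
    have e : ⁅a⁻¹, g⁆ = a⁻¹ * ⁅a, g⁆⁻¹ * a := by
      simp only [commutatorElement_def]; group
    rw [e]
    exact conj_mem_of_normalizer' N a (hSN ha.1) _ (inv_mem ha.2)

theorem le_normalizer_of_conj (A N : Subgroup Γ) (h : ∀ a ∈ A, ∀ n ∈ N, a * n * a⁻¹ ∈ N) :
    A ≤ Subgroup.normalizer (N : Set Γ) := by
  intro a ha
  rw [Subgroup.mem_normalizer_iff]
  intro n
  refine ⟨h a ha n, fun hn => ?_⟩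
  have h1 := h a⁻¹ (inv_mem ha) _ hn
  have e : a⁻¹ * (a * n * a⁻¹) * a⁻¹⁻¹ = n := by group
  rwa [e] at h1

theorem comm_mem_ZR (R : Subgroup Γ)
    (hcl : ∀ u ∈ R, ∀ v ∈ R, ∀ t ∈ R, ⁅u, v⁆ * t = t * ⁅u, v⁆) (u v : Γ) (hu : u ∈ R)
    (hv : v ∈ R) : ⁅u, v⁆ ∈ ZR R := by
  rw [mem_ZR]
  refine ⟨?_, fun t ht => (hcl u hu v hv t ht).symm⟩
  rw [commutatorElement_def]
  exact R.mul_mem (R.mul_mem (R.mul_mem hu hv) (R.inv_mem hu)) (R.inv_mem hv)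

/-- The radical of the weight `ν` of `Z(R)` (for `R` of class two). -/
def radW (ρ : Γ →* Module.End F W) (R : Subgroup Γ)
    (hcl : ∀ u ∈ R, ∀ v ∈ R, ∀ t ∈ R, ⁅u, v⁆ * t = t * ⁅u, v⁆)
    (ν : Γ → F) (wν : W) (hν : WtV ρ ⊤ (ZR R) ν wν) : Subgroup Γ where
  carrier := {u | u ∈ R ∧ ∀ v ∈ R, ν ⁅u, v⁆ = 1}
  one_mem' := by
    refine ⟨one_mem _, fun v _ => ?_⟩
    have e : ⁅(1 : Γ), v⁆ = 1 := by rw [commutatorElement_def]; group
    rw [e]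
    exact wt_one ρ ⊤ (ZR R) ν wν hν
  mul_mem' := by
    intro a b ha hb
    refine ⟨mul_mem ha.1 hb.1, fun v hv => ?_⟩
    have hbz : ⁅b, v⁆ ∈ ZR R := comm_mem_ZR R hcl b v hb.1 hv
    have haz : ⁅a, v⁆ ∈ ZR R := comm_mem_ZR R hcl a v ha.1 hv
    have e : ⁅a * b, v⁆ = ⁅b, v⁆ * ⁅a, v⁆ := by
      have e1 : ⁅a * b, v⁆ = a * ⁅b, v⁆ * a⁻¹ * ⁅a, v⁆ := by
        simp only [commutatorElement_def]; group
      have e2 : a * ⁅b, v⁆ = ⁅b, v⁆ * a := (mem_ZR.mp hbz).2 a ha.1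
      rw [e1, e2]
      group
    rw [e, wt_mul ρ ⊤ (ZR R) ν wν hν _ _ hbz haz, hb.2 v hv, ha.2 v hv, one_mul]
  inv_mem' := by
    intro a ha
    refine ⟨inv_mem ha.1, fun v hv => ?_⟩
    have haz : ⁅a, v⁆ ∈ ZR R := comm_mem_ZR R hcl a v ha.1 hv
    have e : ⁅a⁻¹, v⁆ = ⁅a, v⁆⁻¹ := by
      have e1 : ⁅a⁻¹, v⁆ = a⁻¹ * ⁅a, v⁆⁻¹ * a := by
        simp only [commutatorElement_def]; group
      have e2 : a⁻¹ * ⁅a, v⁆⁻¹ = ⁅a, v⁆⁻¹ * a⁻¹ :=
        (mem_ZR.mp (inv_mem haz)).2 a⁻¹ (inv_mem ha.1)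
      rw [e1, e2]
      group
    rw [e, wt_inv ρ ⊤ (ZR R) ν wν hν _ haz, ha.2 v hv, inv_one]

theorem radW_norm (ρ : Γ →* Module.End F W) (S R : Subgroup Γ)
    (hcl : ∀ u ∈ R, ∀ v ∈ R, ∀ t ∈ R, ⁅u, v⁆ * t = t * ⁅u, v⁆)
    (ν : Γ → F) (wν : W) (hν : WtV ρ ⊤ (ZR R) ν wν)
    (hSR : S ≤ Subgroup.normalizer (R : Set Γ))
    (hSZ : ∀ y ∈ S, ∀ z ∈ ZR R, y * z = z * y) :
    S ≤ Subgroup.normalizer ((radW ρ R hcl ν wν hν : Subgroup Γ) : Set Γ) := by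
  apply le_normalizer_of_conj
  intro y hy u hu
  refine ⟨conj_mem_of_normalizer R y (hSR hy) u hu.1, fun v hv => ?_⟩
  have hv' : y⁻¹ * v * y ∈ R := conj_mem_of_normalizer' R y (hSR hy) v hv
  have hz : ⁅u, y⁻¹ * v * y⁆ ∈ ZR R := comm_mem_ZR R hcl u _ hu.1 hv'
  have e : ⁅y * u * y⁻¹, v⁆ = ⁅u, y⁻¹ * v * y⁆ := by
    have e1 : ⁅y * u * y⁻¹, v⁆ = y * ⁅u, y⁻¹ * v * y⁆ * y⁻¹ := by
      simp only [commutatorElement_def]; group
    rw [e1, hSZ y hy _ hz]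
    group
  rw [e]
  exact hu.2 _ hv'

theorem pgrp_solv [Finite Γ] (P : Subgroup Γ) (s : ℕ) (hs : s.Prime) (hP : IsPGroup s P) :
    Group.IsSolvable P := by
  have : Fact s.Prime := ⟨hs⟩
  have := hP.isNilpotent
  infer_instance

theorem pgrp_coprime [Finite Γ] (A B : Subgroup Γ) (s r : ℕ) (hs : s.Prime) (hr : r.Prime)
    (hsr : s ≠ r) (hA : IsPGroup s A) (hB : IsPGroup r B) :
    (Nat.card A).Coprime (Nat.card B) := by
  have : Fact s.Prime := ⟨hs⟩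
  have : Fact r.Prime := ⟨hr⟩
  obtain ⟨n, hn⟩ := IsPGroup.iff_card.mp hA
  obtain ⟨m, hm⟩ := IsPGroup.iff_card.mp hB
  rw [hn, hm]
  exact Nat.Coprime.pow _ _ ((Nat.coprime_primes hs hr).mpr hsr)

end IIb

section Main
variable {Γ : Type*} [Group Γ] [Finite Γ] {F : Type*} [Field F]
  {W : Type*} [AddCommGroup W] [Module F W]
  {ρ : Γ →* Module.End F W} {K H S R : Subgroup Γ} {p q s r : ℕ}

/-- IIb, with the other pieces (C5, PRE, DK, DH, C3, C4, C9, B7) as hypotheses. -/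
theorem IIb_core (T : MinTower ρ K H S R p q s r)
    (hC5 : ∀ x ∈ R, (∀ y ∈ S, y * x = x * y) ↔ (∀ x' ∈ R, x * x' = x' * x))
    (hcl : ∀ x ∈ R, ∀ x' ∈ R, ∀ u ∈ R, ⁅x, x'⁆ * u = u * ⁅x, x'⁆)
    (hPRE : ∃ (μ : Γ → F) (w : W), WtV ρ ⊤ (ZR R) μ w ∧
      (∃ x₁ ∈ R, ∃ x₂ ∈ R, μ ⁅x₁, x₂⁆ ≠ 1) ∧
      (((∀ k ∈ K, Fx (ZR R) k μ) ∧ (∀ h ∈ H, h ≠ 1 → ¬ Fx (ZR R) h μ)) ∨
       ((∀ h ∈ H, Fx (ZR R) h μ) ∧ (∀ k ∈ K, k ≠ 1 → ¬ Fx (ZR R) k μ))))
    (hDK : ∀ (μ : Γ → F) (w : W), WtV ρ ⊤ (ZR R) μ w → (∀ k ∈ K, Fx (ZR R) k μ) →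
      (∀ h ∈ H, h ≠ 1 → ¬ Fx (ZR R) h μ) →
      ∀ k ∈ K, ∀ u ∈ R, ∀ w' : W, WtV ρ ⊤ (ZR R) μ w' → ρ ⁅k, u⁆ w' = w')
    (hDH : ∀ (μ : Γ → F) (w : W), WtV ρ ⊤ (ZR R) μ w → (∀ h ∈ H, Fx (ZR R) h μ) →
      (∀ k ∈ K, k ≠ 1 → ¬ Fx (ZR R) k μ) →
      ∀ h ∈ H, ∀ y ∈ S, ∀ u ∈ R, ∀ v ∈ R, μ ⁅⁅⁅h, y⁆, u⁆, v⁆ = 1)
    (hC3 : ∀ k ∈ K, k ≠ 1 → ∀ y ∈ S, (∀ x ∈ R, ⁅k, y⁆ * x = x * ⁅k, y⁆) →
      ∀ x ∈ R, y * x = x * y)
    (hC4 : ⁅R, S⁆ = R)
    (hC9 : ∀ k ∈ K, k ≠ 1 → ∀ D : Subgroup Γ,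
      (∀ y ∈ S, (∀ x ∈ R, y * x = x * y) → y ∈ D) →
      (∀ h ∈ H, ∀ y ∈ S, ⁅h, y⁆ ∈ D) → (∀ h ∈ H, ∀ y ∈ S, ⁅k * h * k⁻¹, y⁆ ∈ D) → S ≤ D)
    (hB7 : ∀ (μ : Γ → F) (w : W), WtV ρ ⊤ (ZR R) μ w → (∀ h ∈ H, Fx (ZR R) h μ) →
      ∀ b ∈ ZR R, (∀ k ∈ K, k ≠ 1 → cw μ k b = 1) → μ b = 1) : False := by
  obtain ⟨μ, w, hw, ⟨x₁, hx₁, x₂, hx₂, hg0⟩, htype⟩ := hPRE
  have hSZ : ∀ y ∈ S, ∀ z ∈ ZR R, y * z = z * y := by
    intro y hy z hz
    have hz' := mem_ZR.mp hz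
    exact ((hC5 z hz'.1).mpr (fun x' hx' => (hz'.2 x' hx').symm)) y hy
  have hcz : ∀ u ∈ R, ∀ v ∈ R, ⁅u, v⁆ ∈ ZR R := fun u hu v hv => comm_mem_ZR R hcl u v hu hv
  have hKp : IsPGroup p K := IsPGroup.of_card (n := 1) (by rw [T.cardK, pow_one])
  obtain ⟨k₀, hk₀, hk₀1⟩ : ∃ k ∈ K, k ≠ 1 := by
    by_contra hcon
    have hbot : K = ⊥ := by
      rw [Subgroup.eq_bot_iff_forall]
      intro x hx
      by_contra hx1
      exact hcon ⟨x, hx, hx1⟩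
    have h1 : Nat.card K = 1 := by rw [hbot]; exact Subgroup.card_bot
    rw [T.cardK] at h1
    exact T.hp.one_lt.ne' h1
  rcases htype with ⟨hK, hH⟩ | ⟨hH, hK⟩
  · -- `K`-type
    have hKM : ∀ k ∈ K, ∀ w ∈ dkWt ρ (ZR R) μ, ρ k w ∈ dkWt ρ (ZR R) μ := by
      intro k hk w hw z hz
      have hkZ : k ∈ Subgroup.normalizer (ZR R : Set Γ) := dk_norm_ZR R k (T.KR hk)
      have e : z * k = k * (k⁻¹ * z * k) := by group
      rw [← rho_mul, e, rho_mul, hw _ (conj_mem_of_normalizer' _ k hkZ z hz), map_smul,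
        hK k hk z hz]
    have hSM : ∀ y ∈ S, ∀ w ∈ dkWt ρ (ZR R) μ, ρ y w ∈ dkWt ρ (ZR R) μ := by
      intro y hy w hw z hz
      rw [← rho_mul, ← hSZ y hy z hz, rho_mul, hw z hz, map_smul]
    have hKst : ∀ k ∈ K, k ∈ stabM ρ (dkWt ρ (ZR R) μ) :=
      fun k hk => ⟨hKM k hk, hKM k⁻¹ (inv_mem hk)⟩
    have hSst : ∀ y ∈ S, y ∈ stabM ρ (dkWt ρ (ZR R) μ) :=
      fun y hy => ⟨hSM y hy, hSM y⁻¹ (inv_mem hy)⟩
    have hKE : ∀ k ∈ K, k ∈ eSub ρ (dkWt ρ (ZR R) μ) R := by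
      intro k hk
      refine ⟨hKst k hk, T.KR hk, fun u hu w' hw' => ?_⟩
      by_cases h0 : w' = 0
      · rw [h0, map_zero]
      · exact hDK μ w hw hK hH k hk u hu w' ⟨Submodule.mem_top, h0, hw'⟩
    have hcomm : ∀ k ∈ K, ∀ y ∈ S, ⁅k, y⁆ ∈ eSub ρ (dkWt ρ (ZR R) μ) R ⊓ S := by
      intro k hk y hy
      have e : ⁅k, y⁆ = k * (y * k⁻¹ * y⁻¹) := by
        simp only [commutatorElement_def]; group
      refine Subgroup.mem_inf.mpr ⟨?_, ?_⟩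
      · rw [e]
        exact mul_mem (hKE k hk)
          (eSub_conj ρ _ R y k⁻¹ (hSst y hy) (T.SR hy) (hKE k⁻¹ (inv_mem hk)))
      · rw [commutatorElement_def]
        exact mul_mem (conj_mem_of_normalizer S k (T.KS hk) y hy) (inv_mem hy)
    have hKN : K ≤ Subgroup.normalizer
        ((eSub ρ (dkWt ρ (ZR R) μ) R ⊓ S : Subgroup Γ) : Set Γ) := by
      apply le_normalizer_of_conj
      intro k hk n hn
      have hn' := Subgroup.mem_inf.mp hn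
      exact Subgroup.mem_inf.mpr ⟨mul_mem (mul_mem (hKE k hk) hn'.1) (inv_mem (hKE k hk)),
        conj_mem_of_normalizer S k (T.KS hk) n hn'.2⟩
    have hES : IsPGroup s (eSub ρ (dkWt ρ (ZR R) μ) R ⊓ S : Subgroup Γ) :=
      T.Sgrp.to_le inf_le_right
    have hcopK : (Nat.card K).Coprime
        (Nat.card (eSub ρ (dkWt ρ (ZR R) μ) R ⊓ S : Subgroup Γ)) :=
      pgrp_coprime K _ p s T.hp T.hs (Ne.symm T.hsp) hKp hES
    have hSE : ∀ y ∈ S, y ∈ eSub ρ (dkWt ρ (ZR R) μ) R := by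
      intro y hy
      obtain ⟨c, hc, hcy⟩ := coset_fixed K (eSub ρ (dkWt ρ (ZR R) μ) R ⊓ S) hKN hcopK
        (Or.inl (pgrp_solv K p T.hp hKp)) y (fun a ha => by
          have h1 := hcomm a ha y hy
          rwa [commutatorElement_def] at h1)
      have hcy := Subgroup.mem_inf.mp hcy
      have hcS : c ∈ S := by
        have e : c = (c * y⁻¹) * y := by group
        rw [e]
        exact mul_mem hcy.2 hy
      have hck : ∀ k ∈ K, k * c = c * k :=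
        fun k hk => Subgroup.mem_centralizer_iff.mp hc k hk
      have hcR : ∀ x ∈ R, c * x = x * c := by
        apply hC3 k₀ hk₀ hk₀1 c hcS
        intro x _
        have e : ⁅k₀, c⁆ = 1 := by
          rw [commutatorElement_def, hck k₀ hk₀]; group
        rw [e, one_mul, mul_one]
      have hcE : c ∈ eSub ρ (dkWt ρ (ZR R) μ) R := by
        refine ⟨hSst c hcS, T.SR hcS, fun u hu => ?_⟩
        have e : ⁅c, u⁆ = 1 := by
          rw [commutatorElement_def, hcR u hu]; group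
        rw [e]
        exact one_mem _
      have e : y = (c * y⁻¹)⁻¹ * c := by group
      rw [e]
      exact mul_mem (inv_mem hcy.1) hcE
    have hRfix' : ⁅R, S⁆ ≤ fixM ρ (dkWt ρ (ZR R) μ) := by
      rw [Subgroup.commutator_le]
      intro u hu y hy
      have e : ⁅u, y⁆ = ⁅y, u⁆⁻¹ := (commutatorElement_inv y u).symm
      rw [e]
      exact inv_mem ((hSE y hy).2.2 u hu)
    have hRfix : R ≤ fixM ρ (dkWt ρ (ZR R) μ) := hC4.ge.trans hRfix'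
    have hg0Z : ⁅x₁, x₂⁆ ∈ ZR R := hcz x₁ hx₁ x₂ hx₂
    have h1 : ρ ⁅x₁, x₂⁆ w = w := hRfix (mem_ZR.mp hg0Z).1 w hw.2.2
    have h2 := hw.2.2 _ hg0Z
    rw [h1] at h2
    have h3 : (μ ⁅x₁, x₂⁆ - 1) • w = 0 := by rw [sub_smul, one_smul, ← h2, sub_self]
    rcases smul_eq_zero.mp h3 with h | h
    · exact hg0 (sub_eq_zero.mp h)
    · exact hw.2.1 h
  · -- `H`-type
    have hSRad : S ≤ Subgroup.normalizer ((radW ρ R hcl μ w hw : Subgroup Γ) : Set Γ) :=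
      radW_norm ρ S R hcl μ w hw T.SR hSZ
    have hRadR : radW ρ R hcl μ w hw ≤ R := fun u hu => hu.1
    have hDaS : cstab S (radW ρ R hcl μ w hw) hSRad x₁ ≤ S := fun y hy => hy.1
    obtain ⟨c, hc, hcx⟩ := coset_fixed (cstab S (radW ρ R hcl μ w hw) hSRad x₁)
      (radW ρ R hcl μ w hw) (hDaS.trans hSRad)
      (pgrp_coprime _ _ s r T.hs T.hr T.hsr (T.Sgrp.to_le hDaS) (T.Rgrp.to_le hRadR))
      (Or.inl (pgrp_solv _ s T.hs (T.Sgrp.to_le hDaS))) x₁ (fun a ha => by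
        have h1 := ha.2
        rwa [commutatorElement_def] at h1)
    have hcR : c ∈ R := by
      have e : c = (c * x₁⁻¹) * x₁ := by group
      rw [e]
      exact mul_mem hcx.1 hx₁
    have hcRad : c ∉ radW ρ R hcl μ w hw := by
      intro hcr
      have hx : x₁ ∈ radW ρ R hcl μ w hw := by
        have e : x₁ = (c * x₁⁻¹)⁻¹ * c := by group
        rw [e]
        exact mul_mem (inv_mem hcx) hcr
      exact hg0 (hx.2 x₂ hx₂)
    have hcommS : ∀ (a : Γ), a ∈ Subgroup.normalizer (S : Set Γ) → ∀ y ∈ S, ⁅a, y⁆ ∈ S := by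
      intro a ha y hy
      rw [commutatorElement_def]
      exact mul_mem (conj_mem_of_normalizer S a ha y hy) (inv_mem hy)
    have hcommR : ∀ y ∈ S, ∀ u ∈ R, ⁅y, u⁆ ∈ R := by
      intro y hy u hu
      rw [commutatorElement_def]
      exact mul_mem (conj_mem_of_normalizer R y (T.SR hy) u hu) (inv_mem hu)
    have hHD : ∀ h ∈ H, ∀ y ∈ S, ⁅h, y⁆ ∈ cstab S (radW ρ R hcl μ w hw) hSRad x₁ := by
      intro h hh y hy
      have h1 : ⁅h, y⁆ ∈ S := hcommS h (T.HS hh) y hy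
      exact ⟨h1, hcommR _ h1 x₁ hx₁, fun v hv => hDH μ w hw hH hK h hh y hy x₁ hx₁ v hv⟩
    have hb : ∀ k ∈ K, k ≠ 1 → ∀ v ∈ R, cw μ k ⁅c, v⁆ = 1 := by
      intro k hk hk1
      have hkZ : k ∈ Subgroup.normalizer (ZR R : Set Γ) := dk_norm_ZR R k (T.KR hk)
      have hν : WtV ρ ⊤ (ZR R) (cw μ k) (ρ k w) :=
        wt_conj ρ ⊤ (ZR R) μ w hw k hkZ (fun _ _ => Submodule.mem_top)
      have hSRadk : S ≤ Subgroup.normalizer
          ((radW ρ R hcl (cw μ k) (ρ k w) hν : Subgroup Γ) : Set Γ) :=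
        radW_norm ρ S R hcl (cw μ k) (ρ k w) hν T.SR hSZ
      have hRadkR : radW ρ R hcl (cw μ k) (ρ k w) hν ≤ R := fun u hu => hu.1
      have hSD : S ≤ cstab S (radW ρ R hcl (cw μ k) (ρ k w) hν) hSRadk c := by
        apply hC9 k hk hk1
        · intro y hy hyR
          refine ⟨hy, ?_⟩
          have e : ⁅y, c⁆ = 1 := by
            rw [commutatorElement_def, hyR c hcR]; group
          rw [e]
          exact one_mem _
        · intro h hh y hy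
          have h1 := hHD h hh y hy
          refine ⟨h1.1, ?_⟩
          have hcc : ⁅h, y⁆ * c = c * ⁅h, y⁆ := Subgroup.mem_centralizer_iff.mp hc _ h1
          have e : ⁅⁅h, y⁆, c⁆ = 1 := by
            rw [commutatorElement_def ⁅h, y⁆ c, hcc]; group
          rw [e]
          exact one_mem _
        · intro h hh y hy
          have hkh : k * h * k⁻¹ ∈ Subgroup.normalizer (S : Set Γ) :=
            mul_mem (mul_mem (T.KS hk) (T.HS hh)) (inv_mem (T.KS hk))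
          have h1 : ⁅k * h * k⁻¹, y⁆ ∈ S := hcommS _ hkh y hy
          refine ⟨h1, hcommR _ h1 c hcR, fun v hv => ?_⟩
          rw [cw_apply]
          have e : k⁻¹ * ⁅⁅⁅k * h * k⁻¹, y⁆, c⁆, v⁆ * k =
              ⁅⁅⁅h, k⁻¹ * y * k⁆, k⁻¹ * c * k⁆, k⁻¹ * v * k⁆ := by
            simp only [commutatorElement_def]; group
          rw [e]
          exact hDH μ w hw hH hK h hh _ (conj_mem_of_normalizer' S k (T.KS hk) y hy) _
            (conj_mem_of_normalizer' R k (T.KR hk) c hcR) _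
            (conj_mem_of_normalizer' R k (T.KR hk) v hv)
      obtain ⟨c', hc', hcc'⟩ := coset_fixed S (radW ρ R hcl (cw μ k) (ρ k w) hν) hSRadk
        (pgrp_coprime _ _ s r T.hs T.hr T.hsr T.Sgrp (T.Rgrp.to_le hRadkR))
        (Or.inl (pgrp_solv S s T.hs T.Sgrp)) c (fun a ha => by
          have h1 := (hSD ha).2
          rwa [commutatorElement_def] at h1)
      have hc'R : c' ∈ R := by
        have e : c' = (c' * c⁻¹) * c := by group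
        rw [e]
        exact mul_mem hcc'.1 hcR
      have hc'Rad : c' ∈ radW ρ R hcl (cw μ k) (ρ k w) hν := by
        refine ⟨hc'R, fun v hv => ?_⟩
        have h1 := (hC5 c' hc'R).mp (fun y hy => Subgroup.mem_centralizer_iff.mp hc' y hy)
        have e : ⁅c', v⁆ = 1 := by
          rw [commutatorElement_def, h1 v hv]; group
        rw [e]
        exact wt_one ρ ⊤ (ZR R) (cw μ k) (ρ k w) hν
      have hcRadk : c ∈ radW ρ R hcl (cw μ k) (ρ k w) hν := by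
        have e : c = (c' * c⁻¹)⁻¹ * c' := by group
        rw [e]
        exact mul_mem (inv_mem hcc') hc'Rad
      exact hcRadk.2
    apply hcRad
    refine ⟨hcR, fun v hv => ?_⟩
    exact hB7 μ w hw hH _ (hcz c hcR v hv) (fun k hk hk1 => hb k hk hk1 v hv)

end Main

end Cfsg.Agent.Lib.helper36.PQ
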