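-- S5238 block F leaf FC, sub-split s5238c (architect helper45): racer copies of C1, C2 (helper36).
import Mathlib

namespace Cfsg.Agent.Lib.helper45.PearlC

theorem h36_c_card_mul_relIndex {G : Type*} [Group G] (X Y : Subgroup G) (h : X ≤ Y) :
    Nat.card X * X.relIndex Y = Nat.card Y := by
  have h1 := Subgroup.card_mul_index (X.subgroupOf Y)
  rw [Nat.card_congr (Subgroup.subgroupOfEquivOfLe h).toEquiv] at h1
  exact h1

/-- C1 STRICT (racer copy). -/
theorem h36_strict {G : Type*} [Group G] [Finite G] (p : ℕ) [Fact p.Prime] (n : ℕ)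
    (hG : Nat.card G = p ^ n) (A B : Subgroup G) (hAB : A < B) :
    p * Nat.card ↥A ≤ Nat.card ↥B := by
  have hp := (Fact.out : p.Prime)
  have hBdvd : Nat.card B ∣ p ^ n := hG ▸ Subgroup.card_subgroup_dvd_card B
  obtain ⟨b, _, hb⟩ := (Nat.dvd_prime_pow hp).mp hBdvd
  have hAdvd : Nat.card A ∣ p ^ b := hb ▸ Subgroup.card_dvd_of_le hAB.le
  obtain ⟨a, hab, ha⟩ := (Nat.dvd_prime_pow hp).mp hAdvd
  have hne : a ≠ b := by
    rintro rfl
    exact hAB.ne (Subgroup.eq_of_le_of_card_ge hAB.le (by rw [ha, hb]))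
  have hlt : a + 1 ≤ b := by omega
  rw [ha, hb, ← pow_succ']
  exact Nat.pow_le_pow_right hp.pos hlt

/-- C2 STEP (racer copy). -/
theorem h36_inf_step {G : Type*} [Group G] [Finite G] (A B C : Subgroup G) (hCB : C ≤ B) :
    Nat.card ↥(A ⊓ B) * Nat.card ↥C ≤ Nat.card ↥(A ⊓ C) * Nat.card ↥B := by
  have hC0 : 0 < Nat.card C := Nat.card_pos
  have hB0 : 0 < Nat.card B := Nat.card_pos
  have h1 := h36_c_card_mul_relIndex C B hCB
  have h2 := h36_c_card_mul_relIndex (A ⊓ C) (A ⊓ B) (inf_le_inf_left A hCB)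
  have h3 : (A ⊓ C).relIndex (A ⊓ B) ≤ C.relIndex B := by
    have e : A ⊓ C = C ⊓ (A ⊓ B) := by
      ext x
      simp only [Subgroup.mem_inf]
      constructor
      · rintro ⟨h1, h2⟩
        exact ⟨h2, h1, hCB h2⟩
      · rintro ⟨h1, h2, _⟩
        exact ⟨h2, h1⟩
    rw [e, Subgroup.inf_relIndex_right]
    refine Subgroup.relIndex_le_of_le_right inf_le_right ?_
    intro h0
    rw [h0, mul_zero] at h1
    omega
  calc Nat.card ↥(A ⊓ B) * Nat.card ↥C
      = Nat.card ↥(A ⊓ C) * (A ⊓ C).relIndex (A ⊓ B) * Nat.card ↥C := by rw [h2]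
    _ ≤ Nat.card ↥(A ⊓ C) * C.relIndex B * Nat.card ↥C :=
        Nat.mul_le_mul_right _ (Nat.mul_le_mul_left _ h3)
    _ = Nat.card ↥(A ⊓ C) * (Nat.card ↥C * C.relIndex B) := by ring
    _ = Nat.card ↥(A ⊓ C) * Nat.card ↥B := by rw [h1]

end Cfsg.Agent.Lib.helper45.PearlC
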