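-- S5238 block F leaf FC, sub-split s5238c (architect helper45), piece C8 (owner helper36).
import Mathlib

namespace Cfsg.Agent.Lib.helper45.PearlC

/-- C8 POWERS: a group of prime order is generated by any nontrivial element. -/
theorem pow_of_center {G : Type*} [Group G] [Finite G] (p : ℕ) [Fact p.Prime]
    (hZ : Nat.card ↥(Subgroup.center G) = p) (c : G) (hc : c ∈ Subgroup.center G) (hc1 : c ≠ 1)
    (z : G) (hz : z ∈ Subgroup.center G) : ∃ k : ℕ, z = c ^ k := by
  have hp := (Fact.out : p.Prime)
  have hle : Subgroup.zpowers c ≤ Subgroup.center G := by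
    rw [Subgroup.zpowers_le]
    exact hc
  have hdvd : Nat.card (Subgroup.zpowers c) ∣ p := hZ ▸ Subgroup.card_dvd_of_le hle
  have hcard : Nat.card (Subgroup.zpowers c) = p := by
    rcases (Nat.dvd_prime hp).mp hdvd with h | h
    · exfalso
      rw [Nat.card_zpowers] at h
      exact hc1 (orderOf_eq_one_iff.mp h)
    · exact h
  have heq : Subgroup.zpowers c = Subgroup.center G :=
    Subgroup.eq_of_le_of_card_ge hle (by rw [hcard, hZ])
  have hzm : z ∈ Subgroup.zpowers c := heq ▸ hz
  obtain ⟨k, hk⟩ := (mem_powers_iff_mem_zpowers).mpr hzm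
  exact ⟨k, hk.symm⟩

end Cfsg.Agent.Lib.helper45.PearlC
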