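-- S5238 block F leaf FC, sub-split s5238c (architect helper45), piece C9 (owner helper36).
import Mathlib

namespace Cfsg.Agent.Lib.helper45.PearlC

/-- C9 ADJUST (pure identity in any group). -/
theorem comm_adjust {G : Type*} [Group G] (d e w c : G) (k : ℕ)
    (hc : ∀ g : G, c * g = g * c) (hde : d * e * d⁻¹ * e⁻¹ = c)
    (hwe : w * e * w⁻¹ * e⁻¹ = c ^ k) (hdw : d * w = w * d) :
    e * (w * (d ^ k)⁻¹) = (w * (d ^ k)⁻¹) * e := by
  have hcc : ∀ g : G, Commute c g := fun g => hc g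
  have h1 : d * e = c * e * d := by
    rw [← hde]
    group
  have h2 : ∀ j : ℕ, d ^ j * e = c ^ j * e * d ^ j := by
    intro j
    induction j with
    | zero => simp
    | succ j ih =>
      calc d ^ (j + 1) * e = d ^ j * (d * e) := by rw [pow_succ, mul_assoc]
        _ = d ^ j * (c * e * d) := by rw [h1]
        _ = (d ^ j * c) * e * d := by simp only [mul_assoc]
        _ = (c * d ^ j) * e * d := by rw [(hcc (d ^ j)).eq]
        _ = c * (d ^ j * e) * d := by simp only [mul_assoc]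
        _ = c * (c ^ j * e * d ^ j) * d := by rw [ih]
        _ = c ^ (j + 1) * e * d ^ (j + 1) := by
            rw [pow_succ' c, pow_succ d]
            simp only [mul_assoc]
  have h3 : w * e = c ^ k * e * w := by
    rw [← hwe]
    group
  have hC : ∀ g : G, Commute (c ^ k) g := fun g => (hcc g).pow_left k
  have hCi : ∀ g : G, Commute (c ^ k)⁻¹ g := fun g => (hC g).inv_left
  have h2k := h2 k
  -- e * D = C⁻¹ * (D * e)
  have h5 : e * d ^ k = (c ^ k)⁻¹ * (d ^ k * e) := by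
    rw [h2k]
    group
  -- D⁻¹ * e = C⁻¹ * e * D⁻¹
  have h4 : (d ^ k)⁻¹ * e = (c ^ k)⁻¹ * e * (d ^ k)⁻¹ := by
    calc (d ^ k)⁻¹ * e = (d ^ k)⁻¹ * (e * d ^ k) * (d ^ k)⁻¹ := by group
      _ = (d ^ k)⁻¹ * ((c ^ k)⁻¹ * (d ^ k * e)) * (d ^ k)⁻¹ := by rw [h5]
      _ = ((d ^ k)⁻¹ * (c ^ k)⁻¹) * (d ^ k * e) * (d ^ k)⁻¹ := by simp only [mul_assoc]
      _ = ((c ^ k)⁻¹ * (d ^ k)⁻¹) * (d ^ k * e) * (d ^ k)⁻¹ := by rw [(hCi ((d ^ k)⁻¹)).eq]
      _ = (c ^ k)⁻¹ * e * (d ^ k)⁻¹ := by group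
  calc e * (w * (d ^ k)⁻¹) = (c ^ k)⁻¹ * (c ^ k * e * w) * (d ^ k)⁻¹ := by group
    _ = (c ^ k)⁻¹ * (w * e) * (d ^ k)⁻¹ := by rw [h3]
    _ = ((c ^ k)⁻¹ * w) * e * (d ^ k)⁻¹ := by simp only [mul_assoc]
    _ = (w * (c ^ k)⁻¹) * e * (d ^ k)⁻¹ := by rw [(hCi w).eq]
    _ = w * ((c ^ k)⁻¹ * e * (d ^ k)⁻¹) := by simp only [mul_assoc]
    _ = w * ((d ^ k)⁻¹ * e) := by rw [h4]
    _ = (w * (d ^ k)⁻¹) * e := by simp only [mul_assoc]

end Cfsg.Agent.Lib.helper45.PearlC
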