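-- S5238 block G, sub-block J (architect helper52), piece J3 (owner helper36).
import Mathlib
import Cfsg.Agent.Lib.helper68.HallPet

set_option autoImplicit false

namespace Cfsg.Agent.Lib.helper52.PearlJ

open Cfsg.Agent.Lib.helper68

/-- J3. `p`-th powers lie in every subgroup of index `p`. -/
theorem jp_pow_mem {G : Type*} [Group G] [Finite G] (p : ℕ) [Fact p.Prime] (hGp : IsPGroup p G)
    (H M : Subgroup G) (hM : M ≤ H) (hidx : Nat.card H = p * Nat.card M) (h : G) (hh : h ∈ H) :
    h ^ p ∈ M := by
  have hp := (Fact.out : p.Prime)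
  have h1 := Subgroup.card_mul_index (M.subgroupOf H)
  rw [Nat.card_congr (Subgroup.subgroupOfEquivOfLe hM).toEquiv] at h1
  have hM0 : 0 < Nat.card M := Nat.card_pos
  have hi : (M.subgroupOf H).index = p := by
    have : Nat.card M * (M.subgroupOf H).index = Nat.card M * p := by rw [h1, hidx, mul_comm]
    exact Nat.eq_of_mul_eq_mul_left hM0 this
  have hHp : IsPGroup p H := hGp.to_subgroup H
  obtain ⟨k, hk⟩ := IsPGroup.iff_card.mp hHp
  have hk0 : k ≠ 0 := by
    rintro rfl
    rw [hk, pow_zero] at hidx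
    have h2 := hp.two_le
    have h3 : p * 1 ≤ p * Nat.card M := Nat.mul_le_mul_left p hM0
    omega
  have hmin : (Nat.card H).minFac = p := by
    rw [hk]
    exact hp.pow_minFac hk0
  haveI : (M.subgroupOf H).Normal :=
    Subgroup.normal_of_index_eq_minFac_card (by rw [hi, hmin])
  have h4 := Subgroup.pow_index_mem (M.subgroupOf H) (⟨h, hh⟩ : H)
  rw [hi] at h4
  simpa [Subgroup.mem_subgroupOf] using h4

end Cfsg.Agent.Lib.helper52.PearlJ
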