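-- S5238 block G, sub-block J (architect helper52), piece J5 (owner helper36).
import Mathlib
import Cfsg.Agent.Lib.helper68.HallPet

set_option autoImplicit false

namespace Cfsg.Agent.Lib.helper52.PearlJ

open Cfsg.Agent.Lib.helper68

theorem h36_card_mul_relIndex {G : Type*} [Group G] (X Y : Subgroup G) (h : X ≤ Y) :
    Nat.card X * X.relIndex Y = Nat.card Y := by
  have h1 := Subgroup.card_mul_index (X.subgroupOf Y)
  rw [Nat.card_congr (Subgroup.subgroupOfEquivOfLe h).toEquiv] at h1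
  exact h1

/-- J5. `|K ∩ A : K ∩ B| ≤ |A : B|` for `B ≤ A`. -/
theorem jp_inter_le {G : Type*} [Group G] [Finite G] (K A B : Subgroup G) (hBA : B ≤ A) (c : ℕ)
    (hidx : Nat.card A = c * Nat.card B) : Nat.card ↥(K ⊓ A) ≤ c * Nat.card ↥(K ⊓ B) := by
  have hB0 : 0 < Nat.card B := Nat.card_pos
  have hA0 : 0 < Nat.card A := Nat.card_pos
  have h1 := h36_card_mul_relIndex B A hBA
  have hc : B.relIndex A = c := by
    have : Nat.card B * B.relIndex A = Nat.card B * c := by rw [h1, hidx, mul_comm]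
    exact Nat.eq_of_mul_eq_mul_left hB0 this
  have h2 := h36_card_mul_relIndex (K ⊓ B) (K ⊓ A) (inf_le_inf_left K hBA)
  have h3 : (K ⊓ B).relIndex (K ⊓ A) ≤ B.relIndex A := by
    have e : K ⊓ B = B ⊓ (K ⊓ A) := by
      ext x
      simp only [Subgroup.mem_inf]
      constructor
      · rintro ⟨h1, h2⟩
        exact ⟨h2, h1, hBA h2⟩
      · rintro ⟨h1, h2, _⟩
        exact ⟨h2, h1⟩
    rw [e, Subgroup.inf_relIndex_right]
    refine Subgroup.relIndex_le_of_le_right inf_le_right ?_
    intro h0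
    rw [h0, mul_zero] at h1
    omega
  rw [← h2, ← hc, mul_comm]
  exact Nat.mul_le_mul_right _ h3

end Cfsg.Agent.Lib.helper52.PearlJ
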