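import Mathlib
import Cfsg.Agent.Lib.helper74.QODefs
import Cfsg.Agent.Lib.helper78.QO_L1
import Cfsg.Agent.Lib.helper25.QO_L6a
import Cfsg.Agent.Lib.helper25.QO_L6b

/-!
# S1935 piece L6c (`lim_units_mem`), helper36
-/

set_option autoImplicit false

namespace Cfsg.Agent.Lib.helper36.QO

open Cfsg.Agent.Lib.helper74.QO

variable {R : Type*} [Ring R]

/-- value of the inverse of a unit `1 + n` with `n * n = 0`. -/
theorem h36_inv_val (u : Rˣ) (h : ((u : R) - 1) * ((u : R) - 1) = 0) :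
    ((u⁻¹ : Rˣ) : R) = 1 - ((u : R) - 1) := by
  have h1 : (u : R) * (1 - ((u : R) - 1)) = 1 := by
    have e : (u : R) * (1 - ((u : R) - 1)) = 1 - ((u : R) - 1) * ((u : R) - 1) := by noncomm_ring
    rw [e, h, sub_zero]
  calc ((u⁻¹ : Rˣ) : R) = ((u⁻¹ : Rˣ) : R) * ((u : R) * (1 - ((u : R) - 1))) := by
        rw [h1, mul_one]
    _ = 1 - ((u : R) - 1) := by rw [← mul_assoc, Units.inv_mul, one_mul]

theorem h36_addSub_conj (B C : Subgroup Rˣ) (hB : Quad B) (hC : Quad C)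
    (hn : ∀ c ∈ C, ∀ b ∈ B, c⁻¹ * b * c ∈ B) :
    ∀ p ∈ addSub B hB, ∀ q ∈ addSub C hC, (1 - q) * (1 + p) * (1 + q) - 1 ∈ addSub B hB := by
  rintro _ ⟨b, hb, rfl⟩ _ ⟨c, hc, rfl⟩
  refine ⟨c⁻¹ * b * c, hn c hc b hb, ?_⟩
  rw [Units.val_mul, Units.val_mul, h36_inv_val c (hC c hc c hc)]
  noncomm_ring

/-- `B` is the conjugate `x^i A x^(-i)`. -/
def h36_IsCj (A : Subgroup Rˣ) (x : Rˣ) (i : ℤ) (B : Subgroup Rˣ) : Prop :=
  ∀ b : Rˣ, b ∈ B ↔ ∃ a ∈ A, b = x ^ i * a * x ^ (-i)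

theorem h36_exists_cj (A : Subgroup Rˣ) (x : Rˣ) (i : ℤ) :
    ∃ B : Subgroup Rˣ, h36_IsCj A x i B := by
  refine ⟨A.map (MulAut.conj (x ^ i)).toMonoidHom, ?_⟩
  intro b
  rw [Subgroup.mem_map]
  constructor
  · rintro ⟨a, ha, rfl⟩
    exact ⟨a, ha, by rw [zpow_neg]; rfl⟩
  · rintro ⟨a, ha, rfl⟩
    exact ⟨a, ha, by rw [zpow_neg]; rfl⟩

theorem h36_cj_val (x : Rˣ) (i : ℤ) (c : Rˣ) :
    ((x ^ i * c * x ^ (-i) : Rˣ) : R) - 1
      = ((x ^ i : Rˣ) : R) * ((c : R) - 1) * ((x ^ (-i) : Rˣ) : R) := by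
  have e2 : ((x ^ i : Rˣ) : R) * ((x ^ (-i) : Rˣ) : R) = 1 := by
    rw [← Units.val_mul, zpow_neg, mul_inv_cancel, Units.val_one]
  rw [Units.val_mul, Units.val_mul]
  have e : ((x ^ i : Rˣ) : R) * ((c : R) - 1) * ((x ^ (-i) : Rˣ) : R)
      = ((x ^ i : Rˣ) : R) * (c : R) * ((x ^ (-i) : Rˣ) : R)
        - ((x ^ i : Rˣ) : R) * ((x ^ (-i) : Rˣ) : R) := by noncomm_ring
  rw [e, e2]

theorem h36_cj_quad (A : Subgroup Rˣ) (hA : Quad A) (x : Rˣ) (i : ℤ) (B : Subgroup Rˣ)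
    (hB : h36_IsCj A x i B) : Quad B := by
  intro b hb b' hb'
  obtain ⟨a, ha, rfl⟩ := (hB b).mp hb
  obtain ⟨a', ha', rfl⟩ := (hB b').mp hb'
  have h := hA a ha a' ha'
  have e1 : ((x ^ (-i) : Rˣ) : R) * ((x ^ i : Rˣ) : R) = 1 := by
    rw [← Units.val_mul, zpow_neg, inv_mul_cancel, Units.val_one]
  rw [h36_cj_val x i a, h36_cj_val x i a']
  calc ((x ^ i : Rˣ) : R) * ((a : R) - 1) * ((x ^ (-i) : Rˣ) : R)
        * (((x ^ i : Rˣ) : R) * ((a' : R) - 1) * ((x ^ (-i) : Rˣ) : R))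
      = ((x ^ i : Rˣ) : R) * ((a : R) - 1) * (((x ^ (-i) : Rˣ) : R) * ((x ^ i : Rˣ) : R))
          * ((a' : R) - 1) * ((x ^ (-i) : Rˣ) : R) := by noncomm_ring
    _ = ((x ^ i : Rˣ) : R) * (((a : R) - 1) * ((a' : R) - 1)) * ((x ^ (-i) : Rˣ) : R) := by
        rw [e1]; noncomm_ring
    _ = 0 := by rw [h]; simp

theorem h36_cj_norm (A : Subgroup Rˣ) (x : Rˣ)
    (hN : ∀ s : ℤ, ∀ b ∈ A, x ^ s * b * x ^ (-s) ∈ Subgroup.normalizer (A : Set Rˣ))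
    (i j : ℤ) (B C : Subgroup Rˣ) (hB : h36_IsCj A x i B) (hC : h36_IsCj A x j C) :
    ∀ c ∈ C, ∀ b ∈ B, c⁻¹ * b * c ∈ B := by
  intro c hc b hb
  obtain ⟨a, ha, rfl⟩ := (hC c).mp hc
  obtain ⟨a', ha', rfl⟩ := (hB b).mp hb
  have hn := hN (j - i) a ha
  have hn' : (x ^ (j - i) * a * x ^ (-(j - i)))⁻¹ * a' * (x ^ (j - i) * a * x ^ (-(j - i))) ∈ A := by
    have h1 : (x ^ (j - i) * a * x ^ (-(j - i)))⁻¹ ∈ Subgroup.normalizer (A : Set Rˣ) :=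
      Subgroup.inv_mem _ hn
    have h2 := (Subgroup.mem_normalizer_iff.mp h1 a').mp ha'
    rw [inv_inv] at h2
    exact h2
  rw [hB]
  refine ⟨_, hn', ?_⟩
  group

theorem h36_comm_val (u u' : Rˣ) (p q : R) (hu : (u : R) - 1 = p) (hu' : (u' : R) - 1 = q)
    (hp : p * p = 0) (hq : q * q = 0) (hpqp : p * q * p = 0) (hqpq : q * p * q = 0) :
    ((u⁻¹ * u'⁻¹ * u * u' : Rˣ) : R) = 1 + (p * q - q * p) := by
  have h1 : ((u⁻¹ : Rˣ) : R) = 1 - p := by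
    rw [h36_inv_val u (by rw [hu]; exact hp), hu]
  have h2 : ((u'⁻¹ : Rˣ) : R) = 1 - q := by
    rw [h36_inv_val u' (by rw [hu']; exact hq), hu']
  have h3 : (u : R) = 1 + p := by rw [← hu]; noncomm_ring
  have h4 : (u' : R) = 1 + q := by rw [← hu']; noncomm_ring
  rw [Units.val_mul, Units.val_mul, Units.val_mul, h1, h2, h3, h4]
  have e : (1 - p) * (1 - q) * (1 + p) * (1 + q)
      = 1 + (p * q - q * p)
        + (-(p * p) - (p * p) * q - q * q - q * p * q + p * q * p + p * (q * q) + (p * q * p) * q) := by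
    noncomm_ring
  rw [e, hp, hq, hpqp, hqpq]
  simp

theorem h36_one_add_pow (γ : R) (h : γ * γ = 0) (n : ℕ) : (1 + γ) ^ n = 1 + n • γ := by
  induction n with
  | zero => simp
  | succ n ih =>
    rw [pow_succ, ih]
    have e : (1 + n • γ) * (1 + γ) = 1 + (n + 1) • γ + n • (γ * γ) := by
      rw [add_smul, one_smul]
      simp only [smul_mul_assoc, mul_add, add_mul, mul_one, one_mul]
      abel
    rw [e, h, smul_zero, add_zero]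

/-- PIECE L6c -/
theorem lim_units_mem (H A : Subgroup Rˣ) (hA : Quad A) (hAH : A ≤ H) (x : Rˣ) (hx : x ∈ H)
    (hxq : ((x : R) - 1) * ((x : R) - 1) = 0) (k : ℕ) (hk : ((2 * k : ℕ) : R) = 1)
    (hN : ∀ s : ℤ, ∀ b ∈ A, x ^ s * b * x ^ (-s) ∈ Subgroup.normalizer (A : Set Rˣ)) :
    ∀ l ∈ lim (addSub A hA) ((x : R) - 1), ∃ u ∈ H, (u : R) = 1 + l := by
  intro l hl
  have hl' := hl
  obtain ⟨a, ha, b, hb, c, hc, -, -, hleq⟩ := mem_lim.mp hl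
  obtain ⟨A1, hA1⟩ := h36_exists_cj A x (-1)
  obtain ⟨A2, hA2⟩ := h36_exists_cj A x 1
  have hA0 : h36_IsCj A x 0 A := by
    intro y
    constructor
    · intro hy; exact ⟨y, hy, by simp⟩
    · rintro ⟨y', hy', rfl⟩; simpa using hy'
  have hQ1 := h36_cj_quad A hA x (-1) A1 hA1
  have hQ2 := h36_cj_quad A hA x 1 A2 hA2
  have hPP : ∀ p ∈ addSub A hA, ∀ p' ∈ addSub A hA, p * p' = 0 := by
    rintro _ ⟨u, hu, rfl⟩ _ ⟨u', hu', rfl⟩; exact hA u hu u' hu'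
  have hQQ : ∀ p ∈ addSub A1 hQ1, ∀ p' ∈ addSub A1 hQ1, p * p' = 0 := by
    rintro _ ⟨u, hu, rfl⟩ _ ⟨u', hu', rfl⟩; exact hQ1 u hu u' hu'
  have hTT : ∀ p ∈ addSub A2 hQ2, ∀ p' ∈ addSub A2 hQ2, p * p' = 0 := by
    rintro _ ⟨u, hu, rfl⟩ _ ⟨u', hu', rfl⟩; exact hQ2 u hu u' hu'
  have hPQ := Cfsg.Agent.Lib.helper25.QO.comm_of_normalizes (addSub A hA) (addSub A1 hQ1) hPP hQQ
    (h36_addSub_conj A A1 hA hQ1 (h36_cj_norm A x hN 0 (-1) A A1 hA0 hA1))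
    (fun p hp q hq =>
      h36_addSub_conj A1 A hQ1 hA (h36_cj_norm A x hN (-1) 0 A1 A hA1 hA0) q hq p hp)
  have hPT := Cfsg.Agent.Lib.helper25.QO.comm_of_normalizes (addSub A hA) (addSub A2 hQ2) hPP hTT
    (h36_addSub_conj A A2 hA hQ2 (h36_cj_norm A x hN 0 1 A A2 hA0 hA2))
    (fun p hp q hq =>
      h36_addSub_conj A2 A hQ2 hA (h36_cj_norm A x hN 1 0 A2 A hA2 hA0) q hq p hp)
  have hQT := Cfsg.Agent.Lib.helper25.QO.comm_of_normalizes (addSub A1 hQ1) (addSub A2 hQ2)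
    hQQ hTT
    (h36_addSub_conj A1 A2 hQ1 hQ2 (h36_cj_norm A x hN (-1) 1 A1 A2 hA1 hA2))
    (fun p hp q hq =>
      h36_addSub_conj A2 A1 hQ2 hQ1 (h36_cj_norm A x hN 1 (-1) A2 A1 hA2 hA1) q hq p hp)
  set ξ : R := (x : R) - 1 with hξ
  have hxval : (x : R) = 1 + ξ := by rw [hξ]; noncomm_ring
  have hxinv : ((x⁻¹ : Rˣ) : R) = 1 - ξ := h36_inv_val x hxq
  have hp : a - c ∈ addSub A hA := (addSub A hA).sub_mem ha hc
  obtain ⟨up, hup, hupv⟩ := hp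
  have hwq : k • (b + c) ∈ addSub A hA :=
    (addSub A hA).nsmul_mem ((addSub A hA).add_mem hb hc) k
  obtain ⟨aq, haq, haqv⟩ := hwq
  have huqA1 : x ^ (-1 : ℤ) * aq * x ^ (-(-1 : ℤ)) ∈ A1 := (hA1 _).mpr ⟨aq, haq, rfl⟩
  have huqv : ((x ^ (-1 : ℤ) * aq * x ^ (-(-1 : ℤ)) : Rˣ) : R) - 1
      = (1 - ξ) * (k • (b + c)) * (1 + ξ) := by
    rw [h36_cj_val x (-1) aq, haqv]
    simp only [neg_neg, zpow_neg, zpow_one]
    rw [hxinv, hxval]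
  have hwr : k • (c - b) ∈ addSub A hA :=
    (addSub A hA).nsmul_mem ((addSub A hA).sub_mem hc hb) k
  obtain ⟨ar, har, harv⟩ := hwr
  have hurA2 : x ^ (1 : ℤ) * ar * x ^ (-(1 : ℤ)) ∈ A2 := (hA2 _).mpr ⟨ar, har, rfl⟩
  have hurv : ((x ^ (1 : ℤ) * ar * x ^ (-(1 : ℤ)) : Rˣ) : R) - 1
      = (1 + ξ) * (k • (c - b)) * (1 - ξ) := by
    rw [h36_cj_val x 1 ar, harv]
    simp only [zpow_neg, zpow_one]
    rw [hxinv, hxval]
  have huqH : x ^ (-1 : ℤ) * aq * x ^ (-(-1 : ℤ)) ∈ H :=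
    H.mul_mem (H.mul_mem (H.zpow_mem hx _) (hAH haq)) (H.zpow_mem hx _)
  have hurH : x ^ (1 : ℤ) * ar * x ^ (-(1 : ℤ)) ∈ H :=
    H.mul_mem (H.mul_mem (H.zpow_mem hx _) (hAH har)) (H.zpow_mem hx _)
  generalize x ^ (-1 : ℤ) * aq * x ^ (-(-1 : ℤ)) = uq at huqA1 huqv huqH
  generalize x ^ (1 : ℤ) * ar * x ^ (-(1 : ℤ)) = ur at hurA2 hurv hurH
  have hpP : a - c ∈ addSub A hA := ⟨up, hup, hupv⟩
  have hqQ : (1 - ξ) * (k • (b + c)) * (1 + ξ) ∈ addSub A1 hQ1 := ⟨uq, huqA1, huqv⟩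
  have hrT : (1 + ξ) * (k • (c - b)) * (1 - ξ) ∈ addSub A2 hQ2 := ⟨ur, hurA2, hurv⟩
  have hsum : a - c + (1 - ξ) * (k • (b + c)) * (1 + ξ) + (1 + ξ) * (k • (c - b)) * (1 - ξ)
      = l := by
    rw [hleq]
    have e1 : (1 - ξ) * (k • (b + c)) * (1 + ξ) + (1 + ξ) * (k • (c - b)) * (1 - ξ)
        = (2 * k) • (c + b * ξ - ξ * b - ξ * c * ξ) := by
      rw [mul_comm 2 k, mul_smul]
      simp only [mul_smul_comm, smul_mul_assoc]
      rw [← smul_add]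
      congr 1
      noncomm_ring
    have e2 : (2 * k) • (c + b * ξ - ξ * b - ξ * c * ξ) = c + b * ξ - ξ * b - ξ * c * ξ := by
      rw [nsmul_eq_mul, hk, one_mul]
    calc a - c + (1 - ξ) * (k • (b + c)) * (1 + ξ) + (1 + ξ) * (k • (c - b)) * (1 - ξ)
        = a - c + ((1 - ξ) * (k • (b + c)) * (1 + ξ) + (1 + ξ) * (k • (c - b)) * (1 - ξ)) := by
          abel
      _ = a - c + (c + b * ξ - ξ * b - ξ * c * ξ) := by rw [e1, e2]
      _ = a + b * ξ - ξ * b - ξ * c * ξ := by abel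
  generalize a - c = p at hupv hpP hsum
  generalize (1 - ξ) * (k • (b + c)) * (1 + ξ) = q at huqv hqQ hsum
  generalize (1 + ξ) * (k • (c - b)) * (1 - ξ) = r at hurv hrT hsum
  have hll : (p + q + r) * (p + q + r) = 0 := by
    rw [hsum]
    exact Cfsg.Agent.Lib.helper78.QO.lim_mul (addSub A hA) ξ hxq hPP l hl' l hl'
  have key := Cfsg.Agent.Lib.helper25.QO.triple_identity (addSub A hA) (addSub A1 hQ1)
    (addSub A2 hQ2) hPP hQQ hTT hPQ hPT hQT k hk p q r hpP hqQ hrT hll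
  obtain ⟨g1P, g1Q, hpqp, hqpq⟩ := hPQ p hpP q hqQ
  obtain ⟨g2P, g2T, hprp, hrpr⟩ := hPT p hpP r hrT
  obtain ⟨g3Q, g3T, hqrq, hrqr⟩ := hQT q hqQ r hrT
  have hc1 := h36_comm_val up uq p q hupv huqv (hPP p hpP p hpP) (hQQ q hqQ q hqQ) hpqp hqpq
  have hc2 := h36_comm_val up ur p r hupv hurv (hPP p hpP p hpP) (hTT r hrT r hrT) hprp hrpr
  have hc3 := h36_comm_val uq ur q r huqv hurv (hQQ q hqQ q hqQ) (hTT r hrT r hrT) hqrq hrqr
  have e12 : (p * q - q * p) * (p * r - r * p) = 0 := hPP _ g1P _ g2P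
  have e13 : (p * q - q * p) * (q * r - r * q) = 0 := hQQ _ g1Q _ g3Q
  have e23 : (p * r - r * p) * (q * r - r * q) = 0 := hTT _ g2T _ g3T
  have s1 : (p * q - q * p) * (p * q - q * p) = 0 := hPP _ g1P _ g1P
  have s2 : (p * r - r * p) * (p * r - r * p) = 0 := hPP _ g2P _ g2P
  have s3 : (q * r - r * q) * (q * r - r * q) = 0 := hQQ _ g3Q _ g3Q
  generalize p * q - q * p = γ1 at key hc1 e12 e13 s1
  generalize p * r - r * p = γ2 at key hc2 e12 e23 s2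
  generalize q * r - r * q = γ3 at key hc3 e13 e23 s3
  have hupH : up ∈ H := hAH hup
  have hvH : (up⁻¹ * uq⁻¹ * up * uq) ^ k * (up⁻¹ * ur⁻¹ * up * ur) ^ k
      * (uq⁻¹ * ur⁻¹ * uq * ur) ^ k ∈ H := by
    refine H.mul_mem (H.mul_mem (H.pow_mem ?_ k) (H.pow_mem ?_ k)) (H.pow_mem ?_ k)
    · exact H.mul_mem (H.mul_mem (H.mul_mem (H.inv_mem hupH) (H.inv_mem huqH)) hupH) huqH
    · exact H.mul_mem (H.mul_mem (H.mul_mem (H.inv_mem hupH) (H.inv_mem hurH)) hupH) hurH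
    · exact H.mul_mem (H.mul_mem (H.mul_mem (H.inv_mem huqH) (H.inv_mem hurH)) huqH) hurH
  have hvval : (((up⁻¹ * uq⁻¹ * up * uq) ^ k * (up⁻¹ * ur⁻¹ * up * ur) ^ k
      * (uq⁻¹ * ur⁻¹ * uq * ur) ^ k : Rˣ) : R) = 1 + k • (γ1 + γ2 + γ3) := by
    rw [Units.val_mul, Units.val_mul, Units.val_pow_eq_pow_val, Units.val_pow_eq_pow_val,
      Units.val_pow_eq_pow_val, hc1, hc2, hc3, h36_one_add_pow γ1 s1, h36_one_add_pow γ2 s2,
      h36_one_add_pow γ3 s3]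
    have e : (1 + k • γ1) * (1 + k • γ2) * (1 + k • γ3)
        = 1 + k • (γ1 + γ2 + γ3) + (k • k • (γ1 * γ2) + k • k • (γ1 * γ3) + k • k • (γ2 * γ3)
          + k • k • k • ((γ1 * γ2) * γ3)) := by
      simp only [smul_mul_assoc, mul_smul_comm, mul_add, add_mul, mul_one, one_mul, smul_add]
      abel
    rw [e, e12, e13, e23]
    simp
  generalize (up⁻¹ * uq⁻¹ * up * uq) ^ k * (up⁻¹ * ur⁻¹ * up * ur) ^ k
      * (uq⁻¹ * ur⁻¹ * uq * ur) ^ k = v at hvH hvval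
  refine ⟨up * uq * ur * v⁻¹,
    H.mul_mem (H.mul_mem (H.mul_mem hupH huqH) hurH) (H.inv_mem hvH), ?_⟩
  have h1 : (up : R) = 1 + p := by rw [← hupv]; noncomm_ring
  have h2 : (uq : R) = 1 + q := by rw [← huqv]; noncomm_ring
  have h3 : (ur : R) = 1 + r := by rw [← hurv]; noncomm_ring
  rw [Units.val_mul, Units.val_mul, Units.val_mul, h1, h2, h3, key, ← hvval, hsum, mul_assoc,
    Units.mul_inv, mul_one]

end Cfsg.Agent.Lib.helper36.QO
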