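import Mathlib

/-!
# S2279 piece GC (`abs_GC`), racing copy by helper36 (prefixed name `h36_abs_GC`)
-/

set_option autoImplicit false

namespace Cfsg.Agent.Lib.helper45.RU

/-- GC -/
theorem h36_abs_GC {F : Type*} [Field F] (n : ℕ) (hn : 4 ≤ n) (Ω : ℕ → Set F) (c : F) (p : ℕ)
    [Fact p.Prime] [CharP F p]
    (e n' : ℕ) (hnp : n = p ^ e * n') (hn' : ¬ p ∣ n')
    (hluc : ¬ p ∣ (n + p ^ e - 1).choose (p ^ e))
    (m : ℕ) (hm : 0 < m) (hcm : c ^ m = 1)
    (h0 : ∀ k, k + 2 ≤ n → (0 : F) ∈ Ω k)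
    (hadd : ∀ k, k + 2 ≤ n → ∀ x y, x ∈ Ω k → y ∈ Ω k → x + y ∈ Ω k)
    (hc0 : c ∈ Ω 0) (hA : c ^ (n - 1) ∈ Ω (n - 2))
    (hB : ∀ y, y ∈ Ω 0 → c ^ n * y ∈ Ω 0)
    (hmul : ∀ x y, c * x ∈ Ω 0 → c * y ∈ Ω 0 → c * (x * y) ∈ Ω 0)
    (hwrap : ∀ i i', i + 2 ≤ n → i' + 2 ≤ n → n ≤ i + i' + 1 →
      ∀ x y, x ∈ Ω i → y ∈ Ω i' → x * y ∈ Ω (i + i' + 1 - n))
    (hshift : ∀ j i', 1 ≤ j → i' + j + 2 ≤ n → ∀ x y, x ∈ Ω 0 → y ∈ Ω i' →
      ((n + j - 2).choose (j - 1) : F) * x * y ∈ Ω (i' + j)) :
    c * c ^ (p ^ e) ∈ Ω 0 := by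
  have hp : p.Prime := Fact.out
  have hpe : 1 ≤ p ^ e := Nat.one_le_pow _ _ hp.pos
  by_cases hn1 : n' = 1
  · have hne : n = p ^ e := by rw [hnp, hn1, mul_one]
    have h1 := hB c hc0
    rw [mul_comm]
    rw [hne] at h1
    exact h1
  · have hn'0 : n' ≠ 0 := by
      rintro rfl
      rw [mul_zero] at hnp
      omega
    have hn'2 : 2 ≤ n' := by omega
    have he2 : p ^ e = 2 → 6 ≤ n := by
      intro h2
      have hp2 : p = 2 := by
        have he : e ≠ 0 := by
          rintro rfl
          simp at h2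
        have hd : p ∣ 2 := by
          rw [← h2]
          exact dvd_pow_self p he
        exact (Nat.prime_dvd_prime_iff_eq hp Nat.prime_two).mp hd
      have hn'3 : 3 ≤ n' := by
        by_contra hlt
        have h3 : n' = 2 := by omega
        apply hn'
        rw [h3, hp2]
      rw [h2] at hnp
      omega
    have h2q : 2 * p ^ e ≤ n := by
      calc 2 * p ^ e = p ^ e * 2 := by ring
        _ ≤ p ^ e * n' := Nat.mul_le_mul_left _ hn'2
        _ = n := hnp.symm
    generalize hq : p ^ e = q at *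
    have hj : q + 3 ≤ n := by
      by_cases hq3 : 3 ≤ q
      · omega
      · have h12 : q = 1 ∨ q = 2 := by omega
        rcases h12 with h1 | h2
        · omega
        · have := he2 h2
          omega
    have hb := hshift (q + 1) 0 (by omega) (by omega) c c hc0 hc0
    have hb1 : n + (q + 1) - 2 = n + q - 1 := by omega
    have hb2 : q + 1 - 1 = q := by omega
    rw [hb1, hb2, zero_add] at hb
    obtain ⟨b', hb'⟩ : ∃ b' : ℕ, (b' : F) * (((n + q - 1).choose q : ℕ) : F) = 1 := by
      have hcop : Nat.Coprime ((n + q - 1).choose q) p :=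
        ((Nat.Prime.coprime_iff_not_dvd hp).mpr hluc).symm
      obtain ⟨b', -, hb'⟩ := Nat.exists_mul_mod_eq_one_of_coprime hcop hp.one_lt
      refine ⟨b', ?_⟩
      have h1 : ((((n + q - 1).choose q) * b' : ℕ) : F)
          = (((((n + q - 1).choose q) * b') % p : ℕ) : F) :=
        CharP.natCast_eq_natCast_mod F p _
      rw [hb'] at h1
      rw [mul_comm]
      exact_mod_cast h1
    have hnsmul : ∀ k, k + 2 ≤ n → ∀ (a : ℕ) (x : F), x ∈ Ω k → (a : F) * x ∈ Ω k := by
      intro k hk a x hx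
      induction a with
      | zero => simpa using h0 k hk
      | succ a ih =>
        have h1 : ((a + 1 : ℕ) : F) * x = (a : F) * x + x := by push_cast; ring
        rw [h1]
        exact hadd k hk _ _ ih hx
    have hcc : c * c ∈ Ω (q + 1) := by
      have h1 := hnsmul (q + 1) (by omega) b' _ hb
      have h2 : (b' : F) * ((((n + q - 1).choose q : ℕ) : F) * c * c) = c * c := by
        rw [← mul_assoc, ← mul_assoc, hb', one_mul]
      rwa [h2] at h1
    have hdown : ∀ k, k + 2 ≤ n → ∀ y, y ∈ Ω k → c ^ (k * (n - 1)) * y ∈ Ω 0 := by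
      intro k
      induction k with
      | zero =>
        intro _ y hy
        simpa using hy
      | succ k ih =>
        intro hk y hy
        have h1 := hwrap (n - 2) (k + 1) (by omega) hk (by omega) (c ^ (n - 1)) y hA hy
        have h2 : n - 2 + (k + 1) + 1 - n = k := by omega
        rw [h2] at h1
        have h3 := ih (by omega) _ h1
        have h4 : c ^ (k * (n - 1)) * (c ^ (n - 1) * y) = c ^ ((k + 1) * (n - 1)) * y := by
          rw [← mul_assoc, ← pow_add]
          congr 2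
          ring
        rwa [h4] at h3
    have hN := hdown (q + 1) (by omega) _ hcc
    have hqle : q ≤ (q + 1) * n :=
      le_trans (Nat.le_succ q) (Nat.le_mul_of_pos_right _ (by omega))
    obtain ⟨N, hNdef⟩ : ∃ N, (q + 1) * n = N + q :=
      ⟨(q + 1) * n - q, (Nat.sub_add_cancel hqle).symm⟩
    obtain ⟨t, ht⟩ : ∃ t, n = t + 1 := ⟨n - 1, by omega⟩
    have ht' : n - 1 = t := by omega
    have hcw : c * c ^ N ∈ Ω 0 := by
      have h2 : (q + 1) * (n - 1) + 1 = N := by
        rw [ht']
        rw [ht] at hNdef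
        have h3 : (q + 1) * (t + 1) = (q + 1) * t + q + 1 := by ring
        omega
      have h1 : c ^ ((q + 1) * (n - 1)) * (c * c) = c * c ^ N := by
        rw [← h2]
        ring
      rwa [h1] at hN
    have hpow : ∀ k : ℕ, c * (c ^ N) ^ k ∈ Ω 0 := by
      intro k
      induction k with
      | zero => simpa using hc0
      | succ k ih =>
        rw [pow_succ]
        exact hmul _ _ ih hcw
    have h5 := hpow (m - 1)
    have hBiter : ∀ k : ℕ, ∀ y, y ∈ Ω 0 → c ^ (k * n) * y ∈ Ω 0 := by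
      intro k
      induction k with
      | zero =>
        intro y hy
        simpa using hy
      | succ k ih =>
        intro y hy
        have h1 := hB _ (ih y hy)
        have h2 : c ^ n * (c ^ (k * n) * y) = c ^ ((k + 1) * n) * y := by
          rw [← mul_assoc, ← pow_add]
          congr 2
          ring
        rwa [h2] at h1
    have h6 := hBiter (q + 1) _ h5
    have h7 : c ^ ((q + 1) * n) * (c * (c ^ N) ^ (m - 1)) = c * c ^ q := by
      rw [hNdef]
      obtain ⟨m', hm'⟩ : ∃ m', m = m' + 1 := ⟨m - 1, by omega⟩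
      have hm'' : m - 1 = m' := by omega
      rw [hm'']
      have h8 : c ^ (N + q) * (c * (c ^ N) ^ m') = c * c ^ q * (c ^ m) ^ N := by
        rw [hm']
        ring
      rw [h8, hcm, one_pow, mul_one]
    rwa [h7] at h6

end Cfsg.Agent.Lib.helper45.RU
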