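import Mathlib
import Cfsg.Agent.Lib.helper65.MaxClassP
import Cfsg.Agent.Lib.helper59.MaxClass2

/-!
# S3390 piece C (Suzuki), helper36 (racing copy under the prefixed name `h36_suzuki`)

A non-cyclic 2-group with an involution whose centralizer has order 4 is dihedral or
quasi-dihedral.
-/

set_option autoImplicit false
open Cfsg

namespace Cfsg.Agent.Lib.helper36.S3390C

open Subgroup

/-- order 4, non-cyclic: Klein four group `≃* DihedralGroup 2`. -/
theorem h36_klein {P : Type*} [Group P] [Finite P] (h4 : Nat.card P = 4) (hnc : ¬ IsCyclic P) :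
    Nonempty (P ≃* DihedralGroup 2) := by
  classical
  have hexp : Monoid.exponent P = 2 := by
    have hdvd : Monoid.exponent P ∣ 2 := by
      apply Monoid.exponent_dvd_of_forall_pow_eq_one
      intro g
      have h1 : orderOf g ∣ 4 := by rw [← h4]; exact orderOf_dvd_natCard g
      have h2 : orderOf g ≠ 4 := by
        intro h
        exact hnc (isCyclic_of_orderOf_eq_card g (by rw [h, h4]))
      have h3 : orderOf g ∣ 2 := by
        have hle : orderOf g ≤ 4 := Nat.le_of_dvd (by norm_num) h1
        have hpos : 0 < orderOf g := orderOf_pos g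
        interval_cases h : orderOf g
        · norm_num
        · norm_num
        · norm_num at h1
        · exact absurd rfl h2
      exact orderOf_dvd_iff_pow_eq_one.mp h3
    have hne : Monoid.exponent P ≠ 1 := by
      intro h
      rw [Monoid.exp_eq_one_iff] at h
      have : Nat.card P = 1 := Nat.card_unique
      omega
    have hle : Monoid.exponent P ≤ 2 := Nat.le_of_dvd (by norm_num) hdvd
    have hpos : 0 < Monoid.exponent P := Nat.pos_of_dvd_of_pos hdvd (by norm_num)
    omega
  have : IsKleinFour P := ⟨h4, hexp⟩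
  exact IsKleinFour.nonempty_mulEquiv

theorem h36_suzuki {P : Type*} [Group P] [Finite P] (hP : IsPGroup 2 P) (u : P) (hu : orderOf u = 2)
    (hC : Nat.card ↥(Subgroup.centralizer ({u} : Set P)) = 4) (hnc : ¬ IsCyclic P) :
    (∃ n : ℕ, Nonempty (P ≃* DihedralGroup n)) ∨ Cfsg.IsQuasiDihedral P := by
  classical
  have : Fact (Nat.Prime 2) := ⟨Nat.prime_two⟩
  obtain ⟨n, hn⟩ := (IsPGroup.iff_card.mp hP)
  have h4 : 4 ∣ Nat.card P := by rw [← hC]; exact Subgroup.card_subgroup_dvd_card _
  have hn2 : 2 ≤ n := by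
    by_contra hlt
    have h01 : n = 0 ∨ n = 1 := by omega
    rcases h01 with rfl | rfl
    · rw [hn] at h4; norm_num at h4
    · rw [hn] at h4; norm_num at h4
  have hu2 : u ^ 2 = 1 := by rw [← hu]; exact pow_orderOf_eq_one u
  have hu1 : u ≠ 1 := by
    intro h
    rw [h, orderOf_one] at hu
    norm_num at hu
  by_cases h3 : n = 2
  · subst h3
    exact Or.inl ⟨2, h36_klein (by rw [hn]; norm_num) hnc⟩
  have hn3 : 3 ≤ n := by omega
  have hcl : Group.nilpotencyClass P = n - 1 :=
    Cfsg.Agent.Lib.helper65.nilpotencyClass_eq_of_card_centralizer (p := 2) n hn2 P hn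
      ⟨u, by rw [hC]; norm_num⟩
  have hidx : (commutator P).index = 4 :=
    Cfsg.Agent.S0115.index_commutator_of_maxClass n hn3 hn hcl
  obtain ⟨N, rfl⟩ : ∃ N, n = N + 3 := ⟨n - 3, by omega⟩
  obtain ⟨a, b, ha, hb, hrel⟩ := Cfsg.Agent.Lib.helper59.taussky_rel N hn hidx
  have hcardH : Nat.card ↥(zpowers a) = 2 ^ (N + 2) := by rw [Nat.card_zpowers, ha]
  have hpowpos : 0 < 2 ^ (N + 2) := by positivity
  have hHidx : (zpowers a).index = 2 := by
    have h := Subgroup.card_mul_index (zpowers a)
    rw [hcardH, hn, show N + 3 = (N + 2) + 1 from rfl, pow_succ] at h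
    exact Nat.eq_of_mul_eq_mul_left hpowpos h
  rcases hrel with ⟨hb2, hinv⟩ | ⟨hb2, hinv⟩ | ⟨hN1, hb2, hsd⟩
  · -- dihedral
    refine Or.inl ⟨2 ^ (N + 2), ?_⟩
    exact Cfsg.Agent.Lib.helper59.dihedral_equiv_of_rel (2 ^ (N + 2)) a b ha
      (by rw [hn]; ring) hb hb2 hinv
  · -- generalized quaternion: impossible
    exfalso
    have hconj_zpow : ∀ k : ℤ, b * a ^ k * b⁻¹ = (a ^ k)⁻¹ := by
      intro k
      have h := (MulAut.conj b).toMonoidHom.map_zpow a k
      simp only [MulEquiv.toMonoidHom_eq_coe, MonoidHom.coe_coe, MulAut.conj_apply] at h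
      rw [h, hinv, inv_zpow]
    have hcomm_of_mem : ∀ c ∈ zpowers a, c * a = a * c := by
      intro c hc
      obtain ⟨k, rfl⟩ := hc
      exact ((Commute.refl a).zpow_left k).eq
    by_cases huH : u ∈ zpowers a
    · -- then `zpowers a < centralizer {u}`
      obtain ⟨k, hk0⟩ := huH
      have hk : a ^ k = u := hk0
      have hbu : b * u = u * b := by
        have h := hconj_zpow k
        rw [hk] at h
        have huinv : u⁻¹ = u := by
          rw [inv_eq_iff_mul_eq_one, ← pow_two]; exact hu2
        rw [huinv] at h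
        calc b * u = b * u * b⁻¹ * b := by group
          _ = u * b := by rw [h]
      have hle : zpowers a ≤ centralizer ({u} : Set P) := by
        rw [zpowers_le]
        rw [mem_centralizer_iff]
        intro h hh
        rw [Set.mem_singleton_iff] at hh
        subst hh
        exact hcomm_of_mem h ⟨k, hk⟩
      have hbC : b ∈ centralizer ({u} : Set P) := by
        rw [mem_centralizer_iff]
        intro h hh
        rw [Set.mem_singleton_iff] at hh
        subst hh
        exact hbu.symm
      have hlt : zpowers a < centralizer ({u} : Set P) :=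
        lt_of_le_of_ne hle (fun h => hb (h ▸ hbC))
      have hcardlt := Cfsg.Agent.S0115.two_mul_card_le_of_lt hlt
      rw [hcardH, hC] at hcardlt
      have : (2 : ℕ) ^ 2 ≤ 2 ^ (N + 2) := Nat.pow_le_pow_right (by norm_num) (by omega)
      omega
    · -- `u = b * c`, `c ∈ ⟨a⟩`, and `u ^ 2 = b ^ 2 ≠ 1`
      have hbinv : b⁻¹ ∉ zpowers a := fun h => hb (by simpa using inv_mem h)
      have hc : b⁻¹ * u ∈ zpowers a := by
        rw [Subgroup.mul_mem_iff_of_index_two hHidx]
        exact ⟨fun h => absurd h hbinv, fun h => absurd h huH⟩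
      obtain ⟨k, hk0⟩ := hc
      have hk : a ^ k = b⁻¹ * u := hk0
      have hu' : u = b * a ^ k := by
        rw [hk]; group
      have hzne : a ^ (2 ^ (N + 1)) ≠ 1 := by
        intro h
        have hdvd := orderOf_dvd_of_pow_eq_one h
        rw [ha] at hdvd
        have hle := Nat.le_of_dvd (by positivity) hdvd
        have : 2 ^ (N + 1) < 2 ^ (N + 2) := Nat.pow_lt_pow_right (by norm_num) (by omega)
        omega
      have hb2comm : b ^ 2 * a ^ k = a ^ k * b ^ 2 := by
        rw [hb2]
        exact (((Commute.refl a).pow_left (2 ^ (N + 1))).zpow_right k).eq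
      have hsq : u ^ 2 = b ^ 2 := by
        have h := hconj_zpow k
        calc u ^ 2 = b * a ^ k * (b * a ^ k) := by rw [hu', pow_two]
          _ = (b * a ^ k * b⁻¹) * (b ^ 2 * a ^ k) := by rw [pow_two]; group
          _ = (a ^ k)⁻¹ * (a ^ k * b ^ 2) := by rw [h, hb2comm]
          _ = b ^ 2 := by group
      rw [hu2, hb2] at hsq
      exact hzne hsq.symm
  · -- semidihedral
    refine Or.inr ⟨N + 2, by omega, hn, a, b, ha, ?_, ?_⟩
    · have hb1 : b ≠ 1 := fun h => hb (h ▸ one_mem _)
      exact orderOf_eq_prime hb2 hb1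
    · rw [show N + 2 - 1 = N + 1 by omega]
      exact hsd

end Cfsg.Agent.Lib.helper36.S3390C
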