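import Mathlib
import Cfsg.Agent.Lib.helper12.MCBase

/-!
# S3806 piece B3 (helper36, racing copy under the prefixed name
`h36_comm_not_mem_of_not_twoStep`)
-/

set_option autoImplicit false

namespace Cfsg.Agent.Lib.helper12.MC

open Subgroup
open scoped commutatorElement

/-- B3: an element outside the two-step centralizer moves every `y ∈ γ_{i+1} \ γ_{i+2}` properly. -/
theorem h36_comm_not_mem_of_not_twoStep (p : ℕ) [Fact p.Prime] {T : Type*} [Group T] [Finite T] (i : ℕ)
    (hrel : ((⊤ : Subgroup T).lowerCentralSeries (i + 1)).relIndex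
      ((⊤ : Subgroup T).lowerCentralSeries i) = p)
    (s : T) (hs : ¬ ∀ y ∈ (⊤ : Subgroup T).lowerCentralSeries i,
      ⁅y, s⁆ ∈ (⊤ : Subgroup T).lowerCentralSeries (i + 2))
    (y : T) (hy : y ∈ (⊤ : Subgroup T).lowerCentralSeries i)
    (hy' : y ∉ (⊤ : Subgroup T).lowerCentralSeries (i + 1)) :
    ⁅y, s⁆ ∉ (⊤ : Subgroup T).lowerCentralSeries (i + 2) := by
  have hp := (Fact.out : p.Prime)
  intro hcon
  set N : Subgroup T := (⊤ : Subgroup T).lowerCentralSeries (i + 2) with hN
  have hNn : N.Normal := by rw [hN]; infer_instance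
  -- membership criterion
  have hmem : ∀ z : T, ⁅z, s⁆ ∈ N ↔
      (QuotientGroup.mk' N z) * (QuotientGroup.mk' N s) =
        (QuotientGroup.mk' N s) * (QuotientGroup.mk' N z) := by
    intro z
    rw [← commutatorElement_eq_one_iff_mul_comm, ← map_commutatorElement,
      QuotientGroup.mk'_apply, QuotientGroup.eq_one_iff]
  set K : Subgroup T := (⊤ : Subgroup T).lowerCentralSeries i ⊓
    (Subgroup.centralizer ({QuotientGroup.mk' N s} : Set (T ⧸ N))).comap (QuotientGroup.mk' N)
    with hK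
  have hKmem : ∀ z : T, z ∈ K ↔ z ∈ (⊤ : Subgroup T).lowerCentralSeries i ∧ ⁅z, s⁆ ∈ N := by
    intro z
    rw [hK, Subgroup.mem_inf, Subgroup.mem_comap, Subgroup.mem_centralizer_iff, hmem]
    constructor
    · rintro ⟨h1, h2⟩
      exact ⟨h1, (h2 _ (Set.mem_singleton _)).symm⟩
    · rintro ⟨h1, h2⟩
      refine ⟨h1, ?_⟩
      intro h hh
      rw [Set.mem_singleton_iff] at hh
      subst hh
      exact h2.symm
  have hle1 : (⊤ : Subgroup T).lowerCentralSeries (i + 1) ≤ K := by
    intro z hz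
    rw [hKmem]
    refine ⟨Subgroup.lowerCentralSeries_antitone _ (Nat.le_succ i) hz, ?_⟩
    rw [hN, show i + 2 = (i + 1) + 1 from rfl, Subgroup.lowerCentralSeries_succ]
    exact Subgroup.commutator_mem_commutator hz (Subgroup.mem_top s)
  have hle2 : K ≤ (⊤ : Subgroup T).lowerCentralSeries i := inf_le_left
  rcases eq_or_eq_of_relIndex_prime hp hle1 hle2 hrel with h | h
  · apply hy'
    rw [← h, hKmem]
    exact ⟨hy, hcon⟩
  · apply hs
    intro z hz
    rw [← h, hKmem] at hz
    exact hz.2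

end Cfsg.Agent.Lib.helper12.MC
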