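import Mathlib
import Cfsg.Agent.S0115

/-!
# S3806 piece B4 (helper36, racing copy under the prefixed name `h36_pow_mem_lcs_one`)
-/

set_option autoImplicit false

namespace Cfsg.Agent.Lib.helper12.MC

open Subgroup
open scoped commutatorElement

/-- B4: `p`-th powers lie in the derived subgroup when it has index `p^2` in a group of order `≥ p^3`. -/
theorem h36_pow_mem_lcs_one (p : ℕ) [Fact p.Prime] {T : Type*} [Group T] [Finite T] (m : ℕ) (hm : 3 ≤ m)
    (hT : Nat.card T = p ^ m) (hidx : ((⊤ : Subgroup T).lowerCentralSeries 1).index = p ^ 2) (x : T) :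
    x ^ p ∈ (⊤ : Subgroup T).lowerCentralSeries 1 := by
  have hp := (Fact.out : p.Prime)
  rw [Subgroup.top_lowerCentralSeries_one] at hidx ⊢
  have hP : IsPGroup p T := IsPGroup.of_card hT
  have hnc : ¬ IsCyclic (T ⧸ _root_.commutator T) := by
    intro hcyc
    have hc : IsCyclic T := Cfsg.Agent.S0115.isCyclic_of_isCyclic_abelianization hP hcyc
    have hbot := Cfsg.Agent.S0115.commutator_eq_bot_of_isCyclic hc
    rw [hbot, Subgroup.index_bot, hT] at hidx
    have := Nat.pow_right_injective hp.two_le hidx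
    omega
  have hcardQ : Nat.card (T ⧸ _root_.commutator T) = p ^ 2 := by
    rw [← Subgroup.index_eq_card]; exact hidx
  have hdvd : orderOf (QuotientGroup.mk x : T ⧸ _root_.commutator T) ∣ p ^ 2 := by
    rw [← hcardQ]; exact orderOf_dvd_natCard _
  obtain ⟨j, hj, hjeq⟩ := (Nat.dvd_prime_pow hp).mp hdvd
  have hj2 : j ≠ 2 := by
    rintro rfl
    exact hnc (isCyclic_of_orderOf_eq_card _ (by rw [hjeq, hcardQ]))
  have hqp : (QuotientGroup.mk x : T ⧸ _root_.commutator T) ^ p = 1 := by
    have h1 : orderOf (QuotientGroup.mk x : T ⧸ _root_.commutator T) ∣ p := by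
      rw [hjeq]
      have hj1 : j ≤ 1 := by omega
      calc p ^ j ∣ p ^ 1 := pow_dvd_pow p hj1
        _ = p := pow_one p
    exact orderOf_dvd_iff_pow_eq_one.mp h1
  have h2 : ((x ^ p : T) : T ⧸ _root_.commutator T) = 1 := by
    rw [QuotientGroup.mk_pow]; exact hqp
  exact (QuotientGroup.eq_one_iff _).mp h2

end Cfsg.Agent.Lib.helper12.MC
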