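import Mathlib
import Cfsg.Agent.Lib.helper53.S3806_B1
import Cfsg.Agent.Lib.helper36.S3806_B3
import Cfsg.Agent.Lib.helper36.S3806_B4

/-!
# S3806 piece B (helper36, racing copy under the prefixed name `h36_exists_gen_set`)

Also `h36_exists_not_mem_of_card_lt` (piece B2, proved inline).
-/

set_option autoImplicit false

namespace Cfsg.Agent.Lib.helper12.MC

open Subgroup
open scoped commutatorElement

/-- B2: a group of order `p^m` is not the union of fewer than `p` proper subgroups. -/
theorem h36_exists_not_mem_of_card_lt (p : ℕ) [Fact p.Prime] {T : Type*} [Group T] [Finite T] (m : ℕ)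
    (hT : Nat.card T = p ^ m) (F : Finset (Subgroup T)) (hF : ∀ H ∈ F, H ≠ ⊤) (hc : F.card < p) :
    ∃ x : T, ∀ H ∈ F, x ∉ H := by
  classical
  by_contra hcon
  have hcov : ∀ x : T, ∃ H ∈ F, x ∈ H := by
    intro x
    by_contra h
    exact hcon ⟨x, fun H hH hx => h ⟨H, hH, hx⟩⟩
  haveI : Fintype T := Fintype.ofFinite T
  have hp := (Fact.out : p.Prime)
  obtain ⟨H0, hH0, -⟩ := hcov 1
  have hm : 1 ≤ m := by
    by_contra h0
    have hm0 : m = 0 := by omega
    rw [hm0, pow_zero] at hT
    apply hF H0 hH0
    rw [Subgroup.eq_top_iff']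
    intro x
    haveI : Subsingleton T := (Nat.card_eq_one_iff_unique.mp hT).1
    rw [Subsingleton.elim x 1]
    exact one_mem _
  have hcardH : ∀ H ∈ F, Nat.card H ≤ p ^ (m - 1) := by
    intro H hH
    have hdvd : Nat.card H ∣ p ^ m := by rw [← hT]; exact Subgroup.card_subgroup_dvd_card H
    obtain ⟨j, hj, hjeq⟩ := (Nat.dvd_prime_pow hp).mp hdvd
    have hjm : j ≠ m := by
      rintro rfl
      exact hF H hH ((Subgroup.card_eq_iff_eq_top H).mp (by rw [hjeq, hT]))
    rw [hjeq]
    exact Nat.pow_le_pow_right hp.pos (by omega)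
  have hle : Nat.card T ≤ ∑ H ∈ F, Nat.card H := by
    have hsub : (Finset.univ : Finset T) ⊆ F.biUnion (fun H => (H : Set T).toFinset) := by
      intro x _
      obtain ⟨H, hH, hx⟩ := hcov x
      exact Finset.mem_biUnion.mpr ⟨H, hH, by simpa using hx⟩
    calc Nat.card T = (Finset.univ : Finset T).card := by
          rw [Nat.card_eq_fintype_card, Finset.card_univ]
      _ ≤ (F.biUnion (fun H => (H : Set T).toFinset)).card := Finset.card_le_card hsub
      _ ≤ ∑ H ∈ F, ((H : Set T).toFinset).card := Finset.card_biUnion_le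
      _ = ∑ H ∈ F, Nat.card H := by
          refine Finset.sum_congr rfl (fun H _ => ?_)
          rw [Set.toFinset_card, ← Nat.card_eq_fintype_card]
          rfl
  have hle2 : ∑ H ∈ F, Nat.card H ≤ F.card * p ^ (m - 1) := by
    have := Finset.sum_le_card_nsmul F (fun H => Nat.card H) (p ^ (m - 1)) hcardH
    simpa using this
  have hlt : F.card * p ^ (m - 1) < p * p ^ (m - 1) :=
    Nat.mul_lt_mul_of_pos_right hc (pow_pos hp.pos _)
  have hpm : p * p ^ (m - 1) = p ^ m := by
    rw [← pow_succ']
    congr 1
    omega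
  omega

/-- B: a conjugation-closed generating set whose `p`-th powers lie deep in the lower central series. -/
theorem h36_exists_gen_set (p : ℕ) [Fact p.Prime] {T : Type*} [Group T] [Finite T] (k : ℕ) (hk : 2 ≤ k)
    (hpk : k + 2 ≤ p)
    (hidx : ∀ i, 1 ≤ i → i ≤ 2 * k → ((⊤ : Subgroup T).lowerCentralSeries i).index = p ^ (i + 1))
    (hbot : (⊤ : Subgroup T).lowerCentralSeries (2 * k) = ⊥) :
    ∃ U : Set T, (∀ s ∈ U, ∀ g : T, g * s * g⁻¹ ∈ U) ∧ Subgroup.closure U = ⊤ ∧
      ∀ s ∈ U, s ^ p ∈ (⊤ : Subgroup T).lowerCentralSeries (k + 1) := by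
  classical
  have hp := (Fact.out : p.Prime)
  choose C hCn hCmem hCtop using (fun i : ℕ => exists_twoStep (T := T) i)
  have hcardT : Nat.card T = p ^ (2 * k + 1) := by
    have h := hidx (2 * k) (by omega) le_rfl
    rw [hbot, Subgroup.index_bot] at h
    exact h
  have hCne : ∀ i, 1 ≤ i → i ≤ k → C i ≠ ⊤ := by
    intro i hi1 hik htop
    have hle := hCtop i htop
    have hge : (⊤ : Subgroup T).lowerCentralSeries (i + 2) ≤
        (⊤ : Subgroup T).lowerCentralSeries (i + 1) :=
      Subgroup.lowerCentralSeries_antitone _ (Nat.le_succ (i + 1))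
    have heq : (⊤ : Subgroup T).lowerCentralSeries (i + 1) =
        (⊤ : Subgroup T).lowerCentralSeries (i + 2) := le_antisymm hle hge
    have h1 := hidx (i + 1) (by omega) (by omega)
    have h2 := hidx (i + 2) (by omega) (by omega)
    rw [heq, h2] at h1
    have := Nat.pow_right_injective hp.two_le h1
    omega
  refine ⟨{s | ∀ i, 1 ≤ i → i ≤ k → s ∉ C i}, ?_, ?_, ?_⟩
  · intro s hs g i hi1 hik hmem
    apply hs i hi1 hik
    have h := (hCn i).conj_mem _ hmem g⁻¹
    have e : g⁻¹ * (g * s * g⁻¹) * g⁻¹⁻¹ = s := by group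
    rw [e] at h
    exact h
  · by_contra hne
    set M := Subgroup.closure {s : T | ∀ i, 1 ≤ i → i ≤ k → s ∉ C i} with hM
    have hFp : ∀ H ∈ insert M ((Finset.Icc 1 k).image C), H ≠ ⊤ := by
      intro H hH
      rcases Finset.mem_insert.mp hH with rfl | hH
      · exact hne
      · obtain ⟨i, hi, rfl⟩ := Finset.mem_image.mp hH
        rw [Finset.mem_Icc] at hi
        exact hCne i hi.1 hi.2
    have hFc : (insert M ((Finset.Icc 1 k).image C)).card < p := by
      have h1 : (insert M ((Finset.Icc 1 k).image C)).card ≤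
          ((Finset.Icc 1 k).image C).card + 1 := Finset.card_insert_le _ _
      have h2 : ((Finset.Icc 1 k).image C).card ≤ (Finset.Icc 1 k).card := Finset.card_image_le
      have h3 : (Finset.Icc 1 k).card = k := by simp
      omega
    obtain ⟨x, hx⟩ := h36_exists_not_mem_of_card_lt p (2 * k + 1) hcardT _ hFp hFc
    have hxM : x ∉ M := hx M (Finset.mem_insert_self _ _)
    apply hxM
    apply Subgroup.subset_closure
    intro i hi1 hik
    exact hx (C i) (Finset.mem_insert_of_mem
      (Finset.mem_image_of_mem C (Finset.mem_Icc.mpr ⟨hi1, hik⟩)))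
  · intro s hs
    have key : ∀ i, 1 ≤ i → i ≤ k + 1 → s ^ p ∈ (⊤ : Subgroup T).lowerCentralSeries i := by
      intro i hi1
      induction i, hi1 using Nat.le_induction with
      | base =>
        intro _
        exact h36_pow_mem_lcs_one p (2 * k + 1) (by omega) hcardT (hidx 1 le_rfl (by omega)) s
      | succ i hi1 ih =>
        intro hik
        have hsi := ih (by omega)
        by_contra hnot
        have hrel : ((⊤ : Subgroup T).lowerCentralSeries (i + 1)).relIndex
            ((⊤ : Subgroup T).lowerCentralSeries i) = p := by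
          have h1 := hidx i hi1 (by omega)
          have h2 := hidx (i + 1) (by omega) (by omega)
          have h3 := Subgroup.relIndex_mul_index
            (Subgroup.lowerCentralSeries_antitone (⊤ : Subgroup T) (Nat.le_succ i))
          rw [h1, h2, pow_succ p (i + 1)] at h3
          have hpos : 0 < p ^ (i + 1) := pow_pos hp.pos _
          exact Nat.eq_of_mul_eq_mul_right hpos (by rw [h3, mul_comm])
        have hsC : ¬ ∀ y ∈ (⊤ : Subgroup T).lowerCentralSeries i,
            ⁅y, s⁆ ∈ (⊤ : Subgroup T).lowerCentralSeries (i + 2) := by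
          intro h
          exact hs i hi1 (by omega) ((hCmem i s).mpr h)
        have hcontra := h36_comm_not_mem_of_not_twoStep p i hrel s hsC (s ^ p) hsi hnot
        apply hcontra
        have h1 : ⁅s ^ p, s⁆ = 1 := by
          rw [commutatorElement_eq_one_iff_commute]
          exact (Commute.refl s).pow_left p
        rw [h1]
        exact one_mem _
    exact key (k + 1) (by omega) le_rfl

end Cfsg.Agent.Lib.helper12.MC
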