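import Mathlib
import Cfsg.Agent.Lib.helper26.S4409Defs

set_option autoImplicit false

namespace Cfsg.Agent.Lib.helper26.S4409

variable {G : Type*} [Group G]

theorem h36_q8_k0 : ∀ x : QuaternionGroup 2, x * x ≠ 1 → ∃ y : QuaternionGroup 2, y * x ≠ x * y := by
  decide

theorem h36_q8_k1 : ∀ x y : QuaternionGroup 2, x * x ≠ 1 → y * x ≠ x * y →
    (y * x = x⁻¹ * y ∧ x * x * x * x = 1) := by
  decide

theorem h36_q8_k2 : ∀ x y : QuaternionGroup 2, x * x ≠ 1 → y * x ≠ x * y →
    ∀ w : QuaternionGroup 2, (w = 1 ∨ w = x ∨ w = x * x ∨ w = x * x * x ∨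
      w = y ∨ w = y * x ∨ w = y * x * x ∨ w = y * x * x * x) := by
  decide

theorem h36_q8lb_main {R : Type*} [Group R] (e : R ≃* QuaternionGroup 2) (x : R) (hx : x * x ≠ 1)
    (φ : R → R) (hmul : ∀ r s, φ (r * s) = φ r * φ s) (h2 : ∀ r, φ (φ r) = r) (hφx : φ x = x) :
    (∀ r, φ r = r) ∨ (∀ r, φ r = x * r * x⁻¹) := by
  have hex : (e x) * (e x) ≠ 1 := by
    rw [← map_mul, ← map_one e]; exact fun h => hx (e.injective h)
  obtain ⟨y, hy⟩ : ∃ y : R, y * x ≠ x * y := by
    obtain ⟨y', hy'⟩ := h36_q8_k0 (e x) hex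
    obtain ⟨y, rfl⟩ := e.surjective y'
    refine ⟨y, fun h => hy' ?_⟩
    rw [← map_mul, ← map_mul, h]
  have hey : (e y) * (e x) ≠ (e x) * (e y) := by
    rw [← map_mul, ← map_mul]; exact fun h => hy (e.injective h)
  obtain ⟨h1', h4'⟩ := h36_q8_k1 (e x) (e y) hex hey
  have h1 : y * x = x⁻¹ * y := e.injective (by simpa using h1')
  have h4 : x * x * x * x = 1 := e.injective (by simpa using h4')
  have hw : ∀ w : R, (w = 1 ∨ w = x ∨ w = x * x ∨ w = x * x * x ∨
      w = y ∨ w = y * x ∨ w = y * x * x ∨ w = y * x * x * x) := by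
    intro w
    rcases h36_q8_k2 (e x) (e y) hex hey (e w) with h | h | h | h | h | h | h | h
    · exact Or.inl (e.injective (by simpa using h))
    · exact Or.inr (Or.inl (e.injective (by simpa using h)))
    · exact Or.inr (Or.inr (Or.inl (e.injective (by simpa using h))))
    · exact Or.inr (Or.inr (Or.inr (Or.inl (e.injective (by simpa using h)))))
    · exact Or.inr (Or.inr (Or.inr (Or.inr (Or.inl (e.injective (by simpa using h))))))
    · exact Or.inr (Or.inr (Or.inr (Or.inr (Or.inr (Or.inl (e.injective (by simpa using h)))))))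
    · exact Or.inr (Or.inr (Or.inr (Or.inr (Or.inr (Or.inr (Or.inl (e.injective (by simpa using h))))))))
    · exact Or.inr (Or.inr (Or.inr (Or.inr (Or.inr (Or.inr (Or.inr (e.injective (by simpa using h))))))))
  have key : ∀ (f g : R → R), (∀ r s, f (r * s) = f r * f s) → (∀ r s, g (r * s) = g r * g s) →
      f x = g x → f y = g y → ∀ r, f r = g r := by
    intro f g hf hg hfx hfy r
    have hf1 : f 1 = 1 := by
      have h := hf 1 1
      rw [mul_one] at h
      exact (mul_eq_left (a := f 1) (b := f 1)).mp h.symm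
    have hg1 : g 1 = 1 := by
      have h := hg 1 1
      rw [mul_one] at h
      exact (mul_eq_left (a := g 1) (b := g 1)).mp h.symm
    rcases hw r with h' | h' | h' | h' | h' | h' | h' | h' <;> rw [h'] <;>
      simp only [hf, hg, hfx, hfy, hf1, hg1]
  have hφ1 : φ 1 = 1 := by
    have h := hmul 1 1
    rw [mul_one] at h
    exact (mul_eq_left (a := φ 1) (b := φ 1)).mp h.symm
  have hxx : φ (x * x) = x * x := by rw [hmul, hφx]
  rcases hw (φ y) with h | h | h | h | h | h | h | h
  · exfalso; apply hy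
    have : y = 1 := by rw [← h2 y, h, hφ1]
    rw [this]; simp
  · exfalso; apply hy
    have : y = x := by rw [← h2 y, h, hφx]
    rw [this]
  · exfalso; apply hy
    have : y = x * x := by rw [← h2 y, h, hxx]
    rw [this, mul_assoc]
  · exfalso; apply hy
    have : y = x * x * x := by rw [← h2 y, h, hmul, hxx, hφx]
    rw [this]; simp only [mul_assoc]
  · left
    exact key φ (fun r => r) hmul (fun _ _ => rfl) hφx h
  · exfalso; apply hx
    have h' := h2 y
    rw [h, hmul, h, hφx] at h'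
    have : y * (x * x) = y * 1 := by rw [mul_one, ← mul_assoc]; exact h'
    exact mul_left_cancel this
  · right
    have hxinv : x⁻¹ = x * x * x := by
      apply inv_eq_of_mul_eq_one_right
      rw [← h4]; simp only [mul_assoc]
    have e1 : x * y = y * x⁻¹ := by
      have : x * (y * x) = y := by rw [h1]; group
      calc x * y = x * (y * x) * x⁻¹ := by group
        _ = y * x⁻¹ := by rw [this]
    have hxy : x * y * x⁻¹ = y * x * x := by
      rw [e1, hxinv]
      calc y * (x * x * x) * (x * x * x) = y * x * x * (x * x * x * x) := by simp only [mul_assoc]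
        _ = y * x * x := by rw [h4, mul_one]
    refine key φ (fun r => x * r * x⁻¹) hmul (fun r s => by group) ?_ ?_
    · show φ x = x * x * x⁻¹
      rw [hφx]; group
    · show φ y = x * y * x⁻¹
      rw [h, hxy]
  · exfalso; apply hx
    have h' := h2 y
    rw [h] at h'
    simp only [hmul, h, hφx] at h'
    have h6 : x * x * x * x * x * x = 1 := by
      have : y * (x * x * x * x * x * x) = y * 1 := by
        rw [mul_one]; simpa only [mul_assoc] using h'
      exact mul_left_cancel this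
    have h7 : x * x * x * x * x * x = (x * x * x * x) * (x * x) := by simp only [mul_assoc]
    rw [h7, h4, one_mul] at h6
    exact h6

theorem h36_q8lb (Q : Subgroup G) (hQ : IsQ8 Q) (a : G) (ha : a ∈ Subgroup.normalizer (Q : Set G))
    (ha2 : a * a = 1) (q : G) (hq : q ∈ Q) (hq2 : q * q ≠ 1) (hc : a * q = q * a) :
    a ∈ Subgroup.centralizer (Q : Set G) ∨ q⁻¹ * a ∈ Subgroup.centralizer (Q : Set G) := by
  obtain ⟨e⟩ := hQ
  have hainv : a⁻¹ = a := inv_eq_of_mul_eq_one_right ha2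
  have hmemQ : ∀ r : ↥Q, a * (r : G) * a⁻¹ ∈ Q :=
    fun r => (Subgroup.mem_normalizer_iff.mp ha r).mp r.2
  have hmul : ∀ r s : ↥Q, (⟨a * ((r * s : ↥Q) : G) * a⁻¹, hmemQ (r * s)⟩ : ↥Q) =
      ⟨a * (r : G) * a⁻¹, hmemQ r⟩ * ⟨a * (s : G) * a⁻¹, hmemQ s⟩ := by
    intro r s
    apply Subtype.ext
    show a * ((r : G) * (s : G)) * a⁻¹ = (a * (r : G) * a⁻¹) * (a * (s : G) * a⁻¹)
    group
  have h2 : ∀ r : ↥Q, (⟨a * ((⟨a * (r : G) * a⁻¹, hmemQ r⟩ : ↥Q) : G) * a⁻¹, hmemQ _⟩ : ↥Q) = r := by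
    intro r
    apply Subtype.ext
    show a * (a * (r : G) * a⁻¹) * a⁻¹ = r
    rw [hainv]
    calc a * (a * (r : G) * a) * a = (a * a) * (r : G) * (a * a) := by simp only [mul_assoc]
      _ = r := by rw [ha2]; simp
  have hφx : (⟨a * ((⟨q, hq⟩ : ↥Q) : G) * a⁻¹, hmemQ ⟨q, hq⟩⟩ : ↥Q) = ⟨q, hq⟩ := by
    apply Subtype.ext
    show a * q * a⁻¹ = q
    rw [hc]; group
  have hx : (⟨q, hq⟩ : ↥Q) * ⟨q, hq⟩ ≠ 1 := by
    intro h; apply hq2; exact congrArg Subtype.val h
  rcases h36_q8lb_main e ⟨q, hq⟩ hx (fun r => ⟨a * (r : G) * a⁻¹, hmemQ r⟩) hmul h2 hφx with h | h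
  · left
    rw [Subgroup.mem_centralizer_iff]
    intro r hr
    have h' : a * r * a⁻¹ = r := congrArg Subtype.val (h ⟨r, hr⟩)
    calc r * a = (a * r * a⁻¹) * a := by rw [h']
      _ = a * r := by group
  · right
    rw [Subgroup.mem_centralizer_iff]
    intro r hr
    have h' : a * r * a⁻¹ = q * r * q⁻¹ := congrArg Subtype.val (h ⟨r, hr⟩)
    have h3 : a * r = q * r * q⁻¹ * a := by rw [← h']; group
    calc r * (q⁻¹ * a) = q⁻¹ * (q * r * q⁻¹ * a) := by group
      _ = q⁻¹ * (a * r) := by rw [h3]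
      _ = q⁻¹ * a * r := by group

end Cfsg.Agent.Lib.helper26.S4409
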