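import Mathlib
import Cfsg.Agent.Lib.helper26.S4409Defs

set_option autoImplicit false

namespace Cfsg.Agent.Lib.helper26.S4409

variable {G : Type*} [Group G]

theorem h36_specx_center_map (X : Subgroup G) :
    (Subgroup.center ↥X).map X.subtype = X ⊓ Subgroup.centralizer (X : Set G) := by
  ext g
  constructor
  · rintro ⟨x, hx, rfl⟩
    have hx' : x ∈ Subgroup.center ↥X := hx
    have hgoal : (x : G) ∈ X ⊓ Subgroup.centralizer (X : Set G) := by
      have hc : (x : G) ∈ Subgroup.centralizer (X : Set G) := by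
        rw [Subgroup.mem_centralizer_iff]
        intro y hy
        have := Subgroup.mem_center_iff.mp hx' ⟨y, hy⟩
        exact congrArg Subtype.val this
      exact ⟨x.2, hc⟩
    exact hgoal
  · intro hg
    have hg' : g ∈ X ⊓ Subgroup.centralizer (X : Set G) := hg
    obtain ⟨hgX, hgC⟩ := hg'
    have hmem : (⟨g, hgX⟩ : ↥X) ∈ Subgroup.center ↥X := by
      rw [Subgroup.mem_center_iff]
      intro y
      apply Subtype.ext
      exact (Subgroup.mem_centralizer_iff.mp hgC) y.1 y.2
    exact ⟨⟨g, hgX⟩, hmem, rfl⟩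

theorem h36_specx (X M : Subgroup G) (hMX : M ≤ X)
    (hZ : X ⊓ Subgroup.centralizer (X : Set G) = M) (hc : ⁅X, X⁆ = M) :
    _root_.commutator ↥X = Subgroup.center ↥X ∧
      Nat.card ↥(Subgroup.center ↥X) = Nat.card ↥M ∧
      ∀ x : ↥X, (x : G) ∈ M → x ∈ Subgroup.center ↥X := by
  have h1 : (Subgroup.center ↥X).map X.subtype = M := by
    rw [h36_specx_center_map, hZ]
  have h2 : (_root_.commutator ↥X).map X.subtype = M := by
    rw [commutator_def, Subgroup.map_commutator, ← MonoidHom.range_eq_map, Subgroup.range_subtype, hc]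
  have hinj : Function.Injective X.subtype := X.subtype_injective
  refine ⟨?_, ?_, ?_⟩
  · exact Subgroup.map_injective hinj (h2.trans h1.symm)
  · rw [← h1]
    exact (Nat.card_congr ((Subgroup.center ↥X).equivMapOfInjective X.subtype hinj).toEquiv)
  · intro x hx
    have : (x : G) ∈ (Subgroup.center ↥X).map X.subtype := by rw [h1]; exact hx
    obtain ⟨y, hy, hyx⟩ := this
    have : y = x := Subtype.ext hyx
    exact this ▸ hy

end Cfsg.Agent.Lib.helper26.S4409
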