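import Mathlib
import Cfsg.Agent.Lib.helper89.S60Defs

/-!
S6000 split (architect helper89), piece EX3 -- racer copy by helper36 (every declaration is
prefixed `h36_`).  Route: for `y` the matrix of an element of `R` with `y * y = -1` the unit
`1 + y` normalizes `R`; `G1 = (1 + y1)(1 + y2)`, `G2 = (1 + y3)(1 + y4)` are commuting
"Hurwitz units" with cube `-8`.
-/

set_option autoImplicit false

namespace Cfsg.Agent.Lib.helper89.S60

open Matrix Cfsg Cfsg.Geo

theorem h36_ex3_trace_anti {F : Type*} [Field F] (h2 : (2 : F) ≠ 0)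
    (x y : Matrix (Fin 4) (Fin 4) F) (hxy : x * y = -(y * x)) (hy : y * y = 1) :
    Matrix.trace x = 0 := by
  have h1 : x = -(y * x * y) := by
    calc x = x * (y * y) := by rw [hy, mul_one]
      _ = x * y * y := by rw [mul_assoc]
      _ = -(y * x * y) := by rw [hxy, neg_mul]
  have h3 : Matrix.trace (y * x * y) = Matrix.trace x := by
    rw [Matrix.trace_mul_comm, ← mul_assoc, hy, one_mul]
  have h4 : Matrix.trace x = -Matrix.trace x := by
    conv_lhs => rw [h1]
    rw [Matrix.trace_neg, h3]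
  have h5 : (2 : F) * Matrix.trace x = 0 := by linear_combination h4
  rcases mul_eq_zero.mp h5 with h | h
  · exact absurd h h2
  · exact h

theorem h36_ex3_half {F : Type*} [Field F] (h2 : (2 : F) ≠ 0) (X : Matrix (Fin 4) (Fin 4) F) :
    (2⁻¹ : F) • (X + X) = X := by
  rw [← two_smul F X, smul_smul, inv_mul_cancel₀ h2, one_smul]

theorem h36_ex3_conj {F : Type*} [Field F] (h2 : (2 : F) ≠ 0) (y s : Matrix (Fin 4) (Fin 4) F)
    (hy : y * y = -1) (hys : y * s = s * y ∨ y * s = -(s * y)) :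
    (1 + y) * s * ((2⁻¹ : F) • (1 - y)) = s ∨
      (1 + y) * s * ((2⁻¹ : F) • (1 - y)) = -(s * y) := by
  rcases hys with h | h
  · left
    have e : (1 + y) * s * ((2⁻¹ : F) • (1 - y)) = (2⁻¹ : F) • (s + s) := by
      rw [mul_smul_comm]
      congr 1
      have h1 : (1 + y) * s = s * (1 + y) := by rw [add_mul, mul_add, one_mul, mul_one, h]
      rw [h1, mul_assoc]
      have h3 : (1 + y) * (1 - y) = 1 + 1 := by
        rw [add_mul, mul_sub, mul_sub, mul_one, one_mul, mul_one, hy]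
        abel
      rw [h3, mul_add, mul_one]
    rw [e, h36_ex3_half h2]
  · right
    have e : (1 + y) * s * ((2⁻¹ : F) • (1 - y)) = (2⁻¹ : F) • (-(s * y) + -(s * y)) := by
      rw [mul_smul_comm]
      congr 1
      have h1 : (1 + y) * s = s * (1 - y) := by
        rw [add_mul, mul_sub, one_mul, mul_one, h]
        abel
      rw [h1, mul_assoc]
      have h3 : (1 - y) * (1 - y) = -y + -y := by
        rw [sub_mul, mul_sub, mul_sub, mul_one, one_mul, mul_one, hy]
        abel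
      rw [h3, mul_add, mul_neg]
    rw [e, h36_ex3_half h2]

theorem h36_ex3_conj' {F : Type*} [Field F] (h2 : (2 : F) ≠ 0) (y s : Matrix (Fin 4) (Fin 4) F)
    (hy : y * y = -1) (hys : y * s = s * y ∨ y * s = -(s * y)) :
    ((2⁻¹ : F) • (1 - y)) * s * (1 + y) = s ∨
      ((2⁻¹ : F) • (1 - y)) * s * (1 + y) = s * y := by
  have hy' : (-y) * (-y) = -1 := by rw [neg_mul_neg, hy]
  have hys' : (-y) * s = s * (-y) ∨ (-y) * s = -(s * (-y)) := by
    rcases hys with h | h
    · left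
      rw [neg_mul, mul_neg, h]
    · right
      rw [neg_mul, mul_neg, h]
  have e : ((2⁻¹ : F) • (1 - y)) * s * (1 + y) = (1 + -y) * s * ((2⁻¹ : F) • (1 - -y)) := by
    rw [smul_mul_assoc, smul_mul_assoc, mul_smul_comm, sub_neg_eq_add, ← sub_eq_add_neg]
  rw [e]
  rcases h36_ex3_conj h2 (-y) s hy' hys' with h | h
  · left
    exact h
  · right
    rw [h, mul_neg, neg_neg]

theorem h36_ex3_unit {F : Type*} [Field F] (h2 : (2 : F) ≠ 0) (R : Subgroup (GL (Fin 4) F))
    (hcomm : ∀ s ∈ R, ∀ t ∈ R, (s : Matrix (Fin 4) (Fin 4) F) * (t : Matrix (Fin 4) (Fin 4) F) = (t : Matrix (Fin 4) (Fin 4) F) * (s : Matrix (Fin 4) (Fin 4) F) ∨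
      (s : Matrix (Fin 4) (Fin 4) F) * (t : Matrix (Fin 4) (Fin 4) F) = -((t : Matrix (Fin 4) (Fin 4) F) * (s : Matrix (Fin 4) (Fin 4) F)))
    (ng : GL (Fin 4) F) (hng : ng ∈ R) (hngv : (ng : Matrix (Fin 4) (Fin 4) F) = -1)
    (Y : GL (Fin 4) F) (hY : Y ∈ R)
    (hYY : (Y : Matrix (Fin 4) (Fin 4) F) * (Y : Matrix (Fin 4) (Fin 4) F) = -1) :
    ∃ U : GL (Fin 4) F, U ∈ subgroupNormalizer R ∧
      (U : Matrix (Fin 4) (Fin 4) F) = 1 + (Y : Matrix (Fin 4) (Fin 4) F) := by
  obtain ⟨y, hy⟩ : ∃ y : Matrix (Fin 4) (Fin 4) F, y = (Y : Matrix (Fin 4) (Fin 4) F) := ⟨_, rfl⟩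
  rw [← hy] at hYY
  have hUV : (1 + y) * ((2⁻¹ : F) • (1 - y)) = 1 := by
    rw [mul_smul_comm]
    have h3 : (1 + y) * (1 - y) = 1 + 1 := by
      rw [add_mul, mul_sub, mul_sub, mul_one, one_mul, mul_one, hYY]
      abel
    rw [h3, h36_ex3_half h2]
  have hVU : ((2⁻¹ : F) • (1 - y)) * (1 + y) = 1 := by
    rw [smul_mul_assoc]
    have h3 : (1 - y) * (1 + y) = 1 + 1 := by
      rw [sub_mul, mul_add, mul_add, mul_one, one_mul, mul_one, hYY]
      abel
    rw [h3, h36_ex3_half h2]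
  obtain ⟨U, hUv, hUi⟩ : ∃ U : GL (Fin 4) F, (U : Matrix (Fin 4) (Fin 4) F) = 1 + y ∧
      ((U⁻¹ : GL (Fin 4) F) : Matrix (Fin 4) (Fin 4) F) = (2⁻¹ : F) • (1 - y) :=
    ⟨⟨1 + y, (2⁻¹ : F) • (1 - y), hUV, hVU⟩, rfl, rfl⟩
  have key : ∀ s ∈ R, (y * (s : Matrix (Fin 4) (Fin 4) F) = (s : Matrix (Fin 4) (Fin 4) F) * y ∨
      y * (s : Matrix (Fin 4) (Fin 4) F) = -((s : Matrix (Fin 4) (Fin 4) F) * y)) := by
    intro s hs
    rw [hy]
    exact hcomm Y hY s hs
  have h1 : ∀ s ∈ R, U * s * U⁻¹ ∈ R := by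
    intro s hs
    rcases h36_ex3_conj h2 y (s : Matrix (Fin 4) (Fin 4) F) hYY (key s hs) with e | e
    · have e2 : U * s * U⁻¹ = s := Units.ext (by
        rw [Units.val_mul, Units.val_mul, hUv, hUi, e])
      rw [e2]
      exact hs
    · have e2 : U * s * U⁻¹ = ng * s * Y := Units.ext (by
        rw [Units.val_mul, Units.val_mul, hUv, hUi, e, Units.val_mul, Units.val_mul, hngv,
          ← hy, neg_mul, one_mul, neg_mul])
      rw [e2]
      exact R.mul_mem (R.mul_mem hng hs) hY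
  have h2' : ∀ s ∈ R, U⁻¹ * s * U ∈ R := by
    intro s hs
    rcases h36_ex3_conj' h2 y (s : Matrix (Fin 4) (Fin 4) F) hYY (key s hs) with e | e
    · have e2 : U⁻¹ * s * U = s := Units.ext (by
        rw [Units.val_mul, Units.val_mul, hUv, hUi, e])
      rw [e2]
      exact hs
    · have e2 : U⁻¹ * s * U = s * Y := Units.ext (by
        rw [Units.val_mul, Units.val_mul, hUv, hUi, e, Units.val_mul, ← hy])
      rw [e2]
      exact R.mul_mem hs hY
  refine ⟨U, ?_, by rw [hUv, hy]⟩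
  rw [subgroupNormalizer, Subgroup.mem_normalizer_iff]
  intro h
  constructor
  · intro hh
    exact h1 h hh
  · intro hh
    have h3 := h2' _ hh
    have e : U⁻¹ * (U * h * U⁻¹) * U = h := by group
    rwa [e] at h3

theorem h36_ex3_scalar {F : Type*} [Field F] (R : Subgroup (GL (Fin 4) F)) (c : F) (hc : c ≠ 0) :
    ∃ C : GL (Fin 4) F, C ∈ subgroupNormalizer R ∧
      (C : Matrix (Fin 4) (Fin 4) F) = c • (1 : Matrix (Fin 4) (Fin 4) F) := by
  have h1 : (c • (1 : Matrix (Fin 4) (Fin 4) F)) * (c⁻¹ • (1 : Matrix (Fin 4) (Fin 4) F)) = 1 := by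
    rw [smul_mul_assoc, one_mul, smul_smul, mul_inv_cancel₀ hc, one_smul]
  have h1' : (c⁻¹ • (1 : Matrix (Fin 4) (Fin 4) F)) * (c • (1 : Matrix (Fin 4) (Fin 4) F)) = 1 := by
    rw [smul_mul_assoc, one_mul, smul_smul, inv_mul_cancel₀ hc, one_smul]
  obtain ⟨C, hCv⟩ : ∃ C : GL (Fin 4) F,
      (C : Matrix (Fin 4) (Fin 4) F) = c • (1 : Matrix (Fin 4) (Fin 4) F) :=
    ⟨⟨c • 1, c⁻¹ • 1, h1, h1'⟩, rfl⟩
  refine ⟨C, ?_, hCv⟩
  have hcomm : ∀ g : GL (Fin 4) F, C * g = g * C := by
    intro g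
    apply Units.ext
    rw [Units.val_mul, Units.val_mul, hCv, smul_mul_assoc, one_mul, mul_smul_comm, mul_one]
  rw [subgroupNormalizer, Subgroup.mem_normalizer_iff]
  intro h
  have e : C * h * C⁻¹ = h := by rw [hcomm h, mul_inv_cancel_right]
  rw [e]

theorem h36_ex3_cube {A : Type*} [Ring A] (i j : A) (hi : i * i = -1) (hj : j * j = -1)
    (hji : j * i = -(i * j)) :
    ((1 + i) * (1 + j)) * ((1 + i) * (1 + j)) * ((1 + i) * (1 + j)) =
      -(1 + 1 + 1 + 1 + 1 + 1 + 1 + 1) := by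
  have hi' : ∀ x : A, i * (i * x) = -x := fun x => by rw [← mul_assoc, hi, neg_mul, one_mul]
  have hj' : ∀ x : A, j * (j * x) = -x := fun x => by rw [← mul_assoc, hj, neg_mul, one_mul]
  have hji' : ∀ x : A, j * (i * x) = -(i * (j * x)) := fun x => by
    rw [← mul_assoc, hji, neg_mul, mul_assoc]
  have hGG : ((1 + i) * (1 + j)) * ((1 + i) * (1 + j)) =
      (1 + i) * (1 + j) + (1 + i) * (1 + j) - (1 + 1 + 1 + 1) := by
    simp only [mul_add, add_mul, mul_one, one_mul, mul_assoc, mul_neg, neg_mul, neg_neg, hi, hj,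
      hji, hi', hj', hji']
    abel
  generalize (1 + i) * (1 + j) = G at hGG ⊢
  calc G * G * G = (G + G - (1 + 1 + 1 + 1)) * G := by rw [hGG]
    _ = (G * G + G * G) - (G + G + G + G) := by simp only [sub_mul, add_mul, one_mul]
    _ = -(1 + 1 + 1 + 1 + 1 + 1 + 1 + 1) := by
        rw [hGG]
        abel

/-- EX3 (L), racer copy. -/
theorem h36_s60_exists_three {F : Type*} [Field F] [Fintype F] (h2 : (2 : F) ≠ 0) (R : Subgroup (GL (Fin 4) F)) (w : F) (hG : Good R w) :
    ∃ hA hB : GL (Fin 4) F, hA ∈ subgroupNormalizer R ∧ hB ∈ subgroupNormalizer R ∧ hA ^ 3 = 1 ∧ hB ^ 3 = 1 ∧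
      Matrix.trace (hA : Matrix (Fin 4) (Fin 4) F) = 1 ∧ Matrix.trace (hB : Matrix (Fin 4) (Fin 4) F) = -2 := by
  obtain ⟨t, htR, htsq, htanti, -⟩ := hG.frame
  obtain ⟨z, hzR, hz⟩ := hG.wmem
  have hww := hG.wsq
  set T0 : Matrix (Fin 4) (Fin 4) F := (t 0 : Matrix (Fin 4) (Fin 4) F) with hT0
  set T1 : Matrix (Fin 4) (Fin 4) F := (t 1 : Matrix (Fin 4) (Fin 4) F) with hT1
  set T2 : Matrix (Fin 4) (Fin 4) F := (t 2 : Matrix (Fin 4) (Fin 4) F) with hT2
  set T3 : Matrix (Fin 4) (Fin 4) F := (t 3 : Matrix (Fin 4) (Fin 4) F) with hT3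
  have s0 : T0 * T0 = 1 := htsq 0
  have s1 : T1 * T1 = 1 := htsq 1
  have s2 : T2 * T2 = 1 := htsq 2
  have s3 : T3 * T3 = 1 := htsq 3
  have h10 : T1 * T0 = -(T0 * T1) := htanti 1 0 (by decide)
  have h20 : T2 * T0 = -(T0 * T2) := htanti 2 0 (by decide)
  have h21 : T2 * T1 = -(T1 * T2) := htanti 2 1 (by decide)
  have h30 : T3 * T0 = -(T0 * T3) := htanti 3 0 (by decide)
  have h31 : T3 * T1 = -(T1 * T3) := htanti 3 1 (by decide)
  have h32 : T3 * T2 = -(T2 * T3) := htanti 3 2 (by decide)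
  have s0' : ∀ x : Matrix (Fin 4) (Fin 4) F, T0 * (T0 * x) = x := fun x => by
    rw [← mul_assoc, s0, one_mul]
  have s1' : ∀ x : Matrix (Fin 4) (Fin 4) F, T1 * (T1 * x) = x := fun x => by
    rw [← mul_assoc, s1, one_mul]
  have s2' : ∀ x : Matrix (Fin 4) (Fin 4) F, T2 * (T2 * x) = x := fun x => by
    rw [← mul_assoc, s2, one_mul]
  have s3' : ∀ x : Matrix (Fin 4) (Fin 4) F, T3 * (T3 * x) = x := fun x => by
    rw [← mul_assoc, s3, one_mul]
  have h10' : ∀ x : Matrix (Fin 4) (Fin 4) F, T1 * (T0 * x) = -(T0 * (T1 * x)) := fun x => by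
    rw [← mul_assoc, h10, neg_mul, mul_assoc]
  have h20' : ∀ x : Matrix (Fin 4) (Fin 4) F, T2 * (T0 * x) = -(T0 * (T2 * x)) := fun x => by
    rw [← mul_assoc, h20, neg_mul, mul_assoc]
  have h21' : ∀ x : Matrix (Fin 4) (Fin 4) F, T2 * (T1 * x) = -(T1 * (T2 * x)) := fun x => by
    rw [← mul_assoc, h21, neg_mul, mul_assoc]
  have h30' : ∀ x : Matrix (Fin 4) (Fin 4) F, T3 * (T0 * x) = -(T0 * (T3 * x)) := fun x => by
    rw [← mul_assoc, h30, neg_mul, mul_assoc]
  have h31' : ∀ x : Matrix (Fin 4) (Fin 4) F, T3 * (T1 * x) = -(T1 * (T3 * x)) := fun x => by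
    rw [← mul_assoc, h31, neg_mul, mul_assoc]
  have h32' : ∀ x : Matrix (Fin 4) (Fin 4) F, T3 * (T2 * x) = -(T2 * (T3 * x)) := fun x => by
    rw [← mul_assoc, h32, neg_mul, mul_assoc]
  -- `-1 ∈ R`
  have hng : ((z * z : GL (Fin 4) F) : Matrix (Fin 4) (Fin 4) F) = -1 := by
    rw [Units.val_mul, hz]
    simp only [smul_mul_assoc, mul_smul_comm, smul_smul, mul_one, hww]
    simp
  have hnegR : z * z ∈ R := R.mul_mem hzR hzR
  -- the four square roots of `-1`
  set y1 : Matrix (Fin 4) (Fin 4) F := T0 * T1 with hy1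
  set y2 : Matrix (Fin 4) (Fin 4) F := T1 * T2 with hy2
  set y3 : Matrix (Fin 4) (Fin 4) F := T0 * (T1 * T2) with hy3
  set y4 : Matrix (Fin 4) (Fin 4) F := w • T3 with hy4
  have e1 : ((t 0 * t 1 : GL (Fin 4) F) : Matrix (Fin 4) (Fin 4) F) = y1 := by
    rw [Units.val_mul]
  have e2 : ((t 1 * t 2 : GL (Fin 4) F) : Matrix (Fin 4) (Fin 4) F) = y2 := by
    rw [Units.val_mul]
  have e3 : ((t 0 * (t 1 * t 2) : GL (Fin 4) F) : Matrix (Fin 4) (Fin 4) F) = y3 := by
    rw [Units.val_mul, Units.val_mul]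
  have e4 : ((z * t 3 : GL (Fin 4) F) : Matrix (Fin 4) (Fin 4) F) = y4 := by
    rw [Units.val_mul, hz, smul_mul_assoc, one_mul]
  have q1 : y1 * y1 = -1 := by
    simp only [hy1, hy2, hy3, hy4, smul_mul_assoc, mul_smul_comm, smul_neg, neg_smul, mul_assoc, mul_neg, neg_mul, neg_neg, mul_one, one_mul, s0, s1, s2, s3, s0', s1', s2', s3', h10, h20, h21, h30, h31, h32, h10', h20', h21', h30', h31', h32']
  have q2 : y2 * y2 = -1 := by
    simp only [hy1, hy2, hy3, hy4, smul_mul_assoc, mul_smul_comm, smul_neg, neg_smul, mul_assoc, mul_neg, neg_mul, neg_neg, mul_one, one_mul, s0, s1, s2, s3, s0', s1', s2', s3', h10, h20, h21, h30, h31, h32, h10', h20', h21', h30', h31', h32']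
  have q3 : y3 * y3 = -1 := by
    simp only [hy1, hy2, hy3, hy4, smul_mul_assoc, mul_smul_comm, smul_neg, neg_smul, mul_assoc, mul_neg, neg_mul, neg_neg, mul_one, one_mul, s0, s1, s2, s3, s0', s1', s2', s3', h10, h20, h21, h30, h31, h32, h10', h20', h21', h30', h31', h32']
  have q4 : y4 * y4 = -1 := by
    simp only [hy1, hy2, hy3, hy4, smul_mul_assoc, mul_smul_comm, smul_neg, neg_smul, mul_assoc, mul_neg, neg_mul, neg_neg, mul_one, one_mul, s0, s1, s2, s3, s0', s1', s2', s3', h10, h20, h21, h30, h31, h32, h10', h20', h21', h30', h31', h32', smul_smul, hww, one_smul]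
  have a21 : y2 * y1 = -(y1 * y2) := by
    simp only [hy1, hy2, hy3, hy4, smul_mul_assoc, mul_smul_comm, smul_neg, neg_smul, mul_assoc, mul_neg, neg_mul, neg_neg, mul_one, one_mul, s0, s1, s2, s3, s0', s1', s2', s3', h10, h20, h21, h30, h31, h32, h10', h20', h21', h30', h31', h32']
  have a43 : y4 * y3 = -(y3 * y4) := by
    simp only [hy1, hy2, hy3, hy4, smul_mul_assoc, mul_smul_comm, smul_neg, neg_smul, mul_assoc, mul_neg, neg_mul, neg_neg, mul_one, one_mul, s0, s1, s2, s3, s0', s1', s2', s3', h10, h20, h21, h30, h31, h32, h10', h20', h21', h30', h31', h32']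
  have c13 : y1 * y3 = y3 * y1 := by
    simp only [hy1, hy2, hy3, hy4, smul_mul_assoc, mul_smul_comm, smul_neg, neg_smul, mul_assoc, mul_neg, neg_mul, neg_neg, mul_one, one_mul, s0, s1, s2, s3, s0', s1', s2', s3', h10, h20, h21, h30, h31, h32, h10', h20', h21', h30', h31', h32']
  have c14 : y1 * y4 = y4 * y1 := by
    simp only [hy1, hy2, hy3, hy4, smul_mul_assoc, mul_smul_comm, smul_neg, neg_smul, mul_assoc, mul_neg, neg_mul, neg_neg, mul_one, one_mul, s0, s1, s2, s3, s0', s1', s2', s3', h10, h20, h21, h30, h31, h32, h10', h20', h21', h30', h31', h32']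
  have c23 : y2 * y3 = y3 * y2 := by
    simp only [hy1, hy2, hy3, hy4, smul_mul_assoc, mul_smul_comm, smul_neg, neg_smul, mul_assoc, mul_neg, neg_mul, neg_neg, mul_one, one_mul, s0, s1, s2, s3, s0', s1', s2', s3', h10, h20, h21, h30, h31, h32, h10', h20', h21', h30', h31', h32']
  have c24 : y2 * y4 = y4 * y2 := by
    simp only [hy1, hy2, hy3, hy4, smul_mul_assoc, mul_smul_comm, smul_neg, neg_smul, mul_assoc, mul_neg, neg_mul, neg_neg, mul_one, one_mul, s0, s1, s2, s3, s0', s1', s2', s3', h10, h20, h21, h30, h31, h32, h10', h20', h21', h30', h31', h32']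
  have tz : ∀ x y : Matrix (Fin 4) (Fin 4) F, x * y = -(y * x) → y * y = 1 → Matrix.trace x = 0 :=
    fun x y h1 h3 => h36_ex3_trace_anti h2 x y h1 h3
  have m1 : Matrix.trace (y1) = 0 := by
    first
      | (refine tz _ T0 ?_ s0; simp only [hy1, hy2, hy3, hy4, smul_mul_assoc, mul_smul_comm, smul_neg, neg_smul, mul_assoc, mul_neg, neg_mul, neg_neg, mul_one, one_mul, s0, s1, s2, s3, s0', s1', s2', s3', h10, h20, h21, h30, h31, h32, h10', h20', h21', h30', h31', h32']; done)
      | (refine tz _ T1 ?_ s1; simp only [hy1, hy2, hy3, hy4, smul_mul_assoc, mul_smul_comm, smul_neg, neg_smul, mul_assoc, mul_neg, neg_mul, neg_neg, mul_one, one_mul, s0, s1, s2, s3, s0', s1', s2', s3', h10, h20, h21, h30, h31, h32, h10', h20', h21', h30', h31', h32']; done)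
      | (refine tz _ T2 ?_ s2; simp only [hy1, hy2, hy3, hy4, smul_mul_assoc, mul_smul_comm, smul_neg, neg_smul, mul_assoc, mul_neg, neg_mul, neg_neg, mul_one, one_mul, s0, s1, s2, s3, s0', s1', s2', s3', h10, h20, h21, h30, h31, h32, h10', h20', h21', h30', h31', h32']; done)
      | (refine tz _ T3 ?_ s3; simp only [hy1, hy2, hy3, hy4, smul_mul_assoc, mul_smul_comm, smul_neg, neg_smul, mul_assoc, mul_neg, neg_mul, neg_neg, mul_one, one_mul, s0, s1, s2, s3, s0', s1', s2', s3', h10, h20, h21, h30, h31, h32, h10', h20', h21', h30', h31', h32']; done)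
  have m2 : Matrix.trace (y2) = 0 := by
    first
      | (refine tz _ T0 ?_ s0; simp only [hy1, hy2, hy3, hy4, smul_mul_assoc, mul_smul_comm, smul_neg, neg_smul, mul_assoc, mul_neg, neg_mul, neg_neg, mul_one, one_mul, s0, s1, s2, s3, s0', s1', s2', s3', h10, h20, h21, h30, h31, h32, h10', h20', h21', h30', h31', h32']; done)
      | (refine tz _ T1 ?_ s1; simp only [hy1, hy2, hy3, hy4, smul_mul_assoc, mul_smul_comm, smul_neg, neg_smul, mul_assoc, mul_neg, neg_mul, neg_neg, mul_one, one_mul, s0, s1, s2, s3, s0', s1', s2', s3', h10, h20, h21, h30, h31, h32, h10', h20', h21', h30', h31', h32']; done)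
      | (refine tz _ T2 ?_ s2; simp only [hy1, hy2, hy3, hy4, smul_mul_assoc, mul_smul_comm, smul_neg, neg_smul, mul_assoc, mul_neg, neg_mul, neg_neg, mul_one, one_mul, s0, s1, s2, s3, s0', s1', s2', s3', h10, h20, h21, h30, h31, h32, h10', h20', h21', h30', h31', h32']; done)
      | (refine tz _ T3 ?_ s3; simp only [hy1, hy2, hy3, hy4, smul_mul_assoc, mul_smul_comm, smul_neg, neg_smul, mul_assoc, mul_neg, neg_mul, neg_neg, mul_one, one_mul, s0, s1, s2, s3, s0', s1', s2', s3', h10, h20, h21, h30, h31, h32, h10', h20', h21', h30', h31', h32']; done)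
  have m3 : Matrix.trace (y3) = 0 := by
    first
      | (refine tz _ T0 ?_ s0; simp only [hy1, hy2, hy3, hy4, smul_mul_assoc, mul_smul_comm, smul_neg, neg_smul, mul_assoc, mul_neg, neg_mul, neg_neg, mul_one, one_mul, s0, s1, s2, s3, s0', s1', s2', s3', h10, h20, h21, h30, h31, h32, h10', h20', h21', h30', h31', h32']; done)
      | (refine tz _ T1 ?_ s1; simp only [hy1, hy2, hy3, hy4, smul_mul_assoc, mul_smul_comm, smul_neg, neg_smul, mul_assoc, mul_neg, neg_mul, neg_neg, mul_one, one_mul, s0, s1, s2, s3, s0', s1', s2', s3', h10, h20, h21, h30, h31, h32, h10', h20', h21', h30', h31', h32']; done)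
      | (refine tz _ T2 ?_ s2; simp only [hy1, hy2, hy3, hy4, smul_mul_assoc, mul_smul_comm, smul_neg, neg_smul, mul_assoc, mul_neg, neg_mul, neg_neg, mul_one, one_mul, s0, s1, s2, s3, s0', s1', s2', s3', h10, h20, h21, h30, h31, h32, h10', h20', h21', h30', h31', h32']; done)
      | (refine tz _ T3 ?_ s3; simp only [hy1, hy2, hy3, hy4, smul_mul_assoc, mul_smul_comm, smul_neg, neg_smul, mul_assoc, mul_neg, neg_mul, neg_neg, mul_one, one_mul, s0, s1, s2, s3, s0', s1', s2', s3', h10, h20, h21, h30, h31, h32, h10', h20', h21', h30', h31', h32']; done)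
  have m4 : Matrix.trace (y4) = 0 := by
    first
      | (refine tz _ T0 ?_ s0; simp only [hy1, hy2, hy3, hy4, smul_mul_assoc, mul_smul_comm, smul_neg, neg_smul, mul_assoc, mul_neg, neg_mul, neg_neg, mul_one, one_mul, s0, s1, s2, s3, s0', s1', s2', s3', h10, h20, h21, h30, h31, h32, h10', h20', h21', h30', h31', h32']; done)
      | (refine tz _ T1 ?_ s1; simp only [hy1, hy2, hy3, hy4, smul_mul_assoc, mul_smul_comm, smul_neg, neg_smul, mul_assoc, mul_neg, neg_mul, neg_neg, mul_one, one_mul, s0, s1, s2, s3, s0', s1', s2', s3', h10, h20, h21, h30, h31, h32, h10', h20', h21', h30', h31', h32']; done)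
      | (refine tz _ T2 ?_ s2; simp only [hy1, hy2, hy3, hy4, smul_mul_assoc, mul_smul_comm, smul_neg, neg_smul, mul_assoc, mul_neg, neg_mul, neg_neg, mul_one, one_mul, s0, s1, s2, s3, s0', s1', s2', s3', h10, h20, h21, h30, h31, h32, h10', h20', h21', h30', h31', h32']; done)
      | (refine tz _ T3 ?_ s3; simp only [hy1, hy2, hy3, hy4, smul_mul_assoc, mul_smul_comm, smul_neg, neg_smul, mul_assoc, mul_neg, neg_mul, neg_neg, mul_one, one_mul, s0, s1, s2, s3, s0', s1', s2', s3', h10, h20, h21, h30, h31, h32, h10', h20', h21', h30', h31', h32']; done)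
  have m12 : Matrix.trace (y1 * y2) = 0 := by
    first
      | (refine tz _ T0 ?_ s0; simp only [hy1, hy2, hy3, hy4, smul_mul_assoc, mul_smul_comm, smul_neg, neg_smul, mul_assoc, mul_neg, neg_mul, neg_neg, mul_one, one_mul, s0, s1, s2, s3, s0', s1', s2', s3', h10, h20, h21, h30, h31, h32, h10', h20', h21', h30', h31', h32']; done)
      | (refine tz _ T1 ?_ s1; simp only [hy1, hy2, hy3, hy4, smul_mul_assoc, mul_smul_comm, smul_neg, neg_smul, mul_assoc, mul_neg, neg_mul, neg_neg, mul_one, one_mul, s0, s1, s2, s3, s0', s1', s2', s3', h10, h20, h21, h30, h31, h32, h10', h20', h21', h30', h31', h32']; done)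
      | (refine tz _ T2 ?_ s2; simp only [hy1, hy2, hy3, hy4, smul_mul_assoc, mul_smul_comm, smul_neg, neg_smul, mul_assoc, mul_neg, neg_mul, neg_neg, mul_one, one_mul, s0, s1, s2, s3, s0', s1', s2', s3', h10, h20, h21, h30, h31, h32, h10', h20', h21', h30', h31', h32']; done)
      | (refine tz _ T3 ?_ s3; simp only [hy1, hy2, hy3, hy4, smul_mul_assoc, mul_smul_comm, smul_neg, neg_smul, mul_assoc, mul_neg, neg_mul, neg_neg, mul_one, one_mul, s0, s1, s2, s3, s0', s1', s2', s3', h10, h20, h21, h30, h31, h32, h10', h20', h21', h30', h31', h32']; done)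
  have m13 : Matrix.trace (y1 * y3) = 0 := by
    first
      | (refine tz _ T0 ?_ s0; simp only [hy1, hy2, hy3, hy4, smul_mul_assoc, mul_smul_comm, smul_neg, neg_smul, mul_assoc, mul_neg, neg_mul, neg_neg, mul_one, one_mul, s0, s1, s2, s3, s0', s1', s2', s3', h10, h20, h21, h30, h31, h32, h10', h20', h21', h30', h31', h32']; done)
      | (refine tz _ T1 ?_ s1; simp only [hy1, hy2, hy3, hy4, smul_mul_assoc, mul_smul_comm, smul_neg, neg_smul, mul_assoc, mul_neg, neg_mul, neg_neg, mul_one, one_mul, s0, s1, s2, s3, s0', s1', s2', s3', h10, h20, h21, h30, h31, h32, h10', h20', h21', h30', h31', h32']; done)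
      | (refine tz _ T2 ?_ s2; simp only [hy1, hy2, hy3, hy4, smul_mul_assoc, mul_smul_comm, smul_neg, neg_smul, mul_assoc, mul_neg, neg_mul, neg_neg, mul_one, one_mul, s0, s1, s2, s3, s0', s1', s2', s3', h10, h20, h21, h30, h31, h32, h10', h20', h21', h30', h31', h32']; done)
      | (refine tz _ T3 ?_ s3; simp only [hy1, hy2, hy3, hy4, smul_mul_assoc, mul_smul_comm, smul_neg, neg_smul, mul_assoc, mul_neg, neg_mul, neg_neg, mul_one, one_mul, s0, s1, s2, s3, s0', s1', s2', s3', h10, h20, h21, h30, h31, h32, h10', h20', h21', h30', h31', h32']; done)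
  have m14 : Matrix.trace (y1 * y4) = 0 := by
    first
      | (refine tz _ T0 ?_ s0; simp only [hy1, hy2, hy3, hy4, smul_mul_assoc, mul_smul_comm, smul_neg, neg_smul, mul_assoc, mul_neg, neg_mul, neg_neg, mul_one, one_mul, s0, s1, s2, s3, s0', s1', s2', s3', h10, h20, h21, h30, h31, h32, h10', h20', h21', h30', h31', h32']; done)
      | (refine tz _ T1 ?_ s1; simp only [hy1, hy2, hy3, hy4, smul_mul_assoc, mul_smul_comm, smul_neg, neg_smul, mul_assoc, mul_neg, neg_mul, neg_neg, mul_one, one_mul, s0, s1, s2, s3, s0', s1', s2', s3', h10, h20, h21, h30, h31, h32, h10', h20', h21', h30', h31', h32']; done)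
      | (refine tz _ T2 ?_ s2; simp only [hy1, hy2, hy3, hy4, smul_mul_assoc, mul_smul_comm, smul_neg, neg_smul, mul_assoc, mul_neg, neg_mul, neg_neg, mul_one, one_mul, s0, s1, s2, s3, s0', s1', s2', s3', h10, h20, h21, h30, h31, h32, h10', h20', h21', h30', h31', h32']; done)
      | (refine tz _ T3 ?_ s3; simp only [hy1, hy2, hy3, hy4, smul_mul_assoc, mul_smul_comm, smul_neg, neg_smul, mul_assoc, mul_neg, neg_mul, neg_neg, mul_one, one_mul, s0, s1, s2, s3, s0', s1', s2', s3', h10, h20, h21, h30, h31, h32, h10', h20', h21', h30', h31', h32']; done)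
  have m23 : Matrix.trace (y2 * y3) = 0 := by
    first
      | (refine tz _ T0 ?_ s0; simp only [hy1, hy2, hy3, hy4, smul_mul_assoc, mul_smul_comm, smul_neg, neg_smul, mul_assoc, mul_neg, neg_mul, neg_neg, mul_one, one_mul, s0, s1, s2, s3, s0', s1', s2', s3', h10, h20, h21, h30, h31, h32, h10', h20', h21', h30', h31', h32']; done)
      | (refine tz _ T1 ?_ s1; simp only [hy1, hy2, hy3, hy4, smul_mul_assoc, mul_smul_comm, smul_neg, neg_smul, mul_assoc, mul_neg, neg_mul, neg_neg, mul_one, one_mul, s0, s1, s2, s3, s0', s1', s2', s3', h10, h20, h21, h30, h31, h32, h10', h20', h21', h30', h31', h32']; done)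
      | (refine tz _ T2 ?_ s2; simp only [hy1, hy2, hy3, hy4, smul_mul_assoc, mul_smul_comm, smul_neg, neg_smul, mul_assoc, mul_neg, neg_mul, neg_neg, mul_one, one_mul, s0, s1, s2, s3, s0', s1', s2', s3', h10, h20, h21, h30, h31, h32, h10', h20', h21', h30', h31', h32']; done)
      | (refine tz _ T3 ?_ s3; simp only [hy1, hy2, hy3, hy4, smul_mul_assoc, mul_smul_comm, smul_neg, neg_smul, mul_assoc, mul_neg, neg_mul, neg_neg, mul_one, one_mul, s0, s1, s2, s3, s0', s1', s2', s3', h10, h20, h21, h30, h31, h32, h10', h20', h21', h30', h31', h32']; done)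
  have m24 : Matrix.trace (y2 * y4) = 0 := by
    first
      | (refine tz _ T0 ?_ s0; simp only [hy1, hy2, hy3, hy4, smul_mul_assoc, mul_smul_comm, smul_neg, neg_smul, mul_assoc, mul_neg, neg_mul, neg_neg, mul_one, one_mul, s0, s1, s2, s3, s0', s1', s2', s3', h10, h20, h21, h30, h31, h32, h10', h20', h21', h30', h31', h32']; done)
      | (refine tz _ T1 ?_ s1; simp only [hy1, hy2, hy3, hy4, smul_mul_assoc, mul_smul_comm, smul_neg, neg_smul, mul_assoc, mul_neg, neg_mul, neg_neg, mul_one, one_mul, s0, s1, s2, s3, s0', s1', s2', s3', h10, h20, h21, h30, h31, h32, h10', h20', h21', h30', h31', h32']; done)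
      | (refine tz _ T2 ?_ s2; simp only [hy1, hy2, hy3, hy4, smul_mul_assoc, mul_smul_comm, smul_neg, neg_smul, mul_assoc, mul_neg, neg_mul, neg_neg, mul_one, one_mul, s0, s1, s2, s3, s0', s1', s2', s3', h10, h20, h21, h30, h31, h32, h10', h20', h21', h30', h31', h32']; done)
      | (refine tz _ T3 ?_ s3; simp only [hy1, hy2, hy3, hy4, smul_mul_assoc, mul_smul_comm, smul_neg, neg_smul, mul_assoc, mul_neg, neg_mul, neg_neg, mul_one, one_mul, s0, s1, s2, s3, s0', s1', s2', s3', h10, h20, h21, h30, h31, h32, h10', h20', h21', h30', h31', h32']; done)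
  have m34 : Matrix.trace (y3 * y4) = 0 := by
    first
      | (refine tz _ T0 ?_ s0; simp only [hy1, hy2, hy3, hy4, smul_mul_assoc, mul_smul_comm, smul_neg, neg_smul, mul_assoc, mul_neg, neg_mul, neg_neg, mul_one, one_mul, s0, s1, s2, s3, s0', s1', s2', s3', h10, h20, h21, h30, h31, h32, h10', h20', h21', h30', h31', h32']; done)
      | (refine tz _ T1 ?_ s1; simp only [hy1, hy2, hy3, hy4, smul_mul_assoc, mul_smul_comm, smul_neg, neg_smul, mul_assoc, mul_neg, neg_mul, neg_neg, mul_one, one_mul, s0, s1, s2, s3, s0', s1', s2', s3', h10, h20, h21, h30, h31, h32, h10', h20', h21', h30', h31', h32']; done)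
      | (refine tz _ T2 ?_ s2; simp only [hy1, hy2, hy3, hy4, smul_mul_assoc, mul_smul_comm, smul_neg, neg_smul, mul_assoc, mul_neg, neg_mul, neg_neg, mul_one, one_mul, s0, s1, s2, s3, s0', s1', s2', s3', h10, h20, h21, h30, h31, h32, h10', h20', h21', h30', h31', h32']; done)
      | (refine tz _ T3 ?_ s3; simp only [hy1, hy2, hy3, hy4, smul_mul_assoc, mul_smul_comm, smul_neg, neg_smul, mul_assoc, mul_neg, neg_mul, neg_neg, mul_one, one_mul, s0, s1, s2, s3, s0', s1', s2', s3', h10, h20, h21, h30, h31, h32, h10', h20', h21', h30', h31', h32']; done)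
  have m123 : Matrix.trace (y1 * (y2 * y3)) = 0 := by
    first
      | (refine tz _ T0 ?_ s0; simp only [hy1, hy2, hy3, hy4, smul_mul_assoc, mul_smul_comm, smul_neg, neg_smul, mul_assoc, mul_neg, neg_mul, neg_neg, mul_one, one_mul, s0, s1, s2, s3, s0', s1', s2', s3', h10, h20, h21, h30, h31, h32, h10', h20', h21', h30', h31', h32']; done)
      | (refine tz _ T1 ?_ s1; simp only [hy1, hy2, hy3, hy4, smul_mul_assoc, mul_smul_comm, smul_neg, neg_smul, mul_assoc, mul_neg, neg_mul, neg_neg, mul_one, one_mul, s0, s1, s2, s3, s0', s1', s2', s3', h10, h20, h21, h30, h31, h32, h10', h20', h21', h30', h31', h32']; done)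
      | (refine tz _ T2 ?_ s2; simp only [hy1, hy2, hy3, hy4, smul_mul_assoc, mul_smul_comm, smul_neg, neg_smul, mul_assoc, mul_neg, neg_mul, neg_neg, mul_one, one_mul, s0, s1, s2, s3, s0', s1', s2', s3', h10, h20, h21, h30, h31, h32, h10', h20', h21', h30', h31', h32']; done)
      | (refine tz _ T3 ?_ s3; simp only [hy1, hy2, hy3, hy4, smul_mul_assoc, mul_smul_comm, smul_neg, neg_smul, mul_assoc, mul_neg, neg_mul, neg_neg, mul_one, one_mul, s0, s1, s2, s3, s0', s1', s2', s3', h10, h20, h21, h30, h31, h32, h10', h20', h21', h30', h31', h32']; done)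
  have m124 : Matrix.trace (y1 * (y2 * y4)) = 0 := by
    first
      | (refine tz _ T0 ?_ s0; simp only [hy1, hy2, hy3, hy4, smul_mul_assoc, mul_smul_comm, smul_neg, neg_smul, mul_assoc, mul_neg, neg_mul, neg_neg, mul_one, one_mul, s0, s1, s2, s3, s0', s1', s2', s3', h10, h20, h21, h30, h31, h32, h10', h20', h21', h30', h31', h32']; done)
      | (refine tz _ T1 ?_ s1; simp only [hy1, hy2, hy3, hy4, smul_mul_assoc, mul_smul_comm, smul_neg, neg_smul, mul_assoc, mul_neg, neg_mul, neg_neg, mul_one, one_mul, s0, s1, s2, s3, s0', s1', s2', s3', h10, h20, h21, h30, h31, h32, h10', h20', h21', h30', h31', h32']; done)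
      | (refine tz _ T2 ?_ s2; simp only [hy1, hy2, hy3, hy4, smul_mul_assoc, mul_smul_comm, smul_neg, neg_smul, mul_assoc, mul_neg, neg_mul, neg_neg, mul_one, one_mul, s0, s1, s2, s3, s0', s1', s2', s3', h10, h20, h21, h30, h31, h32, h10', h20', h21', h30', h31', h32']; done)
      | (refine tz _ T3 ?_ s3; simp only [hy1, hy2, hy3, hy4, smul_mul_assoc, mul_smul_comm, smul_neg, neg_smul, mul_assoc, mul_neg, neg_mul, neg_neg, mul_one, one_mul, s0, s1, s2, s3, s0', s1', s2', s3', h10, h20, h21, h30, h31, h32, h10', h20', h21', h30', h31', h32']; done)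
  have m134 : Matrix.trace (y1 * (y3 * y4)) = 0 := by
    first
      | (refine tz _ T0 ?_ s0; simp only [hy1, hy2, hy3, hy4, smul_mul_assoc, mul_smul_comm, smul_neg, neg_smul, mul_assoc, mul_neg, neg_mul, neg_neg, mul_one, one_mul, s0, s1, s2, s3, s0', s1', s2', s3', h10, h20, h21, h30, h31, h32, h10', h20', h21', h30', h31', h32']; done)
      | (refine tz _ T1 ?_ s1; simp only [hy1, hy2, hy3, hy4, smul_mul_assoc, mul_smul_comm, smul_neg, neg_smul, mul_assoc, mul_neg, neg_mul, neg_neg, mul_one, one_mul, s0, s1, s2, s3, s0', s1', s2', s3', h10, h20, h21, h30, h31, h32, h10', h20', h21', h30', h31', h32']; done)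
      | (refine tz _ T2 ?_ s2; simp only [hy1, hy2, hy3, hy4, smul_mul_assoc, mul_smul_comm, smul_neg, neg_smul, mul_assoc, mul_neg, neg_mul, neg_neg, mul_one, one_mul, s0, s1, s2, s3, s0', s1', s2', s3', h10, h20, h21, h30, h31, h32, h10', h20', h21', h30', h31', h32']; done)
      | (refine tz _ T3 ?_ s3; simp only [hy1, hy2, hy3, hy4, smul_mul_assoc, mul_smul_comm, smul_neg, neg_smul, mul_assoc, mul_neg, neg_mul, neg_neg, mul_one, one_mul, s0, s1, s2, s3, s0', s1', s2', s3', h10, h20, h21, h30, h31, h32, h10', h20', h21', h30', h31', h32']; done)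
  have m234 : Matrix.trace (y2 * (y3 * y4)) = 0 := by
    first
      | (refine tz _ T0 ?_ s0; simp only [hy1, hy2, hy3, hy4, smul_mul_assoc, mul_smul_comm, smul_neg, neg_smul, mul_assoc, mul_neg, neg_mul, neg_neg, mul_one, one_mul, s0, s1, s2, s3, s0', s1', s2', s3', h10, h20, h21, h30, h31, h32, h10', h20', h21', h30', h31', h32']; done)
      | (refine tz _ T1 ?_ s1; simp only [hy1, hy2, hy3, hy4, smul_mul_assoc, mul_smul_comm, smul_neg, neg_smul, mul_assoc, mul_neg, neg_mul, neg_neg, mul_one, one_mul, s0, s1, s2, s3, s0', s1', s2', s3', h10, h20, h21, h30, h31, h32, h10', h20', h21', h30', h31', h32']; done)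
      | (refine tz _ T2 ?_ s2; simp only [hy1, hy2, hy3, hy4, smul_mul_assoc, mul_smul_comm, smul_neg, neg_smul, mul_assoc, mul_neg, neg_mul, neg_neg, mul_one, one_mul, s0, s1, s2, s3, s0', s1', s2', s3', h10, h20, h21, h30, h31, h32, h10', h20', h21', h30', h31', h32']; done)
      | (refine tz _ T3 ?_ s3; simp only [hy1, hy2, hy3, hy4, smul_mul_assoc, mul_smul_comm, smul_neg, neg_smul, mul_assoc, mul_neg, neg_mul, neg_neg, mul_one, one_mul, s0, s1, s2, s3, s0', s1', s2', s3', h10, h20, h21, h30, h31, h32, h10', h20', h21', h30', h31', h32']; done)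
  have m1234 : Matrix.trace (y1 * (y2 * (y3 * y4))) = 0 := by
    first
      | (refine tz _ T0 ?_ s0; simp only [hy1, hy2, hy3, hy4, smul_mul_assoc, mul_smul_comm, smul_neg, neg_smul, mul_assoc, mul_neg, neg_mul, neg_neg, mul_one, one_mul, s0, s1, s2, s3, s0', s1', s2', s3', h10, h20, h21, h30, h31, h32, h10', h20', h21', h30', h31', h32']; done)
      | (refine tz _ T1 ?_ s1; simp only [hy1, hy2, hy3, hy4, smul_mul_assoc, mul_smul_comm, smul_neg, neg_smul, mul_assoc, mul_neg, neg_mul, neg_neg, mul_one, one_mul, s0, s1, s2, s3, s0', s1', s2', s3', h10, h20, h21, h30, h31, h32, h10', h20', h21', h30', h31', h32']; done)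
      | (refine tz _ T2 ?_ s2; simp only [hy1, hy2, hy3, hy4, smul_mul_assoc, mul_smul_comm, smul_neg, neg_smul, mul_assoc, mul_neg, neg_mul, neg_neg, mul_one, one_mul, s0, s1, s2, s3, s0', s1', s2', s3', h10, h20, h21, h30, h31, h32, h10', h20', h21', h30', h31', h32']; done)
      | (refine tz _ T3 ?_ s3; simp only [hy1, hy2, hy3, hy4, smul_mul_assoc, mul_smul_comm, smul_neg, neg_smul, mul_assoc, mul_neg, neg_mul, neg_neg, mul_one, one_mul, s0, s1, s2, s3, s0', s1', s2', s3', h10, h20, h21, h30, h31, h32, h10', h20', h21', h30', h31', h32']; done)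
  -- units
  obtain ⟨U1, hU1n, hU1v⟩ := h36_ex3_unit h2 R hG.comm (z * z) hnegR hng (t 0 * t 1)
    (R.mul_mem (htR 0) (htR 1)) (by rw [e1]; exact q1)
  obtain ⟨U2, hU2n, hU2v⟩ := h36_ex3_unit h2 R hG.comm (z * z) hnegR hng (t 1 * t 2)
    (R.mul_mem (htR 1) (htR 2)) (by rw [e2]; exact q2)
  obtain ⟨U3, hU3n, hU3v⟩ := h36_ex3_unit h2 R hG.comm (z * z) hnegR hng (t 0 * (t 1 * t 2))
    (R.mul_mem (htR 0) (R.mul_mem (htR 1) (htR 2))) (by rw [e3]; exact q3)
  obtain ⟨U4, hU4n, hU4v⟩ := h36_ex3_unit h2 R hG.comm (z * z) hnegR hng (z * t 3)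
    (R.mul_mem hzR (htR 3)) (by rw [e4]; exact q4)
  rw [e1] at hU1v
  rw [e2] at hU2v
  rw [e3] at hU3v
  rw [e4] at hU4v
  have h2i : (2⁻¹ : F) ≠ 0 := inv_ne_zero h2
  obtain ⟨C2, hC2n, hC2v⟩ := h36_ex3_scalar R (-(2⁻¹ : F)) (neg_ne_zero.mpr h2i)
  obtain ⟨C4, hC4n, hC4v⟩ := h36_ex3_scalar R ((2⁻¹ : F) * 2⁻¹) (mul_ne_zero h2i h2i)
  have hcube1 := h36_ex3_cube y1 y2 q1 q2 a21
  have hcube2 := h36_ex3_cube y3 y4 q3 q4 a43
  set G1 : Matrix (Fin 4) (Fin 4) F := (1 + y1) * (1 + y2) with hG1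
  set G2 : Matrix (Fin 4) (Fin 4) F := (1 + y3) * (1 + y4) with hG2
  have hc12 : Commute G1 G2 := by
    have k13 : Commute (1 + y1) (1 + y3) :=
      ((Commute.one_left _).add_left ((Commute.one_right _).add_right c13))
    have k14 : Commute (1 + y1) (1 + y4) :=
      ((Commute.one_left _).add_left ((Commute.one_right _).add_right c14))
    have k23 : Commute (1 + y2) (1 + y3) :=
      ((Commute.one_left _).add_left ((Commute.one_right _).add_right c23))
    have k24 : Commute (1 + y2) (1 + y4) :=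
      ((Commute.one_left _).add_left ((Commute.one_right _).add_right c24))
    exact (k13.mul_right k14).mul_left (k23.mul_right k24)
  have h8 : ((-8 : F)) • (1 : Matrix (Fin 4) (Fin 4) F) = -(1 + 1 + 1 + 1 + 1 + 1 + 1 + 1) := by
    rw [show (-8 : F) = -(1 + 1 + 1 + 1 + 1 + 1 + 1 + 1) by norm_num, neg_smul]
    simp only [add_smul, one_smul]
  have hBv : ((C2 * (U1 * U2) : GL (Fin 4) F) : Matrix (Fin 4) (Fin 4) F) = (-(2⁻¹ : F)) • G1 := by
    rw [Units.val_mul, Units.val_mul, hC2v, hU1v, hU2v, smul_mul_assoc, one_mul]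
  have hAv : ((C4 * (U1 * U2) * (U3 * U4) : GL (Fin 4) F) : Matrix (Fin 4) (Fin 4) F) =
      ((2⁻¹ : F) * 2⁻¹) • (G1 * G2) := by
    rw [Units.val_mul, Units.val_mul, Units.val_mul, Units.val_mul, hC4v, hU1v, hU2v, hU3v, hU4v,
      smul_mul_assoc, one_mul, smul_mul_assoc]
  refine ⟨C4 * (U1 * U2) * (U3 * U4), C2 * (U1 * U2), ?_, ?_, ?_, ?_, ?_, ?_⟩
  · exact Subgroup.mul_mem _ (Subgroup.mul_mem _ hC4n (Subgroup.mul_mem _ hU1n hU2n))
      (Subgroup.mul_mem _ hU3n hU4n)
  · exact Subgroup.mul_mem _ hC2n (Subgroup.mul_mem _ hU1n hU2n)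
  · apply Units.ext
    rw [Units.val_pow_eq_pow_val, Units.val_one, hAv, smul_pow, hc12.mul_pow, pow_three' G1,
      pow_three' G2, hcube1, hcube2, ← h8, smul_mul_assoc, one_mul, smul_smul, smul_smul]
    have harith : ((2⁻¹ : F) * 2⁻¹) ^ 3 * -8 * -8 = 1 := by
      field_simp
      try ring
    rw [harith, one_smul]
  · apply Units.ext
    rw [Units.val_pow_eq_pow_val, Units.val_one, hBv, smul_pow, pow_three' G1, hcube1, ← h8,
      smul_smul]
    have harith : (-(2⁻¹ : F)) ^ 3 * (-8) = 1 := by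
      field_simp
      try ring
    rw [harith, one_smul]
  · rw [hAv, Matrix.trace_smul, hG1, hG2]
    simp only [mul_add, add_mul, mul_one, one_mul, mul_assoc, Matrix.trace_add, m1, m2, m3, m4,
      m12, m13, m14, m23, m24, m34, m123, m124, m134, m234, m1234, Matrix.trace_one,
      Fintype.card_fin, add_zero, smul_eq_mul]
    have h4 : ((4 : ℕ) : F) = 2 * 2 := by norm_num
    rw [h4]
    field_simp
  · rw [hBv, Matrix.trace_smul, hG1]
    simp only [mul_add, add_mul, mul_one, one_mul, mul_assoc, Matrix.trace_add, m1, m2, m12,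
      Matrix.trace_one, Fintype.card_fin, add_zero, smul_eq_mul]
    have h4 : ((4 : ℕ) : F) = 2 * 2 := by norm_num
    rw [h4]
    field_simp

end Cfsg.Agent.Lib.helper89.S60
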