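import Mathlib
import Cfsg.Agent.Lib.helper44.SL3Defs
import Cfsg.Agent.Lib.helper38.SL3MATa

/-!
# S2287 piece MATp (racing copy by helper36, prefixed names): `mX01` is additive, its powers,
and `polyWord` at the matrices.
-/

set_option autoImplicit false

namespace Cfsg.Agent.Lib.helper44.SL3

open Polynomial

-- MATp
theorem h36_mX01_add {F : Type*} [Field F] (a b : F) :
    mX01 F (a + b) = mX01 F a * mX01 F b := by
  apply Subtype.ext
  show Matrix.transvection (0 : Fin 3) 1 (a + b)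
    = Matrix.transvection (0 : Fin 3) 1 a * Matrix.transvection (0 : Fin 3) 1 b
  exact (Matrix.transvection_mul_transvection_same (0 : Fin 3) 1 (by decide) a b).symm

theorem h36_mX01_zero {F : Type*} [Field F] : mX01 F 0 = 1 :=
  Matrix.SpecialLinearGroup.transvection_coeff_zero _

-- MATp
theorem h36_mX01_pow {F : Type*} [Field F] (a : F) (k : ℕ) : mX01 F a ^ k = mX01 F (k • a) := by
  induction k with
  | zero => rw [pow_zero, zero_smul, h36_mX01_zero]
  | succ k ih => rw [pow_succ, ih, ← h36_mX01_add, succ_nsmul]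

theorem h36_mH3_conj_X {F : Type*} [Field F] (ω : Fˣ) (a : F) :
    mH3 ω * mX01 F a * (mH3 ω)⁻¹ = mX01 F ((ω : F) * a) := by
  have h := mH3_conj ω (0 : Fin 3) 1 (by decide) a
  have h2 : (![(ω : F), 1, ((ω⁻¹ : Fˣ) : F)] (0 : Fin 3)) *
      (![((ω⁻¹ : Fˣ) : F), 1, (ω : F)] (1 : Fin 3)) * a = (ω : F) * a := by
    simp
  rw [h2] at h
  exact h

theorem h36_mH3_pow_conj_X {F : Type*} [Field F] (ω : Fˣ) (n : ℕ) (a : F) :
    mH3 ω ^ n * mX01 F a * (mH3 ω ^ n)⁻¹ = mX01 F ((ω : F) ^ n * a) := by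
  induction n generalizing a with
  | zero => simp
  | succ n ih =>
    have h1 : mH3 ω ^ (n + 1) * mX01 F a * (mH3 ω ^ (n + 1))⁻¹
        = mH3 ω ^ n * (mH3 ω * mX01 F a * (mH3 ω)⁻¹) * (mH3 ω ^ n)⁻¹ := by
      rw [pow_succ]
      group
    rw [h1, h36_mH3_conj_X, ih, pow_succ, mul_assoc]

theorem h36_algebraMap_val {F : Type*} [Field F] {p : ℕ} [Fact p.Prime] [Algebra (ZMod p) F]
    (c : ZMod p) : algebraMap (ZMod p) F c = ((c.val : ℕ) : F) := by
  have hp : NeZero p := ⟨(Fact.out : p.Prime).ne_zero⟩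
  conv_lhs => rw [← ZMod.natCast_zmod_val c]
  rw [map_natCast]

-- MATp
theorem h36_polyWord_mX01 {F : Type*} [Field F] {p : ℕ} [Fact p.Prime] [Algebra (ZMod p) F]
    (ω : Fˣ) (f : (ZMod p)[X]) :
    Pres.polyWord (mH3 ω) (mX01 F 1) f = mX01 F (aeval (ω : F) f) := by
  have key : ∀ N : ℕ, ((List.range N).map fun n =>
      (mH3 ω ^ n * mX01 F 1 * (mH3 ω ^ n)⁻¹) ^ (f.coeff n).val).prod =
      mX01 F (∑ n ∈ Finset.range N, algebraMap (ZMod p) F (f.coeff n) * (ω : F) ^ n) := by
    intro N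
    induction N with
    | zero => simp [h36_mX01_zero]
    | succ N ih =>
      rw [List.range_succ, List.map_append, List.prod_append, ih, Finset.sum_range_succ]
      simp only [List.map_cons, List.map_nil, List.prod_cons, List.prod_nil, mul_one]
      rw [h36_mH3_pow_conj_X, mul_one, h36_mX01_pow, ← h36_mX01_add]
      congr 2
      rw [h36_algebraMap_val, nsmul_eq_mul]
  unfold Pres.polyWord
  rw [key, aeval_eq_sum_range]
  congr 1
  apply Finset.sum_congr rfl
  intro n _
  rw [Algebra.smul_def]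

-- MATp
theorem h36_polyWord_mX01_one {F : Type*} [Field F] {p : ℕ} [Fact p.Prime] [Algebra (ZMod p) F]
    (f : (ZMod p)[X]) :
    Pres.polyWord (1 : Matrix.SpecialLinearGroup (Fin 3) F) (mX01 F 1) f =
      mX01 F (aeval (1 : F) f) := by
  have key : ∀ N : ℕ, ((List.range N).map fun n =>
      ((1 : Matrix.SpecialLinearGroup (Fin 3) F) ^ n * mX01 F 1 *
        ((1 : Matrix.SpecialLinearGroup (Fin 3) F) ^ n)⁻¹) ^ (f.coeff n).val).prod =
      mX01 F (∑ n ∈ Finset.range N, algebraMap (ZMod p) F (f.coeff n) * (1 : F) ^ n) := by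
    intro N
    induction N with
    | zero => simp [h36_mX01_zero]
    | succ N ih =>
      rw [List.range_succ, List.map_append, List.prod_append, ih, Finset.sum_range_succ]
      simp only [List.map_cons, List.map_nil, List.prod_cons, List.prod_nil, mul_one, one_pow,
        one_mul, inv_one]
      rw [h36_mX01_pow, ← h36_mX01_add]
      congr 2
      rw [h36_algebraMap_val, nsmul_eq_mul, mul_one]
  unfold Pres.polyWord
  rw [key, aeval_eq_sum_range]
  congr 1
  apply Finset.sum_congr rfl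
  intro n _
  rw [Algebra.smul_def]

end Cfsg.Agent.Lib.helper44.SL3
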