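import Mathlib

/-!
# S0892 pieces O4 (`odd_a4`), O3 (`odd_invol_pow`), W1 (`a4_comm`) -- helper36, racing copies
under prefixed names (Mathlib only).
-/

set_option autoImplicit false

namespace Cfsg.Agent.Lib.helper70.SM

universe u

/-- W1 (the Klein four group inside `⟨a, b | a³, b², (ab)³⟩`). -/
theorem h36_a4_comm {G : Type*} [Group G] (a b : G) (ha : a ^ 3 = 1) (hb : b ^ 2 = 1)
    (hab : (a * b) ^ 3 = 1) : b * (a * b * a⁻¹) = (a * b * a⁻¹) * b := by
  have hbinv : b⁻¹ = b := by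
    rw [inv_eq_iff_mul_eq_one, ← pow_two]; exact hb
  have ha3 : a * a * a = 1 := by rw [← ha, pow_succ, pow_two]
  have hab3 : (a * b) * (a * b) * (a * b) = 1 := by rw [← hab, pow_succ, pow_two]
  have hainv : a⁻¹ = a * a := by
    rw [inv_eq_iff_mul_eq_one, ← mul_assoc]; exact ha3
  have h1 : b * a * b = a⁻¹ * b⁻¹ * a⁻¹ := by
    have h : a * (b * a * b) * (a * b) = 1 := by rw [← hab3]; group
    calc b * a * b = a⁻¹ * (a * (b * a * b) * (a * b)) * (a * b)⁻¹ := by group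
      _ = a⁻¹ * b⁻¹ * a⁻¹ := by rw [h]; group
  have h2 : b * a⁻¹ * b = a * b * a := by
    have h := congrArg (fun t => t⁻¹) h1
    simp only [mul_inv_rev, inv_inv] at h
    rw [hbinv] at h
    rw [mul_assoc, h, mul_assoc]
  have h3 : a⁻¹ * a⁻¹ = a := by
    calc a⁻¹ * a⁻¹ = a⁻¹ * a⁻¹ * (a * a * a) := by rw [ha3, mul_one]
      _ = a := by group
  calc b * (a * b * a⁻¹) = (b * a * b) * a⁻¹ := by group
    _ = a⁻¹ * b⁻¹ * a⁻¹ * a⁻¹ := by rw [h1]
    _ = a⁻¹ * b * (a⁻¹ * a⁻¹) := by rw [hbinv]; group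
    _ = a⁻¹ * b * a := by rw [h3]
    _ = (a * a) * b * a := by rw [← hainv]
    _ = a * (a * b * a) := by group
    _ = a * (b * a⁻¹ * b) := by rw [h2]
    _ = (a * b * a⁻¹) * b := by group

theorem h36_ker_sq_eq_one {Γ : Type u} [Group Γ] [Finite Γ] {P : Type*} [Group P] (π : Γ →* P)
    (hodd : Odd (Nat.card π.ker)) (g : Γ) (hg : g ∈ π.ker) (h2 : g ^ 2 = 1) : g = 1 := by
  have h3 : orderOf (⟨g, hg⟩ : π.ker) ∣ 2 :=
    orderOf_dvd_of_pow_eq_one (Subtype.ext (by simpa using h2))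
  have h4 : orderOf (⟨g, hg⟩ : π.ker) ∣ Nat.card π.ker := orderOf_dvd_natCard _
  rcases (Nat.dvd_prime Nat.prime_two).mp h3 with h | h
  · have h5 := orderOf_eq_one_iff.mp h
    exact congrArg Subtype.val h5
  · rw [h] at h4
    exact absurd h4 hodd.not_two_dvd_nat

/-- O3 (Lemma R: products of involutions, odd kernel). -/
theorem h36_odd_invol_pow {Γ : Type u} [Group Γ] [Finite Γ] {P : Type*} [Group P] (π : Γ →* P)
    (hc : π.ker ≤ Subgroup.center Γ) (hodd : Odd (Nat.card π.ker))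
    (u v : Γ) (hu : u ^ 2 = 1) (hv : v ^ 2 = 1) (m : ℕ) (h : (π u * π v) ^ m = 1) :
    (u * v) ^ m = 1 := by
  have hker : (u * v) ^ m ∈ π.ker := by
    rw [MonoidHom.mem_ker, map_pow, map_mul]; exact h
  have hcen := hc hker
  have huinv : u⁻¹ = u := by
    rw [inv_eq_iff_mul_eq_one, ← pow_two]; exact hu
  have hvinv : v⁻¹ = v := by
    rw [inv_eq_iff_mul_eq_one, ← pow_two]; exact hv
  have h1 : u * (u * v) ^ m * u⁻¹ = ((u * v) ^ m)⁻¹ := by
    rw [← conj_pow, ← inv_pow]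
    congr 1
    rw [mul_inv_rev, hvinv, huinv]
    calc u * (u * v) * u = (u * u) * v * u := by group
      _ = v * u := by rw [← pow_two, hu, one_mul]
  have h2 : u * (u * v) ^ m * u⁻¹ = (u * v) ^ m := by
    rw [Subgroup.mem_center_iff] at hcen
    rw [hcen u, mul_inv_cancel_right]
  have hz : ((u * v) ^ m)⁻¹ = (u * v) ^ m := h1.symm.trans h2
  have h3 : ((u * v) ^ m) ^ 2 = 1 := by
    rw [pow_two]
    nth_rewrite 1 [← hz]
    exact inv_mul_cancel _
  exact h36_ker_sq_eq_one π hodd _ hker h3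

/-- O4 (the `A₄` relation, odd kernel). -/
theorem h36_odd_a4 {Γ : Type u} [Group Γ] [Finite Γ] {P : Type*} [Group P] (π : Γ →* P)
    (hc : π.ker ≤ Subgroup.center Γ) (hodd : Odd (Nat.card π.ker))
    (a b : Γ) (ha : a ^ 3 = 1) (hb : b ^ 2 = 1) (hab : (π a * π b) ^ 3 = 1) :
    (a * b) ^ 3 = 1 := by
  obtain ⟨v, hv⟩ : ∃ v : Γ, v = a * b * a⁻¹ := ⟨_, rfl⟩
  obtain ⟨w, hw⟩ : ∃ w : Γ, w = a * v * a⁻¹ := ⟨_, rfl⟩
  have hbinv : b⁻¹ = b := by
    rw [inv_eq_iff_mul_eq_one, ← pow_two]; exact hb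
  have hv2 : v ^ 2 = 1 := by
    rw [hv, conj_pow, hb]; group
  have hvinv : v⁻¹ = v := by
    rw [inv_eq_iff_mul_eq_one, ← pow_two]; exact hv2
  have hw2 : w ^ 2 = 1 := by
    rw [hw, conj_pow, hv2]; group
  have ha3 : a * a * a = 1 := by rw [← ha, pow_succ, pow_two]
  have hawa : a * w * a⁻¹ = b := by
    rw [hw, hv]
    calc a * (a * (a * b * a⁻¹) * a⁻¹) * a⁻¹ = (a * a * a) * b * (a * a * a)⁻¹ := by group
      _ = b := by rw [ha3]; group
  have hβ : (a * b) ^ 3 = v * w * b := by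
    rw [hw, hv, pow_succ, pow_two]
    calc (a * b) * (a * b) * (a * b)
        = (a * b * a⁻¹) * (a * (a * b * a⁻¹) * a⁻¹) * ((a * a * a) * b) := by group
      _ = (a * b * a⁻¹) * (a * (a * b * a⁻¹) * a⁻¹) * b := by rw [ha3, one_mul]
  have hP := h36_a4_comm (π a) (π b) (by rw [← map_pow, ha, map_one])
    (by rw [← map_pow, hb, map_one]) hab
  have hπv : π v = π a * π b * (π a)⁻¹ := by
    rw [hv, map_mul, map_mul, map_inv]
  have huv : (π b * π v) ^ 2 = 1 := by
    have hc2 : π v * π v = 1 := by rw [← map_mul, ← pow_two, hv2, map_one]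
    have hb2 : π b * π b = 1 := by rw [← map_mul, ← pow_two, hb, map_one]
    have hP' : π b * π v = π v * π b := by rw [hπv]; exact hP
    rw [pow_two]
    calc π b * π v * (π b * π v) = π b * π v * (π v * π b) := by rw [hP']
      _ = π b * (π v * π v) * π b := by group
      _ = 1 := by rw [hc2, mul_one, hb2]
  have h1 : (b * v) ^ 2 = 1 := h36_odd_invol_pow π hc hodd b v hb hv2 2 huv
  have hcomm_bv : b * v = v * b := by
    have h : b * v = (b * v)⁻¹ := by
      rw [eq_inv_iff_mul_eq_one, ← pow_two]; exact h1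
    rw [h, mul_inv_rev, hvinv, hbinv]
  have hcomm_vw : v * w = w * v := by
    have e1 : v * w = a * (b * v) * a⁻¹ := by rw [hw, hv]; group
    have e2 : w * v = a * (v * b) * a⁻¹ := by rw [hw, hv]; group
    rw [e1, e2, hcomm_bv]
  have hcomm_wb : w * b = b * w := by
    have e1 : w * b = a * (v * w) * a⁻¹ := by
      calc w * b = (a * v * a⁻¹) * (a * w * a⁻¹) := by rw [hawa, ← hw]
        _ = a * (v * w) * a⁻¹ := by group
    have e2 : b * w = a * (w * v) * a⁻¹ := by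
      calc b * w = (a * w * a⁻¹) * (a * v * a⁻¹) := by rw [hawa, ← hw]
        _ = a * (w * v) * a⁻¹ := by group
    rw [e1, e2, hcomm_vw]
  have hβ2 : (v * w * b) ^ 2 = 1 := by
    rw [pow_two]
    calc v * w * b * (v * w * b) = v * w * (b * v) * w * b := by group
      _ = v * w * (v * b) * w * b := by rw [hcomm_bv]
      _ = v * (w * v) * (b * w) * b := by group
      _ = v * (v * w) * (w * b) * b := by rw [hcomm_vw, hcomm_wb]
      _ = (v * v) * (w * w) * (b * b) := by group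
      _ = 1 := by rw [← pow_two, ← pow_two, ← pow_two, hv2, hw2, hb]; simp
  have hβker : v * w * b ∈ π.ker := by
    rw [MonoidHom.mem_ker, ← hβ, map_pow, map_mul]; exact hab
  rw [hβ]
  exact h36_ker_sq_eq_one π hodd _ hβker hβ2

end Cfsg.Agent.Lib.helper70.SM
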