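import Mathlib
import Cfsg.Agent.Lib.helper69.SNDefs

/-!
# S4073 piece CT-B (`ct_sylow2_borel`): the Borel subgroup of a CT-group of order `q(q²-1)`

Racing copy by helper36 (verbatim Skel statement, own namespace).
-/

set_option autoImplicit false

namespace Cfsg.Agent.Lib.helper36.SNG

open Cfsg.Agent.Lib.helper69.SNG

open scoped Pointwise

universe u

theorem h36_card_mul_relIndex {G : Type u} [Group G] (H K : Subgroup G) (hHK : H ≤ K) :
    Nat.card H * H.relIndex K = Nat.card K := by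
  rw [← Subgroup.relIndex_bot_left, ← Subgroup.relIndex_bot_left]
  exact Subgroup.relIndex_mul_relIndex ⊥ H K bot_le hHK

/-- The conjugation map `K/(K ∩ P) → G`, `k ↦ k u k⁻¹`, is injective with values in
`(K ∩ P) ∖ 1`. -/
theorem h36_ctb_orbit {G : Type u} [Group G] [Finite G] (P K : Subgroup G)
    (hKN : K ≤ Subgroup.normalizer (P : Set G))
    (hPc : ∀ a ∈ P, ∀ b ∈ P, a * b = b * a)
    (hcent : ∀ u ∈ P, u ≠ 1 → ∀ g : G, Commute g u → g ∈ P)
    (u : G) (huK : u ∈ K) (huP : u ∈ P) (hu1 : u ≠ 1) :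
    ∃ f : K ⧸ (P.subgroupOf K) → G, Function.Injective f ∧
      (∀ q, f q ∈ K ∧ f q ∈ P ∧ f q ≠ 1) ∧
      ∀ k : K, f (k : K ⧸ (P.subgroupOf K)) = (k : G) * u * (k : G)⁻¹ := by
  have hwd : ∀ a b : K, QuotientGroup.leftRel (P.subgroupOf K) a b →
      (a : G) * u * (a : G)⁻¹ = (b : G) * u * (b : G)⁻¹ := by
    intro a b hab
    rw [QuotientGroup.leftRel_apply] at hab
    have hp : ((a : G)⁻¹ * (b : G)) ∈ P := by
      have := Subgroup.mem_subgroupOf.mp hab
      simpa using this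
    have hc := hPc _ hp u huP
    calc (a : G) * u * (a : G)⁻¹
        = (a : G) * (u * ((a : G)⁻¹ * (b : G))) * (b : G)⁻¹ := by group
      _ = (a : G) * (((a : G)⁻¹ * (b : G)) * u) * (b : G)⁻¹ := by rw [hc]
      _ = (b : G) * u * (b : G)⁻¹ := by group
  refine ⟨fun q => Quotient.liftOn' q (fun k : K => (k : G) * u * (k : G)⁻¹) hwd, ?_, ?_, ?_⟩
  · intro q1 q2
    refine Quotient.inductionOn₂' q1 q2 ?_
    intro a b hab
    have hab' : (a : G) * u * (a : G)⁻¹ = (b : G) * u * (b : G)⁻¹ := hab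
    apply Quotient.sound'
    rw [QuotientGroup.leftRel_apply, Subgroup.mem_subgroupOf]
    have hcomm : Commute ((a : G)⁻¹ * (b : G)) u := by
      unfold Commute SemiconjBy
      calc (a : G)⁻¹ * (b : G) * u
          = (a : G)⁻¹ * ((b : G) * u * (b : G)⁻¹) * (b : G) := by group
        _ = (a : G)⁻¹ * ((a : G) * u * (a : G)⁻¹) * (b : G) := by rw [hab']
        _ = u * ((a : G)⁻¹ * (b : G)) := by group
    have := hcent u huP hu1 _ hcomm
    simpa using this
  · intro q
    refine Quotient.inductionOn' q ?_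
    intro k
    show (k : G) * u * (k : G)⁻¹ ∈ K ∧ (k : G) * u * (k : G)⁻¹ ∈ P ∧
      (k : G) * u * (k : G)⁻¹ ≠ 1
    refine ⟨K.mul_mem (K.mul_mem k.2 huK) (K.inv_mem k.2), ?_, ?_⟩
    · exact (Subgroup.mem_normalizer_iff.mp (hKN k.2) u).mp huP
    · intro h1
      apply hu1
      have : u = (k : G)⁻¹ * ((k : G) * u * (k : G)⁻¹) * (k : G) := by group
      rw [this, h1]; group
  · intro k; rfl

theorem h36_ctb_count {G : Type u} [Group G] [Finite G] (P K : Subgroup G)
    (hKN : K ≤ Subgroup.normalizer (P : Set G))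
    (hPc : ∀ a ∈ P, ∀ b ∈ P, a * b = b * a)
    (hcent : ∀ u ∈ P, u ≠ 1 → ∀ g : G, Commute g u → g ∈ P)
    (u : G) (huK : u ∈ K) (huP : u ∈ P) (hu1 : u ≠ 1) :
    P.relIndex K + 1 ≤ Nat.card ↥(K ⊓ P) := by
  obtain ⟨f, hinj, hrange, -⟩ := h36_ctb_orbit P K hKN hPc hcent u huK huP hu1
  have h1 : P.relIndex K = (Set.range f).ncard := by
    rw [← Set.image_univ, Set.ncard_image_of_injective _ hinj, Set.ncard_univ]
    rfl
  have hsub : Set.range f ⊆ ((K ⊓ P : Subgroup G) : Set G) \ {1} := by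
    rintro _ ⟨q, rfl⟩
    obtain ⟨h1, h2, h3⟩ := hrange q
    exact ⟨⟨h1, h2⟩, h3⟩
  have h2 : (Set.range f).ncard ≤ (((K ⊓ P : Subgroup G) : Set G) \ {1}).ncard :=
    Set.ncard_le_ncard hsub (Set.toFinite _)
  have h3 : (((K ⊓ P : Subgroup G) : Set G) \ {1}).ncard = Nat.card ↥(K ⊓ P) - 1 := by
    rw [Set.ncard_sdiff_singleton_of_mem (Subgroup.one_mem _)]
    rfl
  have h4 : 0 < Nat.card ↥(K ⊓ P) := Nat.card_pos
  omega

/-- **[CT-B]** -/
theorem ct_sylow2_borel {G : Type u} [Group G] [Finite G]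
    {n : ℕ} (hn : 2 ≤ n) (hp : (2 ^ n - 1).Prime) (P : Sylow 2 G)
    (hP : Nat.card P = 2 ^ n)
    (hN : Nat.card (Subgroup.normalizer ((P : Subgroup G) : Set G)) = 2 ^ n * (2 ^ n - 1))
    (hPc : IsMulCommutative P)
    (hcent : ∀ u ∈ P, u ≠ 1 → ∀ g : G, Commute g u → g ∈ P) :
    (∀ K : Subgroup G, K ≤ Subgroup.normalizer ((P : Subgroup G) : Set G) →
        ¬ IsMulCommutative K → K = Subgroup.normalizer ((P : Subgroup G) : Set G)) ∧
    (∀ x : G, x ^ 4 = 1 → x ^ 2 = 1) := by
  classical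
  have hPN : (P : Subgroup G) ≤ Subgroup.normalizer ((P : Subgroup G) : Set G) :=
    Subgroup.le_normalizer
  have hPc' : ∀ a ∈ (P : Subgroup G), ∀ b ∈ (P : Subgroup G), a * b = b * a :=
    (comm_iff _).mp hPc
  have hcent' : ∀ u ∈ (P : Subgroup G), u ≠ 1 → ∀ g : G, Commute g u → g ∈ (P : Subgroup G) :=
    hcent
  have hP' : Nat.card (P : Subgroup G) = 2 ^ n := hP
  have hqpos : 0 < 2 ^ n := by positivity
  have hrel : (P : Subgroup G).relIndex (Subgroup.normalizer ((P : Subgroup G) : Set G))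
      = 2 ^ n - 1 := by
    have h1 := h36_card_mul_relIndex (P : Subgroup G) _ hPN
    rw [hN, hP'] at h1
    exact Nat.eq_of_mul_eq_mul_left hqpos h1
  have hdvd : ∀ K : Subgroup G, K ≤ Subgroup.normalizer ((P : Subgroup G) : Set G) →
      (P : Subgroup G).relIndex K ∣ 2 ^ n - 1 := by
    intro K hK
    have h1 := Subgroup.relIndex_dvd_index_of_normal
      ((P : Subgroup G).subgroupOf (Subgroup.normalizer ((P : Subgroup G) : Set G)))
      (K.subgroupOf (Subgroup.normalizer ((P : Subgroup G) : Set G)))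
    rw [Subgroup.relIndex_subgroupOf hK] at h1
    have h2 : ((P : Subgroup G).subgroupOf
        (Subgroup.normalizer ((P : Subgroup G) : Set G))).index
        = (P : Subgroup G).relIndex (Subgroup.normalizer ((P : Subgroup G) : Set G)) := rfl
    rw [h2, hrel] at h1
    exact h1
  constructor
  · intro K hKN hKna
    have hKP : ¬ K ≤ (P : Subgroup G) := by
      intro hle
      apply hKna
      rw [comm_iff]
      intro a ha b hb
      exact hPc' a (hle ha) b (hle hb)
    have hb1 : (P : Subgroup G).relIndex K ≠ 1 := by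
      intro h1
      exact hKP (Subgroup.relIndex_eq_one.mp h1)
    have hbr : (P : Subgroup G).relIndex K = 2 ^ n - 1 := by
      rcases (Nat.dvd_prime hp).mp (hdvd K hKN) with h1 | h1
      · exact absurd h1 hb1
      · exact h1
    have hcardK : Nat.card ↥(K ⊓ (P : Subgroup G)) * (2 ^ n - 1) = Nat.card K := by
      have h1 := h36_card_mul_relIndex (K ⊓ (P : Subgroup G)) K inf_le_left
      rw [Subgroup.inf_relIndex_left, hbr] at h1
      exact h1
    have hne : ∃ u, u ∈ K ∧ u ∈ (P : Subgroup G) ∧ u ≠ 1 := by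
      by_contra hcon
      have hbot : K ⊓ (P : Subgroup G) = ⊥ := by
        rw [Subgroup.eq_bot_iff_forall]
        intro x hx
        by_contra hx1
        exact hcon ⟨x, hx.1, hx.2, hx1⟩
      rw [hbot, Subgroup.card_bot, one_mul] at hcardK
      apply hKna
      have : Fact (2 ^ n - 1).Prime := ⟨hp⟩
      have hcyc : IsCyclic K := isCyclic_of_prime_card hcardK.symm
      rw [comm_iff]
      intro a ha b hb
      obtain ⟨g, hg⟩ := hcyc.exists_generator
      obtain ⟨i, hi⟩ := Subgroup.mem_zpowers_iff.mp (hg ⟨a, ha⟩)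
      obtain ⟨j, hj⟩ := Subgroup.mem_zpowers_iff.mp (hg ⟨b, hb⟩)
      have hab : (⟨a, ha⟩ : K) * ⟨b, hb⟩ = ⟨b, hb⟩ * ⟨a, ha⟩ := by
        rw [← hi, ← hj]
        exact zpow_mul_comm g i j
      exact congrArg Subtype.val hab
    obtain ⟨u, huK, huP, hu1⟩ := hne
    have hcount := h36_ctb_count (P : Subgroup G) K hKN hPc' hcent' u huK huP hu1
    rw [hbr] at hcount
    have hle : Nat.card ↥(K ⊓ (P : Subgroup G)) ≤ Nat.card (P : Subgroup G) :=
      Nat.card_le_card_of_injective (Subgroup.inclusion inf_le_right)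
        (Subgroup.inclusion_injective _)
    have heq : Nat.card ↥(K ⊓ (P : Subgroup G)) = 2 ^ n := by omega
    rw [heq] at hcardK
    apply Subgroup.eq_of_le_of_card_ge hKN
    rw [hN, hcardK]
  · intro x hx4
    have : Fact (Nat.Prime 2) := ⟨Nat.prime_two⟩
    have h2P : 2 ∣ Nat.card (P : Subgroup G) := by
      rw [hP']
      exact dvd_pow_self 2 (by omega)
    obtain ⟨u0, hu0⟩ := exists_prime_orderOf_dvd_card' (G := (P : Subgroup G)) 2 h2P
    have huP : (u0 : G) ∈ (P : Subgroup G) := u0.2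
    have hu1 : (u0 : G) ≠ 1 := by
      intro h
      have : u0 = 1 := Subtype.ext h
      rw [this, orderOf_one] at hu0
      norm_num at hu0
    have hu2 : (u0 : G) ^ 2 = 1 := by
      have := pow_orderOf_eq_one u0
      rw [hu0] at this
      exact_mod_cast congrArg Subtype.val this
    obtain ⟨f, hinj, hrange, hf⟩ := h36_ctb_orbit (P : Subgroup G)
      (Subgroup.normalizer ((P : Subgroup G) : Set G)) le_rfl hPc' hcent' (u0 : G)
      (hPN huP) huP hu1
    have hsurj : ∀ y ∈ (P : Subgroup G), y ≠ 1 →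
        ∃ k : G, k * (u0 : G) * k⁻¹ = y := by
      have hsub : Set.range f ⊆ ((P : Subgroup G) : Set G) \ {1} := by
        rintro _ ⟨q, rfl⟩
        obtain ⟨-, h2, h3⟩ := hrange q
        exact ⟨h2, h3⟩
      have hcard1 : (Set.range f).ncard = 2 ^ n - 1 := by
        rw [← Set.image_univ, Set.ncard_image_of_injective _ hinj, Set.ncard_univ]
        exact hrel
      have hcard2 : (((P : Subgroup G) : Set G) \ {1}).ncard = 2 ^ n - 1 := by
        rw [Set.ncard_sdiff_singleton_of_mem (Subgroup.one_mem _)]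
        have : ((P : Subgroup G) : Set G).ncard = Nat.card (P : Subgroup G) := rfl
        rw [this, hP']
      have heq : Set.range f = ((P : Subgroup G) : Set G) \ {1} :=
        Set.eq_of_subset_of_ncard_le hsub (by rw [hcard1, hcard2]) (Set.toFinite _)
      intro y hy hy1
      have hyr : y ∈ Set.range f := by rw [heq]; exact ⟨hy, hy1⟩
      obtain ⟨q, rfl⟩ := hyr
      obtain ⟨k, rfl⟩ := QuotientGroup.mk_surjective q
      exact ⟨(k : G), (hf k).symm⟩
    have hPsq : ∀ y ∈ (P : Subgroup G), y ^ 2 = 1 := by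
      intro y hy
      by_cases hy1 : y = 1
      · rw [hy1, one_pow]
      · obtain ⟨k, rfl⟩ := hsurj y hy hy1
        rw [conj_pow, hu2]; group
    have hxp : IsPGroup 2 (Subgroup.zpowers x) := by
      rintro ⟨y, hy⟩
      obtain ⟨i, rfl⟩ := Subgroup.mem_zpowers_iff.mp hy
      refine ⟨2, Subtype.ext ?_⟩
      have h4 : x ^ (2 ^ 2) = 1 := by norm_num; exact hx4
      simp only [Subgroup.coe_pow, Subgroup.coe_one]
      rw [← zpow_natCast, ← zpow_mul, mul_comm, zpow_mul, zpow_natCast, h4, one_zpow]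
    obtain ⟨Q, hQ⟩ := hxp.exists_le_sylow
    obtain ⟨g, hg⟩ := MulAction.exists_smul_eq G P Q
    have hxQ : x ∈ (Q : Subgroup G) := hQ (Subgroup.mem_zpowers x)
    rw [← hg] at hxQ
    have hxQ' : x ∈ MulAut.conj g • (P : Subgroup G) := by
      rw [← Sylow.pointwise_smul_def]; exact hxQ
    rw [Subgroup.mem_pointwise_smul_iff_inv_smul_mem] at hxQ'
    have hy : g⁻¹ * x * g ∈ (P : Subgroup G) := by
      simpa [MulAut.smul_def] using hxQ'
    have h2 := hPsq _ hy
    have h3 : (g⁻¹ * x * g) ^ 2 = g⁻¹ * x ^ 2 * g := by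
      rw [pow_two, pow_two]; group
    rw [h3] at h2
    have : x ^ 2 = g * (g⁻¹ * x ^ 2 * g) * g⁻¹ := by group
    rw [this, h2]; group

end Cfsg.Agent.Lib.helper36.SNG
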