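import Mathlib
import Cfsg.Prelude.Def_Classical
import Cfsg.Agent.Lib.helper17.HermForm
import Cfsg.Agent.Lib.helper17.Herm
import Cfsg.Agent.Lib.helper44.SUWDefs
import Cfsg.Agent.Lib.helper57.SUWANISO
import Cfsg.Agent.Lib.helper29.SUWFSIG

set_option autoImplicit false

namespace Cfsg.Agent.Lib.helper44.SUW

open Matrix Cfsg

theorem h36_rank_one_core {K : Type*} [Field K] [Fintype K] {m : ℕ}
    (σ : K →+* K) (hσ2 : ∀ x, σ (σ x) = x) (hσid : σ ≠ RingHom.id K)
    (Y : Matrix (Fin m) (Fin m) K) (hY : Y ∈ skewH σ m)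
    (v : Fin m → K) (ha : hval σ Y v ≠ 0)
    (hiso : ∀ x : Fin m → K, hval σ Y x = 0 → Y *ᵥ x = 0) :
    ∃ (c : K) (z : Fin m → K), c ≠ 0 ∧ z ≠ 0 ∧ Y = c • Matrix.vecMulVec z (fun j => σ (z j)) := by
  classical
  obtain ⟨P, hP⟩ : ∃ P : (Fin m → K) → (Fin m → K) → K,
      ∀ u x, P u x = ∑ k, σ (u k) * (Y *ᵥ x) k := ⟨_, fun _ _ => rfl⟩
  have hvalP : ∀ x, hval σ Y x = P x x := by
    intro x
    rw [hP]
    simp only [hval, Matrix.mulVec, dotProduct, Finset.mul_sum, mul_assoc]
  have P_add_r : ∀ u x x', P u (x + x') = P u x + P u x' := by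
    intro u x x'
    simp only [hP, Matrix.mulVec_add, Pi.add_apply, mul_add, Finset.sum_add_distrib]
  have P_smul_r : ∀ u (l : K) x, P u (l • x) = l * P u x := by
    intro u l x
    simp only [hP, Matrix.mulVec_smul, Pi.smul_apply, smul_eq_mul, Finset.mul_sum]
    apply Finset.sum_congr rfl
    intro k _
    ring
  have P_add_l : ∀ u u' x, P (u + u') x = P u x + P u' x := by
    intro u u' x
    simp only [hP, Pi.add_apply, map_add, add_mul, Finset.sum_add_distrib]
  have P_smul_l : ∀ (l : K) u x, P (l • u) x = σ l * P u x := by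
    intro l u x
    simp only [hP, Pi.smul_apply, smul_eq_mul, map_mul, Finset.mul_sum]
    apply Finset.sum_congr rfl
    intro k _
    ring
  have P_skew : ∀ u x, P x u = - σ (P u x) := by
    intro u x
    simp only [hP, Matrix.mulVec, dotProduct, map_sum, map_mul, hσ2, Finset.mul_sum]
    rw [← Finset.sum_neg_distrib, Finset.sum_comm]
    apply Finset.sum_congr rfl
    intro k _
    rw [← Finset.sum_neg_distrib]
    apply Finset.sum_congr rfl
    intro j _
    rw [hY k j]
    ring
  obtain ⟨a, ha_def⟩ : ∃ a, a = hval σ Y v := ⟨_, rfl⟩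
  rw [← ha_def] at ha
  have haP : P v v = a := by rw [ha_def, hvalP]
  obtain ⟨y, hy_def⟩ : ∃ y, y = Y *ᵥ v := ⟨_, rfl⟩
  have hy0 : y ≠ 0 := by
    intro h0
    apply ha
    rw [← haP, hP, ← hy_def, h0]
    simp
  have key : ∀ x, Y *ᵥ x = (a⁻¹ * P v x) • y := by
    intro x
    obtain ⟨t, ht⟩ : ∃ t, t = a⁻¹ * P v x := ⟨_, rfl⟩
    obtain ⟨w, hw⟩ : ∃ w, w = x - t • v := ⟨_, rfl⟩
    have hx : x = w + t • v := by rw [hw, sub_add_cancel]
    have hvw : P v w = 0 := by
      have h1 : P v x = P v w + t * a := by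
        conv_lhs => rw [hx]
        rw [P_add_r, P_smul_r, haP]
      have h2 : t * a = P v x := by
        rw [ht]
        field_simp
      linear_combination -h1 - h2
    have hYw : Y *ᵥ w = 0 := by
      by_cases hb : hval σ Y w = 0
      · exact hiso w hb
      · exfalso
        obtain ⟨b, hb_def⟩ : ∃ b, b = hval σ Y w := ⟨_, rfl⟩
        rw [← hb_def] at hb
        have hbP : P w w = b := by rw [hb_def, hvalP]
        have hσa : σ a = -a := by
          have h := P_skew v v
          rw [haP] at h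
          linear_combination h
        have hσb : σ b = -b := by
          have h := P_skew w w
          rw [hbP] at h
          linear_combination h
        have hwv : P w v = 0 := by rw [P_skew v w, hvw, map_zero, neg_zero]
        have hβ0 : -a / b ≠ 0 := div_ne_zero (neg_ne_zero.mpr ha) hb
        have hβσ : σ (-a / b) = -a / b := by
          rw [map_div₀, map_neg, hσa, hσb]
          field_simp
        obtain ⟨μ, hμ⟩ := Cfsg.Agent.Lib.helper17.norm_surj σ hσid hσ2 (-a / b) hβ0 hβσ
        have hz : hval σ Y (v + μ • w) = 0 := by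
          rw [hvalP, P_add_l, P_add_r, P_add_r, P_smul_l, P_smul_l, P_smul_r, P_smul_r,
            haP, hvw, hwv, hbP]
          have h3 : μ * σ μ * b = -a := by
            rw [hμ]
            field_simp
          linear_combination h3
        have hYz := hiso _ hz
        have hvz : P v (v + μ • w) = a := by
          rw [P_add_r, P_smul_r, haP, hvw]
          ring
        have hvz0 : P v (v + μ • w) = 0 := by
          rw [hP, hYz]
          simp
        exact ha (by rw [← hvz, hvz0])
    calc Y *ᵥ x = Y *ᵥ (w + t • v) := by rw [← hx]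
      _ = t • y := by rw [Matrix.mulVec_add, Matrix.mulVec_smul, hYw, zero_add, hy_def]
      _ = (a⁻¹ * P v x) • y := by rw [ht]
  refine ⟨-a⁻¹, y, neg_ne_zero.mpr (inv_ne_zero ha), hy0, ?_⟩
  ext i j
  have h1 := congrFun (key (Pi.single j 1)) i
  have h2 : (Y *ᵥ Pi.single j 1) i = Y i j := by
    simp [Matrix.mulVec, dotProduct, Pi.single_apply]
  have h3 : σ (y j) = - P v (Pi.single j 1) := by
    rw [hP, hy_def]
    simp only [Matrix.mulVec, dotProduct, map_sum, map_mul, Pi.single_apply, mul_ite, mul_one,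
      mul_zero, Finset.sum_ite_eq', Finset.mem_univ, if_true]
    rw [← Finset.sum_neg_distrib]
    apply Finset.sum_congr rfl
    intro k _
    rw [hY j k]
    ring
  rw [h2] at h1
  rw [h1, Matrix.smul_apply, Matrix.vecMulVec_apply, h3, Pi.smul_apply, smul_eq_mul, smul_eq_mul]
  ring

/-- RANK1 (L), racing copy -/
theorem h36_rank_one {K : Type*} [Field K] [Fintype K] {q m : ℕ} (hK : Fintype.card K = q ^ 2)
    (σ : K →+* K) (hσ : ∀ x, σ x = x ^ q) (Y : Matrix (Fin m) (Fin m) K) (hY : Y ∈ skewH σ m)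
    (hY0 : Y ≠ 0) (hiso : ∀ x : Fin m → K, hval σ Y x = 0 → Y *ᵥ x = 0) :
    ∃ (c : K) (z : Fin m → K), c ≠ 0 ∧ z ≠ 0 ∧ Y = c • Matrix.vecMulVec z (fun j => σ (z j)) := by
  obtain ⟨hσ2, hσid⟩ := sigma_facts hK σ hσ
  obtain ⟨v, hv⟩ := exists_aniso hK σ hσ Y hY hY0
  exact h36_rank_one_core σ hσ2 hσid Y hY v hv hiso

end Cfsg.Agent.Lib.helper44.SUW
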