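import Mathlib
import Cfsg.Prelude.Def_Classical
import Cfsg.Prelude.Def_GeometricClasses

set_option autoImplicit false

namespace Cfsg.Agent.Lib.helper59.Sfk

open Matrix Cfsg.Geo

/-- an orthogonal family of non-isotropic vectors that is too short can be extended by a
non-singular vector orthogonal to all of its members -/
theorem h36_sfk_step {F : Type*} [Field F] {ι : Type} [Fintype ι] [DecidableEq ι]
    (Q : QuadraticForm F (ι → F)) (hQ : (QuadraticMap.polarBilin Q).Nondegenerate)
    {J : Type} [Fintype J] [DecidableEq J] (w : J → (ι → F))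
    (horth : ∀ i j, i ≠ j → QuadraticMap.polar (⇑Q) (w i) (w j) = 0)
    (hne : ∀ i, QuadraticMap.polar (⇑Q) (w i) (w i) ≠ 0)
    (hlt : Fintype.card J < Fintype.card ι) :
    ∃ v : ι → F, Q v ≠ 0 ∧ ∀ j, QuadraticMap.polar (⇑Q) v (w j) = 0 := by
  classical
  obtain ⟨B, hB⟩ : ∃ B : LinearMap.BilinForm F (ι → F), B = QuadraticMap.polarBilin Q := ⟨_, rfl⟩
  have hBp : ∀ u v, B u v = QuadraticMap.polar (⇑Q) u v := fun u v => by
    rw [hB]; exact QuadraticMap.polarBilin_apply_apply Q u v
  obtain ⟨P, hP⟩ : ∃ P : (ι → F) → (ι → F),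
      P = fun v => v - ∑ j, (B v (w j) / B (w j) (w j)) • w j := ⟨_, rfl⟩
  have hPo : ∀ v i, B (P v) (w i) = 0 := by
    intro v i
    rw [hP]
    show B (v - ∑ j, (B v (w j) / B (w j) (w j)) • w j) (w i) = 0
    rw [map_sub, LinearMap.sub_apply, map_sum, LinearMap.sum_apply]
    simp only [map_smul, LinearMap.smul_apply, smul_eq_mul]
    rw [Finset.sum_eq_single i]
    · rw [div_mul_cancel₀ _ (by rw [hBp]; exact hne i), sub_self]
    · intro j _ hji
      rw [hBp (w j) (w i), horth j i hji, mul_zero]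
    · intro h
      exact absurd (Finset.mem_univ i) h
  have hPr : ∀ u v, (∀ j, B u (w j) = 0) → B u (P v) = B u v := by
    intro u v hu
    rw [hP]
    show B u (v - ∑ j, (B v (w j) / B (w j) (w j)) • w j) = B u v
    rw [map_sub, map_sum]
    simp only [map_smul, smul_eq_mul, hu, mul_zero, Finset.sum_const_zero, sub_zero]
  have hex : ∃ v₀ : ι → F, v₀ ∉ Submodule.span F (Set.range w) := by
    by_contra hall
    push Not at hall
    have htop : Submodule.span F (Set.range w) = ⊤ := Submodule.eq_top_iff'.mpr hall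
    have h1 : Module.finrank F (Submodule.span F (Set.range w)) ≤ Fintype.card J := by
      simpa [Set.finrank] using finrank_range_le_card (R := F) w
    rw [htop, finrank_top, Module.finrank_fintype_fun_eq_card] at h1
    omega
  obtain ⟨v₀, hv₀⟩ := hex
  have hP0 : P v₀ ≠ 0 := by
    intro h
    apply hv₀
    rw [hP] at h
    have h' : v₀ = ∑ j, (B v₀ (w j) / B (w j) (w j)) • w j := sub_eq_zero.mp h
    rw [h']
    exact Submodule.sum_mem _
      (fun j _ => Submodule.smul_mem _ _ (Submodule.subset_span (Set.mem_range_self j)))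
  obtain ⟨y, hy⟩ : ∃ y, B (P v₀) y ≠ 0 := by
    by_contra hall
    push Not at hall
    rw [hB] at hall
    exact hP0 (hQ.1 (P v₀) hall)
  have hyP : B (P v₀) (P y) ≠ 0 := by
    rw [hPr _ _ (hPo v₀)]; exact hy
  by_cases h1 : Q (P v₀) = 0
  · by_cases h2 : Q (P y) = 0
    · refine ⟨P v₀ + P y, ?_, ?_⟩
      · rw [QuadraticMap.map_add (⇑Q) (P v₀) (P y), h1, h2, zero_add, zero_add, ← hBp]
        exact hyP
      · intro j
        rw [QuadraticMap.polar_add_left, ← hBp, ← hBp, hPo, hPo, add_zero]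
    · exact ⟨P y, h2, fun j => by rw [← hBp]; exact hPo y j⟩
  · exact ⟨P v₀, h1, fun j => by rw [← hBp]; exact hPo v₀ j⟩

/-- JBASIS (racer copy, helper36). -/
theorem h36_sfk_j_basis {F : Type*} [Field F] {ι : Type} [Fintype ι] [DecidableEq ι]
    (h2 : (2 : F) ≠ 0) (Q : QuadraticForm F (ι → F))
    (hQ : (QuadraticMap.polarBilin Q).Nondegenerate)
    (x : GL ι F) (hx : x ∈ Cfsg.isometryGroup F (⇑Q))
    (hxx : (x : Matrix ι ι F) * (x : Matrix ι ι F) = -1) :
    ∃ (m : ℕ) (e : Fin m → (ι → F)),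
      LinearIndependent F (Sum.elim e (fun i => (x : Matrix ι ι F) *ᵥ e i)) ∧
      Fintype.card ι = 2 * m ∧
      (∀ i j, i ≠ j → QuadraticMap.polar (⇑Q) (e i) (e j) = 0) ∧
      (∀ i j, QuadraticMap.polar (⇑Q) (e i) ((x : Matrix ι ι F) *ᵥ e j) = 0) ∧
      ∀ i, Q (e i) ≠ 0 := by
  classical
  have hX1 : ∀ u : ι → F, Q ((x : Matrix ι ι F) *ᵥ u) = Q u := fun u => hx u u
  have hX2 : ∀ u : ι → F, (x : Matrix ι ι F) *ᵥ ((x : Matrix ι ι F) *ᵥ u) = -u := by
    intro u
    rw [Matrix.mulVec_mulVec, hxx, Matrix.neg_mulVec, Matrix.one_mulVec]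
  have hBX : ∀ u v : ι → F, QuadraticMap.polar (⇑Q) ((x : Matrix ι ι F) *ᵥ u)
      ((x : Matrix ι ι F) *ᵥ v) = QuadraticMap.polar (⇑Q) u v := by
    intro u v
    unfold QuadraticMap.polar
    rw [← Matrix.mulVec_add, hX1, hX1, hX1]
  have hskew : ∀ u : ι → F, QuadraticMap.polar (⇑Q) u ((x : Matrix ι ι F) *ᵥ u) = 0 := by
    intro u
    have h1 : QuadraticMap.polar (⇑Q) u ((x : Matrix ι ι F) *ᵥ u) =
        - QuadraticMap.polar (⇑Q) u ((x : Matrix ι ι F) *ᵥ u) := by
      calc QuadraticMap.polar (⇑Q) u ((x : Matrix ι ι F) *ᵥ u)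
          = QuadraticMap.polar (⇑Q) ((x : Matrix ι ι F) *ᵥ u)
              ((x : Matrix ι ι F) *ᵥ ((x : Matrix ι ι F) *ᵥ u)) := (hBX _ _).symm
        _ = QuadraticMap.polar (⇑Q) ((x : Matrix ι ι F) *ᵥ u) (-u) := by rw [hX2]
        _ = - QuadraticMap.polar (⇑Q) ((x : Matrix ι ι F) *ᵥ u) u :=
            QuadraticMap.polar_neg_right Q _ _
        _ = - QuadraticMap.polar (⇑Q) u ((x : Matrix ι ι F) *ᵥ u) := by
            rw [QuadraticMap.polar_comm]
    have h3 : (2 : F) * QuadraticMap.polar (⇑Q) u ((x : Matrix ι ι F) *ᵥ u) = 0 := by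
      linear_combination h1
    exact (mul_eq_zero.mp h3).resolve_left h2
  have hself : ∀ v : ι → F, Q v ≠ 0 → QuadraticMap.polar (⇑Q) v v ≠ 0 := by
    intro v hv
    rw [QuadraticMap.polar_self, two_nsmul, ← two_mul]
    exact mul_ne_zero h2 hv
  have hfam : ∀ (k : ℕ) (e : Fin k → (ι → F)),
      (∀ i j, i ≠ j → QuadraticMap.polar (⇑Q) (e i) (e j) = 0) →
      (∀ i j, QuadraticMap.polar (⇑Q) (e i) ((x : Matrix ι ι F) *ᵥ e j) = 0) →
      (∀ i, Q (e i) ≠ 0) →
      (∀ a b : Fin k ⊕ Fin k, a ≠ b →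
        QuadraticMap.polar (⇑Q) (Sum.elim e (fun i => (x : Matrix ι ι F) *ᵥ e i) a)
          (Sum.elim e (fun i => (x : Matrix ι ι F) *ᵥ e i) b) = 0) ∧
      (∀ a : Fin k ⊕ Fin k,
        QuadraticMap.polar (⇑Q) (Sum.elim e (fun i => (x : Matrix ι ι F) *ᵥ e i) a)
          (Sum.elim e (fun i => (x : Matrix ι ι F) *ᵥ e i) a) ≠ 0) := by
    intro k e h1 h2' h3
    constructor
    · rintro (i | i) (j | j) hab
      · exact h1 i j (fun h => hab (by rw [h]))
      · exact h2' i j
      · show QuadraticMap.polar (⇑Q) ((x : Matrix ι ι F) *ᵥ e i) (e j) = 0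
        rw [QuadraticMap.polar_comm]; exact h2' j i
      · show QuadraticMap.polar (⇑Q) ((x : Matrix ι ι F) *ᵥ e i) ((x : Matrix ι ι F) *ᵥ e j) = 0
        rw [hBX]; exact h1 i j (fun h => hab (by rw [h]))
    · rintro (i | i)
      · exact hself _ (h3 i)
      · show QuadraticMap.polar (⇑Q) ((x : Matrix ι ι F) *ᵥ e i) ((x : Matrix ι ι F) *ᵥ e i) ≠ 0
        rw [hBX]; exact hself _ (h3 i)
  have hli : ∀ (k : ℕ) (e : Fin k → (ι → F)),
      (∀ i j, i ≠ j → QuadraticMap.polar (⇑Q) (e i) (e j) = 0) →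
      (∀ i j, QuadraticMap.polar (⇑Q) (e i) ((x : Matrix ι ι F) *ᵥ e j) = 0) →
      (∀ i, Q (e i) ≠ 0) →
      LinearIndependent F (Sum.elim e (fun i => (x : Matrix ι ι F) *ᵥ e i)) := by
    intro k e h1 h2' h3
    obtain ⟨ho, hn⟩ := hfam k e h1 h2' h3
    apply LinearMap.BilinForm.linearIndependent_of_iIsOrtho (B := QuadraticMap.polarBilin Q)
    · intro a b hab
      show (QuadraticMap.polarBilin Q) _ _ = 0
      rw [QuadraticMap.polarBilin_apply_apply]
      exact ho a b hab
    · intro a
      rw [QuadraticMap.polarBilin_apply_apply]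
      exact hn a
  have main : ∀ (n k : ℕ) (e : Fin k → (ι → F)),
      (∀ i j, i ≠ j → QuadraticMap.polar (⇑Q) (e i) (e j) = 0) →
      (∀ i j, QuadraticMap.polar (⇑Q) (e i) ((x : Matrix ι ι F) *ᵥ e j) = 0) →
      (∀ i, Q (e i) ≠ 0) → Fintype.card ι - 2 * k = n →
      ∃ (m : ℕ) (e : Fin m → (ι → F)),
        LinearIndependent F (Sum.elim e (fun i => (x : Matrix ι ι F) *ᵥ e i)) ∧
        Fintype.card ι = 2 * m ∧
        (∀ i j, i ≠ j → QuadraticMap.polar (⇑Q) (e i) (e j) = 0) ∧
        (∀ i j, QuadraticMap.polar (⇑Q) (e i) ((x : Matrix ι ι F) *ᵥ e j) = 0) ∧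
        ∀ i, Q (e i) ≠ 0 := by
    intro n
    induction n using Nat.strong_induction_on with
    | _ n ih =>
      intro k e h1 h2' h3 hn
      have hle : 2 * k ≤ Fintype.card ι := by
        have := (hli k e h1 h2' h3).fintype_card_le_finrank
        rw [Module.finrank_fintype_fun_eq_card] at this
        simpa [Fintype.card_sum, two_mul] using this
      by_cases hlt : 2 * k < Fintype.card ι
      · obtain ⟨ho, hnn⟩ := hfam k e h1 h2' h3
        obtain ⟨v, hv, hvo⟩ := h36_sfk_step Q hQ (Sum.elim e (fun i => (x : Matrix ι ι F) *ᵥ e i))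
          ho hnn (by simpa [Fintype.card_sum, two_mul] using hlt)
        have hve : ∀ j, QuadraticMap.polar (⇑Q) v (e j) = 0 := fun j => hvo (Sum.inl j)
        have hvxe : ∀ j, QuadraticMap.polar (⇑Q) v ((x : Matrix ι ι F) *ᵥ e j) = 0 :=
          fun j => hvo (Sum.inr j)
        refine ih (n - 2) (by omega) (k + 1) (Fin.cons v e) ?_ ?_ ?_ (by omega)
        · intro i j hij
          induction i using Fin.cases with
          | zero =>
            induction j using Fin.cases with
            | zero => exact absurd rfl hij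
            | succ j' => simp only [Fin.cons_zero, Fin.cons_succ]; exact hve j'
          | succ i' =>
            induction j using Fin.cases with
            | zero =>
              simp only [Fin.cons_zero, Fin.cons_succ]
              rw [QuadraticMap.polar_comm]; exact hve i'
            | succ j' =>
              simp only [Fin.cons_succ]
              exact h1 i' j' (fun h => hij (by rw [h]))
        · intro i j
          induction i using Fin.cases with
          | zero =>
            induction j using Fin.cases with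
            | zero => simp only [Fin.cons_zero]; exact hskew v
            | succ j' => simp only [Fin.cons_zero, Fin.cons_succ]; exact hvxe j'
          | succ i' =>
            induction j using Fin.cases with
            | zero =>
              simp only [Fin.cons_zero, Fin.cons_succ]
              calc QuadraticMap.polar (⇑Q) (e i') ((x : Matrix ι ι F) *ᵥ v)
                  = QuadraticMap.polar (⇑Q) ((x : Matrix ι ι F) *ᵥ e i')
                      ((x : Matrix ι ι F) *ᵥ ((x : Matrix ι ι F) *ᵥ v)) := (hBX _ _).symm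
                _ = QuadraticMap.polar (⇑Q) ((x : Matrix ι ι F) *ᵥ e i') (-v) := by rw [hX2]
                _ = - QuadraticMap.polar (⇑Q) ((x : Matrix ι ι F) *ᵥ e i') v :=
                    QuadraticMap.polar_neg_right Q _ _
                _ = 0 := by rw [QuadraticMap.polar_comm, hvxe i', neg_zero]
            | succ j' => simp only [Fin.cons_succ]; exact h2' i' j'
        · intro i
          induction i using Fin.cases with
          | zero => simp only [Fin.cons_zero]; exact hv
          | succ i' => simp only [Fin.cons_succ]; exact h3 i'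
      · exact ⟨k, e, hli k e h1 h2' h3, by omega, h1, h2', h3⟩
  exact main _ 0 (fun i => i.elim0) (fun i => i.elim0) (fun i => i.elim0) (fun i => i.elim0) rfl

end Cfsg.Agent.Lib.helper59.Sfk
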