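import Mathlib

/-!
# S5987 split, piece MARIO (helper36, racing copy under prefixed names): the arithmetic for
`i = ord_r(q)` odd, minus type.
-/

set_option autoImplicit false

namespace Cfsg.Agent.Lib.helper24

theorem h36_stm_arith_suff_odd (i d m : ℕ) (hi : Odd i) (hm : 1 ≤ m) (hmd : m < d)
    (hB : i ≤ m ∧ ((2 * d) % (2 * i) = 0 ∨ 2 * (m % i) < (2 * d) % (2 * i)))
    (S k' : ℕ) (hS : 1 ≤ S) (hdim : i * (2 * S) + 2 * k' = 2 * d) (hk : 1 ≤ k') :
    ∃ B a : ℕ, B ≤ S ∧ a + i * B = m ∧ a + 1 ≤ k' := by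
  obtain ⟨hB1, hB2⟩ := hB
  have hi0 : 0 < i := hi.pos
  rw [Nat.mul_mod_mul_left] at hB2
  have hm' : i * (m / i) + m % i = m := Nat.div_add_mod m i
  have hd' : i * (d / i) + d % i = d := Nat.div_add_mod d i
  have hδ : d % i < i := Nat.mod_lt d hi0
  have hμ : m % i < i := Nat.mod_lt m hi0
  have hdim' : i * S + k' = d := by
    have h1 : i * (2 * S) = 2 * (i * S) := by ring
    omega
  by_cases hMS : m / i ≤ S
  · refine ⟨m / i, m % i, hMS, by omega, ?_⟩
    rcases hB2 with h0 | hlt
    · -- `d % i = 0`: `k' = i * (d / i - S) ≥ i`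
      have h0' : d % i = 0 := by omega
      have hDS : S + 1 ≤ d / i := by
        by_contra hc
        have hSD : d / i ≤ S := by omega
        have := Nat.mul_le_mul_left i hSD
        omega
      have h2 := Nat.mul_le_mul_left i hDS
      have h3 : i * (S + 1) = i * S + i := by ring
      omega
    · -- `m % i < d % i ≤ k'`
      by_contra hcon
      have hk2 : k' < d % i := by omega
      have hDS : d / i + 1 ≤ S := by
        by_contra hc
        have hSD : S ≤ d / i := by omega
        have := Nat.mul_le_mul_left i hSD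
        omega
      have h2 := Nat.mul_le_mul_left i hDS
      have h3 : i * (d / i + 1) = i * (d / i) + i := by ring
      omega
  · have hSM : S + 1 ≤ m / i := by omega
    have h2 := Nat.mul_le_mul_left i hSM
    have h3 : i * (S + 1) = i * S + i := by ring
    refine ⟨S, m - i * S, le_rfl, by omega, by omega⟩

theorem h36_stm_arith_nec_odd (i d m : ℕ) (hi : Odd i) (hm : 1 ≤ m) (hmd : m < d)
    (hcount : ∃ j₀, j₀ < m ∧ ((i ∣ 2 * (d - j₀) ∧ ¬ i ∣ d - j₀) ∨ i ∣ d - j₀ - 1)) :
    i + 1 ≤ d ∧ ((2 * d) % (2 * i) = 0 → i ≤ m) ∧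
      ∀ a b : ℕ, a + i * b = m → 2 * a + 2 ≤ (2 * d) % (2 * i) →
        i ≤ m ∧ 2 * (m % i) < (2 * d) % (2 * i) := by
  obtain ⟨j₀, hj₀, hdv⟩ := hcount
  have hi0 : 0 < i := hi.pos
  have hdv' : i ∣ d - j₀ - 1 := by
    rcases hdv with ⟨h1, h2⟩ | h
    · exfalso
      apply h2
      have hcop : Nat.Coprime i 2 := (Nat.coprime_two_right).2 hi
      exact hcop.dvd_of_dvd_mul_left h1
    · exact h
  obtain ⟨c, hc⟩ := hdv'
  have hδ : d % i < i := Nat.mod_lt d hi0
  have hd' : i * (d / i) + d % i = d := Nat.div_add_mod d i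
  have hpos : 0 < d - j₀ - 1 := by omega
  have hile : i ≤ d - j₀ - 1 := Nat.le_of_dvd hpos ⟨c, hc⟩
  refine ⟨by omega, ?_, ?_⟩
  · intro h0
    rw [Nat.mul_mod_mul_left] at h0
    have h0' : d % i = 0 := by omega
    -- `i ∣ j₀ + 1`
    have h1 : i * c + (j₀ + 1) = i * (d / i) := by omega
    have hdvd : i ∣ j₀ + 1 := by
      have h2 : i ∣ i * c + (j₀ + 1) := by rw [h1]; exact dvd_mul_right i _
      exact (Nat.dvd_add_right (dvd_mul_right i c)).mp h2
    have := Nat.le_of_dvd (by omega) hdvd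
    omega
  · intro a b hab ha
    rw [Nat.mul_mod_mul_left] at ha ⊢
    have ha' : a + 1 ≤ d % i := by omega
    have hai : a < i := by omega
    have hmod : m % i = a := by
      rw [← hab, Nat.add_mul_mod_self_left]
      exact Nat.mod_eq_of_lt hai
    refine ⟨?_, by omega⟩
    -- `b ≥ 1`
    by_contra hcon
    have hb0 : b = 0 := by
      by_contra hb
      have hb1 : 1 ≤ b := by omega
      have := Nat.mul_le_mul_left i hb1
      omega
    subst hb0
    have hma : m = a := by omega
    -- `i * c = i * (d / i) + (d % i - j₀ - 1)` with `0 < d % i - j₀ - 1 < i`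
    have h1 : i * (d / i) < i * c := by omega
    have h2 : i * c < i * (d / i + 1) := by
      have h3 : i * (d / i + 1) = i * (d / i) + i := by ring
      omega
    have h4 := Nat.lt_of_mul_lt_mul_left h1
    have h5 := Nat.lt_of_mul_lt_mul_left h2
    omega

end Cfsg.Agent.Lib.helper24
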