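import Mathlib
import Cfsg.Agent.Lib.helper68.W2PDefs
import Cfsg.Agent.Lib.helper68.W2PA1
import Cfsg.Agent.Lib.helper36.W2P_L0

/-!
# S0720 piece A4 (helper36): `club` and `trace_hatE_of_club`
-/

set_option autoImplicit false

namespace Cfsg.Agent.Lib.helper36.W2P

open Finset
open scoped Classical
open Cfsg.Agent.Lib.helper68.W2P

variable {p : ℕ} [Fact p.Prime] {ι : Type*}

/-- `c_j n_j = c_{i0} mu_j` (the diagonal entry of `Eig`) -/
theorem w2p_c_mul_n (D : Scheme p ι) (c : ι → ℚ) (hctr : ∀ j, c (D.tr j) = c j)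
    (hE : D.Eig c) (j : ι) : c j * (D.n j : ℚ) = c D.i0 * (D.mu j : ℚ) := by
  have h := hE j (0, 0) (0, 0)
  have h1 : D.col ((0 : ZMod p), (0 : Fin 2)) (0, 0) = D.i0 := (D.diag _ _).mpr rfl
  rw [h1] at h
  have h2 : ∀ ω'' ∈ univ.filter (fun ω'' => D.col ((0 : ZMod p), (0 : Fin 2)) ω'' = j),
      c (D.col ω'' (0, 0)) = c j := by
    intro ω'' hω
    rw [D.col_tr (0, 0) ω'', (Finset.mem_filter.mp hω).2, hctr]
  rw [Finset.sum_congr rfl h2, Finset.sum_const, D.valency, nsmul_eq_mul] at h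
  linarith

/-- a sum of `c ∘ g` as a sum over the colours -/
theorem w2p_sum_comp [Fintype ι] (g : ZMod p → ι) (c : ι → ℚ) :
    ∑ s : ZMod p, c (g s) = ∑ j : ι, ((univ.filter (fun s => g s = j)).card : ℚ) * c j := by
  have h1 : ∀ s : ZMod p, c (g s) = ∑ j : ι, if g s = j then c j else 0 := by
    intro s
    rw [Finset.sum_ite_eq Finset.univ (g s)]
    simp
  rw [Finset.sum_congr rfl (fun s _ => h1 s), Finset.sum_comm]
  refine Finset.sum_congr rfl fun j _ => ?_
  rw [← Finset.sum_filter, Finset.sum_const, nsmul_eq_mul]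

/-- the trace of `hat E ξ` -/
theorem w2p_trace_hatE (D : Scheme p ι) (c : ι → ℚ) (ξ : ℂ) :
    (hat (D.E c) ξ).trace = ∑ s : ZMod p,
      (((c (D.col (0, 0) (s, 0)) + c (D.col (0, 1) (s, 1)) : ℚ)) : ℂ) * ξ ^ s.val := by
  rw [Matrix.trace_fin_two, hatE_apply, hatE_apply, ← Finset.sum_add_distrib]
  refine Finset.sum_congr rfl fun s _ => ?_
  push_cast
  ring

theorem club [Fintype ι] (D : Scheme p ι) (c : ι → ℚ) (hctr : ∀ j, c (D.tr j) = c j)
    (hE : D.Eig c) {ζ : ℂ} (hζ : IsPrimitiveRoot ζ p)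
    (htr : (hat (D.E c) ζ).trace = ((D.kappa c : ℚ) : ℂ)) :
    D.kappa c = 2 * c D.i0 ∧
      ∀ s : ZMod p, s ≠ 0 → c (D.col (0, 0) (s, 0)) + c (D.col (0, 1) (s, 1)) = 0 := by
  have hp : p.Prime := Fact.out
  haveI : NeZero p := ⟨hp.ne_zero⟩
  set w : ZMod p → ℚ := fun s => c (D.col (0, 0) (s, 0)) + c (D.col (0, 1) (s, 1)) with hw
  set κ : ℚ := D.kappa c with hκ
  have hw0 : w 0 = 2 * c D.i0 := by
    have h1 : D.col ((0 : ZMod p), (0 : Fin 2)) (0, 0) = D.i0 := (D.diag _ _).mpr rfl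
    have h2 : D.col ((0 : ZMod p), (1 : Fin 2)) (0, 1) = D.i0 := (D.diag _ _).mpr rfl
    simp only [hw, h1, h2]
    ring
  -- the relation
  have hrel : ∑ s : ZMod p, (((w s - if s = 0 then κ else 0 : ℚ)) : ℂ) * ζ ^ s.val = 0 := by
    have h1 : ∀ s : ZMod p, (((w s - if s = 0 then κ else 0 : ℚ)) : ℂ) * ζ ^ s.val
        = ((w s : ℚ) : ℂ) * ζ ^ s.val - if s = 0 then ((κ : ℚ) : ℂ) else 0 := by
      intro s
      by_cases hs : s = 0
      · rw [if_pos hs, if_pos hs, hs]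
        push_cast
        simp
      · rw [if_neg hs, if_neg hs]
        simp
    rw [Finset.sum_congr rfl (fun s _ => h1 s), Finset.sum_sub_distrib,
      Finset.sum_ite_eq' Finset.univ (0 : ZMod p)]
    simp only [Finset.mem_univ, if_true]
    rw [← htr, w2p_trace_hatE]
    exact sub_self _
  have hconst := zeta_indep hζ _ hrel
  have hws : ∀ s : ZMod p, s ≠ 0 → w s = 2 * c D.i0 - κ := by
    intro s hs
    have h1 := hconst s
    rw [if_neg hs, if_pos rfl, hw0, sub_zero] at h1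
    exact h1
  -- the sum of `w`
  have hsum : ∑ s : ZMod p, w s = κ := by
    have h1 : ∑ s : ZMod p, w s = ∑ j : ι, (((D.S j).card : ℚ) + ((D.S' j).card : ℚ)) * c j := by
      simp only [hw]
      rw [Finset.sum_add_distrib, w2p_sum_comp (fun s => D.col (0, 0) (s, 0)) c,
        w2p_sum_comp (fun s => D.col (0, 1) (s, 1)) c, ← Finset.sum_add_distrib]
      refine Finset.sum_congr rfl fun j _ => ?_
      rw [add_mul]
      rfl
    rw [h1]
    have h2 : ∀ j : ι, (((D.S j).card : ℚ) + ((D.S' j).card : ℚ)) * c j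
        = c D.i0 * (D.mu j : ℚ) + c j * (D.mu j : ℚ) := by
      intro j
      have h3 := w2p_c_mul_n D c hctr hE j
      have h4 : ((D.n j : ℕ) : ℚ) = ((D.S j).card : ℚ) + ((D.R j).card : ℚ) := by
        rw [← card_S_add_card_R D j]; push_cast; ring
      have h5 : (D.mu j : ℚ) = ((D.S j).card : ℚ) - ((D.R j).card : ℚ) := by
        simp [Scheme.mu]
      rw [card_S' D j, ← h3, h4, h5]
      ring
    rw [Finset.sum_congr rfl (fun j _ => h2 j), Finset.sum_add_distrib, ← Finset.mul_sum]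
    have h6 : ∑ j : ι, (D.mu j : ℚ) = 0 := by
      have := sum_mu D
      exact_mod_cast this
    rw [h6, mul_zero, zero_add]
    rfl
  have hsum2 : ∑ s : ZMod p, w s = w 0 + ((p : ℚ) - 1) * (2 * c D.i0 - κ) := by
    rw [← Finset.add_sum_erase Finset.univ w (Finset.mem_univ (0 : ZMod p))]
    congr 1
    rw [Finset.sum_congr rfl (fun s hs => hws s (Finset.ne_of_mem_erase hs)), Finset.sum_const,
      Finset.card_erase_of_mem (Finset.mem_univ _), Finset.card_univ, ZMod.card, nsmul_eq_mul,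
      Nat.cast_sub hp.one_lt.le]
    simp
  have hk : κ = 2 * c D.i0 := by
    rw [hsum, hw0] at hsum2
    have h1 : (p : ℚ) * (2 * c D.i0 - κ) = 0 := by linarith
    have hp0 : (p : ℚ) ≠ 0 := by exact_mod_cast hp.ne_zero
    rcases mul_eq_zero.mp h1 with h2 | h2
    · exact absurd h2 hp0
    · linarith
  refine ⟨hk, ?_⟩
  intro s hs
  have := hws s hs
  rw [hk, sub_self] at this
  exact this

theorem trace_hatE_of_club (D : Scheme p ι) (c : ι → ℚ)
    (h : ∀ s : ZMod p, s ≠ 0 → c (D.col (0, 0) (s, 0)) + c (D.col (0, 1) (s, 1)) = 0) (ξ : ℂ) :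
    (hat (D.E c) ξ).trace = ((2 * c D.i0 : ℚ) : ℂ) := by
  rw [w2p_trace_hatE, Finset.sum_eq_single (0 : ZMod p)]
  · have h1 : D.col ((0 : ZMod p), (0 : Fin 2)) (0, 0) = D.i0 := (D.diag _ _).mpr rfl
    have h2 : D.col ((0 : ZMod p), (1 : Fin 2)) (0, 1) = D.i0 := (D.diag _ _).mpr rfl
    rw [h1, h2]
    simp
    ring
  · intro s _ hs
    rw [h s hs]
    simp
  · intro h0
    exact absurd (Finset.mem_univ _) h0

end Cfsg.Agent.Lib.helper36.W2P
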