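import Mathlib
import Cfsg.Agent.Lib.helper68.W2PDefs
import Cfsg.Agent.Lib.helper68.W2PA1

/-!
# S0720 piece G4 (helper36): `exists_c` (the averaged projector of a primitive group)
-/

set_option autoImplicit false

namespace Cfsg.Agent.Lib.helper36.W2P

open Finset
open scoped Classical
open Cfsg.Agent.Lib.helper68.W2P

variable {p : ℕ} [Fact p.Prime] {ι : Type*}

/-- a counting sum after a shift -/
theorem w2p_sum_shift (P : ZMod p → Prop) (x : ZMod p) (a : ℚ) :
    ∑ y : ZMod p, (if P (y - x) then a else 0) = ((univ.filter P).card : ℚ) * a := by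
  rw [Fintype.sum_equiv (Equiv.subRight x) (fun y : ZMod p => if P (y - x) then a else 0)
    (fun s : ZMod p => if P s then a else 0) (fun y => rfl)]
  rw [← Finset.sum_filter, Finset.sum_const, nsmul_eq_mul]

/-- the sign vector is an eigenvector of every colour matrix -/
theorem w2p_sign_eig (D : Scheme p ι) (j : ι) (ω₁ : ZMod p × Fin 2) :
    ∑ ω₃ ∈ univ.filter (fun ω₃ => D.col ω₁ ω₃ = j), (if ω₃.2 = 0 then (1 : ℚ) else -1)
      = (D.mu j : ℚ) * (if ω₁.2 = 0 then (1 : ℚ) else -1) := by
  obtain ⟨x, i⟩ := ω₁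
  rw [Finset.sum_filter, Fintype.sum_prod_type]
  have key : ∀ y : ZMod p, ∑ k : Fin 2, (if D.col (x, i) (y, k) = j then
      (if ((y, k) : ZMod p × Fin 2).2 = 0 then (1 : ℚ) else -1) else 0)
      = (if D.col (0, i) (y - x, 0) = j then (1 : ℚ) else 0)
        + (if D.col (0, i) (y - x, 1) = j then (-1 : ℚ) else 0) := by
    intro y
    rw [Fin.sum_univ_two, col_shift D x y i 0, col_shift D x y i 1]
    simp
  rw [Finset.sum_congr rfl (fun y _ => key y), Finset.sum_add_distrib,
    w2p_sum_shift (fun s => D.col (0, i) (s, 0) = j) x 1,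
    w2p_sum_shift (fun s => D.col (0, i) (s, 1) = j) x (-1)]
  have hmu : (D.mu j : ℚ) = ((D.S j).card : ℚ) - ((D.R j).card : ℚ) := by
    simp [Scheme.mu]
  fin_cases i
  · have e1 : (univ.filter (fun s : ZMod p => D.col (0, (0 : Fin 2)) (s, 0) = j)) = D.S j := rfl
    have e2 : (univ.filter (fun s : ZMod p => D.col (0, (0 : Fin 2)) (s, 1) = j)) = D.R j := rfl
    simp only [Fin.zero_eta]
    rw [e1, e2, hmu]
    simp
    ring
  · have e1 : (univ.filter (fun s : ZMod p => D.col (0, (1 : Fin 2)) (s, 0) = j)) = D.R' j := rfl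
    have e2 : (univ.filter (fun s : ZMod p => D.col (0, (1 : Fin 2)) (s, 1) = j)) = D.S' j := rfl
    simp only [Fin.mk_one]
    rw [e1, e2, hmu, card_S' D j, card_R' D j]
    simp
    ring

theorem exists_c {α : Type*} [Fintype α] [DecidableEq α]
    (G : Subgroup (Equiv.Perm α)) (hG : MulAction.IsPreprimitive G α)
    (e : ZMod p × Fin 2 ≃ α) [Fintype ι] (D : Scheme p ι)
    (hcol : ∀ a b a' b' : α, D.col (e.symm a) (e.symm b) = D.col (e.symm a') (e.symm b') ↔
        ∃ h ∈ G, h a = a' ∧ h b = b') :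
    ∃ c : ι → ℚ, (∀ j, c (D.tr j) = c j) ∧ 0 < c D.i0 ∧ D.Eig c ∧ D.Prim0 c := by
  have hp : p.Prime := Fact.out
  haveI : NeZero p := ⟨hp.ne_zero⟩
  set v' : ZMod p × Fin 2 → ℚ := fun ω => if ω.2 = 0 then 1 else -1 with hv'
  set v : α → ℚ := fun a => v' (e.symm a) with hv
  have hvsq : ∀ a, v a * v a = 1 := by
    intro a
    simp only [hv, hv']
    split_ifs <;> norm_num
  have hvle : ∀ a b, v a * v b ≤ 1 := by
    intro a b
    simp only [hv, hv']
    split_ifs <;> norm_num
  have hveq : ∀ a b, v a * v b = 1 → ((e.symm a).2 = 0 ↔ (e.symm b).2 = 0) := by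
    intro a b
    simp only [hv, hv']
    split_ifs with h1 h2 h2 <;> intro h <;> first | (exfalso; norm_num at h; done) | simp [h1, h2]
  set F : α → α → ℚ :=
    fun a b => ∑ h : G, v ((h : Equiv.Perm α) a) * v ((h : Equiv.Perm α) b) with hF
  have hFinv : ∀ g ∈ G, ∀ a b, F (g a) (g b) = F a b := by
    intro g hg a b
    simp only [hF]
    exact Fintype.sum_equiv (Equiv.mulRight (⟨g, hg⟩ : G)) _ _ (fun h => rfl)
  set c : ι → ℚ := fun j => F (e (Classical.choose (D.surj j)))
    (e (Classical.choose (Classical.choose_spec (D.surj j)))) with hc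
  have hcF : ∀ ω ω', c (D.col ω ω') = F (e ω) (e ω') := by
    intro ω ω'
    have hspec := Classical.choose_spec (Classical.choose_spec (D.surj (D.col ω ω')))
    obtain ⟨h, hh, h1, h2⟩ := (hcol (e (Classical.choose (D.surj (D.col ω ω'))))
      (e (Classical.choose (Classical.choose_spec (D.surj (D.col ω ω'))))) (e ω) (e ω')).mp
      (by simpa using hspec)
    simp only [hc]
    rw [← hFinv h hh, h1, h2]
  have hctr : ∀ j, c (D.tr j) = c j := by
    intro j
    obtain ⟨ω, ω', hω⟩ := D.surj j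
    rw [← hω, ← D.col_tr ω ω', hcF, hcF]
    simp only [hF]
    exact Finset.sum_congr rfl fun h _ => mul_comm _ _
  have hci0 : c D.i0 = (Fintype.card G : ℚ) := by
    have h1 : D.col ((0 : ZMod p), (0 : Fin 2)) (0, 0) = D.i0 := (D.diag _ _).mpr rfl
    rw [← h1, hcF]
    simp only [hF, hvsq, Finset.sum_const, Finset.card_univ, nsmul_eq_mul, mul_one]
  have hc0 : 0 < c D.i0 := by
    rw [hci0]
    exact_mod_cast Fintype.card_pos
  have hK : ∀ (j : ι) (h : Equiv.Perm α), h ∈ G → ∀ ω : ZMod p × Fin 2,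
      ∑ ω'' ∈ univ.filter (fun ω'' => D.col ω ω'' = j), v (h (e ω''))
        = (D.mu j : ℚ) * v (h (e ω)) := by
    intro j h hh ω
    have hσ : ∀ ω'', D.col (e.symm (h (e ω))) (e.symm (h (e ω''))) = D.col ω ω'' := by
      intro ω''
      have := (hcol (e ω) (e ω'') (h (e ω)) (h (e ω''))).mpr ⟨h, hh, rfl, rfl⟩
      simpa using this.symm
    have h3 := w2p_sign_eig D j (e.symm (h (e ω)))
    rw [show v (h (e ω)) = (if (e.symm (h (e ω))).2 = 0 then (1 : ℚ) else -1) from rfl, ← h3]
    refine Finset.sum_equiv (e.trans (h.trans e.symm)) ?_ ?_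
    · intro ω''
      simp only [Finset.mem_filter, Finset.mem_univ, true_and]
      rw [Equiv.trans_apply, Equiv.trans_apply, hσ]
    · intro ω'' _
      rfl
  have hEig : D.Eig c := by
    intro j ω ω'
    rw [hcF ω ω', Finset.sum_congr rfl (fun ω'' _ => hcF ω'' ω')]
    simp only [hF]
    rw [Finset.sum_comm, Finset.mul_sum]
    refine Finset.sum_congr rfl fun h _ => ?_
    rw [← Finset.sum_mul, hK j h h.2 ω]
    ring
  have hPrim : D.Prim0 c := by
    by_contra hno
    have hall : ∀ s : ZMod p, c (D.col (0, 0) (s, 0)) = c D.i0 := by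
      intro s
      by_contra h
      exact hno ⟨s, h⟩
    have hterm : ∀ (s : ZMod p) (h : G),
        ((e.symm ((h : Equiv.Perm α) (e (0, 0)))).2 = 0 ↔
          (e.symm ((h : Equiv.Perm α) (e (s, 0)))).2 = 0) := by
      intro s h
      have h1 := hall s
      rw [hcF, hci0] at h1
      simp only [hF] at h1
      have h2 : ∑ h : G, v ((h : Equiv.Perm α) (e (0, 0))) * v ((h : Equiv.Perm α) (e (s, 0)))
          = ∑ _h : G, (1 : ℚ) := by
        rw [h1]; simp
      have h3 := (Finset.sum_eq_sum_iff_of_le (fun h _ => hvle _ _)).mp h2 h (Finset.mem_univ _)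
      exact hveq _ _ h3
    set B : Set α := {a | (e.symm a).2 = 0} with hB
    have hBmem : ∀ b ∈ B, b = e ((e.symm b).1, 0) := by
      intro b hb
      have h1 : e.symm b = ((e.symm b).1, 0) := Prod.ext rfl hb
      rw [← h1, Equiv.apply_symm_apply]
    have hblock : MulAction.IsBlock G B := by
      rw [MulAction.isBlock_iff_smul_eq_or_disjoint]
      intro g
      by_cases hg0 : (e.symm ((g : Equiv.Perm α) (e (0, 0)))).2 = 0
      · left
        apply Set.eq_of_subset_of_ncard_le
        · rintro _ ⟨b, hb, rfl⟩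
          show (e.symm ((g : Equiv.Perm α) b)).2 = 0
          rw [hBmem b hb]
          exact (hterm _ g).mp hg0
        · rw [Set.ncard_smul_set]
        · exact Set.toFinite _
      · right
        rw [Set.disjoint_left]
        rintro _ ⟨b, hb, rfl⟩ hgb
        apply hg0
        have hgb' : (e.symm ((g : Equiv.Perm α) b)).2 = 0 := hgb
        rw [hBmem b hb] at hgb'
        exact (hterm _ g).mpr hgb'
    rcases hG.isTrivialBlock_of_isBlock hblock with hsub | huniv
    · have h1 : e ((0 : ZMod p), (0 : Fin 2)) ∈ B := by simp [hB]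
      have h2 : e ((1 : ZMod p), (0 : Fin 2)) ∈ B := by simp [hB]
      have h3 := e.injective (hsub h1 h2)
      have h4 : (0 : ZMod p) = 1 := congrArg Prod.fst h3
      haveI : Fact (1 < p) := ⟨hp.one_lt⟩
      exact zero_ne_one h4
    · have h1 : e ((0 : ZMod p), (1 : Fin 2)) ∈ B := by rw [huniv]; trivial
      simp [hB] at h1
  exact ⟨c, hctr, hc0, hEig, hPrim⟩

end Cfsg.Agent.Lib.helper36.W2P
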