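import Mathlib
import Cfsg.Agent.Lib.helper68.W2PDefs

/-!
# S0720 piece PV (helper36): `parseval` on `ZMod p`
-/

set_option autoImplicit false

namespace Cfsg.Agent.Lib.helper36.W2P

open Finset
open scoped Classical
open Cfsg.Agent.Lib.helper68.W2P

variable {p : ℕ} [Fact p.Prime]

/-- Reindexing a sum over `ZMod p` as a sum over `range p` (by `val`). -/
theorem w2p_sum_zmod_val {M : Type*} [AddCommMonoid M] (f : ℕ → M) :
    ∑ s : ZMod p, f s.val = ∑ i ∈ Finset.range p, f i := by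
  have hp : p.Prime := Fact.out
  haveI : NeZero p := ⟨hp.ne_zero⟩
  refine Finset.sum_nbij' (fun s => s.val) (fun i => (i : ZMod p)) ?_ ?_ ?_ ?_ ?_
  · intro s _
    exact Finset.mem_range.mpr (ZMod.val_lt s)
  · intro i _
    exact Finset.mem_univ _
  · intro s _
    exact ZMod.natCast_zmod_val s
  · intro i hi
    exact ZMod.val_natCast_of_lt (Finset.mem_range.mp hi)
  · intro s _
    rfl

/-- the character sum: `∑_k η^k = p` or `0` for a `p`-th root of unity `η`. -/
theorem w2p_char_sum (η : ℂ) (hη : η ^ p = 1) :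
    ∑ k : ZMod p, η ^ k.val = if η = 1 then (p : ℂ) else 0 := by
  rw [w2p_sum_zmod_val (fun i => η ^ i)]
  by_cases h1 : η = 1
  · rw [if_pos h1, h1]; simp
  · rw [if_neg h1]
    have h2 := mul_geom_sum η p
    rw [hη, sub_self] at h2
    rcases mul_eq_zero.mp h2 with h3 | h3
    · exact absurd (sub_eq_zero.mp h3) h1
    · exact h3

theorem parseval {ζ : ℂ} (hζ : IsPrimitiveRoot ζ p) (φ : ZMod p → ℂ) :
    ∑ k : ZMod p, Complex.normSq (∑ s : ZMod p, φ s * (ζ ^ k.val) ^ s.val) =
      (p : ℝ) * ∑ s : ZMod p, Complex.normSq (φ s) := by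
  have hp : p.Prime := Fact.out
  haveI : NeZero p := ⟨hp.ne_zero⟩
  have hζp : ζ ^ p = 1 := hζ.pow_eq_one
  have hnorm : ‖ζ‖ = 1 := Complex.norm_eq_one_of_pow_eq_one hζp hp.ne_zero
  have hconj : (starRingEnd ℂ) ζ = ζ⁻¹ := (Complex.inv_eq_conj hnorm).symm
  have hζ0 : ζ ≠ 0 := by
    intro h0
    rw [h0, zero_pow hp.ne_zero] at hζp
    exact zero_ne_one hζp
  apply Complex.ofReal_injective
  push_cast
  have hterm : ∀ k : ZMod p,
      ((Complex.normSq (∑ s : ZMod p, φ s * (ζ ^ k.val) ^ s.val) : ℝ) : ℂ) =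
        ∑ s : ZMod p, ∑ t : ZMod p, φ s * (starRingEnd ℂ) (φ t) *
          (ζ ^ s.val * (ζ ^ t.val)⁻¹) ^ k.val := by
    intro k
    rw [← Complex.mul_conj, map_sum, Finset.sum_mul_sum]
    refine Finset.sum_congr rfl fun s _ => Finset.sum_congr rfl fun t _ => ?_
    rw [map_mul, map_pow, map_pow, hconj, mul_pow, inv_pow, inv_pow, inv_pow, ← pow_mul, ← pow_mul,
      ← pow_mul, ← pow_mul, mul_comm s.val k.val, mul_comm t.val k.val]
    ring
  rw [Finset.sum_congr rfl (fun k _ => hterm k), Finset.sum_comm]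
  rw [Finset.mul_sum]
  refine Finset.sum_congr rfl fun s _ => ?_
  rw [Finset.sum_comm]
  have hinner : ∀ t : ZMod p, ∑ k : ZMod p, φ s * (starRingEnd ℂ) (φ t) *
      (ζ ^ s.val * (ζ ^ t.val)⁻¹) ^ k.val =
        if t = s then (p : ℂ) * (φ s * (starRingEnd ℂ) (φ s)) else 0 := by
    intro t
    rw [← Finset.mul_sum, w2p_char_sum]
    · by_cases hts : t = s
      · rw [if_pos hts, hts, if_pos (mul_inv_cancel₀ (pow_ne_zero _ hζ0))]
        ring
      · rw [if_neg hts, if_neg, mul_zero]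
        intro h1
        apply hts
        have h2 : ζ ^ s.val = ζ ^ t.val := by
          have h3 := congrArg (fun z => z * ζ ^ t.val) h1
          simp only [one_mul] at h3
          rw [mul_assoc, inv_mul_cancel₀ (pow_ne_zero _ hζ0), mul_one] at h3
          exact h3
        exact (ZMod.val_injective p (hζ.pow_inj (ZMod.val_lt s) (ZMod.val_lt t) h2)).symm
    · rw [mul_pow, inv_pow, ← pow_mul, ← pow_mul, mul_comm s.val p, mul_comm t.val p, pow_mul,
        pow_mul, hζp, one_pow, one_pow, inv_one, mul_one]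
  rw [Finset.sum_congr rfl (fun t _ => hinner t), Finset.sum_ite_eq' Finset.univ s]
  simp only [Finset.mem_univ, if_true]
  rw [Complex.mul_conj]

end Cfsg.Agent.Lib.helper36.W2P
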