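import Mathlib
import Cfsg.Agent.Lib.helper61.SL25Pres

/-!
S3359 piece U (helper36): an automorphism of `SL(2,5)` that is the identity on a Sylow
2-subgroup is the identity (`aut_sl25_cent`).  Also the shared set-up for piece T:
the monomial subgroup `zuQ0` of `SL(2, ZMod 5)` (a Sylow 2-subgroup), and
`zu_sylow_mono`: every Sylow 2-subgroup of a group `S ≃* SL(2,5)` is carried onto the
monomial matrices by a suitable isomorphism.
-/

set_option autoImplicit false

namespace Cfsg.Agent.Lib.helper36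

/-- `SL(2, ZMod 5)`. -/
abbrev ZT := Matrix.SpecialLinearGroup (Fin 2) (ZMod 5)

/-- `diag(2,3)`, of order 4. -/
def zuI : ZT := ⟨!![2, 0; 0, 3], by decide⟩
/-- the Weyl element, of order 4. -/
def zuJ : ZT := ⟨!![0, 1; -1, 0], by decide⟩
/-- an element of order 3 normalizing `⟨zuI, zuJ⟩`. -/
def zuX : ZT := ⟨!![1, 1; 2, 3], by decide⟩
/-- an element of order 4 inverting `zuX`. -/
def zuT : ZT := ⟨!![1, 3; 1, 4], by decide⟩

theorem zu_xi : zuX * zuI * zuX⁻¹ = zuJ := by decide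
theorem zu_xj : zuX * zuJ * zuX⁻¹ = zuI * zuJ := by decide
theorem zu_x3 : zuX ^ 3 = 1 := by decide
theorem zu_tx : zuT * zuX * zuT⁻¹ = zuX⁻¹ := by decide
theorem zu_ti : (zuT * zuI) ^ 3 = 1 := by decide
theorem zu_w1 : ((zuI * zuT * zuJ * zuT : ZT) : Matrix (Fin 2) (Fin 2) (ZMod 5)) =
    !![1, 0; 1, 1] := by decide
theorem zu_w2 : ((zuX * zuJ * zuI * zuT : ZT) : Matrix (Fin 2) (Fin 2) (ZMod 5)) =
    !![1, 1; 0, 1] := by decide

set_option maxRecDepth 100000 in
theorem zu_L1 : ∀ y : ZT, y * zuI = zuJ * y → y * zuJ = zuI * zuJ * y → y ^ 3 = 1 → y = zuX := by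
  decide

set_option maxRecDepth 100000 in
theorem zu_L2 : ∀ w : ZT, w * zuX = zuX⁻¹ * w → (w * zuI) ^ 3 = 1 → w = zuT := by
  decide

/-- An automorphism of `SL(2,5)` fixing `zuI` and `zuJ` is the identity. -/
theorem zu_core (γ : ZT ≃* ZT) (hi : γ zuI = zuI) (hj : γ zuJ = zuJ) (s : ZT) : γ s = s := by
  have hx : γ zuX = zuX := by
    apply zu_L1
    · have h := congrArg γ zu_xi
      rw [map_mul, map_mul, map_inv, hi, hj] at h
      rw [← h]; group
    · have h := congrArg γ zu_xj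
      rw [map_mul, map_mul, map_inv, map_mul, hi, hj] at h
      rw [← h]; group
    · rw [← map_pow, zu_x3, map_one]
  have ht : γ zuT = zuT := by
    apply zu_L2
    · have h := congrArg γ zu_tx
      rw [map_mul, map_mul, map_inv, map_inv, hx] at h
      rw [← h]; group
    · rw [← hi, ← map_mul, ← map_pow, zu_ti, map_one]
  have hle : (⊤ : Subgroup ZT) ≤ (γ.toMonoidHom.eqLocus (MonoidHom.id ZT)) := by
    rw [← Cfsg.Agent.Lib.helper61.SL25.closure_elem, Subgroup.closure_le]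
    rintro g (hg | hg)
    · have : g = zuI * zuT * zuJ * zuT := Subtype.ext (by rw [hg, zu_w1])
      subst this
      simp [MonoidHom.eqLocus, hi, hj, ht]
    · have : g = zuX * zuJ * zuI * zuT := Subtype.ext (by rw [hg, zu_w2])
      subst this
      simp [MonoidHom.eqLocus, hi, hj, ht, hx]
  exact hle (Subgroup.mem_top s)

/-- Monomial matrices (diagonal or anti-diagonal). -/
def ZMono (a : ZT) : Prop := (a.1 0 1 = 0 ∧ a.1 1 0 = 0) ∨ (a.1 0 0 = 0 ∧ a.1 1 1 = 0)

instance zMonoDec : DecidablePred ZMono := fun a => by unfold ZMono; infer_instance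

set_option maxRecDepth 100000 in
theorem zu_mono_pow : ∀ a : ZT, ZMono a → a ^ 4 = 1 := by decide

set_option maxRecDepth 100000 in
theorem zu_mono_inv : ∀ a : ZT, ZMono a → ZMono a⁻¹ := by decide

set_option maxRecDepth 100000 in
theorem zu_mono_list : ∀ a : ZT, ZMono a → a = 1 ∨ a = zuI ∨ a = zuI * zuI ∨ a = zuI * zuI * zuI ∨
    a = zuJ ∨ a = zuI * zuJ ∨ a = zuI * zuI * zuJ ∨ a = zuI * zuI * zuI * zuJ := by decide

theorem zu_mono_mul (a b : ZT) (ha : ZMono a) (hb : ZMono b) : ZMono (a * b) := by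
  unfold ZMono at *
  rcases ha with ⟨h1, h2⟩ | ⟨h1, h2⟩ <;> rcases hb with ⟨h3, h4⟩ | ⟨h3, h4⟩ <;>
    simp [Matrix.mul_apply, Fin.sum_univ_two, h1, h2, h3, h4]

/-- The monomial subgroup of `SL(2,5)` (quaternion of order 8). -/
def zuQ0 : Subgroup ZT where
  carrier := {a | ZMono a}
  mul_mem' := fun {a b} ha hb => zu_mono_mul a b ha hb
  one_mem' := by decide
  inv_mem' := fun {a} ha => zu_mono_inv a ha

theorem zu_mem_Q0 (a : ZT) : a ∈ zuQ0 ↔ ZMono a := Iff.rfl

instance zuQ0Dec : DecidablePred (· ∈ zuQ0) := fun a => inferInstanceAs (Decidable (ZMono a))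

set_option maxRecDepth 100000 in
theorem zu_card_Q0 : Nat.card zuQ0 = 8 := by
  rw [Nat.card_eq_fintype_card]
  decide

theorem zu_fact_120 : (120 : ℕ).factorization 2 = 3 := by
  have h : (120 : ℕ) = 2 ^ 3 * 15 := by norm_num
  rw [h, Nat.factorization_mul (by norm_num) (by norm_num), Finsupp.add_apply,
    Nat.Prime.factorization_pow Nat.prime_two,
    Nat.factorization_eq_zero_of_not_dvd (by norm_num : ¬ 2 ∣ 15)]
  simp

/-- Every Sylow 2-subgroup of a copy of `SL(2,5)` is the preimage of the monomial matrices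
under a suitable isomorphism. -/
theorem zu_sylow_mono {S : Type*} [Group S] (e : S ≃* ZT) (Q : Sylow 2 S) :
    ∃ e' : S ≃* ZT, ∀ q : S, q ∈ Q ↔ ZMono (e' q) := by
  have : Finite S := Finite.of_injective e e.injective
  have hcT : Nat.card ZT = 120 := Cfsg.Agent.Lib.helper61.SL25.card_SL25
  let P₁ : Sylow 2 ZT := Q.mapSurjective (f := e.toMonoidHom) e.surjective
  have hP₁ : ∀ t : ZT, t ∈ (P₁ : Subgroup ZT) ↔ e.symm t ∈ (Q : Subgroup S) := by
    intro t
    have h1 : (P₁ : Subgroup ZT) = (Q : Subgroup S).map e.toMonoidHom :=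
      Sylow.coe_mapSurjective _ _
    rw [h1, Subgroup.mem_map]
    constructor
    · rintro ⟨q, hq, rfl⟩
      simpa using hq
    · intro h
      exact ⟨e.symm t, h, by simp⟩
  have hpg : IsPGroup 2 zuQ0 := by
    intro a
    refine ⟨2, ?_⟩
    apply Subtype.ext
    have := zu_mono_pow a.1 a.2
    simpa using this
  obtain ⟨P₀, hP₀⟩ := hpg.exists_le_sylow
  have hcP₀ : Nat.card (P₀ : Subgroup ZT) = 8 := by
    rw [Sylow.card_eq_multiplicity, hcT, zu_fact_120]; norm_num
  have hQP : zuQ0 = (P₀ : Subgroup ZT) :=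
    Subgroup.eq_of_le_of_card_ge hP₀ (by rw [zu_card_Q0]; exact hcP₀.le)
  obtain ⟨g, hg⟩ := MulAction.exists_smul_eq ZT P₁ P₀
  refine ⟨e.trans (MulAut.conj g), fun q => ?_⟩
  have h2 : ∀ t : ZT, t ∈ (P₁ : Subgroup ZT) ↔ g * t * g⁻¹ ∈ (P₀ : Subgroup ZT) := by
    intro t
    rw [← hg, Sylow.coe_subgroup_smul, Subgroup.mem_pointwise_smul_iff_inv_smul_mem]
    simp [MulAut.smul_def, mul_assoc]
  have h3 := h2 (e q)
  rw [hP₁] at h3
  simp only [MulEquiv.symm_apply_apply] at h3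
  show q ∈ (Q : Subgroup S) ↔ _
  rw [h3, ← hQP, zu_mem_Q0]
  simp [MulAut.conj_apply]

/-- **S3359 piece U.** -/
theorem aut_sl25_cent {S : Type*} [Group S] (e : S ≃* Matrix.SpecialLinearGroup (Fin 2) (ZMod 5))
    (α : S ≃* S) (Q : Sylow 2 S) (hα : ∀ q ∈ Q, α q = q) (s : S) : α s = s := by
  obtain ⟨e', he'⟩ := zu_sylow_mono e Q
  have hfix : ∀ m : ZT, ZMono m → e' (α (e'.symm m)) = m := by
    intro m hm
    have h : e'.symm m ∈ Q := (he' _).2 (by simpa using hm)
    rw [hα _ h]; simp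
  let γ : ZT ≃* ZT := e'.symm.trans (α.trans e')
  have h1 := zu_core γ (hfix zuI (by decide)) (hfix zuJ (by decide)) (e' s)
  have h2 : e' (α s) = e' s := by simpa [γ] using h1
  exact e'.injective h2

end Cfsg.Agent.Lib.helper36
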