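import Mathlib
import Cfsg.Agent.Lib.helper36.ZassU

/-!
S3359 piece T (helper36): `frob_index`.  For `S ⊴ G`, `S ≃* SL(2,5)`, `Q` a Sylow 2-subgroup of
`S`: `S · C_G(Q)` has index 1 or 2 in `G`.
-/

set_option autoImplicit false

namespace Cfsg.Agent.Lib.helper36

set_option maxRecDepth 100000 in
theorem zt_L3 : ∀ a : ZT, ZMono a → ∀ b : ZT, ZMono b → a * a = b * b → a * a ≠ 1 →
    b * a = a⁻¹ * b →
    ∃ s : ZT, s * a * s⁻¹ = zuI ∧ (s * b * s⁻¹ = zuJ ∨ s * b * s⁻¹ = zuI * zuJ) := by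
  decide

/-- **S3359 piece T.** -/
theorem frob_index {G : Type*} [Group G] [Finite G] (S : Subgroup G) (hSn : S.Normal)
    (e : S ≃* Matrix.SpecialLinearGroup (Fin 2) (ZMod 5)) (Q : Sylow 2 S) :
    (S ⊔ Subgroup.centralizer (((Q : Subgroup S).map S.subtype : Subgroup G) : Set G)).index = 1 ∨
    (S ⊔ Subgroup.centralizer (((Q : Subgroup S).map S.subtype : Subgroup G) : Set G)).index = 2 := by
  have := hSn
  obtain ⟨e', he'⟩ := zu_sylow_mono e Q
  set Q' : Subgroup G := (Q : Subgroup S).map S.subtype with hQ'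
  set C : Subgroup G := Subgroup.centralizer (Q' : Set G) with hC
  set H : Subgroup G := S ⊔ C with hH
  obtain ⟨u, hu⟩ : ∃ u : S, u = e'.symm zuI := ⟨_, rfl⟩
  obtain ⟨v, hv⟩ : ∃ v : S, v = e'.symm zuJ := ⟨_, rfl⟩
  have huQ : u ∈ Q := (he' u).2 (by rw [hu, MulEquiv.apply_symm_apply]; decide)
  have hvQ : v ∈ Q := (he' v).2 (by rw [hv, MulEquiv.apply_symm_apply]; decide)
  have hSH : S ≤ H := le_sup_left
  have hCH : C ≤ H := le_sup_right
  have hmemQ' : ∀ q : S, (q : G) ∈ Q' ↔ q ∈ Q := by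
    intro q
    rw [hQ', Subgroup.mem_map]
    constructor
    · rintro ⟨q', hq', h⟩
      have : q' = q := Subtype.ext h
      rw [← this]; exact hq'
    · intro h; exact ⟨q, h, rfl⟩
  -- elements commuting with `u` and `v` centralize `Q'`
  have hC1 : ∀ m : G, m * (u : G) = u * m → m * (v : G) = v * m → m ∈ C := by
    intro m hmu hmv
    rw [hC, Subgroup.mem_centralizer_iff]
    intro x hx
    obtain ⟨q, hq, rfl⟩ := Subgroup.mem_map.1 hx
    have hmono : ZMono (e' q) := (he' q).1 hq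
    have hcu : Commute m (u : G) := hmu
    have hcv : Commute m (v : G) := hmv
    have hq' : q = e'.symm (e' q) := by simp
    have key : Commute m ((q : S) : G) := by
      rcases zu_mono_list _ hmono with h | h | h | h | h | h | h | h
      · rw [hq', h, map_one]; exact Commute.one_right m
      · rw [hq', h, ← hu]; exact hcu
      · rw [hq', h, map_mul, ← hu]; exact hcu.mul_right hcu
      · rw [hq', h, map_mul, map_mul, ← hu]; exact (hcu.mul_right hcu).mul_right hcu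
      · rw [hq', h, ← hv]; exact hcv
      · rw [hq', h, map_mul, ← hu, ← hv]; exact hcu.mul_right hcv
      · rw [hq', h, map_mul, map_mul, ← hu, ← hv]; exact (hcu.mul_right hcu).mul_right hcv
      · rw [hq', h, map_mul, map_mul, map_mul, ← hu, ← hv]
        exact ((hcu.mul_right hcu).mul_right hcu).mul_right hcv
    exact key.eq.symm
  -- the key claim
  have hK : ∀ n : G, n ∈ Subgroup.normalizer (Q' : Set G) → ∃ s : S,
      ((s : G) * n) * u * ((s : G) * n)⁻¹ = u ∧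
      (((s : G) * n) * v * ((s : G) * n)⁻¹ = v ∨
        ((s : G) * n) * v * ((s : G) * n)⁻¹ = (u : G) * v) := by
    intro n hn
    obtain ⟨αn, hαn⟩ : ∃ αn : S ≃* S, ∀ q : S, ((αn q : S) : G) = n * q * n⁻¹ :=
      ⟨MulAut.conjNormal n, fun q => MulAut.conjNormal_apply n q⟩
    have hαQ : ∀ q : S, q ∈ Q → αn q ∈ Q := by
      intro q hq
      rw [← hmemQ', hαn]
      exact (Subgroup.mem_normalizer_iff.1 hn _).1 ((hmemQ' q).2 hq)
    obtain ⟨γ, hγ⟩ : ∃ γ : ZT ≃* ZT, ∀ t : ZT, γ t = e' (αn (e'.symm t)) :=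
      ⟨e'.symm.trans (αn.trans e'), fun t => rfl⟩
    have ha : ZMono (γ zuI) := by rw [hγ, ← hu]; exact (he' _).1 (hαQ _ huQ)
    have hb : ZMono (γ zuJ) := by rw [hγ, ← hv]; exact (he' _).1 (hαQ _ hvQ)
    have h1 : γ zuI * γ zuI = γ zuJ * γ zuJ := by
      rw [← map_mul, ← map_mul, show zuI * zuI = zuJ * zuJ by decide]
    have h2 : γ zuI * γ zuI ≠ 1 := by
      rw [← map_mul]
      intro h
      have := γ.injective (h.trans (map_one γ).symm)
      revert this; decide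
    have h3 : γ zuJ * γ zuI = (γ zuI)⁻¹ * γ zuJ := by
      rw [← map_inv, ← map_mul, ← map_mul, show zuJ * zuI = zuI⁻¹ * zuJ by decide]
    obtain ⟨s, hs1, hs2⟩ := zt_L3 _ ha _ hb h1 h2 h3
    have hαu : αn u = e'.symm (γ zuI) := by rw [hγ, ← hu]; simp
    have hαv : αn v = e'.symm (γ zuJ) := by rw [hγ, ← hv]; simp
    have hconj : ∀ w : S, ((e'.symm s : S) : G) * n * w * (((e'.symm s : S) : G) * n)⁻¹ =
        ((e'.symm s * αn w * (e'.symm s)⁻¹ : S) : G) := by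
      intro w
      rw [Subgroup.coe_mul, Subgroup.coe_mul, Subgroup.coe_inv, hαn]
      group
    refine ⟨e'.symm s, ?_, ?_⟩
    · rw [hconj, hαu, ← map_inv, ← map_mul, ← map_mul, hs1, ← hu]
    · rcases hs2 with hs2 | hs2
      · left
        rw [hconj, hαv, ← map_inv, ← map_mul, ← map_mul, hs2, ← hv]
      · right
        rw [hconj, hαv, ← map_inv, ← map_mul, ← map_mul, hs2, map_mul, ← hu, ← hv,
          Subgroup.coe_mul]
  -- Frattini
  have hfr : ∀ g : G, ∃ n ∈ Subgroup.normalizer (Q' : Set G), ∃ s ∈ S, g = n * s := by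
    intro g
    have h := Sylow.normalizer_sup_eq_top Q
    have hg : g ∈ ((Subgroup.normalizer (Q' : Set G) ⊔ S : Subgroup G) : Set G) := by
      rw [hQ', h]; trivial
    rw [Subgroup.mul_normal] at hg
    obtain ⟨n, hn, s, hs, rfl⟩ := Set.mem_mul.1 hg
    exact ⟨n, hn, s, hs, rfl⟩
  have hD : ∀ g : G, g ∉ H → ∃ m : G, m⁻¹ * g ∈ S ∧ m * u * m⁻¹ = u ∧
      m * v * m⁻¹ = (u : G) * v := by
    intro g hg
    obtain ⟨n, hn, s, hs, rfl⟩ := hfr g
    obtain ⟨s', h1, h2⟩ := hK n hn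
    have hmS : ((s' : G) * n)⁻¹ * (n * s) ∈ S := by
      have h : ((s' : G) * n)⁻¹ * (n * s) = (n⁻¹ * (s' : G)⁻¹ * n⁻¹⁻¹) * s := by group
      rw [h]
      exact S.mul_mem (hSn.conj_mem _ (S.inv_mem s'.2) n⁻¹) hs
    rcases h2 with h2 | h2
    · exfalso
      apply hg
      have hmC : (s' : G) * n ∈ C :=
        hC1 _ (mul_inv_eq_iff_eq_mul.1 h1) (mul_inv_eq_iff_eq_mul.1 h2)
      have hn' : n = (s' : G)⁻¹ * ((s' : G) * n) := by group
      have hnH : n ∈ H := by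
        rw [hn']
        exact H.mul_mem (hSH (S.inv_mem s'.2)) (hCH hmC)
      exact H.mul_mem hnH (hSH hs)
    · exact ⟨(s' : G) * n, hmS, h1, h2⟩
  have hE : ∀ g₁ g₂ : G, g₁ ∉ H → g₂ ∉ H → g₁⁻¹ * g₂ ∈ H := by
    intro g₁ g₂ h1 h2
    obtain ⟨m₁, hs₁, hu₁, hv₁⟩ := hD g₁ h1
    obtain ⟨m₂, hs₂, hu₂, hv₂⟩ := hD g₂ h2
    have hc : m₁⁻¹ * m₂ ∈ C := by
      apply hC1
      · have h : m₂ * u * m₂⁻¹ = m₁ * u * m₁⁻¹ := hu₂.trans hu₁.symm
        calc m₁⁻¹ * m₂ * u = m₁⁻¹ * (m₂ * u * m₂⁻¹) * m₂ := by group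
          _ = m₁⁻¹ * (m₁ * u * m₁⁻¹) * m₂ := by rw [h]
          _ = u * (m₁⁻¹ * m₂) := by group
      · have h : m₂ * v * m₂⁻¹ = m₁ * v * m₁⁻¹ := hv₂.trans hv₁.symm
        calc m₁⁻¹ * m₂ * v = m₁⁻¹ * (m₂ * v * m₂⁻¹) * m₂ := by group
          _ = m₁⁻¹ * (m₁ * v * m₁⁻¹) * m₂ := by rw [h]
          _ = v * (m₁⁻¹ * m₂) := by group
    have h : g₁⁻¹ * g₂ = (m₁⁻¹ * g₁)⁻¹ * (m₁⁻¹ * m₂) * (m₂⁻¹ * g₂) := by group
    rw [h]
    exact H.mul_mem (H.mul_mem (H.inv_mem (hSH hs₁)) (hCH hc)) (hSH hs₂)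
  by_cases hT : H = ⊤
  · left; rw [hT]; exact Subgroup.index_top
  · right
    obtain ⟨g₀, hg₀⟩ : ∃ g₀ : G, g₀ ∉ H := by
      by_contra hcon
      apply hT
      rw [eq_top_iff]
      intro x _
      by_contra hx
      exact hcon ⟨x, hx⟩
    rw [Subgroup.index_eq_two_iff']
    refine ⟨g₀⁻¹, fun b => ?_⟩
    by_cases hb : b ∈ H
    · right
      refine ⟨hb, fun h => hg₀ ?_⟩
      have h' := H.mul_mem hb (H.inv_mem h)
      simpa using h'
    · left
      exact ⟨hE g₀ b hg₀ hb, hb⟩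

end Cfsg.Agent.Lib.helper36
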